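import Mathlib
import Groth.Prelude.Def_W4bk4goldsch45p2
open FunFld

namespace Groth.Agent.H21.Orders

variable {R : Type*} {M : Type*} [Field R] [AddCommGroup M] [Module R M]

open Classical in
/-- the span of the first `N` vectors has dimension at most the number of jumps below `N` -/
lemma finrank_span_le_card_jumps [FiniteDimensional R M] (c : ℕ → M) (N : ℕ) :
    Module.finrank R (Submodule.span R (c '' Set.Iio N)) ≤
      ((Finset.range N).filter (fun j => FunFld.IsJump R c j)).card := by
  induction N with
  | zero => simp
  | succ N ih =>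
    have hset : c '' Set.Iio (N + 1) = insert (c N) (c '' Set.Iio N) := by
      ext x
      simp only [Set.mem_image, Set.mem_Iio, Set.mem_insert_iff]
      constructor
      · rintro ⟨m, hm, rfl⟩
        rcases Nat.lt_succ_iff_lt_or_eq.mp hm with h | h
        · exact Or.inr ⟨m, h, rfl⟩
        · exact Or.inl (by rw [h])
      · rintro (rfl | ⟨m, hm, rfl⟩)
        · exact ⟨N, Nat.lt_succ_self N, rfl⟩
        · exact ⟨m, Nat.lt_succ_of_lt hm, rfl⟩
    rw [hset, Finset.range_add_one, Finset.filter_insert]
    by_cases hj : FunFld.IsJump R c N
    · rw [if_pos hj, Finset.card_insert_of_notMem (by simp)]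
      rw [Submodule.span_insert]
      have h1 := Submodule.finrank_add_le_finrank_add_finrank (Submodule.span R {c N})
        (Submodule.span R (c '' Set.Iio N))
      have h2 : Module.finrank R ↥(Submodule.span R {c N}) ≤ 1 := by
        have := finrank_span_le_card (R := R) ({c N} : Set M)
        simpa using this
      omega
    · rw [if_neg hj]
      have hmem : c N ∈ Submodule.span R (c '' Set.Iio N) := by
        unfold FunFld.IsJump at hj
        exact not_not.mp hj
      rw [Submodule.span_insert, sup_eq_right.mpr]
      · exact ih
      · rw [Submodule.span_singleton_le_iff_mem]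
        exact hmem

end Groth.Agent.H21.Orders

namespace Groth.Agent.H21.Orders
open FunFld

variable {R : Type*} {M : Type*} [Field R] [AddCommGroup M] [Module R M]

theorem orders_le [FiniteDimensional R M] (c : ℕ → M) {n : ℕ} (J J' : Fin n → ℕ)
    (hJ : FunFld.IsOrders R c J) (hJ' : StrictMono J')
    (hli : LinearIndependent R
      (fun x : Fin (n + 1) => c (Fin.cases (motive := fun _ => ℕ) 0 (fun l => J' l + 1) x))) :
    ∀ l, J l ≤ J' l := by
  classical
  intro l
  by_contra hlt
  push Not at hlt
  obtain ⟨hJmono, hJjump⟩ := hJ
  -- upper bound on the number of jumps below `J l + 1`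
  have hupper : ((Finset.range (J l + 1)).filter (fun j => FunFld.IsJump R c j)).card ≤ l.val + 1 := by
    have hsub : (Finset.range (J l + 1)).filter (fun j => FunFld.IsJump R c j) ⊆
        insert 0 ((Finset.Iio l).image (fun i => J i + 1)) := by
      intro j hj
      rw [Finset.mem_filter, Finset.mem_range] at hj
      obtain ⟨hjN, hjump⟩ := hj
      rcases Nat.eq_zero_or_pos j with rfl | hpos
      · exact Finset.mem_insert_self _ _
      · obtain ⟨j', rfl⟩ : ∃ j', j = j' + 1 := ⟨j - 1, by omega⟩
        obtain ⟨i, hi⟩ := (hJjump j').mpr hjump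
        apply Finset.mem_insert_of_mem
        rw [Finset.mem_image]
        refine ⟨i, ?_, by rw [hi]⟩
        rw [Finset.mem_Iio]
        apply hJmono.lt_iff_lt.mp
        rw [hi]; omega
    calc _ ≤ (insert 0 ((Finset.Iio l).image (fun i => J i + 1))).card := Finset.card_le_card hsub
      _ ≤ ((Finset.Iio l).image (fun i => J i + 1)).card + 1 := Finset.card_insert_le _ _
      _ ≤ (Finset.Iio l).card + 1 := by
          gcongr
          exact Finset.card_image_le
      _ = l.val + 1 := by rw [Fin.card_Iio]
  have hdim := finrank_span_le_card_jumps (R := R) c (J l + 1)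
  -- lower bound
  have hle : l.val + 2 ≤ n + 1 := by have := l.isLt; omega
  have hli2 := hli.comp (Fin.castLE hle) (Fin.castLE_injective hle)
  have hcard := finrank_span_eq_card hli2
  rw [Fintype.card_fin] at hcard
  have hsubspan : Submodule.span R (Set.range ((fun x : Fin (n + 1) =>
      c (Fin.cases (motive := fun _ => ℕ) 0 (fun l => J' l + 1) x)) ∘ Fin.castLE hle)) ≤
      Submodule.span R (c '' Set.Iio (J l + 1)) := by
    apply Submodule.span_mono
    rintro _ ⟨x, rfl⟩
    simp only [Function.comp_apply]
    refine ⟨_, ?_, rfl⟩
    rw [Set.mem_Iio]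
    obtain ⟨y, hy⟩ : ∃ y, y = Fin.castLE hle x := ⟨_, rfl⟩
    have hyval : y.val < l.val + 2 := by rw [hy]; simp
    rw [← hy]
    cases y using Fin.cases with
    | zero => simp
    | succ i =>
      simp only [Fin.cases_succ]
      have hil : i ≤ l := by
        rw [Fin.le_def]
        simp only [Fin.val_succ] at hyval
        omega
      have := hJ'.monotone hil
      omega
  have := Submodule.finrank_mono hsubspan
  omega

end Groth.Agent.H21.Orders
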