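import Mathlib
import Groth.Agent.H21.Orders
open FunFld

namespace Groth.Agent.H21.Orders

variable {R : Type*} {M : Type*} [Field R] [AddCommGroup M] [Module R M]

lemma image_Iio_succ (f : ℕ → M) (N : ℕ) :
    f '' Set.Iio (N + 1) = insert (f N) (f '' Set.Iio N) := by
  ext x
  simp only [Set.mem_image, Set.mem_Iio, Set.mem_insert_iff]
  constructor
  · rintro ⟨m, hm, rfl⟩
    rcases Nat.lt_succ_iff_lt_or_eq.mp hm with h | h
    · exact Or.inr ⟨m, h, rfl⟩
    · exact Or.inl (by rw [h])
  · rintro (rfl | ⟨m, hm, rfl⟩)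
    · exact ⟨N, Nat.lt_succ_self N, rfl⟩
    · exact ⟨m, Nat.lt_succ_of_lt hm, rfl⟩

lemma image_Iio_succ' (f : ℕ → M) (N : ℕ) :
    f '' Set.Iio (N + 1) = insert (f 0) ((fun i => f (i + 1)) '' Set.Iio N) := by
  ext x
  simp only [Set.mem_image, Set.mem_Iio, Set.mem_insert_iff]
  constructor
  · rintro ⟨m, hm, rfl⟩
    rcases Nat.eq_zero_or_pos m with rfl | hpos
    · exact Or.inl rfl
    · refine Or.inr ⟨m - 1, by omega, ?_⟩
      congr 1
      omega
  · rintro (rfl | ⟨m, hm, rfl⟩)
    · exact ⟨0, by omega, rfl⟩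
    · exact ⟨m + 1, by omega, rfl⟩

lemma span_Iio_mono (d : ℕ → M) {a b : ℕ} (h : a ≤ b) :
    Submodule.span R (d '' Set.Iio a) ≤ Submodule.span R (d '' Set.Iio b) :=
  Submodule.span_mono (Set.image_mono (Set.Iio_subset_Iio h))

lemma span_Iio_succ (d : ℕ → M) (N : ℕ) :
    Submodule.span R (d '' Set.Iio (N + 1)) =
      Submodule.span R {d N} ⊔ Submodule.span R (d '' Set.Iio N) := by
  rw [image_Iio_succ, Submodule.span_insert]

open Classical in
lemma card_jumps_le_finrank_span [FiniteDimensional R M] (c : ℕ → M) (N : ℕ) :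
    ((Finset.range N).filter (fun j => FunFld.IsJump R c j)).card ≤
      Module.finrank R (Submodule.span R (c '' Set.Iio N)) := by
  induction N with
  | zero => simp
  | succ N ih =>
    rw [Finset.range_add_one, Finset.filter_insert]
    by_cases hj : FunFld.IsJump R c N
    · rw [if_pos hj, Finset.card_insert_of_notMem (by simp)]
      have hlt : Submodule.span R (c '' Set.Iio N) < Submodule.span R (c '' Set.Iio (N + 1)) := by
        refine lt_of_le_of_ne (span_Iio_mono c (Nat.le_succ N)) ?_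
        intro heq
        apply hj
        rw [heq]
        exact Submodule.subset_span ⟨N, Nat.lt_succ_self N, rfl⟩
      have := Submodule.finrank_lt_finrank_of_lt hlt
      omega
    · rw [if_neg hj]
      exact ih.trans (Submodule.finrank_mono (span_Iio_mono c (Nat.le_succ N)))

theorem exchange (d : ℕ → M) (t : M) (ht0 : t ≠ 0)
    (ht : ∃ N, t ∈ Submodule.span R (d '' Set.Iio N)) :
    ∃ j0, FunFld.IsJump R d j0 ∧ t ∉ Submodule.span R (d '' Set.Iio j0) ∧
      ∀ j, (d j ∉ Submodule.span R {t} ⊔ Submodule.span R (d '' Set.Iio j)) ↔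
        (FunFld.IsJump R d j ∧ j ≠ j0) := by
  classical
  have hN0 : Nat.find ht ≠ 0 := by
    intro h0
    have := Nat.find_spec ht
    rw [h0] at this
    simp at this
    exact ht0 this
  obtain ⟨j0, hj0⟩ : ∃ j0, Nat.find ht = j0 + 1 := ⟨Nat.find ht - 1, by omega⟩
  have hmem : t ∈ Submodule.span R (d '' Set.Iio (j0 + 1)) := by
    rw [← hj0]; exact Nat.find_spec ht
  have hnot : ∀ N, N ≤ j0 → t ∉ Submodule.span R (d '' Set.Iio N) := by
    intro N hN
    exact Nat.find_min ht (by omega)
  have hjump0 : FunFld.IsJump R d j0 := by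
    intro hin
    apply hnot j0 le_rfl
    rw [span_Iio_succ, sup_eq_right.mpr] at hmem
    · exact hmem
    · rw [Submodule.span_singleton_le_iff_mem]; exact hin
  refine ⟨j0, hjump0, hnot j0 le_rfl, fun j => ?_⟩
  rcases lt_trichotomy j j0 with hlt | heq | hgt
  · -- j < j0
    have htn : t ∉ Submodule.span R (d '' Set.Iio (j + 1)) := hnot (j + 1) (by omega)
    constructor
    · intro h
      exact ⟨fun hin => h (Submodule.mem_sup_right hin), by omega⟩
    · rintro ⟨hjmp, -⟩ hin
      obtain ⟨y, hy, z, hz, hyz⟩ := Submodule.mem_sup.mp hin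
      obtain ⟨a, rfl⟩ := Submodule.mem_span_singleton.mp hy
      by_cases ha : a = 0
      · rw [ha, zero_smul, zero_add] at hyz
        exact hjmp (hyz ▸ hz)
      · apply htn
        have : t = a⁻¹ • (d j - z) := by
          rw [← hyz, add_sub_cancel_right, smul_smul, inv_mul_cancel₀ ha, one_smul]
        rw [this]
        apply Submodule.smul_mem
        apply Submodule.sub_mem
        · exact Submodule.subset_span ⟨j, Nat.lt_succ_self j, rfl⟩
        · exact span_Iio_mono d (Nat.le_succ j) hz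
  · rw [heq]
    constructor
    · intro h
      exfalso
      apply h
      rw [span_Iio_succ] at hmem
      obtain ⟨y, hy, z, hz, hyz⟩ := Submodule.mem_sup.mp hmem
      obtain ⟨a, rfl⟩ := Submodule.mem_span_singleton.mp hy
      have ha : a ≠ 0 := by
        intro ha
        rw [ha, zero_smul, zero_add] at hyz
        exact hnot j0 le_rfl (hyz ▸ hz)
      have : d j0 = a⁻¹ • (t - z) := by
        rw [← hyz, add_sub_cancel_right, smul_smul, inv_mul_cancel₀ ha, one_smul]
      rw [this]
      apply Submodule.smul_mem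
      apply Submodule.sub_mem
      · exact Submodule.mem_sup_left (Submodule.mem_span_singleton_self t)
      · exact Submodule.mem_sup_right hz
    · rintro ⟨-, hne⟩
      exact absurd rfl hne
  · have htj : t ∈ Submodule.span R (d '' Set.Iio j) := span_Iio_mono d (by omega) hmem
    rw [sup_eq_right.mpr (by rw [Submodule.span_singleton_le_iff_mem]; exact htj)]
    constructor
    · intro h
      exact ⟨h, by omega⟩
    · rintro ⟨h, -⟩
      exact h

theorem orders_tau [FiniteDimensional R M] (c c' : ℕ → M) {n : ℕ}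
    (hdim : Module.finrank R M = n + 1)
    (h01 : c 1 = c 0) (hcc' : ∀ j, c' (j + 1) = c (j + 1))
    (hind : LinearIndependent R ![c' 0, c 0])
    (J : Fin n → ℕ) (hJ : FunFld.IsOrders R c J) :
    ∃ m : Fin n, ∀ j, FunFld.IsJump R c' (j + 1) ↔ (j = 0 ∨ ∃ l, l ≠ m ∧ J l = j) := by
  classical
  obtain ⟨hJmono, hJjump⟩ := hJ
  obtain ⟨d, hd⟩ : ∃ d : ℕ → M, d = fun j => c (j + 1) := ⟨_, rfl⟩
  have hdj : ∀ j, d j = c (j + 1) := fun j => by rw [hd]
  have hc0 : c 0 ≠ 0 := by simpa using hind.ne_zero 1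
  have ht0 : c' 0 ≠ 0 := by simpa using hind.ne_zero 0
  have hd0 : d 0 = c 0 := by rw [hdj]; exact h01
  have hjump_cd : ∀ j, 1 ≤ j → (FunFld.IsJump R c (j + 1) ↔ FunFld.IsJump R d j) := by
    intro j hj
    unfold FunFld.IsJump
    have : c '' Set.Iio (j + 1) = d '' Set.Iio j := by
      rw [image_Iio_succ' c j, ← hd]
      apply Set.insert_eq_of_mem
      exact ⟨0, hj, hd0⟩
    rw [this, hdj]
  have h0notJ : ∀ l, J l ≠ 0 := by
    intro l hl
    have := (hJjump 0).mp ⟨l, hl⟩
    apply this
    rw [zero_add, h01]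
    exact Submodule.subset_span ⟨0, by simp, rfl⟩
  have hJd : ∀ l, FunFld.IsJump R d (J l) := fun l =>
    (hjump_cd (J l) (Nat.pos_of_ne_zero (h0notJ l))).mp ((hJjump (J l)).mp ⟨l, rfl⟩)
  have hd0jump : FunFld.IsJump R d 0 := by
    unfold FunFld.IsJump
    simp [hd0, hc0]
  obtain ⟨N, hN⟩ : ∃ N, Submodule.span R (d '' Set.Iio N) = ⊤ := by
    obtain ⟨S, hS⟩ : ∃ S : Finset ℕ, S = insert 0 (Finset.univ.image J) := ⟨_, rfl⟩
    refine ⟨S.sup id + 1, ?_⟩
    apply Submodule.eq_top_of_finrank_eq
    apply le_antisymm (Submodule.finrank_le _)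
    rw [hdim]
    have hSsub : S ⊆ (Finset.range (S.sup id + 1)).filter (fun j => FunFld.IsJump R d j) := by
      intro j hj
      rw [Finset.mem_filter, Finset.mem_range]
      refine ⟨Nat.lt_succ_of_le (Finset.le_sup (f := id) hj), ?_⟩
      rw [hS] at hj
      rcases Finset.mem_insert.mp hj with rfl | hj
      · exact hd0jump
      · obtain ⟨l, -, rfl⟩ := Finset.mem_image.mp hj
        exact hJd l
    have hScard : S.card = n + 1 := by
      rw [hS, Finset.card_insert_of_notMem, Finset.card_image_of_injective _ hJmono.injective]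
      · simp
      · simp only [Finset.mem_image, Finset.mem_univ, true_and, not_exists]
        exact fun l => h0notJ l
    calc n + 1 = S.card := hScard.symm
      _ ≤ _ := Finset.card_le_card hSsub
      _ ≤ _ := card_jumps_le_finrank_span d _
  obtain ⟨j0, hj0jump, hj0not, hex⟩ := exchange d (c' 0) ht0 ⟨N, by rw [hN]; trivial⟩
  have hj0pos : 1 ≤ j0 := by
    by_contra h
    have h0 : j0 = 0 := by omega
    have h1 : d 0 ∉ Submodule.span R {c' 0} ⊔ Submodule.span R (d '' Set.Iio 0) := by
      have hemp : d '' Set.Iio 0 = ∅ := by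
        ext x; simp
      rw [hemp, Submodule.span_empty, sup_bot_eq]
      intro hmem
      obtain ⟨a, ha⟩ := Submodule.mem_span_singleton.mp hmem
      have hp := (LinearIndependent.pair_iff.mp hind) a (-1) (by
        rw [ha, hd0]; simp)
      have := hp.2
      simp at this
    exact ((hex 0).mp h1).2 h0.symm
  obtain ⟨m, hm⟩ : ∃ m, J m = j0 := (hJjump j0).mpr ((hjump_cd j0 hj0pos).mpr hj0jump)
  refine ⟨m, fun j => ?_⟩
  have hc' : FunFld.IsJump R c' (j + 1) ↔
      d j ∉ Submodule.span R {c' 0} ⊔ Submodule.span R (d '' Set.Iio j) := by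
    unfold FunFld.IsJump
    have : (fun i => c' (i + 1)) = d := by rw [hd]; exact funext hcc'
    rw [image_Iio_succ' c' j, Submodule.span_insert, hcc' j, this, hdj]
  rw [hc', hex j]
  constructor
  · rintro ⟨hjmp, hne⟩
    rcases Nat.eq_zero_or_pos j with rfl | hpos
    · exact Or.inl rfl
    · right
      obtain ⟨l, hl⟩ := (hJjump j).mpr ((hjump_cd j hpos).mpr hjmp)
      exact ⟨l, fun hlm => hne (by rw [← hl, hlm, hm]), hl⟩
  · rintro (rfl | ⟨l, hlm, rfl⟩)
    · exact ⟨hd0jump, by omega⟩
    · exact ⟨hJd l, fun h => hlm (hJmono.injective (h.trans hm.symm))⟩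

end Groth.Agent.H21.Orders
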