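import Mathlib
import Groth.Prelude.Def_CAlgX

namespace Groth.Agent.H21.AFS

open TensorProduct

universe u

section

variable {R : Type u} [CommRing R] {R' : Type u} [CommRing R'] [Algebra R R']
  {A : Type u} [CommRing A] [Algebra R A]

/-- the retraction `R' ⊗ A → A` induced by an `R`-linear retraction of `R → R'` -/
noncomputable def ret (ρ : R' →ₗ[R] R) : R' ⊗[R] A →ₗ[R] A :=
  (TensorProduct.lid R A).toLinearMap ∘ₗ LinearMap.rTensor A ρ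

lemma ret_tmul (ρ : R' →ₗ[R] R) (r : R') (a : A) : ret ρ (r ⊗ₜ[R] a) = ρ r • a := by
  simp [ret]

lemma ret_mul (ρ : R' →ₗ[R] R) (a : A) (x : R' ⊗[R] A) :
    ret ρ ((1 ⊗ₜ[R] a) * x) = a * ret ρ x := by
  induction x using TensorProduct.induction_on with
  | zero => simp
  | tmul r b =>
    rw [Algebra.TensorProduct.tmul_mul_tmul, one_mul, ret_tmul, ret_tmul]
    rw [mul_smul_comm]
  | add x y hx hy => rw [mul_add, map_add, hx, hy, map_add, mul_add]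

lemma ret_mem (ρ : R' →ₗ[R] R) (J : Ideal A) (x : R' ⊗[R] A)
    (hx : x ∈ J.map (Algebra.TensorProduct.includeRight : A →ₐ[R] R' ⊗[R] A)) :
    ret ρ x ∈ J := by
  have key : ∀ y : R' ⊗[R] A, ret ρ (y * x) ∈ J := by
    unfold Ideal.map at hx
    induction hx using Submodule.span_induction with
    | mem x hx =>
      obtain ⟨j, hj, rfl⟩ := hx
      intro y
      have : y * (Algebra.TensorProduct.includeRight : A →ₐ[R] R' ⊗[R] A) j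
          = (1 ⊗ₜ[R] j) * y := by
        rw [mul_comm]; rfl
      rw [this, ret_mul]
      exact Ideal.mul_mem_right _ _ hj
    | zero => intro y; simp
    | add x x' _ _ hx hx' =>
      intro y
      rw [mul_add, map_add]
      exact Ideal.add_mem _ (hx y) (hx' y)
    | smul c x _ hx =>
      intro y
      rw [smul_eq_mul, ← mul_assoc]
      exact hx (y * c)
  simpa using key 1

lemma ret_one_tmul (ρ : R' →ₗ[R] R) (hρ1 : ρ 1 = 1) (a : A) : ret ρ (1 ⊗ₜ[R] a) = a := by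
  rw [ret_tmul, hρ1, one_smul]

lemma ret_sub_mem (ρ : R' →ₗ[R] R) (hρ1 : ρ 1 = 1) (J : Ideal A) {x : R' ⊗[R] A} {a : A}
    (hx : x - 1 ⊗ₜ[R] a ∈ J.map (Algebra.TensorProduct.includeRight : A →ₐ[R] R' ⊗[R] A)) :
    ret ρ x - a ∈ J := by
  have := ret_mem ρ J _ hx
  rwa [map_sub, ret_one_tmul ρ hρ1] at this

lemma ret_mul_of_congr (ρ : R' →ₗ[R] R) (hρ1 : ρ 1 = 1) (J : Ideal A) (hJ : J ^ 2 = ⊥)
    {x y : R' ⊗[R] A} {a b : A}
    (hx : x - 1 ⊗ₜ[R] a ∈ J.map (Algebra.TensorProduct.includeRight : A →ₐ[R] R' ⊗[R] A))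
    (hy : y - 1 ⊗ₜ[R] b ∈ J.map (Algebra.TensorProduct.includeRight : A →ₐ[R] R' ⊗[R] A)) :
    ret ρ (x * y) = ret ρ x * ret ρ y := by
  obtain ⟨u, hu⟩ : ∃ u, u = x - 1 ⊗ₜ[R] a := ⟨_, rfl⟩
  obtain ⟨v, hv⟩ : ∃ v, v = y - 1 ⊗ₜ[R] b := ⟨_, rfl⟩
  rw [← hu] at hx
  rw [← hv] at hy
  have hx' : x = 1 ⊗ₜ[R] a + u := by rw [hu]; ring
  have hy' : y = 1 ⊗ₜ[R] b + v := by rw [hv]; ring
  have huv : u * v = 0 := by
    have : u * v ∈ (J.map (Algebra.TensorProduct.includeRight : A →ₐ[R] R' ⊗[R] A)) ^ 2 := by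
      rw [pow_two]; exact Ideal.mul_mem_mul hx hy
    rw [← Ideal.map_pow, hJ, Ideal.map_bot] at this
    exact this
  have hru : ret ρ u * ret ρ v = 0 := by
    have : ret ρ u * ret ρ v ∈ J ^ 2 := by
      rw [pow_two]; exact Ideal.mul_mem_mul (ret_mem ρ J u hx) (ret_mem ρ J v hy)
    rw [hJ] at this
    exact this
  have e1 : x * y = (1 ⊗ₜ[R] a) * (1 ⊗ₜ[R] b) + (1 ⊗ₜ[R] a) * v + (1 ⊗ₜ[R] b) * u + u * v := by
    rw [hx', hy']; ring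
  rw [e1, huv, add_zero, map_add, map_add, ret_mul, ret_mul, ret_mul, ret_one_tmul ρ hρ1, hx', hy',
    map_add, map_add, ret_one_tmul ρ hρ1, ret_one_tmul ρ hρ1]
  linear_combination (-1 : A) * hru

end

theorem descend {R S R' : Type u} [CommRing R] [CommRing S] [Algebra R S]
    (𝔫 : Ideal S) [CommRing R'] [Algebra R R'] (ρ : R' →ₗ[R] R)
    (hρ : ∀ r : R, ρ (algebraMap R R' r) = r)
    (h : CAlgX.IsAdicFormallySmooth R' (R' ⊗[R] S)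
      (𝔫.map (Algebra.TensorProduct.includeRight : S →ₐ[R] R' ⊗[R] S))) :
    CAlgX.IsAdicFormallySmooth R S 𝔫 := by
  intro A _ _ J hJ ψ hψ
  obtain ⟨k, hk⟩ := hψ
  have hρ1 : ρ 1 = 1 := by
    have := hρ 1
    rwa [map_one] at this
  obtain ⟨ιA, hιA⟩ : ∃ ιA : A →ₐ[R] R' ⊗[R] A, ιA = Algebra.TensorProduct.includeRight :=
    ⟨_, rfl⟩
  obtain ⟨J', hJ'def⟩ : ∃ J' : Ideal (R' ⊗[R] A), J' = J.map ιA := ⟨_, rfl⟩
  have hJ' : J' ^ 2 = ⊥ := by rw [hJ'def, ← Ideal.map_pow, hJ, Ideal.map_bot]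
  have hq : ∀ a ∈ J, ((Ideal.Quotient.mkₐ R J').comp ιA) a = 0 := by
    intro a ha
    rw [AlgHom.comp_apply, Ideal.Quotient.mkₐ_eq_mk, Ideal.Quotient.eq_zero_iff_mem, hJ'def]
    exact Ideal.mem_map_of_mem _ ha
  obtain ⟨q, hqdef⟩ : ∃ q : A ⧸ J →ₐ[R] (R' ⊗[R] A) ⧸ J',
      q = Ideal.Quotient.liftₐ J ((Ideal.Quotient.mkₐ R J').comp ιA) hq := ⟨_, rfl⟩
  have hqmk : ∀ a : A, q (Ideal.Quotient.mk J a) = Ideal.Quotient.mk J' (ιA a) := by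
    intro a
    rw [hqdef]
    rfl
  obtain ⟨ψ', hψ'⟩ : ∃ ψ' : R' ⊗[R] S →ₐ[R'] (R' ⊗[R] A) ⧸ J',
      ψ' = Algebra.TensorProduct.lift (Algebra.ofId R' ((R' ⊗[R] A) ⧸ J')) (q.comp ψ)
        (fun _ _ => Commute.all _ _) := ⟨_, rfl⟩
  have hψ'1 : ∀ s : S, ψ' (1 ⊗ₜ[R] s) = q (ψ s) := by
    intro s
    rw [hψ', Algebra.TensorProduct.lift_tmul, map_one, one_mul]
    rfl
  have hkill : ∃ k : ℕ, ∀ x ∈ (𝔫.map (Algebra.TensorProduct.includeRight :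
      S →ₐ[R] R' ⊗[R] S)) ^ k, ψ' x = 0 := by
    refine ⟨k, ?_⟩
    intro x hx
    rw [← Ideal.map_pow] at hx
    have hle : (𝔫 ^ k).map (Algebra.TensorProduct.includeRight : S →ₐ[R] R' ⊗[R] S)
        ≤ RingHom.ker (ψ' : R' ⊗[R] S →+* (R' ⊗[R] A) ⧸ J') := by
      rw [Ideal.map_le_iff_le_comap]
      intro s hs
      rw [Ideal.mem_comap, RingHom.mem_ker]
      change ψ' (1 ⊗ₜ[R] s) = 0
      rw [hψ'1, hk s hs, map_zero]
    exact hle hx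
  obtain ⟨χ', hχ'⟩ := h (R' ⊗[R] A) J' hJ' ψ' hkill
  -- congruence
  have hcong : ∀ (s : S) (a : A), Ideal.Quotient.mk J a = ψ s →
      χ' (1 ⊗ₜ[R] s) - 1 ⊗ₜ[R] a ∈ J.map (Algebra.TensorProduct.includeRight :
        A →ₐ[R] R' ⊗[R] A) := by
    intro s a ha
    have h1 : Ideal.Quotient.mk J' (χ' (1 ⊗ₜ[R] s)) = ψ' (1 ⊗ₜ[R] s) := by
      rw [← hχ']
      rfl
    rw [hψ'1, ← ha, hqmk, Ideal.Quotient.eq, hJ'def, hιA] at h1
    exact h1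
  have hlift : ∀ s : S, ∃ a : A, Ideal.Quotient.mk J a = ψ s := fun s =>
    Ideal.Quotient.mk_surjective _
  choose θ hθ using hlift
  obtain ⟨L, hL⟩ : ∃ L : S →ₗ[R] A, L = ret ρ ∘ₗ (χ'.restrictScalars R).toLinearMap ∘ₗ
      (Algebra.TensorProduct.includeRight : S →ₐ[R] R' ⊗[R] S).toLinearMap := ⟨_, rfl⟩
  have hLapp : ∀ s, L s = ret ρ (χ' (1 ⊗ₜ[R] s)) := by
    intro s
    rw [hL]
    rfl
  have hL1 : L 1 = 1 := by
    rw [hLapp]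
    have : (1 : R' ⊗[R] S) = 1 ⊗ₜ[R] (1 : S) := rfl
    rw [← this, map_one]
    exact ret_one_tmul ρ hρ1 1
  have hLmul : ∀ s t, L (s * t) = L s * L t := by
    intro s t
    rw [hLapp, hLapp, hLapp]
    have : (1 : R') ⊗ₜ[R] (s * t) = (1 ⊗ₜ[R] s) * (1 ⊗ₜ[R] t) := by
      rw [Algebra.TensorProduct.tmul_mul_tmul, one_mul]
    rw [this, map_mul]
    exact ret_mul_of_congr ρ hρ1 J hJ (hcong s (θ s) (hθ s)) (hcong t (θ t) (hθ t))
  refine ⟨AlgHom.ofLinearMap L hL1 hLmul, ?_⟩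
  apply AlgHom.ext
  intro s
  rw [AlgHom.comp_apply, AlgHom.ofLinearMap_apply, Ideal.Quotient.mkₐ_eq_mk, ← hθ s,
    Ideal.Quotient.eq, hLapp]
  exact ret_sub_mem ρ hρ1 J (hcong s (θ s) (hθ s))

end Groth.Agent.H21.AFS
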