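import Mathlib

set_option autoImplicit false

namespace Groth.Agent.H21.Artin
open Polynomial

section poly
variable {B : Type*} [CommRing B] {N : ℕ}

/-- the monic polynomial `X^N - u_0 X^{N-1} + u_1 X^{N-2} - ...` -/
noncomputable def poly (u : Fin N → B) : B[X] :=
  X ^ N + ∑ k : Fin N, C ((-1) ^ ((k : ℕ) + 1) * u k) * X ^ (N - 1 - (k : ℕ))

lemma poly_map {A : Type*} [CommRing A] (φ : A →+* B) (u : Fin N → A) :
    (poly u).map φ = poly (fun k => φ (u k)) := by
  unfold poly
  simp [Polynomial.map_add, Polynomial.map_sum, Polynomial.map_mul, Polynomial.map_pow]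

lemma poly_coeff (u : Fin N → B) (k : Fin N) :
    (poly u).coeff (N - 1 - (k : ℕ)) = (-1) ^ ((k : ℕ) + 1) * u k := by
  unfold poly
  rw [coeff_add, coeff_X_pow, if_neg (by have := k.2; omega), zero_add, finset_sum_coeff]
  rw [Finset.sum_eq_single k]
  · rw [coeff_C_mul, coeff_X_pow, if_pos rfl, mul_one]
  · intro j _ hjk
    rw [coeff_C_mul, coeff_X_pow, if_neg, mul_zero]
    intro h
    apply hjk
    apply Fin.ext
    have := k.2
    have := j.2
    omega
  · intro h; exact absurd (Finset.mem_univ k) h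

lemma poly_injective (u v : Fin N → B) (h : poly u = poly v) : u = v := by
  funext k
  have h1 := poly_coeff u k
  have h2 := poly_coeff v k
  rw [h, h2] at h1
  have h3 : ((-1 : B) ^ ((k : ℕ) + 1)) * ((-1) ^ ((k : ℕ) + 1)) = 1 := by
    rw [← mul_pow]; simp
  calc u k = ((-1 : B) ^ ((k : ℕ) + 1)) * ((-1) ^ ((k : ℕ) + 1)) * u k := by rw [h3, one_mul]
    _ = ((-1 : B) ^ ((k : ℕ) + 1)) * ((-1) ^ ((k : ℕ) + 1) * u k) := by ring
    _ = ((-1 : B) ^ ((k : ℕ) + 1)) * ((-1) ^ ((k : ℕ) + 1) * v k) := by rw [← h1]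
    _ = v k := by rw [← mul_assoc, h3, one_mul]

lemma poly_monic (u : Fin N → B) : (poly u).Monic := by
  unfold poly
  apply Polynomial.monic_X_pow_add
  refine lt_of_le_of_lt (Polynomial.degree_sum_le _ _) ?_
  rw [Finset.sup_lt_iff (by exact WithBot.bot_lt_coe N)]
  intro k _
  refine lt_of_le_of_lt (Polynomial.degree_C_mul_X_pow_le _ _) ?_
  have := k.2
  exact_mod_cast (by omega : N - 1 - (k : ℕ) < N)

lemma poly_natDegree [Nontrivial B] (u : Fin N → B) : (poly u).natDegree = N := by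
  unfold poly
  rw [Polynomial.natDegree_add_eq_left_of_degree_lt, natDegree_X_pow]
  rw [degree_X_pow]
  refine lt_of_le_of_lt (Polynomial.degree_sum_le _ _) ?_
  rw [Finset.sup_lt_iff (by exact WithBot.bot_lt_coe N)]
  intro k _
  refine lt_of_le_of_lt (Polynomial.degree_C_mul_X_pow_le _ _) ?_
  have := k.2
  exact_mod_cast (by omega : N - 1 - (k : ℕ) < N)

lemma vieta (τ : Fin N → B) :
    ∏ i, (X - C (τ i)) = poly (fun k : Fin N => (Finset.univ.val.map τ).esymm ((k : ℕ) + 1)) := by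
  have h := Multiset.prod_X_sub_X_eq_sum_esymm (Finset.univ.val.map τ)
  rw [Multiset.map_map, Multiset.card_map, Finset.card_val, Finset.card_univ, Fintype.card_fin] at h
  have h0 : (Multiset.map ((fun t => X - C t) ∘ τ) Finset.univ.val).prod = ∏ i, (X - C (τ i)) := rfl
  rw [h0] at h
  rw [h, Finset.sum_range_succ']
  unfold poly
  rw [add_comm]
  congr 1
  · simp [Multiset.esymm, Multiset.powersetCard_zero_left]
  · rw [← Fin.sum_univ_eq_sum_range (fun j => (-1 : B[X]) ^ (j + 1) *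
      (C ((Finset.univ.val.map τ).esymm (j + 1)) * X ^ (N - (j + 1)))) N]
    refine Finset.sum_congr rfl (fun k _ => ?_)
    have e : N - ((k : ℕ) + 1) = N - 1 - (k : ℕ) := by omega
    rw [e]
    simp only [map_mul, map_pow, map_neg, map_one]
    ring

/-- every monic polynomial of degree `N` is some `poly u` -/
lemma exists_poly (g : B[X]) (hg : g.Monic) (hd : g.natDegree = N) : ∃ u : Fin N → B, poly u = g := by
  refine ⟨fun k => (-1) ^ ((k : ℕ) + 1) * g.coeff (N - 1 - (k : ℕ)), ?_⟩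
  conv_rhs => rw [hg.as_sum, hd]
  unfold poly
  congr 1
  rw [← Fin.sum_univ_eq_sum_range (fun i => C (g.coeff i) * X ^ i) N]
  rw [← Equiv.sum_comp Fin.revPerm (fun i : Fin N => C (g.coeff (i : ℕ)) * X ^ (i : ℕ))]
  refine Finset.sum_congr rfl (fun k _ => ?_)
  have h3 : ((-1 : B) ^ ((k : ℕ) + 1)) * ((-1) ^ ((k : ℕ) + 1)) = 1 := by
    rw [← mul_pow]; simp
  rw [← mul_assoc, h3, one_mul, Fin.revPerm_apply, Fin.val_rev]
  have e : N - ((k : ℕ) + 1) = N - 1 - (k : ℕ) := by omega
  rw [e]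

end poly

end Groth.Agent.H21.Artin
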