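import Mathlib
import Groth.Agent.H21.Artin1

set_option autoImplicit false
universe u

namespace Groth.Agent.H21.Artin
open Polynomial

/-- powers of a root of a monic polynomial of degree `N` span `R[x]` -/
lemma adjoin_singleton_span {R B : Type u} [CommRing R] [CommRing B] [Algebra R B]
    (x : B) (f : R[X]) (hfm : f.Monic) (N : ℕ) (hfd : f.natDegree = N) (hx : aeval x f = 0)
    (w : B) (hw : w ∈ Algebra.adjoin R {x}) :
    w ∈ Submodule.span R (Set.range (fun j : Fin N => x ^ (j : ℕ))) := by
  rcases subsingleton_or_nontrivial R with hR | hR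
  · have : w = 0 := by
      have h1 : (1 : R) = 0 := Subsingleton.elim _ _
      have : w = (1 : R) • w := by rw [one_smul]
      rw [this, h1, zero_smul]
    rw [this]; exact Submodule.zero_mem _
  rcases Nat.eq_zero_or_pos N with h0 | h0
  · have hf1 : f = 1 := Polynomial.eq_one_of_monic_natDegree_zero hfm (hfd.trans h0)
    rw [hf1, map_one] at hx
    have : w = 0 := by
      calc w = w * 1 := (mul_one w).symm
        _ = w * 0 := by rw [hx]
        _ = 0 := mul_zero w
    rw [this]; exact Submodule.zero_mem _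
  rw [Algebra.adjoin_singleton_eq_range_aeval] at hw
  obtain ⟨p, rfl⟩ := hw
  change aeval x p ∈ _
  rw [← Polynomial.aeval_modByMonic_eq_self_of_root hx]
  have hdeg : (p %ₘ f).natDegree < N := by
    rw [← hfd]
    exact Polynomial.natDegree_modByMonic_lt p hfm (by
      intro h; rw [h, natDegree_one] at hfd; omega)
  rw [Polynomial.as_sum_range' (p %ₘ f) N hdeg, map_sum]
  refine Submodule.sum_mem _ (fun j hj => ?_)
  rw [← Polynomial.C_mul_X_pow_eq_monomial, map_mul, aeval_C, map_pow, aeval_X,
    ← Algebra.smul_def]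
  exact Submodule.smul_mem _ _ (Submodule.subset_span ⟨⟨j, Finset.mem_range.mp hj⟩, rfl⟩)


theorem spanS : ∀ (n : ℕ) (R B : Type u) [CommRing R] [CommRing B] [Algebra R B]
    (t : Fin n → B) (f : R[X]) (_ : f.Monic) (_ : f.natDegree = n)
    (_ : f.map (algebraMap R B) = ∏ i, (X - C (t i)))
    (m : Fin n → ℕ) (_ : ∀ i, m i = n - (i : ℕ)) (x : B),
    x ∈ Algebra.adjoin R (Set.range t) →
    x ∈ Submodule.span R (Set.range (fun d : (∀ i, Fin (m i)) => ∏ i, t i ^ ((d i : ℕ)))) := by
  intro n
  induction n with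
  | zero =>
    intro R B _ _ _ t f hfm hfd hf m hm x hx
    have : Set.range t = ∅ := Set.range_eq_empty t
    rw [this, Algebra.adjoin_empty] at hx
    obtain ⟨r, rfl⟩ := Algebra.mem_bot.mp hx
    rw [Algebra.algebraMap_eq_smul_one]
    refine Submodule.smul_mem _ _ (Submodule.subset_span ⟨fun i => Fin.elim0 i, ?_⟩)
    simp
  | succ n ih =>
    intro R B _ _ _ t f hfm hfd hf m hm x hx
    rcases subsingleton_or_nontrivial B with hB | hB
    · rw [Subsingleton.elim x 0]; exact Submodule.zero_mem _
    obtain ⟨R₁, hR₁⟩ : ∃ R₁ : Subalgebra R B, R₁ = Algebra.adjoin R {t 0} := ⟨_, rfl⟩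
    have ht0 : t 0 ∈ R₁ := by rw [hR₁]; exact Algebra.subset_adjoin (Set.mem_singleton _)
    obtain ⟨θ, hθ⟩ : ∃ θ : R₁, θ = ⟨t 0, ht0⟩ := ⟨_, rfl⟩
    have hθval : algebraMap R₁ B θ = t 0 := by rw [hθ]; rfl
    haveI : Nontrivial R₁ := ⟨⟨0, 1, fun h => zero_ne_one (congrArg Subtype.val h)⟩⟩
    have hprod : f.map (algebraMap R B) = (X - C (t 0)) * ∏ i : Fin n, (X - C (t i.succ)) := by
      rw [hf, Fin.prod_univ_succ]
    have hroot : aeval (t 0) f = 0 := by
      rw [Polynomial.aeval_def, ← Polynomial.eval_map, hprod]; simp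
    obtain ⟨fR₁, hfR₁⟩ : ∃ fR₁ : R₁[X], fR₁ = f.map (algebraMap R R₁) := ⟨_, rfl⟩
    have hmapmap : fR₁.map (algebraMap R₁ B) = f.map (algebraMap R B) := by
      rw [hfR₁, Polynomial.map_map, ← IsScalarTower.algebraMap_eq]
    have hθroot : IsRoot fR₁ θ := by
      rw [IsRoot.def, hfR₁, Polynomial.eval_map_algebraMap]
      apply Subtype.val_injective
      have h1 := Polynomial.aeval_algebraMap_apply (A := R₁) B θ f
      change (algebraMap R₁ B) (aeval θ f) = 0
      rw [← h1, hθval]; exact hroot
    obtain ⟨f₁, hf₁⟩ : ∃ f₁ : R₁[X], f₁ = fR₁ /ₘ (X - C θ) := ⟨_, rfl⟩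
    have hdiv : (X - C θ) * f₁ = fR₁ := by
      rw [hf₁]; exact Polynomial.mul_divByMonic_eq_iff_isRoot.mpr hθroot
    have hfR₁m : fR₁.Monic := by rw [hfR₁]; exact hfm.map _
    have hf₁m : f₁.Monic :=
      Polynomial.Monic.of_mul_monic_left (monic_X_sub_C θ) (by rw [hdiv]; exact hfR₁m)
    have hf₁d : f₁.natDegree = n := by
      have h1 := Polynomial.natDegree_divByMonic fR₁ (monic_X_sub_C θ)
      rw [natDegree_X_sub_C, hfR₁, hfm.natDegree_map, hfd, ← hfR₁, ← hf₁] at h1
      omega
    have hf₁map : f₁.map (algebraMap R₁ B) = ∏ i : Fin n, (X - C (t i.succ)) := by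
      have h1 := Polynomial.map_divByMonic (p := fR₁) (algebraMap R₁ B) (monic_X_sub_C θ)
      rw [hmapmap, hprod] at h1
      have h2 : (X - C θ : R₁[X]).map (algebraMap R₁ B) = X - C (t 0) := by
        rw [Polynomial.map_sub, Polynomial.map_X, Polynomial.map_C, hθval]
      rw [h2, Polynomial.mul_divByMonic_cancel_left _ (monic_X_sub_C (t 0)), ← hf₁] at h1
      exact h1
    have hIH := ih R₁ B (fun i => t i.succ) f₁ hf₁m hf₁d hf₁map (fun i => m i.succ)
      (fun i => by rw [hm, Fin.val_succ]; omega)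
    have hx' : x ∈ Algebra.adjoin R₁ (Set.range fun i : Fin n => t i.succ) := by
      induction hx using Algebra.adjoin_induction with
      | mem y hy =>
        obtain ⟨i, rfl⟩ := hy
        refine Fin.cases ?_ (fun i => ?_) i
        · have := Subalgebra.algebraMap_mem
            (Algebra.adjoin R₁ (Set.range fun i : Fin n => t i.succ)) θ
          rwa [hθval] at this
        · exact Algebra.subset_adjoin (Set.mem_range_self i)
      | algebraMap r =>
        rw [IsScalarTower.algebraMap_apply R R₁ B]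
        exact Subalgebra.algebraMap_mem _ _
      | add a b _ _ ha hb => exact Subalgebra.add_mem _ ha hb
      | mul a b _ _ ha hb => exact Subalgebra.mul_mem _ ha hb
    have h1 := hIH x hx'
    obtain ⟨N, hN⟩ : ∃ N, N = Submodule.span R
        (Set.range (fun d : (∀ i, Fin (m i)) => ∏ i, t i ^ ((d i : ℕ)))) := ⟨_, rfl⟩
    rw [← hN]
    have K1 : ∀ (j : Fin (m 0)) (d' : ∀ i : Fin n, Fin (m i.succ)),
        t 0 ^ (j : ℕ) * ∏ i, t i.succ ^ ((d' i : ℕ)) ∈ N := by
      intro j d'
      rw [hN]
      refine Submodule.subset_span ⟨Fin.cons (α := fun i => Fin (m i)) j d', ?_⟩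
      simp only
      rw [Fin.prod_univ_succ]
      simp only [Fin.cons_zero, Fin.cons_succ]
    have K2 : ∀ w ∈ Submodule.span R (Set.range (fun j : Fin (m 0) => t 0 ^ (j : ℕ))),
        ∀ d' : (∀ i : Fin n, Fin (m i.succ)), w * ∏ i, t i.succ ^ ((d' i : ℕ)) ∈ N := by
      intro w hw d'
      induction hw using Submodule.span_induction with
      | mem w hw =>
        obtain ⟨j, rfl⟩ := hw
        exact K1 j d'
      | zero => rw [zero_mul]; exact Submodule.zero_mem _
      | add a b _ _ ha hb => rw [add_mul]; exact Submodule.add_mem _ ha hb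
      | smul r a _ ha => rw [smul_mul_assoc]; exact Submodule.smul_mem _ _ ha
    have hm0 : m 0 = n + 1 := by rw [hm]; simp
    have K3 : ∀ z ∈ R₁, ∀ y ∈ N, z * y ∈ N := by
      intro z hz y hy
      rw [hN] at hy
      induction hy using Submodule.span_induction with
      | mem y hy =>
        obtain ⟨d, rfl⟩ := hy
        simp only
        rw [Fin.prod_univ_succ, ← mul_assoc]
        apply K2
        apply adjoin_singleton_span (t 0) f hfm (m 0) (by rw [hm0, hfd]) hroot
        rw [← hR₁]
        exact Subalgebra.mul_mem _ hz (Subalgebra.pow_mem _ ht0 _)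
      | zero => rw [mul_zero]; exact Submodule.zero_mem _
      | add a b _ _ ha hb => rw [mul_add]; exact Submodule.add_mem _ ha hb
      | smul r a _ ha => rw [mul_smul_comm]; exact Submodule.smul_mem _ _ ha
    clear hx hx'
    induction h1 using Submodule.span_induction with
    | mem y hy =>
      obtain ⟨d', rfl⟩ := hy
      have := K1 ⟨0, by rw [hm0]; omega⟩ d'
      simpa using this
    | zero => exact Submodule.zero_mem _
    | add a b _ _ ha hb => exact Submodule.add_mem _ ha hb
    | smul r a _ ha =>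
      rw [Algebra.smul_def]
      exact K3 _ r.2 _ ha

end Groth.Agent.H21.Artin
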