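import Mathlib
import Groth.Agent.H21.Artin1

set_option autoImplicit false
universe u

namespace Groth.Agent.H21.Artin
open Polynomial

/-- the ideal generated by `e_{i+1}(t) - a_i` -/
noncomputable def Iid {R : Type*} [CommRing R] {n : ℕ} (a : Fin n → R) : Ideal (MvPolynomial (Fin n) R) :=
  Ideal.span (Set.range fun i : Fin n =>
    MvPolynomial.esymm (Fin n) R ((i : ℕ) + 1) - MvPolynomial.C (a i))

lemma hom_esymm {R S : Type*} [CommRing R] [CommRing S] {n : ℕ}
    (ξ : MvPolynomial (Fin n) R →+* S) (k : ℕ) :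
    ξ (MvPolynomial.esymm (Fin n) R k)
      = (Finset.univ.val.map (fun i => ξ (MvPolynomial.X i))).esymm k := by
  rw [Finset.esymm_map_val]
  simp only [MvPolynomial.esymm, map_sum, map_prod]

lemma quot_prod {R : Type*} [CommRing R] {n : ℕ} (a : Fin n → R) :
    ∏ i, (X - C (Ideal.Quotient.mk (Iid a) (MvPolynomial.X i)))
      = (poly a).map ((Ideal.Quotient.mk (Iid a)).comp MvPolynomial.C) := by
  rw [vieta, poly_map]
  congr 1
  funext k
  rw [← hom_esymm (Ideal.Quotient.mk (Iid a)) ((k : ℕ) + 1), RingHom.comp_apply,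
    Ideal.Quotient.eq]
  exact Ideal.subset_span ⟨k, rfl⟩

lemma kills {R S : Type*} [CommRing R] [CommRing S] {n : ℕ} (a : Fin n → R)
    (ξ : MvPolynomial (Fin n) R →+* S)
    (h : ∏ i, (X - C (ξ (MvPolynomial.X i))) = (poly a).map (ξ.comp MvPolynomial.C)) :
    Iid a ≤ RingHom.ker ξ := by
  rw [vieta, poly_map] at h
  have h2 := poly_injective _ _ h
  unfold Iid
  rw [Ideal.span_le]
  rintro _ ⟨k, rfl⟩
  change ξ _ = 0
  rw [map_sub, hom_esymm]
  have := congrFun h2 k
  simp only [RingHom.comp_apply] at this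
  rw [this, sub_self]

theorem inj : ∀ (n : ℕ) (R : Type u) [CommRing R] (a : Fin n → R) (m : Fin n → ℕ)
    (_ : ∀ i, m i = n - (i : ℕ)) (α : (∀ i, Fin (m i)) → R),
    (∑ d : (∀ i, Fin (m i)), MvPolynomial.C (α d) * ∏ i, MvPolynomial.X i ^ ((d i : ℕ))) ∈ Iid a →
    α = 0 := by
  intro n
  induction n with
  | zero =>
    intro R _ a m hm α hα
    unfold Iid at hα
    rw [Set.range_eq_empty, Ideal.span_empty, Ideal.mem_bot] at hα
    funext d
    rw [Fintype.sum_unique] at hα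
    simp only [Finset.univ_eq_empty, Finset.prod_empty, mul_one] at hα
    have h0 : α default = 0 := by
      have := MvPolynomial.C_injective (Fin 0) R (hα.trans (MvPolynomial.C_0).symm)
      exact this
    rw [Subsingleton.elim d default, h0]; rfl
  | succ n ih =>
    intro R _ a m hm α hα
    rcases subsingleton_or_nontrivial R with hR | hR
    · funext d; exact Subsingleton.elim _ _
    obtain ⟨f, hf⟩ : ∃ f : R[X], f = poly a := ⟨_, rfl⟩
    have hfm : f.Monic := by rw [hf]; exact poly_monic a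
    have hfd : f.natDegree = n + 1 := by rw [hf]; exact poly_natDegree a
    have hfdeg : f.degree = ((n + 1 : ℕ) : WithBot ℕ) := by
      rw [Polynomial.degree_eq_natDegree hfm.ne_zero, hfd]
    have hnt : Nontrivial (AdjoinRoot f) := by
      refine ⟨⟨1, 0, fun h => ?_⟩⟩
      rw [← map_one (AdjoinRoot.mk f), AdjoinRoot.mk_eq_zero] at h
      refine hfm.not_dvd_of_degree_lt one_ne_zero ?_ h
      rw [degree_one, hfdeg]
      exact_mod_cast Nat.succ_pos n
    obtain ⟨θ, hθ⟩ : ∃ θ : AdjoinRoot f, θ = AdjoinRoot.root f := ⟨_, rfl⟩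
    obtain ⟨fR, hfR⟩ : ∃ fR : (AdjoinRoot f)[X], fR = f.map (AdjoinRoot.of f) := ⟨_, rfl⟩
    have hθroot : IsRoot fR θ := by rw [hfR, hθ]; exact AdjoinRoot.isRoot_root f
    obtain ⟨f₁, hf₁⟩ : ∃ f₁ : (AdjoinRoot f)[X], f₁ = fR /ₘ (X - C θ) := ⟨_, rfl⟩
    have hdiv : (X - C θ) * f₁ = fR := by
      rw [hf₁]; exact Polynomial.mul_divByMonic_eq_iff_isRoot.mpr hθroot
    have hfRm : fR.Monic := by rw [hfR]; exact hfm.map _
    have hf₁m : f₁.Monic :=
      Polynomial.Monic.of_mul_monic_left (monic_X_sub_C θ) (by rw [hdiv]; exact hfRm)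
    have hf₁d : f₁.natDegree = n := by
      have h1 := Polynomial.natDegree_divByMonic fR (monic_X_sub_C θ)
      rw [natDegree_X_sub_C, hfR, hfm.natDegree_map, hfd, ← hfR, ← hf₁] at h1
      omega
    obtain ⟨a', ha'⟩ := exists_poly f₁ hf₁m hf₁d
    obtain ⟨mk', hmk'⟩ : ∃ mk' : MvPolynomial (Fin n) (AdjoinRoot f) →+*
        (MvPolynomial (Fin n) (AdjoinRoot f) ⧸ Iid a'), mk' = Ideal.Quotient.mk (Iid a') :=
      ⟨_, rfl⟩
    obtain ⟨χ, hχ⟩ : ∃ χ : AdjoinRoot f →+* (MvPolynomial (Fin n) (AdjoinRoot f) ⧸ Iid a'),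
        χ = mk'.comp MvPolynomial.C := ⟨_, rfl⟩
    obtain ⟨ψ, hψ⟩ : ∃ ψ : R →+* (MvPolynomial (Fin n) (AdjoinRoot f) ⧸ Iid a'),
        ψ = χ.comp (AdjoinRoot.of f) := ⟨_, rfl⟩
    obtain ⟨τ, hτ⟩ : ∃ τ : Fin (n + 1) → (MvPolynomial (Fin n) (AdjoinRoot f) ⧸ Iid a'),
        τ = Fin.cons (χ θ) (fun i => mk' (MvPolynomial.X i)) := ⟨_, rfl⟩
    obtain ⟨ξ, hξ⟩ : ∃ ξ : MvPolynomial (Fin (n + 1)) R →+*
        (MvPolynomial (Fin n) (AdjoinRoot f) ⧸ Iid a'), ξ = MvPolynomial.eval₂Hom ψ τ := ⟨_, rfl⟩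
    have hξX : ∀ i, ξ (MvPolynomial.X i) = τ i := by intro i; rw [hξ]; simp
    have hξC : ∀ r, ξ (MvPolynomial.C r) = ψ r := by intro r; rw [hξ]; simp
    have hkill : Iid a ≤ RingHom.ker ξ := by
      apply kills
      simp only [hξX]
      rw [Fin.prod_univ_succ, hτ]
      simp only [Fin.cons_zero, Fin.cons_succ]
      rw [hmk', quot_prod a', ha', ← hmk', ← hχ]
      have h1 : (X - C (χ θ)) = (X - C θ : (AdjoinRoot f)[X]).map χ := by simp
      rw [h1, ← Polynomial.map_mul, hdiv, hfR, Polynomial.map_map, ← hψ, ← hf]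
      congr 1
      ext r
      rw [RingHom.comp_apply, hξC]
    have hξP : ξ (∑ d : (∀ i, Fin (m i)),
        MvPolynomial.C (α d) * ∏ i, MvPolynomial.X i ^ ((d i : ℕ))) = 0 := hkill hα
    -- the coefficient family over R'
    obtain ⟨β, hβ⟩ : ∃ β : (∀ i : Fin n, Fin (m i.succ)) → AdjoinRoot f,
        β = fun d' => ∑ d0 : Fin (m 0),
          AdjoinRoot.of f (α (Fin.cons (α := fun i => Fin (m i)) d0 d')) * θ ^ (d0 : ℕ) := ⟨_, rfl⟩
    have hQ : mk' (∑ d' : (∀ i : Fin n, Fin (m i.succ)),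
        MvPolynomial.C (β d') * ∏ i, MvPolynomial.X i ^ ((d' i : ℕ))) = 0 := by
      rw [← hξP]
      simp only [map_sum, map_mul, map_prod, map_pow, hξC, hξX]
      rw [← Equiv.sum_comp (Fin.consEquiv (fun i => Fin (m i))), Fintype.sum_prod_type,
        Finset.sum_comm]
      refine Finset.sum_congr rfl (fun d' _ => ?_)
      have hC : mk' (MvPolynomial.C (β d')) = χ (β d') := by rw [hχ]; rfl
      rw [hC, hβ]
      simp only [map_sum, map_mul, map_pow]
      rw [Finset.sum_mul]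
      refine Finset.sum_congr rfl (fun d0 _ => ?_)
      rw [Fin.prod_univ_succ, hτ]
      have e : (Fin.consEquiv fun i => Fin (m i)) (d0, d')
          = Fin.cons (α := fun i => Fin (m i)) d0 d' := rfl
      rw [e]
      simp only [Fin.cons_zero, Fin.cons_succ, hψ, RingHom.comp_apply]
      ring
    have hβ0 : β = 0 := by
      refine ih (AdjoinRoot f) a' (fun i => m i.succ)
        (fun i => by rw [hm, Fin.val_succ]; omega) β ?_
      rw [hmk'] at hQ
      exact Ideal.Quotient.eq_zero_iff_mem.mp hQ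
    have hm0 : m 0 = n + 1 := by rw [hm]; simp
    have hzero : ∀ (d0 : Fin (m 0)) (d' : ∀ i : Fin n, Fin (m i.succ)),
        α (Fin.cons (α := fun i => Fin (m i)) d0 d') = 0 := by
      intro d0 d'
      have h1 : β d' = 0 := by rw [hβ0]; rfl
      rw [hβ] at h1
      simp only at h1
      obtain ⟨g, hg⟩ : ∃ g : R[X], g = ∑ j : Fin (m 0),
          C (α (Fin.cons (α := fun i => Fin (m i)) j d')) * X ^ (j : ℕ) := ⟨_, rfl⟩
      have h2 : AdjoinRoot.mk f g = 0 := by
        rw [hg, map_sum, ← h1]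
        refine Finset.sum_congr rfl (fun j _ => ?_)
        rw [map_mul, map_pow, AdjoinRoot.mk_C, AdjoinRoot.mk_X, hθ]
      rw [AdjoinRoot.mk_eq_zero] at h2
      have hg0 : g = 0 := by
        by_contra hne
        refine hfm.not_dvd_of_degree_lt hne ?_ h2
        rw [hfdeg, hg]
        refine lt_of_lt_of_eq (Polynomial.degree_sum_fin_lt _) ?_
        rw [hm0]
      have h3 : g.coeff (d0 : ℕ) = 0 := by rw [hg0, coeff_zero]
      rw [hg, finset_sum_coeff] at h3
      rw [Finset.sum_eq_single d0] at h3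
      · rw [coeff_C_mul, coeff_X_pow, if_pos rfl, mul_one] at h3
        exact h3
      · intro j _ hj
        rw [coeff_C_mul, coeff_X_pow, if_neg, mul_zero]
        intro h; exact hj (Fin.ext h.symm)
      · intro h; exact absurd (Finset.mem_univ d0) h
    funext d
    rw [← Fin.cons_self_tail d]
    exact hzero (d 0) (Fin.tail d)

end Groth.Agent.H21.Artin
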