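import Mathlib
import Groth.Agent.H21.Artin2
import Groth.Agent.H21.Artin3

set_option autoImplicit false
universe u

namespace Groth.Agent.H21.Artin
open Polynomial

theorem surj (n : ℕ) (R : Type u) [CommRing R] (a : Fin n → R) (m : Fin n → ℕ)
    (hm : ∀ i, m i = n - (i : ℕ)) (x : MvPolynomial (Fin n) R) :
    ∃ α : (∀ i, Fin (m i)) → R,
      x - ∑ d : (∀ i, Fin (m i)), MvPolynomial.C (α d) * ∏ i, MvPolynomial.X i ^ ((d i : ℕ))
        ∈ Iid a := by
  rcases subsingleton_or_nontrivial R with hR | hR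
  · refine ⟨fun _ => 0, ?_⟩
    have : Subsingleton (MvPolynomial (Fin n) R) := inferInstance
    rw [Subsingleton.elim (x - _) 0]
    exact Ideal.zero_mem _
  obtain ⟨t, ht⟩ : ∃ t : Fin n → (MvPolynomial (Fin n) R ⧸ Iid a),
      t = fun i => Ideal.Quotient.mk (Iid a) (MvPolynomial.X i) := ⟨_, rfl⟩
  have halg : algebraMap R (MvPolynomial (Fin n) R ⧸ Iid a)
      = (Ideal.Quotient.mk (Iid a)).comp MvPolynomial.C := rfl
  have hf : (poly a).map (algebraMap R (MvPolynomial (Fin n) R ⧸ Iid a))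
      = ∏ i, (X - C (t i)) := by
    rw [ht, halg]
    exact (quot_prod a).symm
  have hmem : ∀ p : MvPolynomial (Fin n) R,
      Ideal.Quotient.mk (Iid a) p ∈ Algebra.adjoin R (Set.range t) := by
    intro p
    induction p using MvPolynomial.induction_on with
    | C r =>
      have : Ideal.Quotient.mk (Iid a) (MvPolynomial.C r)
          = algebraMap R (MvPolynomial (Fin n) R ⧸ Iid a) r := rfl
      rw [this]
      exact Subalgebra.algebraMap_mem _ _
    | add p q hp hq => rw [map_add]; exact Subalgebra.add_mem _ hp hq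
    | mul_X p i hp =>
      rw [map_mul]
      refine Subalgebra.mul_mem _ hp (Algebra.subset_adjoin ⟨i, ?_⟩)
      rw [ht]
  have h1 := spanS n R (MvPolynomial (Fin n) R ⧸ Iid a) t (poly a) (poly_monic a)
    (poly_natDegree a) hf m hm _ (hmem x)
  obtain ⟨α, hα⟩ := (Submodule.mem_span_range_iff_exists_fun R).mp h1
  refine ⟨α, ?_⟩
  rw [← Ideal.Quotient.eq, ← hα]
  simp only [map_sum, map_mul, map_prod, map_pow]
  refine Finset.sum_congr rfl (fun d _ => ?_)
  rw [Algebra.smul_def, halg, ht]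
  rfl

/-- the Artin monomial for an exponent vector -/
theorem s16404 {R : Type u} [CommRing R] (n : ℕ) (a : Fin n → R) (J : Ideal R)
    (x : MvPolynomial (Fin n) R) :
    x ∈ Iid a ⊔ Ideal.map (MvPolynomial.C : R →+* MvPolynomial (Fin n) R) J
    ↔ ∃ j : (∀ i : Fin n, Fin (n - (i : ℕ))) → R, (∀ d, j d ∈ J) ∧
        x - (∑ d : (∀ i : Fin n, Fin (n - (i : ℕ))),
          MvPolynomial.C (j d) * ∏ i : Fin n, MvPolynomial.X i ^ ((d i : ℕ))) ∈ Iid a := by
  constructor
  · intro hx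
    obtain ⟨y, hy, z, hz, rfl⟩ := Submodule.mem_sup.mp hx
    have Pmul : ∀ (r : R), r ∈ J → ∀ p : MvPolynomial (Fin n) R,
        ∃ j : (∀ i : Fin n, Fin (n - (i : ℕ))) → R, (∀ d, j d ∈ J) ∧
          MvPolynomial.C r * p - (∑ d : (∀ i : Fin n, Fin (n - (i : ℕ))),
            MvPolynomial.C (j d) * ∏ i : Fin n, MvPolynomial.X i ^ ((d i : ℕ))) ∈ Iid a := by
      intro r hr p
      obtain ⟨ρ, hρ⟩ := surj n R a (fun i => n - (i : ℕ)) (fun _ => rfl) p
      refine ⟨fun d => r * ρ d, fun d => Ideal.mul_mem_right _ _ hr, ?_⟩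
      have : MvPolynomial.C r * p - (∑ d : (∀ i : Fin n, Fin (n - (i : ℕ))),
            MvPolynomial.C (r * ρ d) * ∏ i : Fin n, MvPolynomial.X i ^ ((d i : ℕ)))
          = MvPolynomial.C r * (p - ∑ d : (∀ i : Fin n, Fin (n - (i : ℕ))),
            MvPolynomial.C (ρ d) * ∏ i : Fin n, MvPolynomial.X i ^ ((d i : ℕ))) := by
        rw [mul_sub, Finset.mul_sum]
        congr 1
        refine Finset.sum_congr rfl (fun d _ => ?_)
        rw [map_mul]; ring
      rw [this]
      exact Ideal.mul_mem_left _ _ hρ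
    have Pz : ∃ j : (∀ i : Fin n, Fin (n - (i : ℕ))) → R, (∀ d, j d ∈ J) ∧
          z - (∑ d : (∀ i : Fin n, Fin (n - (i : ℕ))),
            MvPolynomial.C (j d) * ∏ i : Fin n, MvPolynomial.X i ^ ((d i : ℕ))) ∈ Iid a := by
      rw [MvPolynomial.mem_map_C_iff] at hz
      rw [MvPolynomial.as_sum z]
      refine Finset.sum_induction _ (fun w : MvPolynomial (Fin n) R =>
        ∃ j : (∀ i : Fin n, Fin (n - (i : ℕ))) → R, (∀ d, j d ∈ J) ∧
          w - (∑ d : (∀ i : Fin n, Fin (n - (i : ℕ))),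
            MvPolynomial.C (j d) * ∏ i : Fin n, MvPolynomial.X i ^ ((d i : ℕ))) ∈ Iid a) ?_ ?_ ?_
      · rintro w₁ w₂ ⟨j₁, hj₁, h₁⟩ ⟨j₂, hj₂, h₂⟩
        refine ⟨fun d => j₁ d + j₂ d, fun d => Ideal.add_mem _ (hj₁ d) (hj₂ d), ?_⟩
        have : w₁ + w₂ - (∑ d : (∀ i : Fin n, Fin (n - (i : ℕ))),
            MvPolynomial.C (j₁ d + j₂ d) * ∏ i : Fin n, MvPolynomial.X i ^ ((d i : ℕ)))
            = (w₁ - ∑ d : (∀ i : Fin n, Fin (n - (i : ℕ))),
              MvPolynomial.C (j₁ d) * ∏ i : Fin n, MvPolynomial.X i ^ ((d i : ℕ)))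
            + (w₂ - ∑ d : (∀ i : Fin n, Fin (n - (i : ℕ))),
              MvPolynomial.C (j₂ d) * ∏ i : Fin n, MvPolynomial.X i ^ ((d i : ℕ))) := by
          simp only [map_add, add_mul, Finset.sum_add_distrib]
          ring
        rw [this]
        exact Ideal.add_mem _ h₁ h₂
      · exact ⟨fun _ => 0, fun _ => Ideal.zero_mem _, by simp⟩
      · intro s _
        have : MvPolynomial.monomial s (MvPolynomial.coeff s z)
            = MvPolynomial.C (MvPolynomial.coeff s z) * MvPolynomial.monomial s 1 := by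
          rw [MvPolynomial.C_mul_monomial, mul_one]
        rw [this]
        exact Pmul _ (hz s) _
    obtain ⟨j, hj, hjz⟩ := Pz
    refine ⟨j, hj, ?_⟩
    have : y + z - (∑ d : (∀ i : Fin n, Fin (n - (i : ℕ))),
            MvPolynomial.C (j d) * ∏ i : Fin n, MvPolynomial.X i ^ ((d i : ℕ)))
        = y + (z - ∑ d : (∀ i : Fin n, Fin (n - (i : ℕ))),
            MvPolynomial.C (j d) * ∏ i : Fin n, MvPolynomial.X i ^ ((d i : ℕ))) := by ring
    rw [this]
    exact Ideal.add_mem _ hy hjz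
  · rintro ⟨j, hj, hx⟩
    have : x = (x - (∑ d : (∀ i : Fin n, Fin (n - (i : ℕ))),
          MvPolynomial.C (j d) * ∏ i : Fin n, MvPolynomial.X i ^ ((d i : ℕ))))
        + (∑ d : (∀ i : Fin n, Fin (n - (i : ℕ))),
          MvPolynomial.C (j d) * ∏ i : Fin n, MvPolynomial.X i ^ ((d i : ℕ))) := by ring
    rw [this]
    refine Ideal.add_mem _ (Ideal.mem_sup_left hx) (Ideal.mem_sup_right ?_)
    exact Ideal.sum_mem _ (fun d _ => Ideal.mul_mem_right _ _ (Ideal.mem_map_of_mem _ (hj d)))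

theorem s16403 {R : Type u} [CommRing R] (n : ℕ) (a : Fin n → R) (J : Ideal R)
    (α β : (∀ i : Fin n, Fin (n - (i : ℕ))) → R) :
    (∑ d : (∀ i : Fin n, Fin (n - (i : ℕ))),
        MvPolynomial.C (α d) * ∏ i : Fin n, MvPolynomial.X i ^ ((d i : ℕ))) -
      (∑ d : (∀ i : Fin n, Fin (n - (i : ℕ))),
        MvPolynomial.C (β d) * ∏ i : Fin n, MvPolynomial.X i ^ ((d i : ℕ)))
      ∈ Iid a ⊔ Ideal.map (MvPolynomial.C : R →+* MvPolynomial (Fin n) R) J
    ↔ ∀ d, α d - β d ∈ J := by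
  have hdiff : (∑ d : (∀ i : Fin n, Fin (n - (i : ℕ))),
        MvPolynomial.C (α d) * ∏ i : Fin n, MvPolynomial.X i ^ ((d i : ℕ))) -
      (∑ d : (∀ i : Fin n, Fin (n - (i : ℕ))),
        MvPolynomial.C (β d) * ∏ i : Fin n, MvPolynomial.X i ^ ((d i : ℕ)))
      = ∑ d : (∀ i : Fin n, Fin (n - (i : ℕ))),
        MvPolynomial.C (α d - β d) * ∏ i : Fin n, MvPolynomial.X i ^ ((d i : ℕ)) := by
    rw [← Finset.sum_sub_distrib]
    refine Finset.sum_congr rfl (fun d _ => ?_)
    rw [map_sub, sub_mul]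
  rw [hdiff]
  constructor
  · intro h
    obtain ⟨Φ, hΦ⟩ : ∃ Φ : MvPolynomial (Fin n) R →+* MvPolynomial (Fin n) (R ⧸ J),
        Φ = MvPolynomial.map (Ideal.Quotient.mk J) := ⟨_, rfl⟩
    have hle : Iid a ⊔ Ideal.map (MvPolynomial.C : R →+* MvPolynomial (Fin n) R) J
        ≤ Ideal.comap Φ (Iid (fun i => Ideal.Quotient.mk J (a i))) := by
      refine sup_le ?_ ?_
      · unfold Iid
        rw [Ideal.span_le]
        rintro _ ⟨k, rfl⟩
        simp only [SetLike.mem_coe, Ideal.mem_comap]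
        rw [hΦ, map_sub, MvPolynomial.map_esymm, MvPolynomial.map_C]
        exact Ideal.subset_span ⟨k, rfl⟩
      · rw [Ideal.map_le_iff_le_comap]
        intro r hr
        rw [Ideal.mem_comap, Ideal.mem_comap, hΦ, MvPolynomial.map_C, Ideal.Quotient.eq_zero_iff_mem.mpr hr, map_zero]
        exact Ideal.zero_mem _
    have h2 : Φ (∑ d : (∀ i : Fin n, Fin (n - (i : ℕ))),
        MvPolynomial.C (α d - β d) * ∏ i : Fin n, MvPolynomial.X i ^ ((d i : ℕ)))
        ∈ Iid (fun i => Ideal.Quotient.mk J (a i)) := hle h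
    rw [hΦ] at h2
    simp only [map_sum, map_mul, map_prod, map_pow, MvPolynomial.map_C, MvPolynomial.map_X] at h2
    have h3 := inj n (R ⧸ J) (fun i => Ideal.Quotient.mk J (a i)) (fun i => n - (i : ℕ))
      (fun _ => rfl) (fun d => Ideal.Quotient.mk J (α d - β d)) h2
    intro d
    exact Ideal.Quotient.eq_zero_iff_mem.mp (congrFun h3 d)
  · intro h
    refine Ideal.mem_sup_right ?_
    exact Ideal.sum_mem _ (fun d _ => Ideal.mul_mem_right _ _ (Ideal.mem_map_of_mem _ (h d)))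

end Groth.Agent.H21.Artin
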