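import Mathlib
import Groth.Agent.H21.Artin4

set_option autoImplicit false

namespace Groth.Agent.H21.Artin
open Polynomial

theorem s16402 (n : ℕ) :
    Function.Bijective (fun p : (∀ i : Fin n, Fin (n - (i : ℕ))) → MvPolynomial (Fin n) ℤ =>
      ∑ d : (∀ i : Fin n, Fin (n - (i : ℕ))),
        (MvPolynomial.aeval (fun i : Fin n => MvPolynomial.esymm (Fin n) ℤ ((i : ℕ) + 1))) (p d) *
          ∏ i : Fin n, MvPolynomial.X i ^ ((d i : ℕ))) := by
  obtain ⟨E, hE⟩ : ∃ E : MvPolynomial (Fin n) ℤ →+* MvPolynomial (Fin n) ℤ,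
      E = (MvPolynomial.aeval (fun i : Fin n => MvPolynomial.esymm (Fin n) ℤ ((i : ℕ) + 1)) :
        MvPolynomial (Fin n) ℤ →ₐ[ℤ] MvPolynomial (Fin n) ℤ).toRingHom := ⟨_, rfl⟩
  have hEX : ∀ k : Fin n, E (MvPolynomial.X k) = MvPolynomial.esymm (Fin n) ℤ ((k : ℕ) + 1) := by
    intro k; rw [hE]; simp
  obtain ⟨a, ha⟩ : ∃ a : Fin n → MvPolynomial (Fin n) ℤ, a = MvPolynomial.X := ⟨_, rfl⟩
  obtain ⟨ε, hε⟩ : ∃ ε : MvPolynomial (Fin n) (MvPolynomial (Fin n) ℤ) →+* MvPolynomial (Fin n) ℤ,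
      ε = MvPolynomial.eval₂Hom E MvPolynomial.X := ⟨_, rfl⟩
  have hεC : ∀ r, ε (MvPolynomial.C r) = E r := by intro r; rw [hε]; simp
  have hεX : ∀ i, ε (MvPolynomial.X i) = MvPolynomial.X i := by intro i; rw [hε]; simp
  obtain ⟨ι, hι⟩ : ∃ ι : MvPolynomial (Fin n) ℤ →+* MvPolynomial (Fin n) (MvPolynomial (Fin n) ℤ),
      ι = MvPolynomial.map (algebraMap ℤ (MvPolynomial (Fin n) ℤ)) := ⟨_, rfl⟩
  have hιX : ∀ i, ι (MvPolynomial.X i) = MvPolynomial.X i := by intro i; rw [hι]; simp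
  obtain ⟨mk', hmk'⟩ : ∃ mk' : MvPolynomial (Fin n) (MvPolynomial (Fin n) ℤ) →+*
      (MvPolynomial (Fin n) (MvPolynomial (Fin n) ℤ) ⧸ Iid a), mk' = Ideal.Quotient.mk (Iid a) :=
    ⟨_, rfl⟩
  -- Claim A
  have hA : mk' = mk'.comp (ι.comp ε) := by
    apply MvPolynomial.ringHom_ext
    · intro r
      have h1 : (mk'.comp MvPolynomial.C) = (mk'.comp (ι.comp ε)).comp MvPolynomial.C := by
        apply MvPolynomial.ringHom_ext
        · intro z
          exact RingHom.congr_fun (RingHom.ext_int ((mk'.comp MvPolynomial.C).comp MvPolynomial.C)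
            (((mk'.comp (ι.comp ε)).comp MvPolynomial.C).comp MvPolynomial.C)) z
        · intro k
          simp only [RingHom.comp_apply]
          rw [hεC, hEX, hι, MvPolynomial.map_esymm, hmk']
          symm
          rw [Ideal.Quotient.eq]
          have := Ideal.subset_span (s := Set.range fun i : Fin n =>
            MvPolynomial.esymm (Fin n) (MvPolynomial (Fin n) ℤ) ((i : ℕ) + 1) - MvPolynomial.C (a i))
            ⟨k, rfl⟩
          rw [ha] at this
          rw [ha]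
          exact this
      exact RingHom.congr_fun h1 r
    · intro i
      simp only [RingHom.comp_apply]
      rw [hεX, hιX]
  -- Claim B
  have hB : ∀ y, ε (ι y) = y := by
    intro y
    have h1 : ε.comp ι = RingHom.id _ := by
      apply MvPolynomial.ringHom_ext
      · intro z
        exact RingHom.congr_fun (RingHom.ext_int ((ε.comp ι).comp MvPolynomial.C)
          ((RingHom.id _).comp MvPolynomial.C)) z
      · intro i
        simp only [RingHom.comp_apply, RingHom.id_apply]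
        rw [hιX, hεX]
    exact RingHom.congr_fun h1 y
  -- Claim C
  have hC : ∀ p : (∀ i : Fin n, Fin (n - (i : ℕ))) → MvPolynomial (Fin n) ℤ,
      (∑ d : (∀ i : Fin n, Fin (n - (i : ℕ))),
        (MvPolynomial.aeval (fun i : Fin n => MvPolynomial.esymm (Fin n) ℤ ((i : ℕ) + 1))) (p d) *
          ∏ i : Fin n, MvPolynomial.X i ^ ((d i : ℕ)))
      = ε (∑ d : (∀ i : Fin n, Fin (n - (i : ℕ))),
        MvPolynomial.C (p d) * ∏ i : Fin n, MvPolynomial.X i ^ ((d i : ℕ))) := by
    intro p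
    simp only [map_sum, map_mul, map_prod, map_pow, hεC, hεX]
    rw [hE]
    rfl
  -- Iid a ≤ ker ε
  have hker : Iid a ≤ RingHom.ker ε := by
    unfold Iid
    rw [Ideal.span_le]
    rintro _ ⟨k, rfl⟩
    change ε _ = 0
    rw [map_sub, hom_esymm, hεC, ha, hEX]
    simp only [hεX]
    rw [← MvPolynomial.esymm_eq_multiset_esymm, sub_self]
  constructor
  · intro p q hpq
    simp only at hpq
    rw [hC p, hC q] at hpq
    have h1 : mk' (∑ d : (∀ i : Fin n, Fin (n - (i : ℕ))),
        MvPolynomial.C (p d) * ∏ i : Fin n, MvPolynomial.X i ^ ((d i : ℕ)))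
        = mk' (∑ d : (∀ i : Fin n, Fin (n - (i : ℕ))),
        MvPolynomial.C (q d) * ∏ i : Fin n, MvPolynomial.X i ^ ((d i : ℕ))) := by
      rw [hA]
      simp only [RingHom.comp_apply]
      rw [hpq]
    rw [hmk', Ideal.Quotient.eq] at h1
    have h2 := (s16403 n a ⊥ p q).mp (by
      rw [Ideal.map_bot, sup_bot_eq]; exact h1)
    funext d
    have := h2 d
    rw [Ideal.mem_bot, sub_eq_zero] at this
    exact this
  · intro y
    obtain ⟨α, hα⟩ := surj n (MvPolynomial (Fin n) ℤ) a (fun i => n - (i : ℕ)) (fun _ => rfl) (ι y)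
    refine ⟨α, ?_⟩
    simp only
    rw [hC α]
    have h1 := hker hα
    rw [RingHom.mem_ker, map_sub, sub_eq_zero, hB] at h1
    exact h1.symm

end Groth.Agent.H21.Artin
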