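import Mathlib

namespace Groth.Agent.H21.AssCompl

open TensorProduct

section

variable {R : Type*} [CommRing R] (I : Ideal R) {N : Type*} [AddCommGroup N] [Module R N]

lemma map_mem_succ (β : N →ₗ[R] N) (hβ : ∀ n, β n ∈ (I • ⊤ : Submodule R N)) (k : ℕ) (x : N)
    (hx : x ∈ (I ^ k • ⊤ : Submodule R N)) : β x ∈ (I ^ (k + 1) • ⊤ : Submodule R N) := by
  refine Submodule.smul_induction_on hx ?_ ?_
  · intro r hr y _
    rw [map_smul, pow_succ, Submodule.mul_smul]
    exact Submodule.smul_mem_smul hr (hβ y)
  · intro x y hx hy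
    rw [map_add]
    exact Submodule.add_mem _ hx hy

lemma pow_apply_mem (β : N →ₗ[R] N) (hβ : ∀ n, β n ∈ (I • ⊤ : Submodule R N)) (k : ℕ) (n : N) :
    (β ^ k) n ∈ (I ^ k • ⊤ : Submodule R N) := by
  induction k with
  | zero => simp
  | succ k ih =>
    rw [pow_succ' β k, Module.End.mul_apply]
    exact map_mem_succ I β hβ k _ ih

lemma pow_smul_top_mono {m k : ℕ} (h : m ≤ k) :
    (I ^ k • ⊤ : Submodule R N) ≤ I ^ m • ⊤ :=
  Submodule.smul_mono_left (Ideal.pow_le_pow_right h)

lemma bijective_one_sub [IsAdicComplete I N] (β : N →ₗ[R] N)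
    (hβ : ∀ n, β n ∈ (I • ⊤ : Submodule R N)) :
    Function.Bijective (LinearMap.id - β : N →ₗ[R] N) := by
  constructor
  · rw [injective_iff_map_eq_zero]
    intro n hn
    have h1 : β n = n := by
      rw [LinearMap.sub_apply, LinearMap.id_apply, sub_eq_zero] at hn
      exact hn.symm
    have h2 : ∀ k : ℕ, (β ^ k) n = n := by
      intro k
      induction k with
      | zero => simp
      | succ k ih => rw [pow_succ' β k, Module.End.mul_apply, ih, h1]
    apply IsHausdorff.haus (I := I) inferInstance
    intro k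
    rw [SModEq.zero, ← h2 k]
    exact pow_apply_mem I β hβ k n
  · intro n
    obtain ⟨s, hs⟩ : ∃ s : ℕ → N, s = fun k => ∑ i ∈ Finset.range k, (β ^ i) n := ⟨_, rfl⟩
    have hcauchy : ∀ {m k : ℕ}, m ≤ k → s m ≡ s k [SMOD (I ^ m • ⊤ : Submodule R N)] := by
      intro m k hmk
      rw [SModEq.sub_mem, ← neg_mem_iff, neg_sub, hs]
      simp only
      rw [← Finset.sum_Ico_eq_sub _ hmk]
      apply Submodule.sum_mem
      intro i hi
      exact pow_smul_top_mono I (Finset.mem_Ico.1 hi).1 (pow_apply_mem I β hβ i n)
    obtain ⟨L, hL⟩ := IsPrecomplete.prec (I := I) inferInstance hcauchy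
    refine ⟨L, ?_⟩
    have htel : ∀ k : ℕ, (LinearMap.id - β : N →ₗ[R] N) (s k) = n - (β ^ k) n := by
      intro k
      rw [hs]
      simp only
      induction k with
      | zero => simp
      | succ k ih =>
        rw [Finset.sum_range_succ, map_add, ih, LinearMap.sub_apply, LinearMap.id_apply,
          pow_succ' β k, Module.End.mul_apply]
        abel
    rw [← sub_eq_zero]
    apply IsHausdorff.haus (I := I) inferInstance
    intro k
    rw [SModEq.zero]
    have e : (LinearMap.id - β : N →ₗ[R] N) L - n
        = (LinearMap.id - β : N →ₗ[R] N) (L - s k) - (β ^ k) n := by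
      rw [map_sub, htel]
      abel
    rw [e]
    have hLk : L - s k ∈ (I ^ k • ⊤ : Submodule R N) := by
      have := hL k
      rw [SModEq.sub_mem, ← neg_mem_iff, neg_sub] at this
      exact this
    refine Submodule.sub_mem _ ?_ (pow_apply_mem I β hβ k n)
    rw [LinearMap.sub_apply, LinearMap.id_apply]
    refine Submodule.sub_mem _ hLk ?_
    exact pow_smul_top_mono I (Nat.le_succ k) (map_mem_succ I β hβ k _ hLk)

end

theorem ass_sup_ne_top {R S : Type*} [CommRing R] [CommRing S] [Algebra R S] (I : Ideal R)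
    (N : Type*) [AddCommGroup N] [Module S N] [Module R N] [IsScalarTower R S N]
    [IsAdicComplete I N] (M : Type*) [AddCommGroup M] [Module R M]
    (q : Ideal S) [hqp : q.IsPrime] (z : N ⊗[R] M)
    (hz : q = (Submodule.span S {z}).annihilator) :
    q ⊔ I.map (algebraMap R S) ≠ ⊤ := by
  intro htop
  have h1 : (1 : S) ∈ q ⊔ I.map (algebraMap R S) := by rw [htop]; trivial
  obtain ⟨a, ha, b, hb, hab⟩ := Submodule.mem_sup.1 h1
  have haz : a • z = 0 := by
    rw [hz, Submodule.mem_annihilator_span_singleton] at ha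
    exact ha
  obtain ⟨β, hβdef⟩ : ∃ β : N →ₗ[R] N, β = (LinearMap.lsmul S N b).restrictScalars R := ⟨_, rfl⟩
  have hβapp : ∀ n, β n = b • n := by
    intro n
    rw [hβdef]
    rfl
  have hβ : ∀ n, β n ∈ (I • ⊤ : Submodule R N) := by
    have key : ∀ x ∈ I.map (algebraMap R S), ∀ n : N, x • n ∈ (I • ⊤ : Submodule R N) := by
      intro x hx
      unfold Ideal.map at hx
      induction hx using Submodule.span_induction with
      | mem x hx =>
        obtain ⟨r, hr, rfl⟩ := hx
        intro n
        rw [algebraMap_smul]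
        exact Submodule.smul_mem_smul hr Submodule.mem_top
      | zero => intro n; rw [zero_smul]; exact Submodule.zero_mem _
      | add x y _ _ hx hy => intro n; rw [add_smul]; exact Submodule.add_mem _ (hx n) (hy n)
      | smul s x _ hx =>
        intro n
        rw [smul_eq_mul, mul_comm, mul_smul]
        exact hx (s • n)
    intro n
    rw [hβapp]
    exact key b hb n
  have hbij := bijective_one_sub I β hβ
  obtain ⟨e, he⟩ : ∃ e : N ≃ₗ[R] N, e = LinearEquiv.ofBijective _ hbij := ⟨_, rfl⟩
  have hTz : (LinearEquiv.rTensor M e) z = z - b • z := by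
    have : ∀ w : N ⊗[R] M, (LinearEquiv.rTensor M e) w = w - b • w := by
      intro w
      induction w using TensorProduct.induction_on with
      | zero => simp
      | tmul n m =>
        rw [LinearEquiv.rTensor_tmul, he, LinearEquiv.ofBijective_apply, LinearMap.sub_apply,
          LinearMap.id_apply, hβapp, TensorProduct.sub_tmul, TensorProduct.smul_tmul']
      | add x y hx hy =>
        rw [map_add, hx, hy, smul_add]
        abel
    exact this z
  have hz0 : z = 0 := by
    have : (LinearEquiv.rTensor M e) z = 0 := by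
      rw [hTz]
      have hz1 : a • z + b • z = z := by rw [← add_smul, hab, one_smul]
      have : z - b • z = a • z := (eq_sub_of_add_eq hz1).symm
      rw [this, haz]
    exact (LinearEquiv.map_eq_zero_iff _).1 this
  apply hqp.ne_top
  rw [hz, hz0]
  rw [Ideal.eq_top_iff_one, Submodule.mem_annihilator_span_singleton, smul_zero]

end Groth.Agent.H21.AssCompl
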