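import Mathlib

namespace Groth.Agent.H21.AssSum

open TensorProduct

section Gen

variable {R : Type*} [CommRing R] {S : Type*} [CommRing S] [Algebra R S]
  {N : Type*} [AddCommGroup N] [Module S N] [Module R N] [IsScalarTower R S N]
  {M : Type*} [AddCommGroup M] [Module R M]

lemma smul_mem_of_mem_map (I : Ideal R) :
    ∀ x ∈ I.map (algebraMap R S), ∀ n : N, x • n ∈ (I • ⊤ : Submodule R N) := by
  intro x hx
  unfold Ideal.map at hx
  induction hx using Submodule.span_induction with
  | mem x hx =>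
    obtain ⟨r, hr, rfl⟩ := hx
    intro n
    rw [algebraMap_smul]
    exact Submodule.smul_mem_smul hr Submodule.mem_top
  | zero => intro n; rw [zero_smul]; exact Submodule.zero_mem _
  | add x y _ _ hx hy => intro n; rw [add_smul]; exact Submodule.add_mem _ (hx n) (hy n)
  | smul s x _ hx =>
    intro n
    rw [smul_eq_mul, mul_comm, mul_smul]
    exact hx (s • n)

lemma rTensor_lsmul_apply (b : S) (w : N ⊗[R] M) :
    (((LinearMap.lsmul S N b).restrictScalars R).rTensor M) w = b • w := by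
  induction w using TensorProduct.induction_on with
  | zero => simp
  | tmul n m =>
    rw [LinearMap.rTensor_tmul, TensorProduct.smul_tmul']
    rfl
  | add x y hx hy => rw [map_add, hx, hy, smul_add]

lemma map_mem_smul_top {Q : Type*} [AddCommGroup Q] [Module R Q] (I : Ideal R) (π : N →ₗ[R] Q)
    (x : N) (hx : x ∈ (I • ⊤ : Submodule R N)) : π x ∈ (I • ⊤ : Submodule R Q) := by
  refine Submodule.smul_induction_on hx ?_ ?_
  · intro r hr y _
    rw [map_smul]
    exact Submodule.smul_mem_smul hr Submodule.mem_top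
  · intro x y hx hy
    rw [map_add]
    exact Submodule.add_mem _ hx hy

lemma bijective_one_sub_of_finite [IsLocalRing R] {Q : Type*} [AddCommGroup Q] [Module R Q]
    [Module.Finite R Q] (Φ : Q →ₗ[R] Q)
    (hΦ : ∀ x, Φ x ∈ (IsLocalRing.maximalIdeal R • ⊤ : Submodule R Q)) :
    Function.Bijective (LinearMap.id - Φ : Q →ₗ[R] Q) := by
  apply OrzechProperty.bijective_of_surjective_endomorphism
  rw [← LinearMap.range_eq_top, eq_top_iff]
  apply Submodule.le_of_le_smul_of_le_jacobson_bot (I := IsLocalRing.maximalIdeal R)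
    Module.Finite.fg_top
  · exact IsLocalRing.maximalIdeal_le_jacobson _
  · intro x _
    have : x = (LinearMap.id - Φ : Q →ₗ[R] Q) x + Φ x := by
      rw [LinearMap.sub_apply, LinearMap.id_apply]; abel
    rw [this]
    exact Submodule.add_mem_sup (LinearMap.mem_range_self _ x) (hΦ x)

variable (M) in
lemma range_rTensor_mono {Q Q' : Submodule R N} (h : Q ≤ Q') :
    LinearMap.range (Q.subtype.rTensor M) ≤ LinearMap.range (Q'.subtype.rTensor M) := by
  have : Q.subtype = Q'.subtype ∘ₗ Submodule.inclusion h := by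
    ext x; rfl
  rw [this, LinearMap.rTensor_comp]
  exact LinearMap.range_comp_le_range _ _

end Gen

section Main

variable {R : Type*} [CommRing R] [IsLocalRing R] {S : Type*} [CommRing S] [Algebra R S]
  (N : Type*) [AddCommGroup N] [Module S N] [Module R N] [IsScalarTower R S N]
  {ι : Type*} [DecidableEq ι] (F : ι → Submodule R N)
  (M : Type*) [AddCommGroup M] [Module R M]

omit [IsLocalRing R] [DecidableEq ι] in
include F in
lemma exists_finset_mem_range (htop : ⨆ i, F i = ⊤) (z : N ⊗[R] M) :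
    ∃ T : Finset ι, z ∈ LinearMap.range ((⨆ i ∈ T, F i).subtype.rTensor M) := by
  classical
  induction z using TensorProduct.induction_on with
  | zero => exact ⟨∅, Submodule.zero_mem _⟩
  | tmul n m =>
    have hn : n ∈ ⨆ i, F i := by rw [htop]; trivial
    obtain ⟨T, hT⟩ := Submodule.mem_iSup_iff_exists_finset.1 hn
    exact ⟨T, ⟨(⟨n, hT⟩ : ↥(⨆ i ∈ T, F i)) ⊗ₜ[R] m, by rw [LinearMap.rTensor_tmul]; rfl⟩⟩
  | add x y hx hy =>
    obtain ⟨T, hT⟩ := hx
    obtain ⟨T', hT'⟩ := hy
    refine ⟨T ∪ T', Submodule.add_mem _ ?_ ?_⟩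
    · refine range_rTensor_mono M ?_ hT
      exact biSup_mono fun i hi => Finset.mem_union_left _ hi
    · refine range_rTensor_mono M ?_ hT'
      exact biSup_mono fun i hi => Finset.mem_union_right _ hi

theorem ass_sup_ne_top (hF : DirectSum.IsInternal F) (hfin : ∀ i, Module.Finite R (F i))
    (q : Ideal S) [hqp : q.IsPrime] (z : N ⊗[R] M)
    (hz : q = (Submodule.span S {z}).annihilator) :
    q ⊔ (IsLocalRing.maximalIdeal R).map (algebraMap R S) ≠ ⊤ := by
  classical
  intro htop
  have h1 : (1 : S) ∈ q ⊔ (IsLocalRing.maximalIdeal R).map (algebraMap R S) := by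
    rw [htop]; trivial
  obtain ⟨a, ha, b, hb, hab⟩ := Submodule.mem_sup.1 h1
  have haz : a • z = 0 := by
    rw [hz, Submodule.mem_annihilator_span_singleton] at ha
    exact ha
  have hbz : b • z = z := by
    have : a • z + b • z = z := by rw [← add_smul, hab, one_smul]
    rwa [haz, zero_add] at this
  have hind : iSupIndep F := hF.submodule_iSupIndep
  have hsup : ⨆ i, F i = ⊤ := hF.submodule_iSup_eq_top
  obtain ⟨T, Q, hQ, zT, hzT⟩ : ∃ (T : Finset ι) (Q : Submodule R N), Q = ⨆ i ∈ T, F i ∧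
      z ∈ LinearMap.range (Q.subtype.rTensor M) := by
    obtain ⟨T, hT⟩ := exists_finset_mem_range N F M hsup z
    exact ⟨T, _, rfl, hT⟩
  obtain ⟨Q', hQ'⟩ : ∃ Q' : Submodule R N, Q' = ⨆ i ∈ ((↑T : Set ι)ᶜ), F i := ⟨_, rfl⟩
  have hQset : Q = ⨆ i ∈ (↑T : Set ι), F i := by
    rw [hQ]
    simp only [Finset.mem_coe]
  have hc : IsCompl Q Q' := by
    constructor
    · rw [hQset, hQ']
      exact hind.disjoint_biSup_biSup' disjoint_compl_right T.finite_toSet
    · rw [codisjoint_iff, hQset, hQ', ← iSup_union, Set.union_compl_self]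
      simp only [Set.mem_univ, iSup_pos]
      exact hsup
  haveI : Module.Finite R Q := by
    rw [Module.Finite.iff_fg, hQ]
    apply Submodule.fg_biSup
    intro i _
    exact Module.Finite.iff_fg.1 (hfin i)
  obtain ⟨π, hπ⟩ : ∃ π : N →ₗ[R] Q, π = Submodule.projectionOnto Q Q' hc := ⟨_, rfl⟩
  have hπι : π ∘ₗ Q.subtype = LinearMap.id := by
    ext x
    rw [hπ]
    simp [Submodule.projectionOnto_apply_left]
  obtain ⟨β, hβdef⟩ : ∃ β : N →ₗ[R] N, β = (LinearMap.lsmul S N b).restrictScalars R := ⟨_, rfl⟩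
  have hβapp : ∀ n, β n = b • n := by
    intro n
    rw [hβdef]
    rfl
  obtain ⟨Φ, hΦdef⟩ : ∃ Φ : Q →ₗ[R] Q, Φ = π ∘ₗ β ∘ₗ Q.subtype := ⟨_, rfl⟩
  have hΦ : ∀ x, Φ x ∈ (IsLocalRing.maximalIdeal R • ⊤ : Submodule R Q) := by
    intro x
    rw [hΦdef]
    have h0 : β (Q.subtype x) ∈ (IsLocalRing.maximalIdeal R • ⊤ : Submodule R N) := by
      rw [hβapp]
      exact smul_mem_of_mem_map _ b hb _
    exact map_mem_smul_top (IsLocalRing.maximalIdeal R) π _ h0
  have hbij := bijective_one_sub_of_finite Φ hΦ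
  obtain ⟨e, he⟩ : ∃ e : Q ≃ₗ[R] Q, e = LinearEquiv.ofBijective _ hbij := ⟨_, rfl⟩
  have hΦz : (Φ.rTensor M) zT = zT := by
    rw [hΦdef, LinearMap.rTensor_comp, LinearMap.rTensor_comp, LinearMap.comp_apply,
      LinearMap.comp_apply, hzT, hβdef, rTensor_lsmul_apply, hbz, ← hzT, ← LinearMap.comp_apply,
      ← LinearMap.rTensor_comp, hπι, LinearMap.rTensor_id, LinearMap.id_apply]
  have hzT0 : zT = 0 := by
    have : (LinearEquiv.rTensor M e) zT = 0 := by
      have e1 : (LinearEquiv.rTensor M e : Q ⊗[R] M →ₗ[R] Q ⊗[R] M)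
          = (LinearMap.id - Φ : Q →ₗ[R] Q).rTensor M := by
        rw [he]
        rfl
      have e2 : (LinearEquiv.rTensor M e) zT
          = ((LinearMap.id - Φ : Q →ₗ[R] Q).rTensor M) zT := by
        rw [← e1]
        rfl
      rw [e2, LinearMap.rTensor_sub, LinearMap.sub_apply, LinearMap.rTensor_id,
        LinearMap.id_apply, hΦz, sub_self]
    exact (LinearEquiv.map_eq_zero_iff _).1 this
  have hz0 : z = 0 := by rw [← hzT, hzT0, map_zero]
  apply hqp.ne_top
  rw [hz, hz0]
  rw [Ideal.eq_top_iff_one, Submodule.mem_annihilator_span_singleton, smul_zero]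

end Main

end Groth.Agent.H21.AssSum
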