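import Mathlib
import Groth.Agent.H21.AssSum

namespace Groth.Agent.H21.AssProj

open TensorProduct Groth.Agent.H21.AssSum

section Core

variable {R : Type*} [CommRing R] [IsLocalRing R]
  {L : Type*} [AddCommGroup L] [Module R L] {M : Type*} [AddCommGroup M] [Module R M]

/-- core vanishing: a tensor fixed by `β' ⊗ 1` with `β'(L) ⊆ 𝔪 L`, supported on a finite retract,
vanishes -/
lemma core (β' : L →ₗ[R] L)
    (hβ' : ∀ x, β' x ∈ (IsLocalRing.maximalIdeal R • ⊤ : Submodule R L))
    (z' : L ⊗[R] M) (hz' : (β'.rTensor M) z' = z')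
    (Q : Submodule R L) [Module.Finite R Q] (π : L →ₗ[R] Q) (hπι : π ∘ₗ Q.subtype = LinearMap.id)
    (hzQ : z' ∈ LinearMap.range (Q.subtype.rTensor M)) : z' = 0 := by
  obtain ⟨zT, hzT⟩ := hzQ
  obtain ⟨Φ, hΦdef⟩ : ∃ Φ : Q →ₗ[R] Q, Φ = π ∘ₗ β' ∘ₗ Q.subtype := ⟨_, rfl⟩
  have hΦ : ∀ x, Φ x ∈ (IsLocalRing.maximalIdeal R • ⊤ : Submodule R Q) := by
    intro x
    rw [hΦdef]
    exact map_mem_smul_top (IsLocalRing.maximalIdeal R) π _ (hβ' (Q.subtype x))
  have hbij := bijective_one_sub_of_finite Φ hΦ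
  obtain ⟨e, he⟩ : ∃ e : Q ≃ₗ[R] Q, e = LinearEquiv.ofBijective _ hbij := ⟨_, rfl⟩
  have hΦz : (Φ.rTensor M) zT = zT := by
    rw [hΦdef, LinearMap.rTensor_comp, LinearMap.rTensor_comp, LinearMap.comp_apply,
      LinearMap.comp_apply, hzT, hz', ← hzT, ← LinearMap.comp_apply,
      ← LinearMap.rTensor_comp, hπι, LinearMap.rTensor_id, LinearMap.id_apply]
  have hzT0 : zT = 0 := by
    have : (LinearEquiv.rTensor M e) zT = 0 := by
      have e1 : (LinearEquiv.rTensor M e : Q ⊗[R] M →ₗ[R] Q ⊗[R] M)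
          = (LinearMap.id - Φ : Q →ₗ[R] Q).rTensor M := by
        rw [he]
        rfl
      have e2 : (LinearEquiv.rTensor M e) zT
          = ((LinearMap.id - Φ : Q →ₗ[R] Q).rTensor M) zT := by
        rw [← e1]
        rfl
      rw [e2, LinearMap.rTensor_sub, LinearMap.sub_apply, LinearMap.rTensor_id,
        LinearMap.id_apply, hΦz, sub_self]
    exact (LinearEquiv.map_eq_zero_iff _).1 this
  rw [← hzT, hzT0, map_zero]

end Core

section Finsupp

variable {R : Type*} [CommRing R] {X : Type*} {M : Type*} [AddCommGroup M] [Module R M]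

lemma exists_finset_mem_range (z : (X →₀ R) ⊗[R] M) :
    ∃ T : Finset X, z ∈ LinearMap.range
      ((Finsupp.supported R R (↑T : Set X)).subtype.rTensor M) := by
  classical
  induction z using TensorProduct.induction_on with
  | zero => exact ⟨∅, Submodule.zero_mem _⟩
  | tmul l m =>
    refine ⟨l.support, ⟨(⟨l, Finsupp.mem_supported_support R l⟩ :
      ↥(Finsupp.supported R R (↑l.support : Set X))) ⊗ₜ[R] m, ?_⟩⟩
    rw [LinearMap.rTensor_tmul]
    rfl
  | add x y hx hy =>
    obtain ⟨T, hT⟩ := hx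
    obtain ⟨T', hT'⟩ := hy
    refine ⟨T ∪ T', Submodule.add_mem _ ?_ ?_⟩
    · refine range_rTensor_mono M ?_ hT
      apply Finsupp.supported_mono
      intro i hi
      exact Finset.mem_union_left _ hi
    · refine range_rTensor_mono M ?_ hT'
      apply Finsupp.supported_mono
      intro i hi
      exact Finset.mem_union_right _ hi

end Finsupp

section Main

variable {R : Type*} [CommRing R] [IsLocalRing R] {S : Type*} [CommRing S] [Algebra R S]
  (N : Type*) [AddCommGroup N] [Module S N] [Module R N] [IsScalarTower R S N]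
  [Module.Projective R N] (M : Type*) [AddCommGroup M] [Module R M]

theorem ass_sup_ne_top (q : Ideal S) [hqp : q.IsPrime] (z : N ⊗[R] M)
    (hz : q = (Submodule.span S {z}).annihilator) :
    q ⊔ (IsLocalRing.maximalIdeal R).map (algebraMap R S) ≠ ⊤ := by
  classical
  intro htop
  have h1 : (1 : S) ∈ q ⊔ (IsLocalRing.maximalIdeal R).map (algebraMap R S) := by
    rw [htop]; trivial
  obtain ⟨a, ha, b, hb, hab⟩ := Submodule.mem_sup.1 h1
  have haz : a • z = 0 := by
    rw [hz, Submodule.mem_annihilator_span_singleton] at ha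
    exact ha
  have hbz : b • z = z := by
    have : a • z + b • z = z := by rw [← add_smul, hab, one_smul]
    rwa [haz, zero_add] at this
  obtain ⟨s, hs⟩ := (Module.projective_def' (R := R) (P := N)).1 inferInstance
  obtain ⟨p, hp⟩ : ∃ p : (N →₀ R) →ₗ[R] N, p = Finsupp.linearCombination R id := ⟨_, rfl⟩
  rw [← hp] at hs
  obtain ⟨β, hβdef⟩ : ∃ β : N →ₗ[R] N, β = (LinearMap.lsmul S N b).restrictScalars R := ⟨_, rfl⟩
  have hβapp : ∀ n, β n = b • n := by
    intro n
    rw [hβdef]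
    rfl
  obtain ⟨β', hβ'def⟩ : ∃ β' : (N →₀ R) →ₗ[R] (N →₀ R), β' = s ∘ₗ β ∘ₗ p := ⟨_, rfl⟩
  have hβ' : ∀ x, β' x ∈ (IsLocalRing.maximalIdeal R • ⊤ : Submodule R (N →₀ R)) := by
    intro x
    rw [hβ'def]
    have h0 : β (p x) ∈ (IsLocalRing.maximalIdeal R • ⊤ : Submodule R N) := by
      rw [hβapp]
      exact smul_mem_of_mem_map _ b hb _
    exact map_mem_smul_top (IsLocalRing.maximalIdeal R) s _ h0
  obtain ⟨z', hz'def⟩ : ∃ z' : (N →₀ R) ⊗[R] M, z' = (s.rTensor M) z := ⟨_, rfl⟩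
  have hz' : (β'.rTensor M) z' = z' := by
    rw [hβ'def, hz'def, LinearMap.rTensor_comp, LinearMap.rTensor_comp, LinearMap.comp_apply,
      LinearMap.comp_apply, ← LinearMap.comp_apply (p.rTensor M), ← LinearMap.rTensor_comp, hs,
      LinearMap.rTensor_id, LinearMap.id_apply, hβdef, rTensor_lsmul_apply, hbz]
  obtain ⟨T, hT⟩ := exists_finset_mem_range z'
  haveI : Module.Finite R (Finsupp.supported R R (↑T : Set N)) :=
    Module.Finite.equiv (Finsupp.supportedEquivFinsupp (↑T : Set N)).symm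
  have hz'0 : z' = 0 :=
    core β' hβ' z' hz' (Finsupp.supported R R (↑T : Set N))
      (Finsupp.restrictDom R R (↑T : Set N)) (Finsupp.restrictDom_comp_subtype _) hT
  have hz0 : z = 0 := by
    have : (p.rTensor M) z' = z := by
      rw [hz'def, ← LinearMap.comp_apply, ← LinearMap.rTensor_comp, hs, LinearMap.rTensor_id,
        LinearMap.id_apply]
    rw [← this, hz'0, map_zero]
  apply hqp.ne_top
  rw [hz, hz0]
  rw [Ideal.eq_top_iff_one, Submodule.mem_annihilator_span_singleton, smul_zero]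

end Main

end Groth.Agent.H21.AssProj
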