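import Mathlib.RepresentationTheory.Homological.GroupCohomology.LowDegree
import Mathlib.RepresentationTheory.Rep.Res
import Mathlib.Algebra.Homology.ShortComplex.ShortExact
import Mathlib.LinearAlgebra.FreeModule.Basic

set_option autoImplicit false
universe u
open CategoryTheory

namespace Groth.Agent.H21.Cofl

section A
variable {k G : Type u} [CommRing k] [Group G]

lemma isZero_H1_iff (A : Rep.{u} k G) :
    Limits.IsZero (groupCohomology A 1) ↔
      ∀ f : G → A, (∀ g h, f (g * h) = A.ρ g (f h) + f g) → ∃ x : A, ∀ g, A.ρ g x - x = f g := by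
  constructor
  · intro hz f hf
    have hmem : f ∈ groupCohomology.cocycles₁ A := (groupCohomology.mem_cocycles₁_iff f).2 hf
    have h0 : groupCohomology.H1π A ⟨f, hmem⟩ = 0 := by
      have := (ModuleCat.isZero_iff_subsingleton.1 hz)
      exact Subsingleton.elim _ _
    rw [groupCohomology.H1π_eq_zero_iff] at h0
    obtain ⟨x, hx⟩ := h0
    exact ⟨x, fun g => congrFun hx g⟩
  · intro h
    rw [ModuleCat.isZero_iff_subsingleton]
    refine ⟨fun a b => ?_⟩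
    have key : ∀ a : groupCohomology A 1, a = 0 := by
      intro a
      induction a using groupCohomology.H1_induction_on with
      | h x =>
        rw [groupCohomology.H1π_eq_zero_iff]
        obtain ⟨y, hy⟩ := h x ((groupCohomology.mem_cocycles₁_iff x).1 x.2)
        exact ⟨y, funext hy⟩
    rw [key a, key b]

end A

section B
variable {k Γ : Type u} [CommRing k] [Group Γ]

/-- morphism out of a permutation representation from an equivariant function -/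
noncomputable def permLift {X : Type u} [MulAction Γ X] (B : Rep.{u} k Γ) (φ : X → B)
    (hφ : ∀ γ x, φ (γ • x) = B.ρ γ (φ x)) : Rep.ofMulAction k Γ X ⟶ B :=
  Rep.ofHom ⟨Finsupp.lift B k X φ ∘ₗ (MonoidAlgebra.coeffLinearEquiv _).toLinearMap,
    fun g => by ext; simp [hφ]⟩

lemma permLift_single {X : Type u} [MulAction Γ X] (B : Rep.{u} k Γ) (φ : X → B)
    (hφ : ∀ γ x, φ (γ • x) = B.ρ γ (φ x)) (x : X) :
    (permLift B φ hφ).hom (MonoidAlgebra.single x 1) = φ x := by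
  simp [permLift]

lemma exact_elem (E : ShortComplex (Rep.{u} k Γ)) (hE : E.Exact) (e : E.X₂)
    (he : E.g.hom e = 0) : ∃ a : E.X₁, E.f.hom a = e := by
  have := (ShortComplex.exact_map_iff_of_faithful E (forget₂ (Rep.{u} k Γ) (ModuleCat k))).2 hE
  rw [ShortComplex.moduleCat_exact_iff] at this
  exact this e he

theorem split_of_H1 (Λ : Rep.{u} k Γ)
    (h : ∀ Γ' : Subgroup Γ, Limits.IsZero (groupCohomology (Rep.res Γ'.subtype Λ) 1))
    (X : Type u) [MulAction Γ X] (E : ShortComplex (Rep.{u} k Γ)) (hE : E.ShortExact)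
    (α : E.X₁ ≅ Λ) (β : E.X₃ ≅ Rep.ofMulAction k Γ X) : Nonempty E.Splitting := by
  have hg : Function.Surjective E.g.hom := (Rep.epi_iff_surjective _).1 hE.epi_g
  have hf : Function.Injective E.f.hom := (Rep.mono_iff_injective _).1 hE.mono_f
  have hfg : ∀ a, E.g.hom (E.f.hom a) = 0 := fun a => by
    have h : (E.f ≫ E.g).hom a = (0 : E.X₁ ⟶ E.X₃).hom a := by rw [E.zero]
    exact h
  obtain ⟨p, hpdef⟩ : ∃ p : X → E.X₃, p = fun x => β.inv.hom (MonoidAlgebra.single x 1) :=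
    ⟨_, rfl⟩
  have hp : ∀ γ x, p (γ • x) = E.X₃.ρ γ (p x) := by
    intro γ x
    have := Rep.hom_comm_apply β.inv γ (MonoidAlgebra.single x 1)
    rw [hpdef]
    simp only
    rw [← this]
    simp
  have B1 : ∀ x, ∃ e : E.X₂, E.g.hom e = p x ∧
      ∀ γ ∈ MulAction.stabilizer Γ x, E.X₂.ρ γ e = e := by
    intro x
    obtain ⟨e₀, he₀⟩ := hg (p x)
    have hker : ∀ γ : MulAction.stabilizer Γ x,
        ∃ a : E.X₁, E.f.hom a = E.X₂.ρ γ e₀ - e₀ := by
      intro γ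
      apply exact_elem E hE.exact
      rw [map_sub, Rep.hom_comm_apply, he₀, ← hp, MulAction.mem_stabilizer_iff.1 γ.2, sub_self]
    choose c hc using hker
    have hcoc : ∀ γ δ : MulAction.stabilizer Γ x, c (γ * δ) = E.X₁.ρ γ (c δ) + c γ := by
      intro γ δ
      apply hf
      rw [map_add, hc, hc, Rep.hom_comm_apply, hc]
      simp [map_sub]
    obtain ⟨l₀, hl₀⟩ := (isZero_H1_iff _).1 (h (MulAction.stabilizer Γ x))
      (fun γ => α.hom.hom (c γ)) (by
        intro γ δ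
        rw [hcoc, map_add, Rep.hom_comm_apply]
        rfl)
    refine ⟨e₀ - E.f.hom (α.inv.hom l₀), ?_, ?_⟩
    · rw [map_sub, hfg, sub_zero, he₀]
    · intro γ hγ
      have h1 := hl₀ ⟨γ, hγ⟩
      have h2 : c ⟨γ, hγ⟩ = E.X₁.ρ γ (α.inv.hom l₀) - α.inv.hom l₀ := by
        have h3 := congrArg α.inv.hom h1
        rw [Rep.inv_hom_apply] at h3
        rw [← h3, map_sub, ← Rep.hom_comm_apply]
        rfl
      rw [map_sub, ← Rep.hom_comm_apply]
      have h4 := hc ⟨γ, hγ⟩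
      rw [h2, map_sub] at h4
      have h5 : E.X₂.ρ γ e₀ = e₀ + ((E.f.hom (E.X₁.ρ γ (α.inv.hom l₀))) - E.f.hom (α.inv.hom l₀)) := by
        rw [h4]; abel
      rw [h5]; abel
  choose e₀ he₀g he₀s using B1
  obtain ⟨r, hrdef⟩ : ∃ r : X → X,
      r = fun x => (Quotient.mk (MulAction.orbitRel Γ X) x).out := ⟨_, rfl⟩
  have hr : ∀ x, ∃ γ : Γ, γ • r x = x := by
    intro x
    have h1 : (MulAction.orbitRel Γ X).r (r x) x := by
      rw [hrdef]; exact Quotient.mk_out (s := MulAction.orbitRel Γ X) x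
    obtain ⟨γ, hγ⟩ := h1
    refine ⟨γ⁻¹, ?_⟩
    rw [← hγ, inv_smul_smul]
  have hrr : ∀ (γ : Γ) x, r (γ • x) = r x := by
    intro γ x
    rw [hrdef]
    simp only
    congr 1
    exact Quotient.sound (s := MulAction.orbitRel Γ X) (MulAction.mem_orbit x γ)
  choose t ht using hr
  have hφg : ∀ x, E.g.hom (E.X₂.ρ (t x) (e₀ (r x))) = p x := by
    intro x
    rw [Rep.hom_comm_apply, he₀g, ← hp, ht]
  have hφ : ∀ γ x, E.X₂.ρ (t (γ • x)) (e₀ (r (γ • x))) = E.X₂.ρ γ (E.X₂.ρ (t x) (e₀ (r x))) := by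
    intro γ x
    rw [hrr]
    have hs : (γ * t x)⁻¹ * t (γ • x) ∈ MulAction.stabilizer Γ (r x) := by
      rw [MulAction.mem_stabilizer_iff, mul_smul]
      have h1 := ht (γ • x)
      rw [hrr] at h1
      rw [h1, mul_inv_rev, mul_smul, inv_smul_smul]
      exact inv_smul_eq_iff.2 (ht x).symm
    have h2 := he₀s (r x) _ hs
    have h3 : t (γ • x) = (γ * t x) * ((γ * t x)⁻¹ * t (γ • x)) := by group
    rw [h3, map_mul, Module.End.mul_apply, h2, map_mul, Module.End.mul_apply]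
  refine ⟨ShortComplex.Splitting.ofExactOfSection E hE.exact
    (β.hom ≫ permLift E.X₂ (fun x => E.X₂.ρ (t x) (e₀ (r x))) hφ) ?_ hE.mono_f⟩
  rw [Category.assoc]
  have key : permLift E.X₂ (fun x => E.X₂.ρ (t x) (e₀ (r x))) hφ ≫ E.g = β.inv := by
    ext x
    change E.g.hom ((permLift E.X₂ (fun x => E.X₂.ρ (t x) (e₀ (r x))) hφ).hom
      (MonoidAlgebra.single x 1)) = β.inv.hom (MonoidAlgebra.single x 1)
    rw [permLift_single, hφg, hpdef]
  rw [key, Iso.hom_inv_id]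

end B

section C
variable {k Γ : Type u} [CommRing k] [Group Γ]

/-- data of a twisted extension: a "cocycle" `w : Γ → X → Λ`. -/
structure Tw (Λ : Rep.{u} k Γ) (X : Type u) [MulAction Γ X] where
  w : Γ → X → Λ
  w_mul : ∀ γ δ x, w (γ * δ) x = Λ.ρ γ (w δ x) + w γ (δ • x)

variable {Λ : Rep.{u} k Γ} {X : Type u} [MulAction Γ X]

lemma Tw.w_one (T : Tw Λ X) (x : X) : T.w 1 x = 0 := by
  have := T.w_mul 1 1 x
  simp only [mul_one, map_one, Module.End.one_apply, one_smul] at this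
  simpa using this

/-- the off-diagonal part -/
noncomputable def Tw.U (T : Tw Λ X) (γ : Γ) : MonoidAlgebra k X →ₗ[k] Λ :=
  Finsupp.lift Λ k X (T.w γ) ∘ₗ (MonoidAlgebra.coeffLinearEquiv _).toLinearMap

@[simp] lemma Tw.U_single (T : Tw Λ X) (γ : Γ) (x : X) (r : k) :
    T.U γ (MonoidAlgebra.single x r) = r • T.w γ x := by
  simp [Tw.U]

/-- the twisted representation on `Λ × k[X]`. -/
noncomputable def Tw.rho (T : Tw Λ X) : Representation k Γ (Λ × MonoidAlgebra k X) where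
  toFun γ := ((Λ.ρ γ).coprod (T.U γ)).prod
    ((Representation.ofMulAction k Γ X γ).comp (LinearMap.snd k _ _))
  map_one' := by
    ext <;> simp [T.w_one]
  map_mul' γ δ := by
    ext <;> simp [T.w_mul, mul_smul]

lemma Tw.rho_apply (T : Tw Λ X) (γ : Γ) (l : Λ) (q : MonoidAlgebra k X) :
    T.rho γ (l, q) = (Λ.ρ γ l + T.U γ q, Representation.ofMulAction k Γ X γ q) := rfl

/-- the extension -/
noncomputable def Tw.sc (T : Tw Λ X) : ShortComplex (Rep.{u} k Γ) where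
  X₁ := Λ
  X₂ := Rep.of T.rho
  X₃ := Rep.ofMulAction k Γ X
  f := Rep.ofHom ⟨LinearMap.inl k Λ (MonoidAlgebra k X), fun γ => by
    ext l
    · simp [Tw.rho_apply]
    · simp [Tw.rho_apply]⟩
  g := Rep.ofHom ⟨LinearMap.snd k Λ (MonoidAlgebra k X), fun γ => by
    ext l
    · simp [Tw.rho_apply]
    · simp [Tw.rho_apply]⟩
  zero := by
    ext l
    simp

lemma Tw.sc_shortExact (T : Tw Λ X) : T.sc.ShortExact where
  exact := (forget₂ (Rep.{u} k Γ) (ModuleCat k)).reflects_exact_of_faithful _ <|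
    (ShortComplex.moduleCat_exact_iff _).2 fun x hx => ⟨x.1, by
      have h2 : x.2 = 0 := hx
      exact Prod.ext rfl h2.symm⟩
  mono_f := (Rep.mono_iff_injective _).2 fun a b h => (Prod.ext_iff.1 h).1
  epi_g := (Rep.epi_iff_surjective _).2 fun q => ⟨(0, q), rfl⟩

/-- a splitting of the twisted extension makes `w` a coboundary. -/
lemma Tw.exists_v_of_splitting (T : Tw Λ X) (spl : T.sc.Splitting) :
    ∃ v : X → Λ, ∀ γ x, v (γ • x) = Λ.ρ γ (v x) + T.w γ x := by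
  have hsg : ∀ q : MonoidAlgebra k X, (spl.s.hom q).2 = q := by
    intro q
    have h : (spl.s ≫ T.sc.g).hom q = (𝟙 T.sc.X₃ : T.sc.X₃ ⟶ T.sc.X₃).hom q := by rw [spl.s_g]
    exact h
  refine ⟨fun x => (spl.s.hom (MonoidAlgebra.single x 1)).1, fun γ x => ?_⟩
  have h1 := Rep.hom_comm_apply spl.s γ (MonoidAlgebra.single x (1 : k))
  have h2 : (Rep.ofMulAction k Γ X).ρ γ (MonoidAlgebra.single x (1 : k))
      = MonoidAlgebra.single (γ • x) 1 := by simp
  have h3 : T.sc.X₃.ρ γ (MonoidAlgebra.single x (1 : k)) = MonoidAlgebra.single (γ • x) 1 := h2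
  rw [h3] at h1
  have h4 : T.sc.X₂.ρ γ (spl.s.hom (MonoidAlgebra.single x 1))
      = T.rho γ ((spl.s.hom (MonoidAlgebra.single x 1)).1,
          (spl.s.hom (MonoidAlgebra.single x 1)).2) := rfl
  rw [h4, hsg, Tw.rho_apply] at h1
  have h5 := congrArg Prod.fst h1
  simpa using h5

end C

section D
variable {k Γ : Type u} [CommRing k] [Group Γ] (Λ : Rep.{u} k Γ) (Γ' : Subgroup Γ)

open Classical in
/-- coset representatives with σ(Γ') = 1 -/
noncomputable def sig (x : Γ ⧸ Γ') : Γ := if x = ((1 : Γ) : Γ ⧸ Γ') then 1 else x.out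

lemma sig_mk (x : Γ ⧸ Γ') : ((sig Γ' x : Γ) : Γ ⧸ Γ') = x := by
  unfold sig
  split_ifs with h
  · exact h.symm
  · exact QuotientGroup.out_eq' x

lemma sig_one : sig Γ' ((1 : Γ) : Γ ⧸ Γ') = 1 := if_pos rfl

lemma m_mem (γ : Γ) (x : Γ ⧸ Γ') : (sig Γ' (γ • x))⁻¹ * (γ * sig Γ' x) ∈ Γ' := by
  rw [← QuotientGroup.eq, sig_mk]
  conv_lhs => rw [← sig_mk Γ' x]
  rfl

/-- the `Γ'`-valued cocycle of the coset action -/
noncomputable def mm (γ : Γ) (x : Γ ⧸ Γ') : Γ' := ⟨_, m_mem Γ' γ x⟩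

lemma mm_mul (γ δ : Γ) (x : Γ ⧸ Γ') : mm Γ' (γ * δ) x = mm Γ' γ (δ • x) * mm Γ' δ x := by
  apply Subtype.ext
  simp only [mm, Subgroup.coe_mul, mul_smul]
  group

/-- the twisting datum attached to a 1-cocycle of `Γ'` -/
noncomputable def twOf (c : Γ' → Λ) (hc : ∀ a b : Γ', c (a * b) = Λ.ρ a (c b) + c a) :
    Tw Λ (Γ ⧸ Γ') where
  w γ x := Λ.ρ (sig Γ' (γ • x)) (c (mm Γ' γ x))
  w_mul γ δ x := by
    rw [mm_mul, hc, map_add, mul_smul]
    congr 1
    rw [← Module.End.mul_apply, ← map_mul, ← Module.End.mul_apply, ← map_mul]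
    congr 2
    simp [mm]

theorem H1_of_split [Finite Γ]
    (h : ∀ (X : Type u) [MulAction Γ X] [Finite X] (E : ShortComplex (Rep.{u} k Γ)),
        E.ShortExact → Nonempty (E.X₁ ≅ Λ) → Nonempty (E.X₃ ≅ Rep.ofMulAction k Γ X) →
          Nonempty E.Splitting) :
    Limits.IsZero (groupCohomology (Rep.res Γ'.subtype Λ) 1) := by
  rw [isZero_H1_iff]
  intro c hc
  obtain ⟨T, hT⟩ : ∃ T : Tw Λ (Γ ⧸ Γ'), T = twOf Λ Γ' c hc := ⟨_, rfl⟩
  obtain ⟨spl⟩ := h (Γ ⧸ Γ') T.sc T.sc_shortExact ⟨Iso.refl _⟩ ⟨Iso.refl _⟩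
  obtain ⟨v, hv⟩ := T.exists_v_of_splitting spl
  refine ⟨-v ((1 : Γ) : Γ ⧸ Γ'), fun a => ?_⟩
  have h1 := hv a ((1 : Γ) : Γ ⧸ Γ')
  have hax : (a : Γ) • ((1 : Γ) : Γ ⧸ Γ') = ((1 : Γ) : Γ ⧸ Γ') := by
    change (((a : Γ) * 1 : Γ) : Γ ⧸ Γ') = _
    rw [QuotientGroup.eq]
    simp
  have hw : T.w a ((1 : Γ) : Γ ⧸ Γ') = c a := by
    rw [hT]
    change Λ.ρ (sig Γ' ((a : Γ) • ((1 : Γ) : Γ ⧸ Γ'))) (c (mm Γ' a ((1 : Γ) : Γ ⧸ Γ'))) = c a
    have hm : mm Γ' a ((1 : Γ) : Γ ⧸ Γ') = a := Subtype.ext (by simp [mm, hax, sig_one])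
    rw [hm, hax, sig_one, map_one]
    rfl
  rw [hax, hw] at h1
  change Λ.ρ a (-v ((1 : Γ) : Γ ⧸ Γ')) - (-v ((1 : Γ) : Γ ⧸ Γ')) = c a
  rw [map_neg]
  nth_rewrite 2 [h1]
  abel

end D

end Groth.Agent.H21.Cofl
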