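import Mathlib
import Groth.Agent.S19474

set_option autoImplicit false
universe u

open TensorProduct IsLocalRing

namespace H21.ComplFlatDetect

theorem main (A : Type u) [CommRing A] [IsNoetherianRing A] (M : Type u) [AddCommGroup M]
    [Module A M] (m : M)
    (h : ∀ (B : Type u) [CommRing B] [Algebra A B] [IsNoetherianRing B] [IsLocalRing B],
      IsAdicComplete (IsLocalRing.maximalIdeal B) B → Module.Flat A B → (1 : B) ⊗ₜ[A] m = 0) :
    m = 0 := by
  by_contra hm
  obtain ⟨I, hI⟩ : ∃ I : Ideal A, I = LinearMap.ker (LinearMap.toSpanSingleton A M m) := ⟨_, rfl⟩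
  have hItop : I ≠ ⊤ := by
    intro htop
    apply hm
    have h1 : (1 : A) ∈ I := htop ▸ Submodule.mem_top
    rw [hI, LinearMap.mem_ker, LinearMap.toSpanSingleton_apply, one_smul] at h1
    exact h1
  obtain ⟨𝔭, h𝔭max, hI𝔭⟩ := Ideal.exists_le_maximal I hItop
  haveI : 𝔭.IsPrime := h𝔭max.isPrime
  let Ap := Localization.AtPrime 𝔭
  let B := AdicCompletion (maximalIdeal Ap) Ap
  haveI : IsNoetherianRing B := Groth.Agent.S19474.isNoetherianRing_adicCompletion Ap _
  haveI : Module.Flat A Ap := IsLocalization.flat Ap 𝔭.primeCompl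
  haveI : Module.Flat Ap B := inferInstance
  haveI : Module.Flat A B := Module.Flat.trans A Ap B
  have hB := h B inferInstance inferInstance
  -- the injective map `A ⧸ I → M`
  let ι : (A ⧸ I) →ₗ[A] M := Submodule.liftQ I (LinearMap.toSpanSingleton A M m) (le_of_eq hI)
  have hι : Function.Injective ι := by
    rw [← LinearMap.ker_eq_bot]
    exact Submodule.ker_liftQ_eq_bot _ _ _ (le_of_eq hI.symm)
  have hinj := Module.Flat.lTensor_preserves_injective_linearMap (M := B) ι hι
  have h1 : (1 : B) ⊗ₜ[A] (Submodule.Quotient.mk (1 : A) : A ⧸ I) = 0 := by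
    apply hinj
    rw [LinearMap.lTensor_tmul, map_zero]
    show (1 : B) ⊗ₜ[A] (LinearMap.toSpanSingleton A M m 1) = 0
    rw [LinearMap.toSpanSingleton_apply, one_smul]
    exact hB
  have h2 := congrArg (TensorProduct.tensorQuotEquivQuotSMul B I) h1
  rw [(TensorProduct.tensorQuotEquivQuotSMul B I).map_zero] at h2
  have h3 : (1 : B) ∈ I • (⊤ : Submodule A B) := by
    have : TensorProduct.tensorQuotEquivQuotSMul B I
        ((1 : B) ⊗ₜ[A] (Ideal.Quotient.mk I (1 : A))) = Submodule.Quotient.mk ((1 : A) • (1 : B)) :=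
      TensorProduct.tensorQuotEquivQuotSMul_tmul_mk I (1 : B) (1 : A)
    rw [one_smul] at this
    rw [← Submodule.Quotient.mk_eq_zero, ← this]
    exact h2
  rw [Ideal.smul_top_eq_map] at h3
  have h4 : I.map (algebraMap A B) ≤ maximalIdeal B := by
    rw [Ideal.map_le_iff_le_comap]
    intro a ha
    rw [Ideal.mem_comap, mem_maximalIdeal, mem_nonunits_iff]
    intro hu
    have h5 : algebraMap A B a = algebraMap Ap B (algebraMap A Ap a) :=
      IsScalarTower.algebraMap_apply A Ap B a
    rw [h5] at hu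
    have h6 : IsUnit (algebraMap A Ap a) := isUnit_of_map_unit (algebraMap Ap B) _ hu
    have h7 : algebraMap A Ap a ∈ maximalIdeal Ap :=
      (IsLocalization.AtPrime.to_map_mem_maximal_iff Ap 𝔭 a).mpr (hI𝔭 ha)
    exact (mem_maximalIdeal _).mp h7 h6
  exact (Ideal.ne_top_iff_one _).mp (Ideal.IsPrime.ne_top' (I := maximalIdeal B)) (h4 h3)

end H21.ComplFlatDetect
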