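import Mathlib

set_option autoImplicit false
universe w v u

open CategoryTheory CategoryTheory.Limits CategoryTheory.Pretriangulated

namespace H21.ConeInj

variable {A : Type u} [Category.{v} A] [Abelian A] [HasDerivedCategory.{w} A]

/-- morphisms in the derived category to a K-injective complex come from chain maps -/
lemma Q_map_surjective (K L : CochainComplex A ℤ) [L.IsKInjective]
    (α : DerivedCategory.Q.obj K ⟶ DerivedCategory.Q.obj L) :
    ∃ ψ : K ⟶ L, DerivedCategory.Q.map ψ = α := by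
  obtain ⟨g, hg⟩ := (CochainComplex.IsKInjective.Qh_map_bijective
    ((HomotopyCategory.quotient _ _).obj K) L).surjective
    ((DerivedCategory.quotientCompQhIso A).hom.app K ≫ α ≫
      (DerivedCategory.quotientCompQhIso A).inv.app L)
  obtain ⟨ψ, rfl⟩ := (HomotopyCategory.quotient A (ComplexShape.up ℤ)).map_surjective g
  refine ⟨ψ, ?_⟩
  have h := DerivedCategory.quotientCompQhIso_hom_naturality ψ
  rw [hg] at h
  simp only [Category.assoc, Iso.inv_hom_id_app, Category.comp_id] at h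
  exact ((cancel_epi _).mp h).symm

theorem main (T : Triangle (DerivedCategory A)) (hT : T ∈ distTriang (DerivedCategory A))
    (h₁ : (∃ (I : CochainComplex A ℤ) (b c : ℤ), I.IsStrictlyGE b ∧ I.IsStrictlyLE c ∧
        (∀ n : ℤ, Injective (I.X n)) ∧ Nonempty (T.obj₁ ≅ DerivedCategory.Q.obj I)))
    (h₃ : (∃ (I : CochainComplex A ℤ) (b c : ℤ), I.IsStrictlyGE b ∧ I.IsStrictlyLE c ∧
        (∀ n : ℤ, Injective (I.X n)) ∧ Nonempty (T.obj₃ ≅ DerivedCategory.Q.obj I))) :
    (∃ (I : CochainComplex A ℤ) (b c : ℤ), I.IsStrictlyGE b ∧ I.IsStrictlyLE c ∧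
        (∀ n : ℤ, Injective (I.X n)) ∧ Nonempty (T.obj₂ ≅ DerivedCategory.Q.obj I)) := by
  obtain ⟨I₁, b₁, c₁, hb₁, hc₁, hI₁, ⟨e₁⟩⟩ := h₁
  obtain ⟨I₃, b₃, c₃, hb₃, hc₃, hI₃, ⟨e₃⟩⟩ := h₃
  haveI : I₁.IsKInjective := CochainComplex.isKInjective_of_injective I₁ b₁
  -- the shifted complex
  let J : CochainComplex A ℤ := I₃⟦(-1 : ℤ)⟧
  let a : (T.invRotate).obj₁ ≅ DerivedCategory.Q.obj J :=
    (shiftFunctor (DerivedCategory A) (-1 : ℤ)).mapIso e₃ ≪≫
      ((DerivedCategory.Q (C := A)).commShiftIso (-1 : ℤ)).symm.app I₃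
  obtain ⟨ψ, hψ⟩ := Q_map_surjective J I₁ (a.inv ≫ T.invRotate.mor₁ ≫ e₁.hom)
  have hT' := inv_rot_of_distTriang T hT
  have hcone := DerivedCategory.mappingCone_triangle_distinguished ψ
  have comm : T.invRotate.mor₁ ≫ e₁.hom =
      a.hom ≫ (DerivedCategory.Q.mapTriangle.obj (CochainComplex.mappingCone.triangle ψ)).mor₁ := by
    show _ = a.hom ≫ DerivedCategory.Q.map ψ
    rw [hψ, Iso.hom_inv_id_assoc]
  let e := isoTriangleOfIso₁₂ _ _ hT' hcone a e₁ comm
  have hJ : ∀ i : ℤ, J.X (i + 1) = I₃.X (i + 1 + (-1)) := fun i => rfl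
  refine ⟨CochainComplex.mappingCone ψ, min b₃ b₁, max c₃ c₁, ?_, ?_, ?_,
    ⟨(Triangle.π₃.mapIso e : _)⟩⟩
  · rw [CochainComplex.isStrictlyGE_iff]
    intro i hi
    rw [CochainComplex.mappingCone.isZero_X_iff, hJ]
    exact ⟨I₃.isZero_of_isStrictlyGE b₃ _ (by have := min_le_left b₃ b₁; omega),
      I₁.isZero_of_isStrictlyGE b₁ _ (by have := min_le_right b₃ b₁; omega)⟩
  · rw [CochainComplex.isStrictlyLE_iff]
    intro i hi
    rw [CochainComplex.mappingCone.isZero_X_iff, hJ]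
    exact ⟨I₃.isZero_of_isStrictlyLE c₃ _ (by have := le_max_left c₃ c₁; omega),
      I₁.isZero_of_isStrictlyLE c₁ _ (by have := le_max_right c₃ c₁; omega)⟩
  · intro n
    haveI : Injective (J.X (n + 1)) := by
      rw [hJ]
      exact hI₃ _
    haveI := hI₁ n
    exact Injective.of_iso
      (HomologicalComplex.homotopyCofiber.XIsoBiprod ψ n (n + 1) rfl).symm inferInstance

end H21.ConeInj
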