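import Mathlib
import Groth.Prelude.Def_ConstAct2
import Groth.Prelude.Def_Hoch

set_option autoImplicit false

universe u

open TensorProduct

namespace H21.ConstAct1

variable (R : Type u) [CommRing R] (B : Type u) [CommRing B] [Algebra R B]
  (Γ : Type u) [Group Γ] [Fintype Γ] [DecidableEq Γ]

/-- coefficient extraction `B ⊗ F → B` at `h` -/
noncomputable def coef (h : Γ) : B ⊗[R] ConstGrp.F R Γ →ₗ[R] B :=
  (TensorProduct.rid R B).toLinearMap ∘ₗ (ConstGrp.ev R h).toLinearMap.lTensor B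

lemma coef_tmul (h : Γ) (b : B) (f : ConstGrp.F R Γ) : coef R B Γ h (b ⊗ₜ[R] f) = f h • b := by
  unfold coef
  simp

lemma coef_sum (h : Γ) (x : Γ → B) :
    coef R B Γ h (∑ g : Γ, x g ⊗ₜ[R] ConstGrp.e R g) = x h := by
  rw [map_sum]
  simp_rw [coef_tmul, ConstGrp.e_apply]
  rw [Finset.sum_eq_single h]
  · simp
  · intro g _ hg
    rw [if_neg (Ne.symm hg), zero_smul]
  · intro hh
    exact absurd (Finset.mem_univ h) hh

variable [MulSemiringAction Γ B] [SMulCommClass Γ R B]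

theorem tame_iff :
    letI := ConstAct.comod R B Γ
    (∃ α : ConstGrp.F R Γ →ₗ[R] B, Hoch.IsComodHom (ConstGrp.F R Γ) α ∧ α 1 = 1) ↔
      ∀ c : B, c ∈ ConstAct.inv R B Γ → ∃ b : B, ∑ γ : Γ, γ • b = c := by
  letI := ConstAct.comod R B Γ
  constructor
  · rintro ⟨α, hα, hα1⟩ c hc
    -- the key relation
    have hrel : ∀ g h : Γ, h • α (ConstGrp.e R g) = α (ConstGrp.e R (g * h⁻¹)) := by
      intro g h
      have h1 := congrArg (fun L => coef R B Γ h (L (ConstGrp.e R g))) hα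
      simp only [LinearMap.comp_apply] at h1
      have h2 : HopfRep.Comod.coact (k := R) (A := ConstGrp.F R Γ) (α (ConstGrp.e R g)) =
          ∑ γ : Γ, (γ • α (ConstGrp.e R g)) ⊗ₜ[R] ConstGrp.e R γ :=
        ConstAct.coactLin_apply R B Γ _
      have h3 : HopfRep.Comod.coact (k := R) (A := ConstGrp.F R Γ) (ConstGrp.e R g) =
          ∑ a : Γ, ConstGrp.e R a ⊗ₜ[R] ConstGrp.e R (a⁻¹ * g) := ConstGrp.comul_e R Γ g
      rw [h2, h3, coef_sum, map_sum, map_sum] at h1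
      simp_rw [LinearMap.rTensor_tmul, coef_tmul, ConstGrp.e_apply] at h1
      rw [h1, Finset.sum_eq_single (g * h⁻¹)]
      · simp
      · intro a _ ha
        rw [if_neg, zero_smul]
        intro hh
        apply ha
        rw [hh]
        group
      · intro hh
        exact absurd (Finset.mem_univ _) hh
    obtain ⟨b₀, hb₀⟩ : ∃ b₀ : B, b₀ = α (ConstGrp.e R 1) := ⟨_, rfl⟩
    have htr : ∑ γ : Γ, γ • b₀ = 1 := by
      rw [← hα1, ← ConstGrp.sum_e (R := R) (G := Γ), map_sum, hb₀]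
      simp_rw [hrel 1, one_mul]
      exact Equiv.sum_comp (Equiv.inv Γ) (fun γ => α (ConstGrp.e R γ))
    refine ⟨c * b₀, ?_⟩
    have hc' : ∀ γ : Γ, γ • c = c := hc
    simp_rw [smul_mul', hc']
    rw [← Finset.mul_sum, htr, mul_one]
  · intro H
    obtain ⟨b₀, hb₀⟩ := H 1 (Subalgebra.one_mem _)
    obtain ⟨α, hα⟩ : ∃ α : ConstGrp.F R Γ →ₗ[R] B, ∀ g : Γ, α (ConstGrp.e R g) = g⁻¹ • b₀ :=
      ⟨(ConstGrp.basis R Γ).constr R (fun g => g⁻¹ • b₀), fun g => by
        rw [← ConstGrp.basis_apply, Module.Basis.constr_basis]⟩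
    refine ⟨α, ?_, ?_⟩
    · show HopfRep.Comod.coact (k := R) (A := ConstGrp.F R Γ) ∘ₗ α = α.rTensor (ConstGrp.F R Γ) ∘ₗ
        HopfRep.Comod.coact (k := R) (A := ConstGrp.F R Γ)
      refine ConstGrp.linearMap_ext (fun g => ?_)
      simp only [LinearMap.comp_apply]
      have h2 : HopfRep.Comod.coact (k := R) (A := ConstGrp.F R Γ) (α (ConstGrp.e R g)) =
          ∑ γ : Γ, (γ • α (ConstGrp.e R g)) ⊗ₜ[R] ConstGrp.e R γ :=
        ConstAct.coactLin_apply R B Γ _
      have h3 : HopfRep.Comod.coact (k := R) (A := ConstGrp.F R Γ) (ConstGrp.e R g) =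
          ∑ a : Γ, ConstGrp.e R a ⊗ₜ[R] ConstGrp.e R (a⁻¹ * g) := ConstGrp.comul_e R Γ g
      rw [h2, h3, map_sum]
      simp_rw [LinearMap.rTensor_tmul, hα]
      refine Fintype.sum_equiv ((Equiv.mulRight g⁻¹).trans (Equiv.inv Γ)) _ _ (fun γ => ?_)
      simp only [Equiv.trans_apply, Equiv.coe_mulRight, Equiv.inv_apply, mul_inv_rev, inv_inv,
        smul_smul]
      rw [mul_assoc, inv_mul_cancel, mul_one]
    · rw [← ConstGrp.sum_e (R := R) (G := Γ), map_sum]
      simp_rw [hα]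
      rw [← hb₀]
      exact Equiv.sum_comp (Equiv.inv Γ) (fun γ => γ • b₀)

end H21.ConstAct1
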