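import Mathlib
import Groth.Agent.H21.ConstAct1
import Groth.Prelude.Def_GLin

set_option autoImplicit false

universe u

open TensorProduct

namespace H21.ConstAct2

open H21.ConstAct1

variable (R : Type u) [CommRing R] (B : Type u) [CommRing B] [Algebra R B]
  (Γ : Type u) [Group Γ] [Fintype Γ] [DecidableEq Γ]

/-- coefficient extraction as an algebra map -/
noncomputable def coefA (h : Γ) : B ⊗[R] ConstGrp.F R Γ →ₐ[R] B :=
  Algebra.TensorProduct.lift (AlgHom.id R B) ((Algebra.ofId R B).comp (ConstGrp.ev R h))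
    (fun _ _ => Commute.all _ _)

lemma coefA_tmul (h : Γ) (b : B) (f : ConstGrp.F R Γ) : coefA R B Γ h (b ⊗ₜ[R] f) = f h • b := by
  unfold coefA
  rw [Algebra.TensorProduct.lift_tmul]
  simp [Algebra.smul_def, mul_comm]

lemma coefA_eq (h : Γ) (x : B ⊗[R] ConstGrp.F R Γ) : coefA R B Γ h x = coef R B Γ h x := by
  induction x using TensorProduct.induction_on with
  | zero => simp
  | tmul b f => rw [coefA_tmul, coef_tmul]
  | add x y hx hy => simp only [map_add, hx, hy]

/-- basis expansion -/
lemma expand (x : B ⊗[R] ConstGrp.F R Γ) :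
    x = ∑ γ : Γ, coef R B Γ γ x ⊗ₜ[R] ConstGrp.e R γ := by
  induction x using TensorProduct.induction_on with
  | zero => simp
  | tmul b f =>
    have h1 : ∀ γ : Γ, coef R B Γ γ (b ⊗ₜ[R] f) ⊗ₜ[R] ConstGrp.e R γ =
        b ⊗ₜ[R] (f γ • ConstGrp.e R γ) := by
      intro γ
      rw [coef_tmul]
      exact TensorProduct.smul_tmul _ _ _
    rw [Finset.sum_congr rfl (fun γ _ => h1 γ), ← TensorProduct.tmul_sum, ← ConstGrp.eq_sum_smul_e]
  | add x y hx hy =>
    simp_rw [map_add, TensorProduct.add_tmul]
    rw [Finset.sum_add_distrib, ← hx, ← hy]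

/-- two-variable coefficient extraction `B ⊗ (F ⊗ F) → B` -/
noncomputable def coef2 (g h : Γ) : B ⊗[R] (ConstGrp.F R Γ ⊗[R] ConstGrp.F R Γ) →ₗ[R] B :=
  (TensorProduct.rid R B).toLinearMap ∘ₗ
    ((TensorProduct.lid R R).toLinearMap ∘ₗ
      TensorProduct.map (ConstGrp.ev R g).toLinearMap (ConstGrp.ev R h).toLinearMap).lTensor B

lemma coef2_tmul (g h : Γ) (b : B) (f f' : ConstGrp.F R Γ) :
    coef2 R B Γ g h (b ⊗ₜ[R] (f ⊗ₜ[R] f')) = (f g * f' h) • b := by
  unfold coef2
  simp

variable [HopfRep.Comod R (ConstGrp.F R Γ) B] [GLin.IsCoactAlg R (ConstGrp.F R Γ) B]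

/-- the action extracted from the coaction -/
noncomputable def act (γ : Γ) : B →ₐ[R] B :=
  (coefA R B Γ γ).comp (GLin.coactAlgHom R (ConstGrp.F R Γ) B)

lemma act_apply (γ : Γ) (b : B) :
    act R B Γ γ b = coef R B Γ γ (HopfRep.Comod.coact (k := R) (A := ConstGrp.F R Γ) b) := by
  unfold act
  rw [AlgHom.comp_apply, GLin.coactAlgHom_apply, coefA_eq]

lemma coact_eq_sum (b : B) :
    HopfRep.Comod.coact (k := R) (A := ConstGrp.F R Γ) b =
      ∑ γ : Γ, act R B Γ γ b ⊗ₜ[R] ConstGrp.e R γ := by
  simp_rw [act_apply]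
  exact expand R B Γ _

lemma act_one (b : B) : act R B Γ 1 b = b := by
  have h := congrArg (fun L => L b)
    (HopfRep.Comod.counit_comp (k := R) (A := ConstGrp.F R Γ) (V := B))
  simp only [LinearMap.comp_apply, LinearMap.flip_apply, TensorProduct.mk_apply] at h
  rw [coact_eq_sum, map_sum] at h
  have h1 : ∀ γ : Γ, (Coalgebra.counit (R := R) (A := ConstGrp.F R Γ)).lTensor B
      (act R B Γ γ b ⊗ₜ[R] ConstGrp.e R γ) = if (1 : Γ) = γ then act R B Γ γ b ⊗ₜ[R] (1 : R) else 0 := by
    intro γ
    rw [LinearMap.lTensor_tmul, ConstGrp.counit_e]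
    split_ifs <;> simp
  rw [Finset.sum_congr rfl (fun γ _ => h1 γ), Finset.sum_ite_eq Finset.univ (1 : Γ)] at h
  simp only [Finset.mem_univ, if_true] at h
  have h2 := congrArg (TensorProduct.rid R B) h
  simpa using h2

lemma act_mul (g h : Γ) (b : B) : act R B Γ (g * h) b = act R B Γ g (act R B Γ h b) := by
  have hco := congrArg (fun L => coef2 R B Γ g h (L b))
    (HopfRep.Comod.coassoc (k := R) (A := ConstGrp.F R Γ) (V := B))
  simp only [LinearMap.comp_apply, LinearEquiv.coe_coe] at hco
  -- left side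
  have hL : coef2 R B Γ g h ((TensorProduct.assoc R B (ConstGrp.F R Γ) (ConstGrp.F R Γ))
      ((HopfRep.Comod.coact (k := R) (A := ConstGrp.F R Γ)).rTensor (ConstGrp.F R Γ)
        (HopfRep.Comod.coact (k := R) (A := ConstGrp.F R Γ) b))) =
      act R B Γ g (act R B Γ h b) := by
    rw [coact_eq_sum R B Γ b, map_sum, map_sum, map_sum]
    simp_rw [LinearMap.rTensor_tmul]
    have h1 : ∀ γ : Γ, coef2 R B Γ g h ((TensorProduct.assoc R B (ConstGrp.F R Γ) (ConstGrp.F R Γ))
        (HopfRep.Comod.coact (k := R) (A := ConstGrp.F R Γ) (act R B Γ γ b) ⊗ₜ[R] ConstGrp.e R γ)) =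
        if h = γ then act R B Γ g (act R B Γ γ b) else 0 := by
      intro γ
      rw [coact_eq_sum R B Γ (act R B Γ γ b), TensorProduct.sum_tmul, map_sum, map_sum]
      simp_rw [TensorProduct.assoc_tmul, coef2_tmul, ConstGrp.e_apply]
      rw [Finset.sum_eq_single g]
      · by_cases hh : h = γ
        · simp [hh]
        · simp [hh]
      · intro δ _ hδ
        rw [if_neg (Ne.symm hδ), zero_mul, zero_smul]
      · intro hh
        exact absurd (Finset.mem_univ _) hh
    simp_rw [h1]
    rw [Finset.sum_ite_eq Finset.univ h]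
    simp
  -- right side
  have hR : coef2 R B Γ g h ((Coalgebra.comul (R := R) (A := ConstGrp.F R Γ)).lTensor B
      (HopfRep.Comod.coact (k := R) (A := ConstGrp.F R Γ) b)) = act R B Γ (g * h) b := by
    rw [coact_eq_sum R B Γ b, map_sum, map_sum]
    simp_rw [LinearMap.lTensor_tmul, ConstGrp.comul_e, TensorProduct.tmul_sum, map_sum, coef2_tmul,
      ConstGrp.e_apply]
    rw [Finset.sum_eq_single (g * h)]
    · rw [Finset.sum_eq_single g]
      · simp
      · intro a _ ha
        rw [if_neg (Ne.symm ha), zero_mul, zero_smul]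
      · intro hh
        exact absurd (Finset.mem_univ _) hh
    · intro k _ hk
      refine Finset.sum_eq_zero (fun a _ => ?_)
      by_cases ha : g = a
      · subst ha
        have : ¬ h = g⁻¹ * k := by
          intro hh
          apply hk
          rw [hh, mul_inv_cancel_left]
        rw [if_neg this, mul_zero, zero_smul]
      · rw [if_neg ha, zero_mul, zero_smul]
    · intro hh
      exact absurd (Finset.mem_univ _) hh
  rw [hL, hR] at hco
  exact hco.symm

/-- the action of `Γ` on `B` extracted from the coaction -/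
@[reducible] noncomputable def msa : MulSemiringAction Γ B where
  smul γ b := act R B Γ γ b
  one_smul b := act_one R B Γ b
  mul_smul g h b := act_mul R B Γ g h b
  smul_zero γ := map_zero (act R B Γ γ)
  smul_add γ := map_add (act R B Γ γ)
  smul_one γ := map_one (act R B Γ γ)
  smul_mul γ := map_mul (act R B Γ γ)

lemma msa_smul (γ : Γ) (b : B) :
    letI := msa R B Γ
    γ • b = act R B Γ γ b := rfl

lemma msa_smulComm : letI := msa R B Γ; SMulCommClass Γ R B := by
  letI := msa R B Γ
  refine ⟨fun γ r b => ?_⟩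
  show act R B Γ γ (r • b) = r • act R B Γ γ b
  exact map_smul _ _ _

end H21.ConstAct2

namespace H21.ConstAct2

theorem mulSemiringAction_ext {M A : Type*} [Monoid M] [Semiring A]
    (a b : MulSemiringAction M A)
    (h : ∀ (m : M) (x : A), (letI := a; m • x) = (letI := b; m • x)) : a = b := by
  cases a with | @mk da a1 a2 =>
  cases b with | @mk db b1 b2 =>
  cases da with | @mk ma a3 a4 =>
  cases db with | @mk mb b3 b4 =>
  cases ma with | @mk sa' a5 =>
  cases mb with | @mk sb' b5 =>
  cases sa' with | @mk ssa a6 =>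
  cases sb' with | @mk ssb b6 =>
  cases ssa with | mk sa =>
  cases ssb with | mk sb =>
  have : sa = sb := by
    funext m x
    exact h m x
  subst this
  rfl

end H21.ConstAct2
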