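import Mathlib
open MvPolynomial

namespace Groth.Agent.H21

lemma derivation_aeval {k B M σ : Type*} [CommRing k] [CommRing B] [Algebra k B] [AddCommGroup M]
    [Module k M] [Module B M] [IsScalarTower k B M] [Fintype σ]
    (d : Derivation k B M) (v : σ → B) (g : MvPolynomial σ k) :
    d (aeval v g) = ∑ i, aeval v (pderiv i g) • d (v i) := by
  classical
  induction g using MvPolynomial.induction_on with
  | C a => simp
  | add p q hp hq => simp [add_smul, Finset.sum_add_distrib, hp, hq]
  | mul_X p j hp =>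
    rw [map_mul, aeval_X, Derivation.leibniz, hp]
    have : ∀ i, aeval v (pderiv i (p * X j)) • d (v i) =
        (if i = j then aeval v p • d (v j) else 0) + v j • (aeval v (pderiv i p) • d (v i)) := by
      intro i
      rw [Derivation.leibniz, pderiv_X]
      by_cases h : i = j
      · subst h
        simp only [Pi.single_eq_same, smul_eq_mul, mul_one, map_add, map_mul, aeval_X, add_smul,
          mul_smul, if_true]
      · simp only [Pi.single_eq_of_ne' h, smul_eq_mul, mul_zero, zero_add, map_mul, aeval_X,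
          mul_smul, if_neg h]
    simp only [this, Finset.sum_add_distrib, Finset.sum_ite_eq', Finset.mem_univ, if_true,
      Finset.smul_sum]

lemma cross_identity {K M : Type*} [Field K] [AddCommGroup M] [Module K M]
    (a00 a01 a02 a10 a11 a12 a20 a21 a22 u0 u1 u2 x y g0 g1 g2 : K) (du0 du1 du2 dx dy : M)
    (hv0 : a00 * u0 + a01 * u1 + a02 * u2 = 1)
    (hv1 : a10 * u0 + a11 * u1 + a12 * u2 = x)
    (hv2 : a20 * u0 + a21 * u1 + a22 * u2 = y)
    (hd0 : a00 • du0 + a01 • du1 + a02 • du2 = 0)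
    (hd1 : a10 • du0 + a11 • du1 + a12 • du2 = dx)
    (hd2 : a20 • du0 + a21 • du1 + a22 • du2 = dy)
    (R1 : g0 + x * g1 + y * g2 = 0)
    (R2 : g1 • dx + g2 • dy = 0) :
    (g0 * a02 + g1 * a12 + g2 * a22) • dx =
      ((a00 * a11 * a22 - a00 * a12 * a21 - a01 * a10 * a22 + a01 * a12 * a20 + a02 * a10 * a21
        - a02 * a11 * a20) * g2) • (u0 • du1 - u1 • du0) := by
  have c : a02 • ((a10 * u0 + a11 * u1 + a12 * u2) • (a20 • du0 + a21 • du1 + a22 • du2) -
        (a20 * u0 + a21 * u1 + a22 * u2) • (a10 • du0 + a11 • du1 + a12 • du2)) +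
      a12 • ((a20 * u0 + a21 * u1 + a22 * u2) • (a00 • du0 + a01 • du1 + a02 • du2) -
        (a00 * u0 + a01 * u1 + a02 * u2) • (a20 • du0 + a21 • du1 + a22 • du2)) +
      a22 • ((a00 * u0 + a01 * u1 + a02 * u2) • (a10 • du0 + a11 • du1 + a12 • du2) -
        (a10 * u0 + a11 * u1 + a12 * u2) • (a00 • du0 + a01 • du1 + a02 • du2)) =
      (a00 * a11 * a22 - a00 * a12 * a21 - a01 * a10 * a22 + a01 * a12 * a20 + a02 * a10 * a21
        - a02 * a11 * a20) • (u0 • du1 - u1 • du0) := by
    module
  rw [hv0, hv1, hv2, hd0, hd1, hd2] at c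
  linear_combination (norm := module) g2 • c + (a12 - a02 * x) • R2 + R1 • (a02 • dx)

lemma aeval_smul_of_isHomogeneous {k K σ : Type*} [CommRing k] [CommRing K] [Algebra k K]
    {g : MvPolynomial σ k} {d : ℕ}
    (hg : g.IsHomogeneous d) (c : K) (w : σ → K) :
    aeval (fun i => c * w i) g = c ^ d * aeval w g := by
  rw [aeval_def, eval₂_eq, aeval_def, eval₂_eq, Finset.mul_sum]
  apply Finset.sum_congr rfl
  intro m hm
  have hd := hg.degree_eq_sum_deg_support hm
  simp_rw [mul_pow, Finset.prod_mul_distrib, Finset.prod_pow_eq_pow_sum]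
  rw [← hd]
  ring

end Groth.Agent.H21
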