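import Mathlib
import Groth.Agent.H21.CoordChange
open MvPolynomial

namespace Groth.Agent.H21

theorem coord_change
    (k K : Type*) [Field k] [Field K] [Algebra k K]
    (f : MvPolynomial (Fin 3) k) (e : ℕ) (hf : f.IsHomogeneous e)
    (x y : K) (hfxy : MvPolynomial.aeval ![(1 : K), x, y] f = 0)
    (A : Matrix (Fin 3) (Fin 3) k) (hA : A.det ≠ 0)
    (u : Fin 3 → K) (hu : ∀ i, ∑ j, algebraMap k K (A i j) * u j = ![(1 : K), x, y] i)
    (hu0 : u 0 ≠ 0)
    (hfy : MvPolynomial.aeval ![(1 : K), x, y] (MvPolynomial.pderiv 2 f) ≠ 0)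
    (hfy' : MvPolynomial.aeval ![(1 : K), u 1 / u 0, u 2 / u 0]
      (MvPolynomial.pderiv 2
        (MvPolynomial.aeval (fun i : Fin 3 => ∑ j, MvPolynomial.C (A i j) * MvPolynomial.X j) f)) ≠ 0) :
    (MvPolynomial.aeval ![(1 : K), x, y] (MvPolynomial.pderiv 2 f))⁻¹ • KaehlerDifferential.D k K x =
      (algebraMap k K A.det * (u 0)⁻¹ ^ ((e : ℤ) - 3) *
        (MvPolynomial.aeval ![(1 : K), u 1 / u 0, u 2 / u 0]
          (MvPolynomial.pderiv 2
            (MvPolynomial.aeval (fun i : Fin 3 => ∑ j, MvPolynomial.C (A i j) * MvPolynomial.X j) f)))⁻¹) •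
        KaehlerDifferential.D k K (u 1 / u 0) := by
  classical
  set v : Fin 3 → K := ![(1 : K), x, y] with hv
  set L : Fin 3 → MvPolynomial (Fin 3) k := fun i => ∑ j, C (A i j) * X j with hL
  set D := KaehlerDifferential.D k K with hD
  set g : Fin 3 → K := fun i => aeval v (pderiv i f) with hg
  -- e ≥ 1
  have he : 1 ≤ e := by
    rcases Nat.eq_zero_or_pos e with rfl | h
    · exfalso
      apply hfy
      have : f = C (coeff 0 f) := by
        rw [← totalDegree_zero_iff_isHomogeneous, totalDegree_eq_zero_iff_eq_C] at hf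
        exact hf
      rw [this, pderiv_C, map_zero]
    · exact h
  -- Euler relation
  have R1 : g 0 + x * g 1 + y * g 2 = 0 := by
    have h1 := congrArg (aeval v) hf.sum_X_mul_pderiv
    rw [Fin.sum_univ_three, map_add, map_add, map_mul, map_mul, map_mul, aeval_X, aeval_X, aeval_X,
      map_nsmul, hfxy, smul_zero] at h1
    simpa [hv, hg] using h1
  -- differential relation
  have R2 : g 1 • D x + g 2 • D y = 0 := by
    have h1 := derivation_aeval D v f
    rw [hfxy, map_zero, Fin.sum_univ_three] at h1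
    have : D (v 0) = 0 := by simp [hv]
    rw [this, smul_zero, zero_add] at h1
    simpa [hv, hg] using h1.symm
  -- coordinates
  have hv0 := hu 0
  have hv1 := hu 1
  have hv2 := hu 2
  rw [Fin.sum_univ_three] at hv0 hv1 hv2
  change _ = (1 : K) at hv0
  change _ = x at hv1
  change _ = y at hv2
  have hDlin : ∀ (a : k) (b : K), D (algebraMap k K a * b) = algebraMap k K a • D b := by
    intro a b
    rw [← Algebra.smul_def, D.map_smul, algebraMap_smul]
  have hd0 : algebraMap k K (A 0 0) • D (u 0) + algebraMap k K (A 0 1) • D (u 1) +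
      algebraMap k K (A 0 2) • D (u 2) = 0 := by
    have := congrArg D hv0
    rwa [map_add, map_add, hDlin, hDlin, hDlin, Derivation.map_one_eq_zero] at this
  have hd1 : algebraMap k K (A 1 0) • D (u 0) + algebraMap k K (A 1 1) • D (u 1) +
      algebraMap k K (A 1 2) • D (u 2) = D x := by
    have := congrArg D hv1
    rwa [map_add, map_add, hDlin, hDlin, hDlin] at this
  have hd2 : algebraMap k K (A 2 0) • D (u 0) + algebraMap k K (A 2 1) • D (u 1) +
      algebraMap k K (A 2 2) • D (u 2) = D y := by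
    have := congrArg D hv2
    rwa [map_add, map_add, hDlin, hDlin, hDlin] at this
  have hdet : algebraMap k K A.det =
      algebraMap k K (A 0 0) * algebraMap k K (A 1 1) * algebraMap k K (A 2 2)
      - algebraMap k K (A 0 0) * algebraMap k K (A 1 2) * algebraMap k K (A 2 1)
      - algebraMap k K (A 0 1) * algebraMap k K (A 1 0) * algebraMap k K (A 2 2)
      + algebraMap k K (A 0 1) * algebraMap k K (A 1 2) * algebraMap k K (A 2 0)
      + algebraMap k K (A 0 2) * algebraMap k K (A 1 0) * algebraMap k K (A 2 1)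
      - algebraMap k K (A 0 2) * algebraMap k K (A 1 1) * algebraMap k K (A 2 0) := by
    rw [Matrix.det_fin_three]
    simp only [map_add, map_sub, map_mul]
  have key := cross_identity (algebraMap k K (A 0 0)) (algebraMap k K (A 0 1)) (algebraMap k K (A 0 2))
    (algebraMap k K (A 1 0)) (algebraMap k K (A 1 1)) (algebraMap k K (A 1 2))
    (algebraMap k K (A 2 0)) (algebraMap k K (A 2 1)) (algebraMap k K (A 2 2))
    (u 0) (u 1) (u 2) x y (g 0) (g 1) (g 2) (D (u 0)) (D (u 1)) (D (u 2)) (D x) (D y)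
    hv0 hv1 hv2 hd0 hd1 hd2 R1 R2
  rw [← hdet] at key
  -- the partial derivative of the transformed polynomial
  set z : K := (u 0)⁻¹ with hz
  have hz0 : z ≠ 0 := inv_ne_zero hu0
  set u' : Fin 3 → K := ![(1 : K), u 1 / u 0, u 2 / u 0] with hu'
  have hu'z : ∀ j, u' j = z * u j := by
    intro j
    fin_cases j
    · change (1 : K) = z * u 0
      rw [hz, inv_mul_cancel₀ hu0]
    · change u 1 / u 0 = z * u 1
      rw [hz, div_eq_inv_mul]
    · change u 2 / u 0 = z * u 2
      rw [hz, div_eq_inv_mul]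
  have hLu : (fun i => aeval u' (L i)) = fun i => z * v i := by
    funext i
    simp only [hL, map_sum, map_mul, aeval_C, aeval_X, hu'z]
    rw [← hu i, Finset.mul_sum]
    apply Finset.sum_congr rfl
    intro j _
    ring
  have hpd : ∀ i, pderiv 2 (L i) = C (A i 2) := by
    intro i
    simp only [hL, map_sum, Fin.sum_univ_three, pderiv_C_mul, pderiv_X]
    simp
  have hG' : aeval u' (pderiv 2 (aeval L f)) =
      z ^ (e - 1) * (g 0 * algebraMap k K (A 0 2) + g 1 * algebraMap k K (A 1 2) +
        g 2 * algebraMap k K (A 2 2)) := by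
    rw [derivation_aeval (pderiv 2) L f, map_sum, Fin.sum_univ_three]
    simp only [hpd, smul_eq_mul, map_mul, aeval_C]
    have hcomp : ∀ p : MvPolynomial (Fin 3) k, aeval u' (aeval L p) = aeval (fun i => z * v i) p := by
      intro p
      have := aeval_bind₁ u' L p
      rw [hLu] at this
      exact this
    have hhom : ∀ i, aeval u' (aeval L (pderiv i f)) = z ^ (e - 1) * g i := by
      intro i
      rw [hcomp, aeval_smul_of_isHomogeneous (hf.pderiv) z v]
    rw [hhom, hhom, hhom]
    ring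
  set G : K := g 0 * algebraMap k K (A 0 2) + g 1 * algebraMap k K (A 1 2) +
        g 2 * algebraMap k K (A 2 2) with hGdef
  have hG0 : G ≠ 0 := by
    intro h0
    apply hfy'
    rw [hG', h0, mul_zero]
  have hg2 : g 2 ≠ 0 := hfy
  change (g 2)⁻¹ • D x = (algebraMap k K A.det * z ^ ((e : ℤ) - 3) *
    (aeval u' (pderiv 2 (aeval L f)))⁻¹) • D (u 1 / u 0)
  rw [hG', Derivation.leibniz_div]
  have hzpow : z ^ ((e : ℤ) - 3) * (z ^ (e - 1) * G)⁻¹ * ((u 0)⁻¹ ^ 2) = G⁻¹ := by
    obtain ⟨e', rfl⟩ : ∃ e', e = e' + 1 := ⟨e - 1, by omega⟩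
    rw [Nat.add_sub_cancel, mul_inv, ← hz]
    have : ((e' + 1 : ℕ) : ℤ) - 3 = (e' : ℤ) - 2 := by push_cast; ring
    rw [this, zpow_sub₀ hz0, zpow_natCast]
    have hzp : z ^ e' ≠ 0 := pow_ne_zero _ hz0
    field_simp
  have hfinal : (g 2)⁻¹ • D x = (algebraMap k K A.det * G⁻¹) • (u 0 • D (u 1) - u 1 • D (u 0)) := by
    have h1 : G • D x = (algebraMap k K A.det * g 2) • (u 0 • D (u 1) - u 1 • D (u 0)) := key
    calc (g 2)⁻¹ • D x = ((g 2)⁻¹ * G⁻¹) • (G • D x) := by
          rw [smul_smul, mul_assoc, inv_mul_cancel₀ hG0, mul_one]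
      _ = ((g 2)⁻¹ * G⁻¹) • ((algebraMap k K A.det * g 2) • (u 0 • D (u 1) - u 1 • D (u 0))) := by
          rw [h1]
      _ = (algebraMap k K A.det * G⁻¹) • (u 0 • D (u 1) - u 1 • D (u 0)) := by
          rw [smul_smul]
          congr 1
          field_simp
  rw [hfinal, smul_smul]
  congr 1
  rw [mul_assoc (algebraMap k K A.det), mul_assoc (algebraMap k K A.det), hzpow]

end Groth.Agent.H21
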