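import Mathlib

set_option autoImplicit false
universe u

namespace H21.CrimpLib

variable {R : Type u} [CommRing R] {ι : Type*}

lemma mem_S_iff (u : ι → R) (c : R) (z : ι → R) :
    z ∈ Submodule.span R {(1 : ι → R), u} ⊔ Ideal.span {c} • (⊤ : Submodule R (ι → R)) ↔
      ∃ (a b : R) (w : ι → R), z = a • 1 + b • u + c • w := by
  rw [Submodule.mem_sup]
  constructor
  · rintro ⟨y, hy, w, hw, rfl⟩
    rw [Submodule.mem_span_pair] at hy
    obtain ⟨a, b, rfl⟩ := hy
    rw [Submodule.ideal_span_singleton_smul, Submodule.mem_smul_pointwise_iff_exists] at hw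
    obtain ⟨w', -, rfl⟩ := hw
    exact ⟨a, b, w', rfl⟩
  · rintro ⟨a, b, w, rfl⟩
    refine ⟨_, Submodule.mem_span_pair.mpr ⟨a, b, rfl⟩, c • w, ?_, rfl⟩
    rw [Submodule.ideal_span_singleton_smul, Submodule.mem_smul_pointwise_iff_exists]
    exact ⟨w, Submodule.mem_top, rfl⟩

theorem closed_iff (u : ι → R) (c : R) (S : Submodule R (ι → R))
    (hS : S = Submodule.span R {(1 : ι → R), u} ⊔ Ideal.span {c} • (⊤ : Submodule R (ι → R))) :
    (∀ x ∈ S, ∀ y ∈ S, x * y ∈ S) ↔ u * u ∈ S := by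
  have hmem : ∀ z, z ∈ S ↔ ∃ (a b : R) (w : ι → R), z = a • 1 + b • u + c • w := by
    intro z; rw [hS]; exact mem_S_iff u c z
  constructor
  · intro h
    have hu : u ∈ S := (hmem u).mpr ⟨0, 1, 0, by simp⟩
    exact h u hu u hu
  · intro huu x hx y hy
    obtain ⟨a, b, w, rfl⟩ := (hmem x).mp hx
    obtain ⟨a', b', w', rfl⟩ := (hmem y).mp hy
    have h1 : (a * a') • (1 : ι → R) + (a * b' + b * a') • u +
        c • (w * (a' • 1 + b' • u + c • w') + w' * (a • 1 + b • u)) ∈ S :=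
      (hmem _).mpr ⟨_, _, _, rfl⟩
    have h2 : (b * b') • (u * u) ∈ S := S.smul_mem _ huu
    have : (a • 1 + b • u + c • w) * (a' • 1 + b' • u + c • w') =
        ((a * a') • (1 : ι → R) + (a * b' + b * a') • u +
        c • (w * (a' • 1 + b' • u + c • w') + w' * (a • 1 + b • u))) + (b * b') • (u * u) := by
      funext i
      simp only [Pi.add_apply, Pi.mul_apply, Pi.smul_apply, Pi.one_apply, smul_eq_mul]
      ring
    rw [this]
    exact S.add_mem h1 h2

end H21.CrimpLib
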