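import Mathlib

set_option autoImplicit false
universe u

open Polynomial IsLocalRing

namespace H21.Curvilinear

variable (k B : Type u) [Field k] [IsAlgClosed k] [CommRing B] [IsLocalRing B] [Algebra k B]
  [Module.Finite k B]

lemma exists_sub_mem_maximalIdeal (b : B) : ∃ c : k, b - algebraMap k B c ∈ maximalIdeal B := by
  haveI : Module.Finite k (ResidueField B) :=
    Module.Finite.of_surjective (IsScalarTower.toAlgHom k B (ResidueField B)).toLinearMap
      residue_surjective
  haveI : Algebra.IsIntegral k (ResidueField B) := Algebra.IsIntegral.of_finite k _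
  obtain ⟨c, hc⟩ := (IsAlgClosed.algebraMap_bijective_of_isIntegral (k := k)
    (K := ResidueField B)).2 (residue B b)
  refine ⟨c, ?_⟩
  rw [← residue_eq_zero_iff, map_sub, ← hc, sub_eq_zero]
  exact IsScalarTower.algebraMap_apply k B (ResidueField B) c

variable {k B}

lemma exists_aeval_sub_mem_pow (t : B) (ht : maximalIdeal B = Ideal.span {t}) (j : ℕ) (b : B) :
    ∃ p : k[X], b - aeval t p ∈ maximalIdeal B ^ j := by
  induction j generalizing b with
  | zero => exact ⟨0, by simp⟩
  | succ j ih =>
    obtain ⟨p, hp⟩ := ih b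
    rw [ht, Ideal.span_singleton_pow, Ideal.mem_span_singleton] at hp
    obtain ⟨b', hb'⟩ := hp
    obtain ⟨c, hc⟩ := exists_sub_mem_maximalIdeal k B b'
    rw [ht, Ideal.mem_span_singleton] at hc
    obtain ⟨b'', hb''⟩ := hc
    refine ⟨p + C c * X ^ j, ?_⟩
    rw [ht, Ideal.span_singleton_pow, Ideal.mem_span_singleton]
    refine ⟨b'', ?_⟩
    have : b' = algebraMap k B c + t * b'' := by rw [← hb'']; ring
    rw [map_add, map_mul, aeval_C, map_pow, aeval_X]
    have h2 : b = aeval t p + t ^ j * b' := by rw [← hb']; ring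
    rw [h2, this]; ring

lemma aeval_surjective (t : B) (ht : maximalIdeal B = Ideal.span {t}) :
    Function.Surjective (aeval (R := k) t) := by
  haveI : IsArtinianRing B := IsArtinianRing.of_finite k B
  obtain ⟨N, hN⟩ := IsArtinianRing.isNilpotent_jacobson_bot (R := B)
  rw [IsLocalRing.jacobson_eq_maximalIdeal _ bot_ne_top] at hN
  intro b
  obtain ⟨p, hp⟩ := exists_aeval_sub_mem_pow (k := k) t ht N b
  rw [hN] at hp
  refine ⟨p, ?_⟩
  have : b - aeval t p = 0 := by simpa using hp
  exact (sub_eq_zero.mp this).symm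

end H21.Curvilinear

namespace H21.Curvilinear

variable {k B : Type u} [Field k] [IsAlgClosed k] [CommRing B] [IsLocalRing B] [Algebra k B]
  [Module.Finite k B]

theorem main (hcurv : Module.finrank (ResidueField B) (CotangentSpace B) ≤ 1) :
    Nonempty (B ≃ₐ[k] (k[X] ⧸ Ideal.span {(X : k[X]) ^ Module.finrank k B})) := by
  haveI : IsArtinianRing B := IsArtinianRing.of_finite k B
  haveI : IsNoetherianRing B := inferInstance
  obtain ⟨t, ht⟩ := (finrank_cotangentSpace_le_one_iff.mp hcurv).principal
  have ht' : maximalIdeal B = Ideal.span {t} := ht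
  have hsurj := aeval_surjective (k := k) t ht'
  obtain ⟨N, hN⟩ := IsArtinianRing.isNilpotent_jacobson_bot (R := B)
  rw [jacobson_eq_maximalIdeal _ bot_ne_top, ht', Ideal.span_singleton_pow] at hN
  have htN : t ^ N = 0 := by
    have : t ^ N ∈ Ideal.span {t ^ N} := Ideal.mem_span_singleton_self _
    rw [hN] at this; simpa using this
  have hXN : (X : k[X]) ^ N ∈ RingHom.ker (aeval (R := k) t) := by
    rw [RingHom.mem_ker, map_pow, aeval_X, htN]
  obtain ⟨g, hg⟩ := (IsPrincipalIdealRing.principal (RingHom.ker (aeval (R := k) t))).principal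
  have hg' : RingHom.ker (aeval (R := k) t) = Ideal.span {g} := hg
  have hdvd : g ∣ X ^ N := by rw [← Ideal.mem_span_singleton, ← hg']; exact hXN
  obtain ⟨j, hj, hassoc⟩ := (dvd_prime_pow Polynomial.prime_X N).mp hdvd
  have hker : RingHom.ker (aeval (R := k) t) = Ideal.span {(X : k[X]) ^ j} := by
    rw [hg']; exact Ideal.span_singleton_eq_span_singleton.mpr hassoc
  let e : (k[X] ⧸ RingHom.ker (aeval (R := k) t)) ≃ₐ[k] B :=
    Ideal.quotientKerAlgEquivOfSurjective hsurj
  let e2 : (k[X] ⧸ Ideal.span {(X : k[X]) ^ j}) ≃ₐ[k] B :=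
    (Ideal.quotientEquivAlgOfEq k hker.symm).trans e
  have hfin : Module.finrank k B = j := by
    rw [← e2.toLinearEquiv.finrank_eq, finrank_quotient_span_eq_natDegree' (monic_X_pow j),
      natDegree_X_pow]
  rw [hfin]
  exact ⟨e2.symm⟩

end H21.Curvilinear
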