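import Mathlib
import Groth.Agent.H21.Curvilinear

set_option autoImplicit false
universe u

open Polynomial IsLocalRing

namespace H21.Curvilinear

/-- In a local ring, a principal extended ideal is generated by the image of one element. -/
lemma exists_generator_of_map_isPrincipal {A B : Type*} [CommRing A] [CommRing B] [IsLocalRing B]
    (f : A →+* B) (I : Ideal A) (hJ : (I.map f).IsPrincipal) :
    ∃ s ∈ I, I.map f = Ideal.span {f s} := by
  obtain ⟨g, hg⟩ := hJ.principal
  have hg' : I.map f = Ideal.span {g} := hg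
  by_cases h0 : g = 0
  · refine ⟨0, I.zero_mem, ?_⟩
    rw [hg', h0, map_zero]
  · by_contra hcon
    push Not at hcon
    have hle : I.map f ≤ maximalIdeal B • I.map f := by
      rw [Ideal.map_le_iff_le_comap]
      intro a ha
      rw [Ideal.mem_comap]
      have hfa : f a ∈ Ideal.span {g} := hg' ▸ Ideal.mem_map_of_mem f ha
      obtain ⟨c, hc⟩ := Ideal.mem_span_singleton'.mp hfa
      have hcu : ¬ IsUnit c := by
        intro hu
        apply hcon a ha
        rw [hg', ← hc, Ideal.span_singleton_mul_left_unit hu]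
      rw [← hc, smul_eq_mul]
      refine Ideal.mul_mem_mul ((mem_maximalIdeal c).mpr hcu) ?_
      rw [hg']
      exact Ideal.mem_span_singleton_self g
    have hbot : I.map f = ⊥ :=
      Submodule.eq_bot_of_le_smul_of_le_jacobson_bot (maximalIdeal B) (I.map f)
        (hg' ▸ (Submodule.fg_span_singleton g)) hle (maximalIdeal_le_jacobson ⊥)
    apply h0
    have : g ∈ I.map f := hg' ▸ Ideal.mem_span_singleton_self g
    rw [hbot] at this
    exact this

variable {k B : Type u} [Field k] [IsAlgClosed k] [CommRing B] [IsLocalRing B] [Algebra k B]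
  [Module.Finite k B] [IsPrincipalIdealRing B]

theorem sub_curvilinear (A : Subalgebra k B) [Module.Flat A B] :
    ∃ m : ℕ, Nonempty (A ≃ₐ[k] (k[X] ⧸ Ideal.span {(X : k[X]) ^ m})) := by
  haveI : Module.Finite k A := Module.Finite.of_injective A.val.toLinearMap Subtype.val_injective
  haveI : Module.Finite A B := Module.Finite.of_restrictScalars_finite k A B
  haveI : Algebra.IsIntegral A B := Algebra.IsIntegral.of_finite A B
  haveI : IsLocalHom (algebraMap A B) := Algebra.IsIntegral.isLocalHom A B
  haveI : IsLocalRing A := RingHom.domain_isLocalRing (algebraMap A B)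
  haveI : Module.FaithfullyFlat A B := Module.FaithfullyFlat.of_flat_of_isLocalHom
  obtain ⟨s, hs, hJ⟩ := exists_generator_of_map_isPrincipal (algebraMap A B) (maximalIdeal A)
    (IsPrincipalIdealRing.principal _)
  have hm : maximalIdeal A = Ideal.span {s} := by
    rw [← Ideal.comap_map_eq_self_of_faithfullyFlat (B := B) (maximalIdeal A), hJ,
      ← Set.image_singleton, ← Ideal.map_span, Ideal.comap_map_eq_self_of_faithfullyFlat]
  haveI : IsArtinianRing A := IsArtinianRing.of_finite k A
  refine ⟨_, main (k := k) (B := A) ?_⟩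
  rw [finrank_cotangentSpace_le_one_iff]
  exact ⟨⟨s, hm⟩⟩

/-- `k[X]/(X^n)` is local for `n ≥ 1`. -/
lemma isLocalRing_quot (n : ℕ) (hn : 0 < n) :
    IsLocalRing (k[X] ⧸ Ideal.span {(X : k[X]) ^ n}) := by
  haveI : Nontrivial (k[X] ⧸ Ideal.span {(X : k[X]) ^ n}) := by
    rw [Ideal.Quotient.nontrivial_iff, Ne, Ideal.span_singleton_eq_top]
    exact fun h => not_isUnit_X ((isUnit_pow_iff hn.ne').mp h)
  refine IsLocalRing.of_isUnit_or_isUnit_one_sub_self (fun b => ?_)
  obtain ⟨f, rfl⟩ := Ideal.Quotient.mk_surjective b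
  have hnil : IsNilpotent (Ideal.Quotient.mk (Ideal.span {(X : k[X]) ^ n}) X) := by
    refine ⟨n, ?_⟩
    rw [← map_pow, Ideal.Quotient.eq_zero_iff_mem]
    exact Ideal.mem_span_singleton_self _
  have hf : f = C (f.coeff 0) + X * f.divX := by
    conv_lhs => rw [← Polynomial.divX_mul_X_add f]
    ring
  by_cases h0 : f.coeff 0 = 0
  · right
    rw [hf, h0, map_zero, zero_add, map_mul]
    exact IsNilpotent.isUnit_one_sub (Commute.isNilpotent_mul_right (Commute.all _ _) hnil)
  · left
    rw [hf, map_add, map_mul]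
    refine IsNilpotent.isUnit_add_left_of_commute
      (Commute.isNilpotent_mul_right (Commute.all _ _) hnil) ?_ (Commute.all _ _)
    exact (isUnit_C.mpr (isUnit_iff_ne_zero.mpr h0)).map _

end H21.Curvilinear
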