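import Mathlib
import Groth.Prelude.Def_W4c3severiratdpLat

set_option autoImplicit false

open W4c3severiratdp

namespace H21.DPConic

/-- unfolding of the conic conditions -/
lemma isConic_iff {δ : ℕ} (v : DP δ) :
    IsConic v ↔ v 0 ^ 2 = ∑ i : Fin δ, v i.succ ^ 2 ∧ 3 * v 0 - ∑ i : Fin δ, v i.succ = 2 := by
  unfold IsConic form canon
  simp only [Fin.cases_zero, Fin.cases_succ]
  have h1 : ∑ i : Fin δ, v i.succ * v i.succ = ∑ i : Fin δ, v i.succ ^ 2 := by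
    apply Finset.sum_congr rfl; intro i _; ring
  have h2 : ∑ i : Fin δ, (-1 : ℤ) * v i.succ = - ∑ i : Fin δ, v i.succ := by
    rw [← Finset.sum_neg_distrib]; apply Finset.sum_congr rfl; intro i _; ring
  rw [h1, h2]
  constructor
  · rintro ⟨h, h'⟩; constructor <;> linarith
  · rintro ⟨h, h'⟩; constructor <;> linarith

/-- bounds for the first coordinate -/
lemma bound_a {δ : ℕ} (hδ : δ ≤ 8) (a : ℤ) (b : Fin δ → ℤ)
    (h2 : a ^ 2 = ∑ i, b i ^ 2) (h1 : 3 * a - ∑ i, b i = 2) : 1 ≤ a ∧ a ≤ 11 := by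
  have hcs := sq_sum_le_card_mul_sum_sq (s := (Finset.univ : Finset (Fin δ))) (f := b)
  simp only [Finset.card_univ, Fintype.card_fin] at hcs
  have hnn : 0 ≤ ∑ i, b i ^ 2 := Finset.sum_nonneg (fun i _ => sq_nonneg _)
  have hδ' : (δ : ℤ) ≤ 8 := by exact_mod_cast hδ
  have h3 : (∑ i, b i) ^ 2 ≤ 8 * ∑ i, b i ^ 2 :=
    hcs.trans (mul_le_mul_of_nonneg_right hδ' hnn)
  have e1 : ∑ i, b i = 3 * a - 2 := by linarith
  rw [e1, ← h2] at h3
  constructor <;> nlinarith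

lemma bound_b {δ : ℕ} (hδ : δ ≤ 8) (a : ℤ) (b : Fin δ → ℤ)
    (h2 : a ^ 2 = ∑ i, b i ^ 2) (h1 : 3 * a - ∑ i, b i = 2) (j : Fin δ) :
    0 ≤ b j ∧ b j ≤ 4 := by
  obtain ⟨ha1, ha11⟩ := bound_a hδ a b h2 h1
  have hcs := sq_sum_le_card_mul_sum_sq (s := (Finset.univ.erase j : Finset (Fin δ))) (f := b)
  have hcard : ((Finset.univ.erase j : Finset (Fin δ)).card : ℤ) ≤ 7 := by
    rw [Finset.card_erase_of_mem (Finset.mem_univ j), Finset.card_univ, Fintype.card_fin]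
    have : δ - 1 ≤ 7 := by omega
    exact_mod_cast this
  have hnn : 0 ≤ ∑ i ∈ Finset.univ.erase j, b i ^ 2 := Finset.sum_nonneg (fun i _ => sq_nonneg _)
  have h3 : (∑ i ∈ Finset.univ.erase j, b i) ^ 2 ≤ 7 * ∑ i ∈ Finset.univ.erase j, b i ^ 2 :=
    hcs.trans (mul_le_mul_of_nonneg_right hcard hnn)
  have e1 : b j + ∑ i ∈ Finset.univ.erase j, b i = ∑ i, b i :=
    Finset.add_sum_erase _ _ (Finset.mem_univ j)
  have e2 : b j ^ 2 + ∑ i ∈ Finset.univ.erase j, b i ^ 2 = ∑ i, b i ^ 2 :=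
    Finset.add_sum_erase _ (fun i => b i ^ 2) (Finset.mem_univ j)
  have e1' : ∑ i ∈ Finset.univ.erase j, b i = 3 * a - 2 - b j := by linarith
  have e2' : ∑ i ∈ Finset.univ.erase j, b i ^ 2 = a ^ 2 - b j ^ 2 := by linarith
  rw [e1', e2'] at h3
  have key : 4 * b j ^ 2 - (3 * a - 2) * b j + a ^ 2 - 6 * a + 2 ≤ 0 := by nlinarith
  interval_cases a <;> constructor <;> nlinarith

/-- digits -/
def D5 : Finset ℤ := {0, 1, 2, 3, 4}

lemma mem_D5 (x : ℤ) : x ∈ D5 ↔ 0 ≤ x ∧ x ≤ 4 := by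
  simp only [D5, Finset.mem_insert, Finset.mem_singleton]
  omega

/-- vectors of digits with prescribed sum and sum of squares -/
def F (k : ℕ) (z1 z2 : ℤ) : Finset (Fin k → ℤ) :=
  (Fintype.piFinset (fun _ : Fin k => D5)).filter (fun b => ∑ i, b i = z1 ∧ ∑ i, b i ^ 2 = z2)

lemma mem_F {k : ℕ} {z1 z2 : ℤ} (b : Fin k → ℤ) :
    b ∈ F k z1 z2 ↔ (∀ i, 0 ≤ b i ∧ b i ≤ 4) ∧ ∑ i, b i = z1 ∧ ∑ i, b i ^ 2 = z2 := by
  simp only [F, Finset.mem_filter, Fintype.mem_piFinset, mem_D5]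

lemma F_nonneg {k : ℕ} {z1 z2 : ℤ} (h : (F k z1 z2).Nonempty) : 0 ≤ z1 ∧ 0 ≤ z2 := by
  obtain ⟨b, hb⟩ := h
  rw [mem_F] at hb
  obtain ⟨hb0, rfl, rfl⟩ := hb
  exact ⟨Finset.sum_nonneg (fun i _ => (hb0 i).1), Finset.sum_nonneg (fun i _ => sq_nonneg _)⟩

lemma F_le {k : ℕ} {z1 z2 : ℤ} (h : (F k z1 z2).Nonempty) : z1 ≤ 4 * k := by
  obtain ⟨b, hb⟩ := h
  rw [mem_F] at hb
  obtain ⟨hb0, rfl, rfl⟩ := hb
  calc ∑ i, b i ≤ ∑ _i : Fin k, (4 : ℤ) := Finset.sum_le_sum (fun i _ => (hb0 i).2)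
    _ = 4 * k := by simp [mul_comm]

lemma card_F_zero (z1 z2 : ℤ) : (F 0 z1 z2).card = if z1 = 0 ∧ z2 = 0 then 1 else 0 := by
  split_ifs with h
  · obtain ⟨rfl, rfl⟩ := h
    rw [Finset.card_eq_one]
    refine ⟨Fin.elim0, ?_⟩
    ext b
    rw [mem_F, Finset.mem_singleton]
    constructor
    · intro _; funext i; exact i.elim0
    · rintro rfl; simp
  · rw [Finset.card_eq_zero, Finset.eq_empty_iff_forall_notMem]
    intro b hb
    rw [mem_F] at hb
    apply h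
    obtain ⟨_, h1, h2⟩ := hb
    simp at h1 h2
    exact ⟨h1.symm, h2.symm⟩

lemma card_fiber {k : ℕ} (z1 z2 c : ℤ) (hc : c ∈ D5) :
    ((F (k + 1) z1 z2).filter (fun b => b 0 = c)).card = (F k (z1 - c) (z2 - c ^ 2)).card := by
  apply Finset.card_nbij' (i := Fin.tail) (j := Fin.cons c)
  · intro b hb
    rw [Finset.mem_coe, Finset.mem_filter, mem_F] at hb
    obtain ⟨⟨hb0, h1, h2⟩, rfl⟩ := hb
    rw [Finset.mem_coe, mem_F]
    refine ⟨fun i => hb0 i.succ, ?_, ?_⟩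
    · rw [Fin.sum_univ_succ] at h1
      change ∑ i : Fin k, b i.succ = _
      linarith
    · rw [Fin.sum_univ_succ] at h2
      change ∑ i : Fin k, b i.succ ^ 2 = _
      linarith
  · intro b hb
    rw [Finset.mem_coe, mem_F] at hb
    obtain ⟨hb0, h1, h2⟩ := hb
    rw [Finset.mem_coe, Finset.mem_filter, mem_F]
    refine ⟨⟨?_, ?_, ?_⟩, Fin.cons_zero _ _⟩
    · intro i
      refine Fin.cases ?_ (fun j => ?_) i
      · rw [Fin.cons_zero]; exact (mem_D5 c).mp hc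
      · rw [Fin.cons_succ]; exact hb0 j
    · rw [Fin.sum_univ_succ]
      simp only [Fin.cons_zero, Fin.cons_succ]
      linarith
    · rw [Fin.sum_univ_succ]
      simp only [Fin.cons_zero, Fin.cons_succ]
      linarith
  · intro b hb
    rw [Finset.mem_coe, Finset.mem_filter] at hb
    rw [← hb.2]
    exact Fin.cons_self_tail b
  · intro b _
    exact Fin.tail_cons _ _

lemma card_F_succ {k : ℕ} (z1 z2 : ℤ) :
    (F (k + 1) z1 z2).card = (F k z1 z2).card + (F k (z1 - 1) (z2 - 1)).card +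
      (F k (z1 - 2) (z2 - 4)).card + (F k (z1 - 3) (z2 - 9)).card + (F k (z1 - 4) (z2 - 16)).card := by
  have H : ∀ b ∈ F (k + 1) z1 z2, b 0 ∈ D5 := by
    intro b hb
    rw [mem_F] at hb
    exact (mem_D5 _).mpr (hb.1 0)
  rw [Finset.card_eq_sum_card_fiberwise H]
  have : ∀ c ∈ D5, ((F (k + 1) z1 z2).filter (fun b => b 0 = c)).card =
      (F k (z1 - c) (z2 - c ^ 2)).card := fun c hc => card_fiber z1 z2 c hc
  rw [Finset.sum_congr rfl this]
  simp [D5]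
  ring

/-- the dynamic programme -/
def cnt : ℕ → ℕ → ℕ → ℕ
  | 0, s1, s2 => if s1 = 0 ∧ s2 = 0 then 1 else 0
  | k+1, s1, s2 =>
      if 4 * (k+1) < s1 then 0 else
      (cnt k s1 s2) + (if 1 ≤ s1 ∧ 1 ≤ s2 then cnt k (s1-1) (s2-1) else 0) +
      (if 2 ≤ s1 ∧ 4 ≤ s2 then cnt k (s1-2) (s2-4) else 0) +
      (if 3 ≤ s1 ∧ 9 ≤ s2 then cnt k (s1-3) (s2-9) else 0) +
      (if 4 ≤ s1 ∧ 16 ≤ s2 then cnt k (s1-4) (s2-16) else 0)

lemma card_F_eq_zero_of_neg {k : ℕ} {z1 z2 : ℤ} (h : z1 < 0 ∨ z2 < 0) : (F k z1 z2).card = 0 := by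
  rw [Finset.card_eq_zero]
  by_contra hne
  have := F_nonneg (Finset.nonempty_iff_ne_empty.mpr hne)
  omega

lemma branch {k : ℕ} (ih : ∀ s1 s2 : ℕ, (F k s1 s2).card = cnt k s1 s2) (s1 s2 c d : ℕ) :
    (F k ((s1 : ℤ) - c) ((s2 : ℤ) - d)).card = if c ≤ s1 ∧ d ≤ s2 then cnt k (s1 - c) (s2 - d) else 0 := by
  split_ifs with h
  · rw [← ih, Nat.cast_sub h.1, Nat.cast_sub h.2]
  · apply card_F_eq_zero_of_neg
    omega

theorem card_F_eq_cnt (k : ℕ) : ∀ s1 s2 : ℕ, (F k s1 s2).card = cnt k s1 s2 := by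
  induction k with
  | zero =>
    intro s1 s2
    rw [card_F_zero, cnt]
    simp only [Nat.cast_eq_zero]
  | succ k ih =>
    intro s1 s2
    rw [cnt]
    by_cases hprune : 4 * (k + 1) < s1
    · rw [if_pos hprune, Finset.card_eq_zero]
      by_contra hne
      have := F_le (Finset.nonempty_iff_ne_empty.mpr hne)
      have h' : (s1 : ℤ) ≤ 4 * ((k + 1 : ℕ) : ℤ) := this
      have : s1 ≤ 4 * (k + 1) := by exact_mod_cast h'
      omega
    · rw [if_neg hprune, card_F_succ, ih]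
      have b1 := branch ih s1 s2 1 1
      have b2 := branch ih s1 s2 2 4
      have b3 := branch ih s1 s2 3 9
      have b4 := branch ih s1 s2 4 16
      simp only [Nat.cast_one, Nat.cast_ofNat] at b1 b2 b3 b4
      rw [b1, b2, b3, b4]


/-- the finset of conic classes -/
noncomputable def G (δ : ℕ) : Finset (DP δ) :=
  (Finset.Icc 1 11 : Finset ℕ).biUnion (fun n =>
    (F δ ((3 * n - 2 : ℕ) : ℤ) ((n * n : ℕ) : ℤ)).map ⟨Fin.cons (n : ℤ), Fin.cons_right_injective _⟩)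

lemma mem_G {δ : ℕ} (hδ : δ ≤ 8) (v : DP δ) : v ∈ G δ ↔ IsConic v := by
  rw [G, Finset.mem_biUnion, isConic_iff]
  constructor
  · rintro ⟨n, hn, hv⟩
    rw [Finset.mem_map] at hv
    obtain ⟨b, hb, rfl⟩ := hv
    rw [mem_F] at hb
    obtain ⟨_, h1, h2⟩ := hb
    rw [Finset.mem_Icc] at hn
    change (n : ℤ) ^ 2 = ∑ i : Fin δ, b i ^ 2 ∧ 3 * (n : ℤ) - ∑ i : Fin δ, b i = 2
    rw [h1, h2]
    have : ((3 * n - 2 : ℕ) : ℤ) = 3 * (n : ℤ) - 2 := by
      rw [Nat.cast_sub (by omega)]; push_cast; ring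
    rw [this]
    constructor
    · push_cast; ring
    · ring
  · rintro ⟨h2, h1⟩
    obtain ⟨ha1, ha11⟩ := bound_a hδ (v 0) (fun i => v i.succ) h2 h1
    have hb := bound_b hδ (v 0) (fun i => v i.succ) h2 h1
    obtain ⟨n, hn⟩ := Int.eq_ofNat_of_zero_le (by omega : 0 ≤ v 0)
    refine ⟨n, ?_, ?_⟩
    · rw [Finset.mem_Icc]; omega
    · rw [Finset.mem_map]
      refine ⟨Fin.tail v, ?_, ?_⟩
      · rw [mem_F]
        refine ⟨hb, ?_, ?_⟩
        · have : ((3 * n - 2 : ℕ) : ℤ) = 3 * (n : ℤ) - 2 := by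
            rw [Nat.cast_sub (by omega)]; push_cast; ring
          rw [this, ← hn]
          change ∑ i : Fin δ, v i.succ = _
          linarith
        · change ∑ i : Fin δ, v i.succ ^ 2 = _
          rw [← h2, hn]; push_cast; ring
      · change Fin.cons (n : ℤ) (Fin.tail v) = v
        rw [← hn]
        exact Fin.cons_self_tail v

lemma card_G (δ : ℕ) : (G δ).card = ∑ n ∈ (Finset.Icc 1 11 : Finset ℕ), cnt δ (3 * n - 2) (n * n) := by
  rw [G, Finset.card_biUnion]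
  · apply Finset.sum_congr rfl
    intro n _
    rw [Finset.card_map, card_F_eq_cnt]
  · intro n _ m _ hnm
    change Disjoint _ _
    rw [Finset.disjoint_left]
    intro v hv hv'
    rw [Finset.mem_map] at hv hv'
    obtain ⟨b, _, rfl⟩ := hv
    obtain ⟨b', _, hb'⟩ := hv'
    have := congrFun hb' 0
    simp only [Function.Embedding.coeFn_mk, Fin.cons_zero] at this
    exact hnm (by exact_mod_cast this.symm)

theorem ncard_conic {δ : ℕ} (hδ : δ ≤ 8) :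
    {v : DP δ | IsConic v}.ncard = ∑ n ∈ (Finset.Icc 1 11 : Finset ℕ), cnt δ (3 * n - 2) (n * n) := by
  have : {v : DP δ | IsConic v} = ↑(G δ) := by
    ext v
    rw [Set.mem_ofPred_eq, Finset.mem_coe, mem_G hδ]
  rw [this, Set.ncard_coe_finset, card_G]

/-- explicit form of the sum -/
def tot (δ : ℕ) : ℕ :=
  cnt δ 1 1 + cnt δ 4 4 + cnt δ 7 9 + cnt δ 10 16 + cnt δ 13 25 + cnt δ 16 36 + cnt δ 19 49 +
    cnt δ 22 64 + cnt δ 25 81 + cnt δ 28 100 + cnt δ 31 121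

lemma sum_eq_tot (δ : ℕ) :
    ∑ n ∈ (Finset.Icc 1 11 : Finset ℕ), cnt δ (3 * n - 2) (n * n) = tot δ := by
  have : (Finset.Icc 1 11 : Finset ℕ) = {1,2,3,4,5,6,7,8,9,10,11} := by decide
  rw [this]
  simp [tot]
  ring

set_option maxRecDepth 100000 in
lemma tot2 : tot 2 = 2 := by decide +kernel
set_option maxRecDepth 100000 in
lemma tot3 : tot 3 = 3 := by decide +kernel
set_option maxRecDepth 100000 in
lemma tot4 : tot 4 = 5 := by decide +kernel
set_option maxRecDepth 100000 in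
lemma tot5 : tot 5 = 10 := by decide +kernel
set_option maxRecDepth 100000 in
lemma tot6 : tot 6 = 27 := by decide +kernel
set_option maxRecDepth 100000 in
lemma tot7 : tot 7 = 126 := by decide +kernel
set_option maxRecDepth 100000 in
lemma tot8 : tot 8 = 2160 := by decide +kernel

end H21.DPConic
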