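import Mathlib
import Groth.Prelude.Def_W4c3severiratdpLat

set_option autoImplicit false

open W4c3severiratdp

namespace H21.DPWeyl

variable {δ : ℕ}

lemma form_add_left (u v w : DP δ) : form (u + v) w = form u w + form v w := by
  unfold form
  simp only [Pi.add_apply, add_mul, Finset.sum_add_distrib]
  ring

lemma form_smul_left (c : ℤ) (v w : DP δ) : form (c • v) w = c * form v w := by
  unfold form
  simp only [Pi.smul_apply, smul_eq_mul, mul_sub, Finset.mul_sum, mul_assoc]

lemma form_comm (v w : DP δ) : form v w = form w v := by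
  unfold form
  simp only [mul_comm]

lemma form_add_right (u v w : DP δ) : form u (v + w) = form u v + form u w := by
  rw [form_comm, form_add_left, form_comm v, form_comm w]

lemma form_smul_right (c : ℤ) (v w : DP δ) : form v (c • w) = c * form v w := by
  rw [form_comm, form_smul_left, form_comm]

/-- the reflection map -/
def reflFun (α : DP δ) : DP δ →ₗ[ℤ] DP δ where
  toFun v := v + form v α • α
  map_add' v w := by
    rw [form_add_left, add_smul]; abel
  map_smul' c v := by
    rw [form_smul_left, RingHom.id_apply, smul_add, smul_smul]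

lemma reflFun_apply (α v : DP δ) : reflFun α v = v + form v α • α := rfl

lemma reflFun_invol (α : DP δ) (hα : form α α = -2) : Function.Involutive (reflFun α) := by
  intro v
  rw [reflFun_apply, reflFun_apply, form_add_left, form_smul_left, hα, add_smul, add_assoc,
    ← add_smul, ← add_smul]
  have : form v α + (form v α + form v α * -2) = 0 := by ring
  rw [this, zero_smul, add_zero]

/-- the reflection in a root -/
def refl (α : DP δ) (hα : form α α = -2) : DP δ ≃ₗ[ℤ] DP δ :=
  LinearEquiv.ofInvolutive (reflFun α) (reflFun_invol α hα)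

lemma refl_apply (α : DP δ) (hα : form α α = -2) (v : DP δ) :
    refl α hα v = v + form v α • α := rfl

lemma isWeyl_refl (α : DP δ) (hα : form α α = -2) (hK : form (canon δ) α = 0) :
    IsWeyl (refl α hα) := by
  constructor
  · intro v w
    rw [refl_apply, refl_apply, form_add_left, form_add_right, form_add_right, form_smul_left,
      form_smul_left, form_smul_right, form_smul_right, hα, form_comm α w]
    ring
  · rw [refl_apply, hK, zero_smul, add_zero]

lemma isWeyl_trans {g h : DP δ ≃ₗ[ℤ] DP δ} (hg : IsWeyl g) (hh : IsWeyl h) : IsWeyl (g.trans h) := by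
  constructor
  · intro v w
    rw [LinearEquiv.trans_apply, LinearEquiv.trans_apply, hh.1, hg.1]
  · rw [LinearEquiv.trans_apply, hg.2, hh.2]

lemma isWeyl_symm {g : DP δ ≃ₗ[ℤ] DP δ} (hg : IsWeyl g) : IsWeyl g.symm := by
  constructor
  · intro v w
    rw [← hg.1, LinearEquiv.apply_symm_apply, LinearEquiv.apply_symm_apply]
  · conv_lhs => rw [← hg.2]
    exact LinearEquiv.symm_apply_apply _ _

lemma isWeyl_refl' : IsWeyl (LinearEquiv.refl ℤ (DP δ)) := ⟨fun _ _ => rfl, rfl⟩

/-- permutation of the coordinates -/
def permL (σ : Equiv.Perm (Fin δ)) : DP δ ≃ₗ[ℤ] DP δ where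
  toFun v := Fin.cases (v 0) (fun i => v (σ i).succ)
  invFun v := Fin.cases (v 0) (fun i => v (σ.symm i).succ)
  map_add' v w := by
    ext i; refine Fin.cases ?_ (fun j => ?_) i <;> simp
  map_smul' c v := by
    ext i; refine Fin.cases ?_ (fun j => ?_) i <;> simp
  left_inv v := by
    ext i; refine Fin.cases ?_ (fun j => ?_) i <;> simp
  right_inv v := by
    ext i; refine Fin.cases ?_ (fun j => ?_) i <;> simp

@[simp] lemma permL_zero (σ : Equiv.Perm (Fin δ)) (v : DP δ) : permL σ v 0 = v 0 := rfl
@[simp] lemma permL_succ (σ : Equiv.Perm (Fin δ)) (v : DP δ) (i : Fin δ) :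
    permL σ v i.succ = v (σ i).succ := rfl

lemma isWeyl_permL (σ : Equiv.Perm (Fin δ)) : IsWeyl (permL σ) := by
  constructor
  · intro v w
    unfold form
    simp only [permL_zero, permL_succ]
    rw [Equiv.sum_comp σ (fun i => v i.succ * w i.succ)]
  · ext i
    refine Fin.cases ?_ (fun j => ?_) i
    · rfl
    · rw [permL_succ]; rfl

lemma isExc_map {g : DP δ ≃ₗ[ℤ] DP δ} (hg : IsWeyl g) {v : DP δ} (hv : IsExc v) : IsExc (g v) := by
  constructor
  · rw [hg.1]; exact hv.1
  · have := hg.1 (canon δ) v
    rw [hg.2] at this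
    rw [this]; exact hv.2

end H21.DPWeyl
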