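import Mathlib
import Groth.Agent.H21.DPWeyl
import Groth.Agent.H21.DPConic

set_option autoImplicit false

open W4c3severiratdp

namespace H21.DPCon

open H21.DPWeyl H21.DPConic

set_option maxRecDepth 100000 in
set_option synthInstance.maxSize 100000 in
set_option synthInstance.maxHeartbeats 0 in
set_option maxHeartbeats 0 in
/-- the finite search, all coordinates sorted -/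
lemma searchI : ∀ A ∈ Finset.range 12, ∀ C0 ∈ Finset.range 5, ∀ C1 ∈ Finset.range (C0 + 1), ∀ C2 ∈ Finset.range (C1 + 1), ∀ C3 ∈ Finset.range (C2 + 1), ∀ C4 ∈ Finset.range (C3 + 1), ∀ C5 ∈ Finset.range (C4 + 1), ∀ C6 ∈ Finset.range (C5 + 1), ∀ C7 ∈ Finset.range (C6 + 1),
    C0 + C1 + C2 + C3 + C4 + C5 + C6 + C7 + 2 = 3 * A → C0 ^ 2 + C1 ^ 2 + C2 ^ 2 + C3 ^ 2 + C4 ^ 2 + C5 ^ 2 + C6 ^ 2 + C7 ^ 2 = A ^ 2 →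
      (A < C0 + C1 + C2 ∧ 1 ≤ C2) ∨
      (A = 1 ∧ C0 = 1 ∧ C1 = 0 ∧ C2 = 0 ∧ C3 = 0 ∧ C4 = 0 ∧ C5 = 0 ∧ C6 = 0 ∧ C7 = 0) := by
  decide +kernel

set_option maxRecDepth 100000 in
set_option synthInstance.maxSize 100000 in
set_option synthInstance.maxHeartbeats 0 in
set_option maxHeartbeats 0 in
/-- the finite search, first coordinate frozen -/
lemma searchII : ∀ A ∈ Finset.range 12, ∀ M ∈ Finset.range 5, ∀ C0 ∈ Finset.range 5, ∀ C1 ∈ Finset.range (C0 + 1), ∀ C2 ∈ Finset.range (C1 + 1), ∀ C3 ∈ Finset.range (C2 + 1), ∀ C4 ∈ Finset.range (C3 + 1), ∀ C5 ∈ Finset.range (C4 + 1), ∀ C6 ∈ Finset.range (C5 + 1),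
    M + C0 + C1 + C2 + C3 + C4 + C5 + C6 + 2 = 3 * A → M ^ 2 + C0 ^ 2 + C1 ^ 2 + C2 ^ 2 + C3 ^ 2 + C4 ^ 2 + C5 ^ 2 + C6 ^ 2 = A ^ 2 →
      (A < M + C0 + C1 ∧ 1 ≤ C1) ∨
      (A = 1 ∧ M = 1 ∧ C0 = 0 ∧ C1 = 0 ∧ C2 = 0 ∧ C3 = 0 ∧ C4 = 0 ∧ C5 = 0 ∧ C6 = 0) ∨
      (A = 1 ∧ M = 0 ∧ C0 = 1 ∧ C1 = 0 ∧ C2 = 0 ∧ C3 = 0 ∧ C4 = 0 ∧ C5 = 0 ∧ C6 = 0) ∨
      (A = 2 ∧ M = 0 ∧ C0 = 1 ∧ C1 = 1 ∧ C2 = 1 ∧ C3 = 1 ∧ C4 = 0 ∧ C5 = 0 ∧ C6 = 0) ∨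
      (A = 3 ∧ M = 0 ∧ C0 = 2 ∧ C1 = 1 ∧ C2 = 1 ∧ C3 = 1 ∧ C4 = 1 ∧ C5 = 1 ∧ C6 = 0) ∨
      (A = 4 ∧ M = 0 ∧ C0 = 2 ∧ C1 = 2 ∧ C2 = 2 ∧ C3 = 1 ∧ C4 = 1 ∧ C5 = 1 ∧ C6 = 1) ∨
      (A = 5 ∧ M = 1 ∧ C0 = 2 ∧ C1 = 2 ∧ C2 = 2 ∧ C3 = 2 ∧ C4 = 2 ∧ C5 = 2 ∧ C6 = 0) ∨
      (A = 5 ∧ M = 0 ∧ C0 = 2 ∧ C1 = 2 ∧ C2 = 2 ∧ C3 = 2 ∧ C4 = 2 ∧ C5 = 2 ∧ C6 = 1) ∨
      (A = 7 ∧ M = 1 ∧ C0 = 3 ∧ C1 = 3 ∧ C2 = 3 ∧ C3 = 3 ∧ C4 = 2 ∧ C5 = 2 ∧ C6 = 2) ∨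
      (A = 8 ∧ M = 1 ∧ C0 = 3 ∧ C1 = 3 ∧ C2 = 3 ∧ C3 = 3 ∧ C4 = 3 ∧ C5 = 3 ∧ C6 = 3) ∨
      (A = 11 ∧ M = 3 ∧ C0 = 4 ∧ C1 = 4 ∧ C2 = 4 ∧ C3 = 4 ∧ C4 = 4 ∧ C5 = 4 ∧ C6 = 4) := by
  decide +kernel

end H21.DPCon
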