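import Mathlib
import Groth.Agent.H21.DPConSearch

set_option autoImplicit false

open W4c3severiratdp

namespace H21.DPCon

open H21.DPWeyl H21.DPConic

variable {δ : ℕ}

/-- the Cremona root `ℓ - e₁ - e₂ - e₃` -/
def αQ (δ : ℕ) : DP δ := fun i => if (i : ℕ) ≤ 3 then 1 else 0

lemma αQ_zero : αQ δ 0 = 1 := by simp [αQ]

lemma αQ_succ (i : Fin δ) : αQ δ i.succ = if (i : ℕ) ≤ 2 then 1 else 0 := by
  simp only [αQ, Fin.val_succ]
  by_cases h : (i : ℕ) ≤ 2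
  · rw [if_pos h, if_pos (by omega)]
  · rw [if_neg h, if_neg (by omega)]

lemma sum_αQ (f : Fin δ → ℤ) (i0 i1 i2 : Fin δ) (h0 : (i0 : ℕ) = 0) (h1 : (i1 : ℕ) = 1)
    (h2 : (i2 : ℕ) = 2) : ∑ i : Fin δ, f i * αQ δ i.succ = f i0 + f i1 + f i2 := by
  have hS : ∀ i : Fin δ, f i * αQ δ i.succ = if i ∈ ({i0, i1, i2} : Finset (Fin δ)) then f i else 0 := by
    intro i
    rw [αQ_succ]
    have : (i : ℕ) ≤ 2 ↔ i ∈ ({i0, i1, i2} : Finset (Fin δ)) := by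
      simp only [Finset.mem_insert, Finset.mem_singleton, Fin.ext_iff]
      omega
    by_cases h : (i : ℕ) ≤ 2
    · rw [if_pos h, if_pos (this.mp h), mul_one]
    · rw [if_neg h, if_neg (fun h' => h (this.mpr h')), mul_zero]
  rw [Finset.sum_congr rfl (fun i _ => hS i), Finset.sum_ite_mem, Finset.univ_inter]
  have h01 : i0 ≠ i1 := by intro h; rw [Fin.ext_iff] at h; omega
  have h02 : i0 ≠ i2 := by intro h; rw [Fin.ext_iff] at h; omega
  have h12 : i1 ≠ i2 := by intro h; rw [Fin.ext_iff] at h; omega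
  rw [Finset.sum_insert (by simp [h01, h02]), Finset.sum_insert (by simp [h12]), Finset.sum_singleton]
  ring

lemma form_αQ (x : DP δ) (i0 i1 i2 : Fin δ) (h0 : (i0 : ℕ) = 0) (h1 : (i1 : ℕ) = 1)
    (h2 : (i2 : ℕ) = 2) : form x (αQ δ) = x 0 - (x i0.succ + x i1.succ + x i2.succ) := by
  unfold form
  rw [sum_αQ (fun i => x i.succ) i0 i1 i2 h0 h1 h2, αQ_zero, mul_one]

lemma αQ_sq (i0 i1 i2 : Fin δ) (h0 : (i0 : ℕ) = 0) (h1 : (i1 : ℕ) = 1)
    (h2 : (i2 : ℕ) = 2) : form (αQ δ) (αQ δ) = -2 := by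
  rw [form_αQ _ i0 i1 i2 h0 h1 h2, αQ_zero, αQ_succ, αQ_succ, αQ_succ, if_pos (by omega),
    if_pos (by omega), if_pos (by omega)]
  norm_num

lemma αQ_K (i0 i1 i2 : Fin δ) (h0 : (i0 : ℕ) = 0) (h1 : (i1 : ℕ) = 1)
    (h2 : (i2 : ℕ) = 2) : form (canon δ) (αQ δ) = 0 := by
  rw [form_αQ _ i0 i1 i2 h0 h1 h2]
  simp [canon]

/-- sums of functions vanishing beyond `δ` -/
lemma sum_castLE {δ N : ℕ} (hδ : δ ≤ N) (g : Fin N → ℤ) (hg : ∀ i : Fin N, δ ≤ (i : ℕ) → g i = 0) :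
    ∑ i, g i = ∑ i : Fin δ, g (Fin.castLE hδ i) := by
  have : ∑ i : Fin δ, g (Fin.castLE hδ i) = ∑ x ∈ Finset.univ.map (Fin.castLEEmb hδ), g x := by
    rw [Finset.sum_map]; rfl
  rw [this]
  symm
  apply Finset.sum_subset (Finset.subset_univ _)
  intro i _ hi
  apply hg
  by_contra hlt
  push Not at hlt
  apply hi
  rw [Finset.mem_map]
  exact ⟨⟨i, hlt⟩, Finset.mem_univ _, Fin.ext rfl⟩

/-- padding an antitone vector of nonnegative integers by zeros -/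
lemma pad {δ N : ℕ} (hδ : δ ≤ N) (y : Fin δ → ℤ) (hanti : ∀ i j : Fin δ, i ≤ j → y j ≤ y i)
    (h0 : ∀ i, 0 ≤ y i) (B : ℕ) (hB : ∀ i, y i ≤ B) :
    ∃ C : Fin N → ℕ, (∀ i j : Fin N, i ≤ j → C j ≤ C i) ∧
      (∀ i : Fin δ, (C (Fin.castLE hδ i) : ℤ) = y i) ∧ (∀ i : Fin N, δ ≤ (i : ℕ) → C i = 0) ∧
      (∀ i, C i ≤ B) ∧
      ∑ i, (C i : ℤ) = ∑ i, y i ∧ ∑ i, (C i : ℤ) ^ 2 = ∑ i, y i ^ 2 := by
  refine ⟨fun i => if h : (i : ℕ) < δ then (y ⟨i, h⟩).toNat else 0, ?_, ?_, ?_, ?_, ?_, ?_⟩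
  · intro i j hij
    by_cases hj : (j : ℕ) < δ
    · have hi : (i : ℕ) < δ := lt_of_le_of_lt hij hj
      simp only [dif_pos hj, dif_pos hi]
      exact Int.toNat_le_toNat (hanti ⟨i, hi⟩ ⟨j, hj⟩ hij)
    · simp only [dif_neg hj]
      exact Nat.zero_le _
  · intro i
    have hi : ((Fin.castLE hδ i : Fin N) : ℕ) < δ := i.2
    simp only [dif_pos hi]
    rw [Int.toNat_of_nonneg (h0 _)]
    rfl
  · intro i hi
    simp only [dif_neg (not_lt.mpr hi)]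
  · intro i
    by_cases hi : (i : ℕ) < δ
    · simp only [dif_pos hi]
      have := hB ⟨i, hi⟩
      have h0' := h0 ⟨i, hi⟩
      omega
    · simp only [dif_neg hi]
      exact Nat.zero_le _
  · rw [sum_castLE hδ]
    · apply Finset.sum_congr rfl
      intro i _
      have hi : ((Fin.castLE hδ i : Fin N) : ℕ) < δ := i.2
      simp only [dif_pos hi]
      rw [Int.toNat_of_nonneg (h0 _)]
      rfl
    · intro i hi
      simp only [dif_neg (not_lt.mpr hi)]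
      rfl
  · rw [sum_castLE hδ]
    · apply Finset.sum_congr rfl
      intro i _
      have hi : ((Fin.castLE hδ i : Fin N) : ℕ) < δ := i.2
      simp only [dif_pos hi]
      rw [Int.toNat_of_nonneg (h0 _)]
      rfl
    · intro i hi
      simp only [dif_neg (not_lt.mpr hi)]
      rfl

lemma isConic_map {g : DP δ ≃ₗ[ℤ] DP δ} (hg : IsWeyl g) {v : DP δ} (hv : IsConic v) :
    IsConic (g v) := by
  constructor
  · rw [hg.1]; exact hv.1
  · have := hg.1 (canon δ) v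
    rw [hg.2] at this
    rw [this]; exact hv.2

/-- same orbit under the Weyl group -/
def RelW (x y : DP δ) : Prop := ∃ g : DP δ ≃ₗ[ℤ] DP δ, IsWeyl g ∧ g x = y

lemma RelW.rfl' (x : DP δ) : RelW x x := ⟨LinearEquiv.refl ℤ _, isWeyl_refl', rfl⟩

lemma RelW.trans {x y z : DP δ} (h1 : RelW x y) (h2 : RelW y z) : RelW x z := by
  obtain ⟨g, hg, rfl⟩ := h1
  obtain ⟨h, hh, rfl⟩ := h2
  exact ⟨g.trans h, isWeyl_trans hg hh, rfl⟩

/-- the standard conic `ℓ - e₁` -/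
def Fc (δ : ℕ) : DP δ := fun i => if (i : ℕ) ≤ 1 then 1 else 0

end H21.DPCon
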