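import Mathlib
import Groth.Agent.H21.DPConBase

set_option autoImplicit false

open W4c3severiratdp

namespace H21.DPCon

open H21.DPWeyl H21.DPConic

variable {δ : ℕ}

theorem stepI (hδ : δ ≤ 8) (n : ℕ) : ∀ (x : DP δ), IsConic x → x 0 = n → RelW x (Fc δ) := by
  induction n using Nat.strong_induction_on with
  | _ n ih =>
    intro x hx hxn
    obtain ⟨σ, hσ⟩ : ∃ σ : Equiv.Perm (Fin δ),
        σ = (Fin.revPerm).trans (Tuple.sort (fun i : Fin δ => x i.succ)) := ⟨_, rfl⟩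
    obtain ⟨y, hy⟩ : ∃ y : DP δ, y = permL σ x := ⟨_, rfl⟩
    have hxy : RelW x y := ⟨permL σ, isWeyl_permL σ, hy.symm⟩
    have hyC : IsConic y := hy ▸ isConic_map (isWeyl_permL _) hx
    have hy0 : y 0 = x 0 := by rw [hy]; rfl
    have hanti : ∀ i j : Fin δ, i ≤ j → y j.succ ≤ y i.succ := by
      intro i j hij
      rw [hy, permL_succ, permL_succ, hσ]
      have := Tuple.monotone_sort (fun i : Fin δ => x i.succ) (Fin.rev_le_rev.mpr hij)
      simpa using this
    obtain ⟨h2, h1⟩ := (isConic_iff y).mp hyC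
    obtain ⟨ha1, ha11⟩ := bound_a hδ (y 0) (fun i => y i.succ) h2 h1
    have hb := bound_b hδ (y 0) (fun i => y i.succ) h2 h1
    obtain ⟨C, hCanti, hCy, hCz, hC4, hs1, hs2⟩ :=
      pad hδ (fun i => y i.succ) hanti (fun i => (hb i).1) 4 (fun i => (hb i).2)
    rw [Fin.sum_univ_eight] at hs1 hs2
    obtain ⟨A, hA⟩ := Int.eq_ofNat_of_zero_le (by omega : 0 ≤ y 0)
    have eq1 : C 0 + C 1 + C 2 + C 3 + C 4 + C 5 + C 6 + C 7 + 2 = 3 * A := by
      have : ((C 0 : ℤ) + C 1 + C 2 + C 3 + C 4 + C 5 + C 6 + C 7 + 2 = 3 * A) := by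
        rw [hs1, ← hA]; linarith
      exact_mod_cast this
    have eq2 : C 0 ^ 2 + C 1 ^ 2 + C 2 ^ 2 + C 3 ^ 2 + C 4 ^ 2 + C 5 ^ 2 + C 6 ^ 2 + C 7 ^ 2 = A ^ 2 := by
      have : ((C 0 : ℤ) ^ 2 + C 1 ^ 2 + C 2 ^ 2 + C 3 ^ 2 + C 4 ^ 2 + C 5 ^ 2 + C 6 ^ 2 + C 7 ^ 2 = A ^ 2) := by
        rw [hs2, ← h2, hA]
      exact_mod_cast this
    have a01 := hCanti 0 1 (by decide)
    have a12 := hCanti 1 2 (by decide)
    have a23 := hCanti 2 3 (by decide)
    have a34 := hCanti 3 4 (by decide)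
    have a45 := hCanti 4 5 (by decide)
    have a56 := hCanti 5 6 (by decide)
    have a67 := hCanti 6 7 (by decide)
    have t0 := hC4 0
    have key := searchI A (by rw [Finset.mem_range]; omega) (C 0) (by rw [Finset.mem_range]; omega)
      (C 1) (by rw [Finset.mem_range]; omega) (C 2) (by rw [Finset.mem_range]; omega)
      (C 3) (by rw [Finset.mem_range]; omega) (C 4) (by rw [Finset.mem_range]; omega)
      (C 5) (by rw [Finset.mem_range]; omega) (C 6) (by rw [Finset.mem_range]; omega)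
      (C 7) (by rw [Finset.mem_range]; omega) eq1 eq2
    rcases key with ⟨hlt, hC2⟩ | ⟨hA1, c0, c1, c2, c3, c4, c5, c6, c7⟩
    · -- descent
      have h3 : 2 < δ := by
        by_contra h
        push Not at h
        have := hCz 2 h
        omega
      obtain ⟨i0, hi0⟩ : ∃ i : Fin δ, (i : ℕ) = 0 := ⟨⟨0, by omega⟩, rfl⟩
      obtain ⟨i1, hi1⟩ : ∃ i : Fin δ, (i : ℕ) = 1 := ⟨⟨1, by omega⟩, rfl⟩
      obtain ⟨i2, hi2⟩ : ∃ i : Fin δ, (i : ℕ) = 2 := ⟨⟨2, by omega⟩, rfl⟩
      have e0 : (C 0 : ℤ) = y i0.succ := by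
        rw [← hCy i0]; congr 2; exact Fin.ext hi0.symm
      have e1 : (C 1 : ℤ) = y i1.succ := by
        rw [← hCy i1]; congr 2; exact Fin.ext hi1.symm
      have e2 : (C 2 : ℤ) = y i2.succ := by
        rw [← hCy i2]; congr 2; exact Fin.ext hi2.symm
      have hsq := αQ_sq i0 i1 i2 hi0 hi1 hi2
      have hK := αQ_K i0 i1 i2 hi0 hi1 hi2
      obtain ⟨z, hz⟩ : ∃ z : DP δ, z = refl (αQ δ) hsq y := ⟨_, rfl⟩
      have hyz : RelW y z := ⟨refl (αQ δ) hsq, isWeyl_refl _ _ hK, hz.symm⟩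
      have hzC : IsConic z := hz ▸ isConic_map (isWeyl_refl _ _ hK) hyC
      have hf : form y (αQ δ) < 0 := by
        rw [form_αQ y i0 i1 i2 hi0 hi1 hi2, ← e0, ← e1, ← e2, hA]
        have : (A : ℤ) < C 0 + C 1 + C 2 := by exact_mod_cast hlt
        omega
      have hz0 : z 0 = y 0 + form y (αQ δ) := by
        rw [hz, refl_apply]
        simp [αQ_zero]
      obtain ⟨hz2, hz1'⟩ := (isConic_iff z).mp hzC
      obtain ⟨hza, -⟩ := bound_a hδ (z 0) (fun i => z i.succ) hz2 hz1'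
      obtain ⟨n', hn'⟩ := Int.eq_ofNat_of_zero_le (by omega : 0 ≤ z 0)
      have hlt' : n' < n := by
        have : (n' : ℤ) < n := by rw [← hn', ← hxn, ← hy0]; omega
        exact_mod_cast this
      exact hxy.trans (hyz.trans (ih n' hlt' z hzC hn'))
    · -- terminal
      have hC : ∀ k : Fin 8, C k = if (k : ℕ) = 0 then 1 else 0 := by
        intro k
        fin_cases k <;> simp [c0, c1, c2, c3, c4, c5, c6, c7]
      have : y = Fc δ := by
        funext i
        refine Fin.cases ?_ (fun j => ?_) i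
        · rw [hA, hA1]; simp [Fc]
        · have := hCy j
          rw [hC] at this
          simp only [Fin.val_castLE] at this
          rw [← this]
          simp only [Fc, Fin.val_succ]
          by_cases hj : (j : ℕ) = 0
          · rw [if_pos hj, if_pos (by omega)]; rfl
          · rw [if_neg hj, if_neg (by omega)]; rfl
      rw [← this]
      exact hxy

end H21.DPCon
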