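import Mathlib
import Groth.Agent.H21.DPConStepI

set_option autoImplicit false

open W4c3severiratdp

namespace H21.DPCon

open H21.DPWeyl H21.DPConic

variable {δ' : ℕ}

/-- same orbit under the stabilizer of `Fc` -/
def RelF {δ : ℕ} (x y : DP δ) : Prop :=
  ∃ g : DP δ ≃ₗ[ℤ] DP δ, IsWeyl g ∧ g (Fc δ) = Fc δ ∧ g x = y

lemma RelF.rfl' {δ : ℕ} (x : DP δ) : RelF x x := ⟨LinearEquiv.refl ℤ _, isWeyl_refl', rfl, rfl⟩

lemma RelF.trans {δ : ℕ} {x y z : DP δ} (h1 : RelF x y) (h2 : RelF y z) : RelF x z := by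
  obtain ⟨g, hg, hgE, rfl⟩ := h1
  obtain ⟨h, hh, hhE, rfl⟩ := h2
  exact ⟨g.trans h, isWeyl_trans hg hh, by rw [LinearEquiv.trans_apply, hgE, hhE], rfl⟩

lemma RelF.symm {δ : ℕ} {x y : DP δ} (h1 : RelF x y) : RelF y x := by
  obtain ⟨g, hg, hgE, rfl⟩ := h1
  refine ⟨g.symm, isWeyl_symm hg, ?_, LinearEquiv.symm_apply_apply _ _⟩
  conv_lhs => rw [← hgE]
  exact LinearEquiv.symm_apply_apply _ _

/-- the list of standard forms -/
def StdData (a m : ℤ) (C : Fin 7 → ℕ) : Prop :=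
  (a = 1 ∧ m = 1 ∧ C = ![0, 0, 0, 0, 0, 0, 0]) ∨
    (a = 1 ∧ m = 0 ∧ C = ![1, 0, 0, 0, 0, 0, 0]) ∨
    (a = 2 ∧ m = 0 ∧ C = ![1, 1, 1, 1, 0, 0, 0]) ∨
    (a = 3 ∧ m = 0 ∧ C = ![2, 1, 1, 1, 1, 1, 0]) ∨
    (a = 4 ∧ m = 0 ∧ C = ![2, 2, 2, 1, 1, 1, 1]) ∨
    (a = 5 ∧ m = 1 ∧ C = ![2, 2, 2, 2, 2, 2, 0]) ∨
    (a = 5 ∧ m = 0 ∧ C = ![2, 2, 2, 2, 2, 2, 1]) ∨
    (a = 7 ∧ m = 1 ∧ C = ![3, 3, 3, 3, 2, 2, 2]) ∨
    (a = 8 ∧ m = 1 ∧ C = ![3, 3, 3, 3, 3, 3, 3]) ∨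
    (a = 11 ∧ m = 3 ∧ C = ![4, 4, 4, 4, 4, 4, 4])

/-- standard forms -/
def IsStd (T : DP (δ' + 1)) : Prop :=
  ∃ (hδ : δ' ≤ 7) (C : Fin 7 → ℕ), (∀ i : Fin δ', T i.succ.succ = C (Fin.castLE hδ i)) ∧
    (∀ i : Fin 7, δ' ≤ (i : ℕ) → C i = 0) ∧ StdData (T 0) (T 1) C

/-- extend a permutation -/
noncomputable def extP (σ : Equiv.Perm (Fin δ')) : Equiv.Perm (Fin (δ' + 1)) :=
  Equiv.Perm.decomposeFin.symm (0, σ)

lemma extP_zero (σ : Equiv.Perm (Fin δ')) : extP σ 0 = 0 :=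
  Equiv.Perm.decomposeFin_symm_apply_zero _ _

lemma extP_succ (σ : Equiv.Perm (Fin δ')) (i : Fin δ') : extP σ i.succ = (σ i).succ := by
  rw [extP, Equiv.Perm.decomposeFin_symm_apply_succ, Equiv.swap_self, Equiv.refl_apply]

lemma Fc_zero {δ : ℕ} : Fc δ 0 = 1 := by simp [Fc]
lemma Fc_one : Fc (δ' + 1) (Fin.succ 0) = 1 := by simp [Fc]
lemma Fc_succ_succ (i : Fin δ') : Fc (δ' + 1) i.succ.succ = 0 := by simp [Fc]

lemma relF_perm (σ : Equiv.Perm (Fin δ')) (x : DP (δ' + 1)) : RelF x (permL (extP σ) x) := by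
  refine ⟨permL (extP σ), isWeyl_permL _, ?_, rfl⟩
  ext i
  refine Fin.cases ?_ (fun j => ?_) i
  · rfl
  · rw [permL_succ]
    refine Fin.cases ?_ (fun k => ?_) j
    · rw [extP_zero]
    · rw [extP_succ, Fc_succ_succ, Fc_succ_succ]

lemma form_Fc (x : DP (δ' + 1)) : form x (Fc (δ' + 1)) = x 0 - x (Fin.succ 0) := by
  unfold form
  rw [Fin.sum_univ_succ, Fc_zero, Fc_one]
  simp only [Fc_succ_succ, mul_zero, Finset.sum_const_zero, add_zero, mul_one]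

lemma vec7_eq (C : Fin 7 → ℕ) : C = ![C 0, C 1, C 2, C 3, C 4, C 5, C 6] := by
  funext i
  fin_cases i <;> rfl

theorem stepII (hδ : δ' + 1 ≤ 8) (n : ℕ) :
    ∀ (x : DP (δ' + 1)), IsConic x → x 0 = n → ∃ T, RelF x T ∧ IsStd T := by
  induction n using Nat.strong_induction_on with
  | _ n ih =>
    intro x hx hxn
    have hδ7 : δ' ≤ 7 := by omega
    obtain ⟨σ, hσ⟩ : ∃ σ : Equiv.Perm (Fin δ'),
        σ = (Fin.revPerm).trans (Tuple.sort (fun i : Fin δ' => x i.succ.succ)) := ⟨_, rfl⟩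
    obtain ⟨y, hy⟩ : ∃ y : DP (δ' + 1), y = permL (extP σ) x := ⟨_, rfl⟩
    have hxy : RelF x y := hy ▸ relF_perm σ x
    have hyC : IsConic y := hy ▸ isConic_map (isWeyl_permL _) hx
    have hy0 : y 0 = x 0 := by rw [hy]; rfl
    have hanti : ∀ i j : Fin δ', i ≤ j → y j.succ.succ ≤ y i.succ.succ := by
      intro i j hij
      rw [hy, permL_succ, permL_succ, extP_succ, extP_succ, hσ]
      have := Tuple.monotone_sort (fun i : Fin δ' => x i.succ.succ) (Fin.rev_le_rev.mpr hij)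
      simpa using this
    obtain ⟨h2, h1⟩ := (isConic_iff y).mp hyC
    obtain ⟨ha1, ha11⟩ := bound_a hδ (y 0) (fun i => y i.succ) h2 h1
    have hb := bound_b hδ (y 0) (fun i => y i.succ) h2 h1
    obtain ⟨C, hCanti, hCy, hCz, hC4, hs1, hs2⟩ :=
      pad hδ7 (fun i => y i.succ.succ) hanti (fun i => (hb i.succ).1) 4 (fun i => (hb i.succ).2)
    rw [Fin.sum_univ_seven] at hs1 hs2
    rw [Fin.sum_univ_succ] at h1 h2
    obtain ⟨A, hA⟩ := Int.eq_ofNat_of_zero_le (by omega : 0 ≤ y 0)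
    obtain ⟨M, hM⟩ := Int.eq_ofNat_of_zero_le (hb 0).1
    have hM4 := (hb 0).2
    have eq1 : M + C 0 + C 1 + C 2 + C 3 + C 4 + C 5 + C 6 + 2 = 3 * A := by
      have : ((M : ℤ) + C 0 + C 1 + C 2 + C 3 + C 4 + C 5 + C 6 + 2 = 3 * A) := by
        rw [← hA, ← hM]; linarith
      exact_mod_cast this
    have eq2 : M ^ 2 + C 0 ^ 2 + C 1 ^ 2 + C 2 ^ 2 + C 3 ^ 2 + C 4 ^ 2 + C 5 ^ 2 + C 6 ^ 2 = A ^ 2 := by
      have : ((M : ℤ) ^ 2 + C 0 ^ 2 + C 1 ^ 2 + C 2 ^ 2 + C 3 ^ 2 + C 4 ^ 2 + C 5 ^ 2 + C 6 ^ 2 = A ^ 2) := by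
        rw [← hA, ← hM]; linarith
      exact_mod_cast this
    have a01 := hCanti 0 1 (by decide)
    have a12 := hCanti 1 2 (by decide)
    have a23 := hCanti 2 3 (by decide)
    have a34 := hCanti 3 4 (by decide)
    have a45 := hCanti 4 5 (by decide)
    have a56 := hCanti 5 6 (by decide)
    have t0 := hC4 0
    have key := searchII A (by rw [Finset.mem_range]; omega) M (by rw [Finset.mem_range]; omega)
      (C 0) (by rw [Finset.mem_range]; omega)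
      (C 1) (by rw [Finset.mem_range]; omega) (C 2) (by rw [Finset.mem_range]; omega)
      (C 3) (by rw [Finset.mem_range]; omega) (C 4) (by rw [Finset.mem_range]; omega)
      (C 5) (by rw [Finset.mem_range]; omega) (C 6) (by rw [Finset.mem_range]; omega) (by omega) (by omega)
    rcases key with ⟨hlt, hC1⟩ | hstd
    · -- descent
      have h3 : 1 < δ' := by
        by_contra h
        push Not at h
        have := hCz 1 h
        omega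
      obtain ⟨j0, hj0⟩ : ∃ i : Fin δ', (i : ℕ) = 0 := ⟨⟨0, by omega⟩, rfl⟩
      obtain ⟨j1, hj1⟩ : ∃ i : Fin δ', (i : ℕ) = 1 := ⟨⟨1, by omega⟩, rfl⟩
      have e0 : (C 0 : ℤ) = y j0.succ.succ := by
        rw [← hCy j0]; congr 2; exact Fin.ext hj0.symm
      have e1 : (C 1 : ℤ) = y j1.succ.succ := by
        rw [← hCy j1]; congr 2; exact Fin.ext hj1.symm
      have hi0 : ((0 : Fin (δ' + 1)) : ℕ) = 0 := rfl
      have hi1 : ((j0.succ : Fin (δ' + 1)) : ℕ) = 1 := by rw [Fin.val_succ, hj0]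
      have hi2 : ((j1.succ : Fin (δ' + 1)) : ℕ) = 2 := by rw [Fin.val_succ, hj1]
      have hsq := αQ_sq (0 : Fin (δ' + 1)) j0.succ j1.succ hi0 hi1 hi2
      have hK := αQ_K (0 : Fin (δ' + 1)) j0.succ j1.succ hi0 hi1 hi2
      obtain ⟨z, hz⟩ : ∃ z : DP (δ' + 1), z = refl (αQ (δ' + 1)) hsq y := ⟨_, rfl⟩
      have hyz : RelF y z := by
        refine ⟨refl (αQ (δ' + 1)) hsq, isWeyl_refl _ _ hK, ?_, hz.symm⟩
        rw [refl_apply, form_αQ _ (0 : Fin (δ' + 1)) j0.succ j1.succ hi0 hi1 hi2, Fc_zero, Fc_one,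
          Fc_succ_succ, Fc_succ_succ]
        simp
      have hzC : IsConic z := hz ▸ isConic_map (isWeyl_refl _ _ hK) hyC
      have hf : form y (αQ (δ' + 1)) < 0 := by
        rw [form_αQ y (0 : Fin (δ' + 1)) j0.succ j1.succ hi0 hi1 hi2, ← e0, ← e1, hA, hM]
        have : (A : ℤ) < M + C 0 + C 1 := by exact_mod_cast hlt
        omega
      have hz0 : z 0 = y 0 + form y (αQ (δ' + 1)) := by
        rw [hz, refl_apply]
        simp [αQ_zero]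
      obtain ⟨hz2, hz1'⟩ := (isConic_iff z).mp hzC
      obtain ⟨hza, -⟩ := bound_a hδ (z 0) (fun i => z i.succ) hz2 hz1'
      obtain ⟨n', hn'⟩ := Int.eq_ofNat_of_zero_le (by omega : 0 ≤ z 0)
      have hlt' : n' < n := by
        have : (n' : ℤ) < n := by rw [← hn', ← hxn, ← hy0]; omega
        exact_mod_cast this
      obtain ⟨T, hzT, hT⟩ := ih n' hlt' z hzC hn'
      exact ⟨T, hxy.trans (hyz.trans hzT), hT⟩
    · -- terminal
      refine ⟨y, hxy, hδ7, C, fun i => (hCy i).symm, hCz, ?_⟩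
      rw [← Fin.succ_zero_eq_one, hA, hM]
      unfold StdData
      rcases hstd with ⟨hA', hM', c0, c1, c2, c3, c4, c5, c6⟩ | ⟨hA', hM', c0, c1, c2, c3, c4, c5, c6⟩ | ⟨hA', hM', c0, c1, c2, c3, c4, c5, c6⟩ | ⟨hA', hM', c0, c1, c2, c3, c4, c5, c6⟩ | ⟨hA', hM', c0, c1, c2, c3, c4, c5, c6⟩ | ⟨hA', hM', c0, c1, c2, c3, c4, c5, c6⟩ | ⟨hA', hM', c0, c1, c2, c3, c4, c5, c6⟩ | ⟨hA', hM', c0, c1, c2, c3, c4, c5, c6⟩ | ⟨hA', hM', c0, c1, c2, c3, c4, c5, c6⟩ | ⟨hA', hM', c0, c1, c2, c3, c4, c5, c6⟩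
      all_goals
        rw [vec7_eq C, c0, c1, c2, c3, c4, c5, c6, hA', hM']
        decide

end H21.DPCon
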