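import Mathlib
import Groth.Agent.H21.DPConStepII

set_option autoImplicit false

open W4c3severiratdp

namespace H21.DPCon

open H21.DPWeyl H21.DPConic

variable {δ' : ℕ}

lemma std_unique {T T' : DP (δ' + 1)} (hT : IsStd T) (hT' : IsStd T')
    (hm : T 0 - T 1 = T' 0 - T' 1) (hexc : ¬ (δ' = 7 ∧ T 0 - T 1 = 4)) : T = T' := by
  obtain ⟨hδ, C, hC, hCz, hS⟩ := hT
  obtain ⟨hδ2, C', hC', hCz', hS'⟩ := hT'
  have key : T 0 = T' 0 ∧ T 1 = T' 1 ∧ C = C' := by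
    unfold StdData at hS hS'
    rcases hS with ⟨ha, hm, rfl⟩ | ⟨ha, hm, rfl⟩ | ⟨ha, hm, rfl⟩ | ⟨ha, hm, rfl⟩ | ⟨ha, hm, rfl⟩ | ⟨ha, hm, rfl⟩ | ⟨ha, hm, rfl⟩ | ⟨ha, hm, rfl⟩ | ⟨ha, hm, rfl⟩ | ⟨ha, hm, rfl⟩ <;>
    rcases hS' with ⟨ha', hm', rfl⟩ | ⟨ha', hm', rfl⟩ | ⟨ha', hm', rfl⟩ | ⟨ha', hm', rfl⟩ | ⟨ha', hm', rfl⟩ | ⟨ha', hm', rfl⟩ | ⟨ha', hm', rfl⟩ | ⟨ha', hm', rfl⟩ | ⟨ha', hm', rfl⟩ | ⟨ha', hm', rfl⟩ <;>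
    first
      | exact ⟨by omega, by omega, rfl⟩
      | (exfalso; omega)
      | (exfalso
         have h6 := hCz 6
         have h6' := hCz' 6
         simp at h6 h6'
         omega)
  obtain ⟨k0, k1, rfl⟩ := key
  funext i
  refine Fin.cases k0 (fun j => ?_) i
  refine Fin.cases ?_ (fun k => ?_) j
  · rw [Fin.succ_zero_eq_one]; exact k1
  · rw [hC, hC']

lemma stepI' {δ : ℕ} (hδ : δ ≤ 8) (x : DP δ) (hx : IsConic x) : RelW x (Fc δ) := by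
  obtain ⟨h2, h1⟩ := (isConic_iff x).mp hx
  obtain ⟨ha1, -⟩ := bound_a hδ (x 0) (fun i => x i.succ) h2 h1
  obtain ⟨n, hn⟩ := Int.eq_ofNat_of_zero_le (by omega : 0 ≤ x 0)
  exact stepI hδ n x hx hn

lemma stepII' (hδ : δ' + 1 ≤ 8) (x : DP (δ' + 1)) (hx : IsConic x) : ∃ T, RelF x T ∧ IsStd T := by
  obtain ⟨h2, h1⟩ := (isConic_iff x).mp hx
  obtain ⟨ha1, -⟩ := bound_a hδ (x 0) (fun i => x i.succ) h2 h1
  obtain ⟨n, hn⟩ := Int.eq_ofNat_of_zero_le (by omega : 0 ≤ x 0)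
  exact stepII hδ n x hx hn

lemma relF_form {x T : DP (δ' + 1)} (h : RelF x T) : T 0 - T 1 = form x (Fc (δ' + 1)) := by
  obtain ⟨g, hg, hgF, rfl⟩ := h
  rw [← Fin.succ_zero_eq_one, ← form_Fc, ← hg.1 x, hgF]

theorem pairs_trans (δ : ℕ) (h2 : 2 ≤ δ) (h8 : δ ≤ 8)
    (v₁ v₂ w₁ w₂ : DP δ) (hv₁ : IsConic v₁) (hv₂ : IsConic v₂) (hw₁ : IsConic w₁) (hw₂ : IsConic w₂)
    (heq : form v₁ v₂ = form w₁ w₂) (hexc : ¬ (δ = 8 ∧ form v₁ v₂ = 4)) :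
    ∃ g : DP δ ≃ₗ[ℤ] DP δ, IsWeyl g ∧ g v₁ = w₁ ∧ g v₂ = w₂ := by
  obtain ⟨δ', rfl⟩ : ∃ δ', δ = δ' + 1 := ⟨δ - 1, by omega⟩
  obtain ⟨kv, hkv, hkv1⟩ := stepI' h8 v₁ hv₁
  obtain ⟨kw, hkw, hkw1⟩ := stepI' h8 w₁ hw₁
  obtain ⟨T, hxT, hT⟩ := stepII' h8 (kv v₂) (isConic_map hkv hv₂)
  obtain ⟨T', hxT', hT'⟩ := stepII' h8 (kw w₂) (isConic_map hkw hw₂)
  have m1 : T 0 - T 1 = form v₁ v₂ := by
    rw [relF_form hxT, ← hkv1, hkv.1, form_comm]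
  have m2 : T' 0 - T' 1 = form w₁ w₂ := by
    rw [relF_form hxT', ← hkw1, hkw.1, form_comm]
  have hTT : T = T' := by
    apply std_unique hT hT'
    · rw [m1, m2, heq]
    · rw [m1]
      intro h
      exact hexc ⟨by omega, h.2⟩
  obtain ⟨g, hg, hgF, hgx⟩ := hxT
  obtain ⟨g', hg', hg'F, hg'x⟩ := hxT'
  refine ⟨kv.trans (g.trans (g'.symm.trans kw.symm)),
    isWeyl_trans hkv (isWeyl_trans hg (isWeyl_trans (isWeyl_symm hg') (isWeyl_symm hkw))), ?_, ?_⟩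
  · simp only [LinearEquiv.trans_apply]
    rw [hkv1, hgF]
    conv_lhs => rw [← hg'F]
    rw [LinearEquiv.symm_apply_apply, ← hkw1, LinearEquiv.symm_apply_apply]
  · simp only [LinearEquiv.trans_apply]
    rw [hgx, hTT, ← hg'x, LinearEquiv.symm_apply_apply, LinearEquiv.symm_apply_apply]

end H21.DPCon
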