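import Mathlib
import Groth.Agent.H21.DPConPairs

set_option autoImplicit false

open W4c3severiratdp

namespace H21.DPCon

open H21.DPWeyl H21.DPConic

lemma isConic_vec (a b1 b2 b3 b4 b5 b6 b7 b8 : ℤ)
    (h2 : a ^ 2 = b1 ^ 2 + b2 ^ 2 + b3 ^ 2 + b4 ^ 2 + b5 ^ 2 + b6 ^ 2 + b7 ^ 2 + b8 ^ 2)
    (h1 : 3 * a - (b1 + b2 + b3 + b4 + b5 + b6 + b7 + b8) = 2) :
    IsConic (![a, b1, b2, b3, b4, b5, b6, b7, b8] : DP 8) := by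
  rw [isConic_iff, Fin.sum_univ_eight, Fin.sum_univ_eight]
  exact ⟨h2, h1⟩

lemma form_vec8 (a b1 b2 b3 b4 b5 b6 b7 b8 a' c1 c2 c3 c4 c5 c6 c7 c8 : ℤ) :
    form (![a, b1, b2, b3, b4, b5, b6, b7, b8] : DP 8) ![a', c1, c2, c3, c4, c5, c6, c7, c8] =
      a * a' - (b1 * c1 + b2 * c2 + b3 * c3 + b4 * c4 + b5 * c5 + b6 * c6 + b7 * c7 + b8 * c8) := by
  unfold form
  rw [Fin.sum_univ_eight]
  rfl

/-- the three vectors -/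
def P1 : DP 8 := ![1, 1, 0, 0, 0, 0, 0, 0, 0]
def Ta : DP 8 := ![4, 0, 2, 2, 2, 1, 1, 1, 1]
def Tb : DP 8 := ![5, 1, 2, 2, 2, 2, 2, 2, 0]

lemma P1_eq : Fc (7 + 1) = P1 := by
  funext i
  fin_cases i <;> rfl

lemma std_four {T : DP (7 + 1)} (hT : IsStd T) (hm : T 0 - T 1 = 4) : T = Ta ∨ T = Tb := by
  obtain ⟨hδ, C, hC, hCz, hS⟩ := hT
  have hC' : ∀ k : Fin 7, T k.succ.succ = (C k : ℤ) := by
    intro k
    rw [hC]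
    rfl
  have hvec : T = ![T 0, T 1, T 2, T 3, T 4, T 5, T 6, T 7, T 8] := by
    funext i
    fin_cases i <;> rfl
  have e2 : T 2 = C 0 := hC' 0
  have e3 : T 3 = C 1 := hC' 1
  have e4 : T 4 = C 2 := hC' 2
  have e5 : T 5 = C 3 := hC' 3
  have e6 : T 6 = C 4 := hC' 4
  have e7 : T 7 = C 5 := hC' 5
  have e8 : T 8 = C 6 := hC' 6
  unfold StdData at hS
  rcases hS with ⟨ha, hm', rfl⟩ | ⟨ha, hm', rfl⟩ | ⟨ha, hm', rfl⟩ | ⟨ha, hm', rfl⟩ | ⟨ha, hm', rfl⟩ | ⟨ha, hm', rfl⟩ | ⟨ha, hm', rfl⟩ | ⟨ha, hm', rfl⟩ | ⟨ha, hm', rfl⟩ | ⟨ha, hm', rfl⟩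
  all_goals first
    | (exfalso; omega)
    | (left; rw [hvec, ha, hm', e2, e3, e4, e5, e6, e7, e8]; rfl)
    | (right; rw [hvec, ha, hm', e2, e3, e4, e5, e6, e7, e8]; rfl)

theorem two_orbits :
    ∃ p₁ p₂ q₁ q₂ : DP 8, IsConic p₁ ∧ IsConic p₂ ∧ IsConic q₁ ∧ IsConic q₂ ∧ form p₁ p₂ = 4 ∧ form q₁ q₂ = 4 ∧
      (¬ ∃ g : DP 8 ≃ₗ[ℤ] DP 8, IsWeyl g ∧ g p₁ = q₁ ∧ g p₂ = q₂) ∧
      ∀ v₁ v₂ : DP 8, IsConic v₁ → IsConic v₂ → form v₁ v₂ = 4 →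
        ∃ g : DP 8 ≃ₗ[ℤ] DP 8, IsWeyl g ∧ ((g v₁ = p₁ ∧ g v₂ = p₂) ∨ (g v₁ = q₁ ∧ g v₂ = q₂)) := by
  have c1 : IsConic P1 := isConic_vec _ _ _ _ _ _ _ _ _ (by norm_num) (by norm_num)
  have ca : IsConic Ta := isConic_vec _ _ _ _ _ _ _ _ _ (by norm_num) (by norm_num)
  have cb : IsConic Tb := isConic_vec _ _ _ _ _ _ _ _ _ (by norm_num) (by norm_num)
  refine ⟨P1, Ta, P1, Tb, c1, ca, c1, cb, ?_, ?_, ?_, ?_⟩
  · rw [P1, Ta, form_vec8]; norm_num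
  · rw [P1, Tb, form_vec8]; norm_num
  · rintro ⟨g, -, h1, h2⟩
    have hsum : g (P1 + Ta) = (2 : ℤ) • (![3, 1, 1, 1, 1, 1, 1, 1, 0] : DP 8) := by
      rw [map_add, h1, h2]
      funext i
      fin_cases i <;> rfl
    have : P1 + Ta = (2 : ℤ) • g.symm (![3, 1, 1, 1, 1, 1, 1, 1, 0] : DP 8) := by
      rw [← map_smul, ← hsum, LinearEquiv.symm_apply_apply]
    have h0 := congrFun this 0
    have e : (P1 + Ta) 0 = 5 := rfl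
    rw [e, Pi.smul_apply, smul_eq_mul] at h0
    omega
  · intro v₁ v₂ hv₁ hv₂ hm
    obtain ⟨kv, hkv, hkv1⟩ := stepI' (le_refl 8) v₁ hv₁
    obtain ⟨T, hxT, hT⟩ := stepII' (δ' := 7) (le_refl 8) (kv v₂) (isConic_map hkv hv₂)
    have m1 : T 0 - T 1 = 4 := by
      rw [relF_form hxT]
      change form (kv v₂) (Fc 8) = 4
      rw [← hkv1, hkv.1, form_comm]
      exact hm
    obtain ⟨g, hg, hgF, hgx⟩ := hxT
    refine ⟨kv.trans g, isWeyl_trans hkv hg, ?_⟩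
    have e1 : (kv.trans g) v₁ = P1 := by
      rw [LinearEquiv.trans_apply, hkv1]
      change g (Fc (7 + 1)) = P1
      rw [hgF, P1_eq]
    rcases std_four hT m1 with h | h
    · left
      exact ⟨e1, by rw [LinearEquiv.trans_apply, hgx, h]⟩
    · right
      exact ⟨e1, by rw [LinearEquiv.trans_apply, hgx, h]⟩

end H21.DPCon
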