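import Mathlib
import Groth.Agent.H21.DPConic

set_option autoImplicit false

open W4c3severiratdp

namespace H21.DPConic

set_option maxRecDepth 100000 in
set_option synthInstance.maxSize 100000 in
set_option synthInstance.maxHeartbeats 0 in
set_option maxHeartbeats 0 in
/-- the finite search -/
lemma classify : ∀ a ∈ Finset.range 12, ∀ c0 ∈ Finset.range 5, ∀ c1 ∈ Finset.range (c0 + 1), ∀ c2 ∈ Finset.range (c1 + 1), ∀ c3 ∈ Finset.range (c2 + 1), ∀ c4 ∈ Finset.range (c3 + 1), ∀ c5 ∈ Finset.range (c4 + 1), ∀ c6 ∈ Finset.range (c5 + 1), ∀ c7 ∈ Finset.range (c6 + 1),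
    c0 + c1 + c2 + c3 + c4 + c5 + c6 + c7 + 2 = 3 * a → c0 ^ 2 + c1 ^ 2 + c2 ^ 2 + c3 ^ 2 + c4 ^ 2 + c5 ^ 2 + c6 ^ 2 + c7 ^ 2 = a ^ 2 →
      (a = 1 ∧ c0 = 1 ∧ c1 = 0 ∧ c2 = 0 ∧ c3 = 0 ∧ c4 = 0 ∧ c5 = 0 ∧ c6 = 0 ∧ c7 = 0) ∨
      (a = 2 ∧ c0 = 1 ∧ c1 = 1 ∧ c2 = 1 ∧ c3 = 1 ∧ c4 = 0 ∧ c5 = 0 ∧ c6 = 0 ∧ c7 = 0) ∨
      (a = 3 ∧ c0 = 2 ∧ c1 = 1 ∧ c2 = 1 ∧ c3 = 1 ∧ c4 = 1 ∧ c5 = 1 ∧ c6 = 0 ∧ c7 = 0) ∨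
      (a = 4 ∧ c0 = 2 ∧ c1 = 2 ∧ c2 = 2 ∧ c3 = 1 ∧ c4 = 1 ∧ c5 = 1 ∧ c6 = 1 ∧ c7 = 0) ∨
      (a = 4 ∧ c0 = 3 ∧ c1 = 1 ∧ c2 = 1 ∧ c3 = 1 ∧ c4 = 1 ∧ c5 = 1 ∧ c6 = 1 ∧ c7 = 1) ∨
      (a = 5 ∧ c0 = 2 ∧ c1 = 2 ∧ c2 = 2 ∧ c3 = 2 ∧ c4 = 2 ∧ c5 = 2 ∧ c6 = 1 ∧ c7 = 0) ∨
      (a = 5 ∧ c0 = 3 ∧ c1 = 2 ∧ c2 = 2 ∧ c3 = 2 ∧ c4 = 1 ∧ c5 = 1 ∧ c6 = 1 ∧ c7 = 1) ∨
      (a = 6 ∧ c0 = 3 ∧ c1 = 3 ∧ c2 = 2 ∧ c3 = 2 ∧ c4 = 2 ∧ c5 = 2 ∧ c6 = 1 ∧ c7 = 1) ∨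
      (a = 7 ∧ c0 = 3 ∧ c1 = 3 ∧ c2 = 3 ∧ c3 = 3 ∧ c4 = 2 ∧ c5 = 2 ∧ c6 = 2 ∧ c7 = 1) ∨
      (a = 7 ∧ c0 = 4 ∧ c1 = 3 ∧ c2 = 2 ∧ c3 = 2 ∧ c4 = 2 ∧ c5 = 2 ∧ c6 = 2 ∧ c7 = 2) ∨
      (a = 8 ∧ c0 = 4 ∧ c1 = 3 ∧ c2 = 3 ∧ c3 = 3 ∧ c4 = 3 ∧ c5 = 2 ∧ c6 = 2 ∧ c7 = 2) ∨
      (a = 8 ∧ c0 = 3 ∧ c1 = 3 ∧ c2 = 3 ∧ c3 = 3 ∧ c4 = 3 ∧ c5 = 3 ∧ c6 = 3 ∧ c7 = 1) ∨
      (a = 9 ∧ c0 = 4 ∧ c1 = 4 ∧ c2 = 3 ∧ c3 = 3 ∧ c4 = 3 ∧ c5 = 3 ∧ c6 = 3 ∧ c7 = 2) ∨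
      (a = 10 ∧ c0 = 4 ∧ c1 = 4 ∧ c2 = 4 ∧ c3 = 4 ∧ c4 = 3 ∧ c5 = 3 ∧ c6 = 3 ∧ c7 = 3) ∨
      (a = 11 ∧ c0 = 4 ∧ c1 = 4 ∧ c2 = 4 ∧ c3 = 4 ∧ c4 = 4 ∧ c5 = 4 ∧ c6 = 4 ∧ c7 = 3) := by
  decide +kernel

/-- the set of the fifteen types -/
def S15 : Set (DP 8) := {![1, 1, 0, 0, 0, 0, 0, 0, 0],
        ![2, 1, 1, 1, 1, 0, 0, 0, 0],
        ![3, 2, 1, 1, 1, 1, 1, 0, 0],
        ![4, 2, 2, 2, 1, 1, 1, 1, 0],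
        ![4, 3, 1, 1, 1, 1, 1, 1, 1],
        ![5, 2, 2, 2, 2, 2, 2, 1, 0],
        ![5, 3, 2, 2, 2, 1, 1, 1, 1],
        ![6, 3, 3, 2, 2, 2, 2, 1, 1],
        ![7, 3, 3, 3, 3, 2, 2, 2, 1],
        ![7, 4, 3, 2, 2, 2, 2, 2, 2],
        ![8, 4, 3, 3, 3, 3, 2, 2, 2],
        ![8, 3, 3, 3, 3, 3, 3, 3, 1],
        ![9, 4, 4, 3, 3, 3, 3, 3, 2],
        ![10, 4, 4, 4, 4, 3, 3, 3, 3],
        ![11, 4, 4, 4, 4, 4, 4, 4, 3]}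

lemma isConic_of_mem_S15 (t : DP 8) (ht : t ∈ S15) : IsConic t := by
  rw [isConic_iff, Fin.sum_univ_eight, Fin.sum_univ_eight]
  rcases ht with rfl | rfl | rfl | rfl | rfl | rfl | rfl | rfl | rfl | rfl | rfl | rfl | rfl | rfl | rfl <;> decide

theorem classification (v : DP 8) :
    IsConic v ↔ ∃ t ∈ S15, ∃ σ : Equiv.Perm (Fin 8), v 0 = t 0 ∧ ∀ i : Fin 8, v (σ i).succ = t i.succ := by
  constructor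
  · intro hv
    rw [isConic_iff] at hv
    obtain ⟨h2, h1⟩ := hv
    obtain ⟨ha1, ha11⟩ := bound_a (le_refl 8) (v 0) (fun i => v i.succ) h2 h1
    have hb := bound_b (le_refl 8) (v 0) (fun i => v i.succ) h2 h1
    obtain ⟨σ, hσ⟩ : ∃ σ : Equiv.Perm (Fin 8), σ = (Fin.revPerm).trans (Tuple.sort (fun i : Fin 8 => v i.succ)) :=
      ⟨_, rfl⟩
    have hanti : ∀ i j : Fin 8, i ≤ j → v (σ j).succ ≤ v (σ i).succ := by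
      intro i j hij
      have := Tuple.monotone_sort (fun i : Fin 8 => v i.succ) (Fin.rev_le_rev.mpr hij)
      rw [hσ]
      simpa using this
    have hs1 : ∑ i : Fin 8, v (σ i).succ = ∑ i : Fin 8, v i.succ :=
      Equiv.sum_comp σ (fun i => v i.succ)
    have hs2 : ∑ i : Fin 8, v (σ i).succ ^ 2 = ∑ i : Fin 8, v i.succ ^ 2 :=
      Equiv.sum_comp σ (fun i => v i.succ ^ 2)
    rw [← hs1] at h1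
    rw [← hs2] at h2
    rw [Fin.sum_univ_eight] at h1 h2
    have hb' : ∀ i : Fin 8, 0 ≤ v (σ i).succ ∧ v (σ i).succ ≤ 4 := fun i => hb (σ i)
    obtain ⟨n, hn⟩ := Int.eq_ofNat_of_zero_le (by omega : 0 ≤ v 0)
    obtain ⟨d0, hd0⟩ := Int.eq_ofNat_of_zero_le (hb' 0).1
    obtain ⟨d1, hd1⟩ := Int.eq_ofNat_of_zero_le (hb' 1).1
    obtain ⟨d2, hd2⟩ := Int.eq_ofNat_of_zero_le (hb' 2).1
    obtain ⟨d3, hd3⟩ := Int.eq_ofNat_of_zero_le (hb' 3).1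
    obtain ⟨d4, hd4⟩ := Int.eq_ofNat_of_zero_le (hb' 4).1
    obtain ⟨d5, hd5⟩ := Int.eq_ofNat_of_zero_le (hb' 5).1
    obtain ⟨d6, hd6⟩ := Int.eq_ofNat_of_zero_le (hb' 6).1
    obtain ⟨d7, hd7⟩ := Int.eq_ofNat_of_zero_le (hb' 7).1
    have a01 := hanti 0 1 (by decide)
    have a12 := hanti 1 2 (by decide)
    have a23 := hanti 2 3 (by decide)
    have a34 := hanti 3 4 (by decide)
    have a45 := hanti 4 5 (by decide)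
    have a56 := hanti 5 6 (by decide)
    have a67 := hanti 6 7 (by decide)
    have t0 := (hb' 0).2
    rw [hn, hd0, hd1, hd2, hd3, hd4, hd5, hd6, hd7] at h2 h1
    have key := classify n (by rw [Finset.mem_range]; omega) d0 (by rw [Finset.mem_range]; omega)
      d1 (by rw [Finset.mem_range]; omega) d2 (by rw [Finset.mem_range]; omega)
      d3 (by rw [Finset.mem_range]; omega) d4 (by rw [Finset.mem_range]; omega)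
      d5 (by rw [Finset.mem_range]; omega) d6 (by rw [Finset.mem_range]; omega)
      d7 (by rw [Finset.mem_range]; omega) (by omega) (by exact_mod_cast h2.symm)
    simp only [S15, Set.mem_insert_iff, Set.mem_singleton_iff, exists_eq_or_imp, exists_eq_left]
    simp only [Matrix.cons_val_zero, Matrix.cons_val_succ]
    rcases key with ⟨rfl, rfl, rfl, rfl, rfl, rfl, rfl, rfl, rfl⟩ | ⟨rfl, rfl, rfl, rfl, rfl, rfl, rfl, rfl, rfl⟩ | ⟨rfl, rfl, rfl, rfl, rfl, rfl, rfl, rfl, rfl⟩ | ⟨rfl, rfl, rfl, rfl, rfl, rfl, rfl, rfl, rfl⟩ | ⟨rfl, rfl, rfl, rfl, rfl, rfl, rfl, rfl, rfl⟩ | ⟨rfl, rfl, rfl, rfl, rfl, rfl, rfl, rfl, rfl⟩ | ⟨rfl, rfl, rfl, rfl, rfl, rfl, rfl, rfl, rfl⟩ | ⟨rfl, rfl, rfl, rfl, rfl, rfl, rfl, rfl, rfl⟩ | ⟨rfl, rfl, rfl, rfl, rfl, rfl, rfl, rfl, rfl⟩ | ⟨rfl, rfl, rfl, rfl, rfl,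 rfl, rfl, rfl, rfl⟩ | ⟨rfl, rfl, rfl, rfl, rfl, rfl, rfl, rfl, rfl⟩ | ⟨rfl, rfl, rfl, rfl, rfl, rfl, rfl, rfl, rfl⟩ | ⟨rfl, rfl, rfl, rfl, rfl, rfl, rfl, rfl, rfl⟩ | ⟨rfl, rfl, rfl, rfl, rfl, rfl, rfl, rfl, rfl⟩ | ⟨rfl, rfl, rfl, rfl, rfl, rfl, rfl, rfl, rfl⟩
    all_goals simp only [Nat.cast_one, Nat.cast_zero, Nat.cast_ofNat] at hn hd0 hd1 hd2 hd3 hd4 hd5 hd6 hd7
    · refine Or.inl ⟨σ, hn, fun i => ?_⟩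
      fin_cases i
      exacts [hd0, hd1, hd2, hd3, hd4, hd5, hd6, hd7]
    · refine Or.inr (Or.inl ⟨σ, hn, fun i => ?_⟩)
      fin_cases i
      exacts [hd0, hd1, hd2, hd3, hd4, hd5, hd6, hd7]
    · refine Or.inr (Or.inr (Or.inl ⟨σ, hn, fun i => ?_⟩))
      fin_cases i
      exacts [hd0, hd1, hd2, hd3, hd4, hd5, hd6, hd7]
    · refine Or.inr (Or.inr (Or.inr (Or.inl ⟨σ, hn, fun i => ?_⟩)))
      fin_cases i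
      exacts [hd0, hd1, hd2, hd3, hd4, hd5, hd6, hd7]
    · refine Or.inr (Or.inr (Or.inr (Or.inr (Or.inl ⟨σ, hn, fun i => ?_⟩))))
      fin_cases i
      exacts [hd0, hd1, hd2, hd3, hd4, hd5, hd6, hd7]
    · refine Or.inr (Or.inr (Or.inr (Or.inr (Or.inr (Or.inl ⟨σ, hn, fun i => ?_⟩)))))
      fin_cases i
      exacts [hd0, hd1, hd2, hd3, hd4, hd5, hd6, hd7]
    · refine Or.inr (Or.inr (Or.inr (Or.inr (Or.inr (Or.inr (Or.inl ⟨σ, hn, fun i => ?_⟩))))))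
      fin_cases i
      exacts [hd0, hd1, hd2, hd3, hd4, hd5, hd6, hd7]
    · refine Or.inr (Or.inr (Or.inr (Or.inr (Or.inr (Or.inr (Or.inr (Or.inl ⟨σ, hn, fun i => ?_⟩)))))))
      fin_cases i
      exacts [hd0, hd1, hd2, hd3, hd4, hd5, hd6, hd7]
    · refine Or.inr (Or.inr (Or.inr (Or.inr (Or.inr (Or.inr (Or.inr (Or.inr (Or.inl ⟨σ, hn, fun i => ?_⟩))))))))
      fin_cases i
      exacts [hd0, hd1, hd2, hd3, hd4, hd5, hd6, hd7]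
    · refine Or.inr (Or.inr (Or.inr (Or.inr (Or.inr (Or.inr (Or.inr (Or.inr (Or.inr (Or.inl ⟨σ, hn, fun i => ?_⟩)))))))))
      fin_cases i
      exacts [hd0, hd1, hd2, hd3, hd4, hd5, hd6, hd7]
    · refine Or.inr (Or.inr (Or.inr (Or.inr (Or.inr (Or.inr (Or.inr (Or.inr (Or.inr (Or.inr (Or.inl ⟨σ, hn, fun i => ?_⟩))))))))))
      fin_cases i
      exacts [hd0, hd1, hd2, hd3, hd4, hd5, hd6, hd7]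
    · refine Or.inr (Or.inr (Or.inr (Or.inr (Or.inr (Or.inr (Or.inr (Or.inr (Or.inr (Or.inr (Or.inr (Or.inl ⟨σ, hn, fun i => ?_⟩)))))))))))
      fin_cases i
      exacts [hd0, hd1, hd2, hd3, hd4, hd5, hd6, hd7]
    · refine Or.inr (Or.inr (Or.inr (Or.inr (Or.inr (Or.inr (Or.inr (Or.inr (Or.inr (Or.inr (Or.inr (Or.inr (Or.inl ⟨σ, hn, fun i => ?_⟩))))))))))))
      fin_cases i
      exacts [hd0, hd1, hd2, hd3, hd4, hd5, hd6, hd7]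
    · refine Or.inr (Or.inr (Or.inr (Or.inr (Or.inr (Or.inr (Or.inr (Or.inr (Or.inr (Or.inr (Or.inr (Or.inr (Or.inr (Or.inl ⟨σ, hn, fun i => ?_⟩)))))))))))))
      fin_cases i
      exacts [hd0, hd1, hd2, hd3, hd4, hd5, hd6, hd7]
    · refine Or.inr (Or.inr (Or.inr (Or.inr (Or.inr (Or.inr (Or.inr (Or.inr (Or.inr (Or.inr (Or.inr (Or.inr (Or.inr (Or.inr (⟨σ, hn, fun i => ?_⟩))))))))))))))
      fin_cases i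
      exacts [hd0, hd1, hd2, hd3, hd4, hd5, hd6, hd7]
  · rintro ⟨t, ht, σ, h0, h⟩
    have hc := isConic_of_mem_S15 t ht
    rw [isConic_iff] at hc ⊢
    have hs1 : ∑ i : Fin 8, v (σ i).succ = ∑ i : Fin 8, v i.succ :=
      Equiv.sum_comp σ (fun i => v i.succ)
    have hs2 : ∑ i : Fin 8, v (σ i).succ ^ 2 = ∑ i : Fin 8, v i.succ ^ 2 :=
      Equiv.sum_comp σ (fun i => v i.succ ^ 2)
    rw [← hs1, ← hs2, h0]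
    simp only [h]
    exact hc

end H21.DPConic
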