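import Mathlib
import Groth.Agent.H21.DPWeyl

set_option autoImplicit false

open W4c3severiratdp

namespace H21.DPWeyl

set_option maxRecDepth 100000 in
set_option synthInstance.maxSize 100000 in
set_option synthInstance.maxHeartbeats 0 in
set_option maxHeartbeats 0 in
/-- the finite search (stabilizer version) -/
lemma searchB : ∀ A ∈ Finset.range 9, ∀ M ∈ Finset.range 5, ∀ C6 ∈ Finset.range 5, ∀ C5 ∈ Finset.range (C6 + 1), ∀ C4 ∈ Finset.range (C5 + 1), ∀ C3 ∈ Finset.range (C4 + 1), ∀ C2 ∈ Finset.range (C3 + 1), ∀ C1 ∈ Finset.range (C2 + 1), ∀ C0 ∈ Finset.range (C1 + 1),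
    M + C0 + C1 + C2 + C3 + C4 + C5 + C6 = 3 * A + 4 → M ^ 2 + C0 ^ 2 + C1 ^ 2 + C2 ^ 2 + C3 ^ 2 + C4 ^ 2 + C5 ^ 2 + C6 ^ 2 + 2 * A + 6 = A ^ 2 + 2 * (M + C0 + C1 + C2 + C3 + C4 + C5 + C6) →
      A + 2 < C4 + C5 + C6 ∨
      (A = 1 ∧ M = 0 ∧ C0 = 1 ∧ C1 = 1 ∧ C2 = 1 ∧ C3 = 1 ∧ C4 = 1 ∧ C5 = 1 ∧ C6 = 1) ∨
      (A = 1 ∧ M = 1 ∧ C0 = 0 ∧ C1 = 1 ∧ C2 = 1 ∧ C3 = 1 ∧ C4 = 1 ∧ C5 = 1 ∧ C6 = 1) ∨
      (A = 2 ∧ M = 2 ∧ C0 = 1 ∧ C1 = 1 ∧ C2 = 1 ∧ C3 = 1 ∧ C4 = 1 ∧ C5 = 1 ∧ C6 = 2) ∨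
      (A = 4 ∧ M = 3 ∧ C0 = 1 ∧ C1 = 2 ∧ C2 = 2 ∧ C3 = 2 ∧ C4 = 2 ∧ C5 = 2 ∧ C6 = 2) ∨
      (A = 7 ∧ M = 4 ∧ C0 = 3 ∧ C1 = 3 ∧ C2 = 3 ∧ C3 = 3 ∧ C4 = 3 ∧ C5 = 3 ∧ C6 = 3) := by
  decide +kernel

lemma isExc_iff {δ : ℕ} (v : DP δ) :
    IsExc v ↔ ∑ i : Fin δ, v i.succ ^ 2 = v 0 ^ 2 + 1 ∧ ∑ i : Fin δ, v i.succ = 3 * v 0 - 1 := by
  unfold IsExc form canon
  simp only [Fin.cases_zero, Fin.cases_succ]
  have h1 : ∑ i : Fin δ, v i.succ * v i.succ = ∑ i : Fin δ, v i.succ ^ 2 := by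
    apply Finset.sum_congr rfl; intro i _; ring
  have h2 : ∑ i : Fin δ, (-1 : ℤ) * v i.succ = - ∑ i : Fin δ, v i.succ := by
    rw [← Finset.sum_neg_distrib]; apply Finset.sum_congr rfl; intro i _; ring
  rw [h1, h2]
  constructor
  · rintro ⟨h, h'⟩; constructor <;> linarith
  · rintro ⟨h, h'⟩; constructor <;> linarith

lemma exc_bound_a (a : ℤ) (b : Fin 8 → ℤ)
    (h2 : ∑ i, b i ^ 2 = a ^ 2 + 1) (h1 : ∑ i, b i = 3 * a - 1) : -1 ≤ a ∧ a ≤ 7 := by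
  have hcs := sq_sum_le_card_mul_sum_sq (s := (Finset.univ : Finset (Fin 8))) (f := b)
  simp only [Finset.card_univ, Fintype.card_fin] at hcs
  rw [h1, h2] at hcs
  push_cast at hcs
  constructor <;> nlinarith

lemma exc_bound_b (a : ℤ) (b : Fin 8 → ℤ)
    (h2 : ∑ i, b i ^ 2 = a ^ 2 + 1) (h1 : ∑ i, b i = 3 * a - 1) (j : Fin 8) :
    -1 ≤ b j ∧ b j ≤ 3 := by
  obtain ⟨ha1, ha11⟩ := exc_bound_a a b h2 h1
  have hcs := sq_sum_le_card_mul_sum_sq (s := (Finset.univ.erase j : Finset (Fin 8))) (f := b)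
  have hcard : ((Finset.univ.erase j : Finset (Fin 8)).card : ℤ) = 7 := by
    rw [Finset.card_erase_of_mem (Finset.mem_univ j), Finset.card_univ, Fintype.card_fin]
    rfl
  rw [hcard] at hcs
  have e1 : b j + ∑ i ∈ Finset.univ.erase j, b i = ∑ i, b i :=
    Finset.add_sum_erase _ _ (Finset.mem_univ j)
  have e2 : b j ^ 2 + ∑ i ∈ Finset.univ.erase j, b i ^ 2 = ∑ i, b i ^ 2 :=
    Finset.add_sum_erase _ (fun i => b i ^ 2) (Finset.mem_univ j)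
  have e1' : ∑ i ∈ Finset.univ.erase j, b i = 3 * a - 1 - b j := by linarith
  have e2' : ∑ i ∈ Finset.univ.erase j, b i ^ 2 = a ^ 2 + 1 - b j ^ 2 := by linarith
  rw [e1', e2'] at hcs
  have key : 8 * b j ^ 2 - 2 * (3 * a - 1) * b j + 2 * a ^ 2 - 6 * a - 6 ≤ 0 := by nlinarith
  interval_cases a <;> constructor <;> nlinarith

/-- the fixed exceptional class -/
def E1 : DP 8 := ![0, -1, 0, 0, 0, 0, 0, 0, 0]

/-- same orbit under the stabilizer of `E1` -/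
def Rel (x y : DP 8) : Prop := ∃ g : DP 8 ≃ₗ[ℤ] DP 8, IsWeyl g ∧ g E1 = E1 ∧ g x = y

lemma Rel.rfl' (x : DP 8) : Rel x x := ⟨LinearEquiv.refl ℤ _, isWeyl_refl', rfl, rfl⟩

lemma Rel.trans {x y z : DP 8} (h1 : Rel x y) (h2 : Rel y z) : Rel x z := by
  obtain ⟨g, hg, hgE, rfl⟩ := h1
  obtain ⟨h, hh, hhE, rfl⟩ := h2
  exact ⟨g.trans h, isWeyl_trans hg hh, by rw [LinearEquiv.trans_apply, hgE, hhE], rfl⟩

lemma Rel.symm {x y : DP 8} (h1 : Rel x y) : Rel y x := by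
  obtain ⟨g, hg, hgE, rfl⟩ := h1
  refine ⟨g.symm, isWeyl_symm hg, ?_, LinearEquiv.symm_apply_apply _ _⟩
  conv_lhs => rw [← hgE]
  exact LinearEquiv.symm_apply_apply _ _

lemma form_E1 (x : DP 8) : form x E1 = x 1 := by
  unfold form E1
  rw [Fin.sum_univ_eight]
  simp

/-- the Cremona root on the last three coordinates -/
def αC : DP 8 := ![1, 0, 0, 0, 0, 0, 1, 1, 1]

lemma form_αC (x : DP 8) : form x αC = x 0 - (x 6 + x 7 + x 8) := by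
  unfold form αC
  rw [Fin.sum_univ_eight]
  simp

lemma αC_sq : form αC αC = -2 := by rw [form_αC]; simp [αC]

lemma αC_K : form (canon 8) αC = 0 := by
  rw [form_αC]
  simp [canon]
  rfl

lemma rel_refl_αC (x : DP 8) : Rel x (refl αC αC_sq x) := by
  refine ⟨refl αC αC_sq, isWeyl_refl _ _ αC_K, ?_, rfl⟩
  rw [refl_apply, form_αC]
  simp [E1]

/-- extend a permutation of the last seven coordinates -/
noncomputable def ext7 (σ : Equiv.Perm (Fin 7)) : Equiv.Perm (Fin 8) :=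
  Equiv.Perm.decomposeFin.symm (0, σ)

lemma ext7_zero (σ : Equiv.Perm (Fin 7)) : ext7 σ 0 = 0 :=
  Equiv.Perm.decomposeFin_symm_apply_zero _ _

lemma ext7_succ (σ : Equiv.Perm (Fin 7)) (i : Fin 7) : ext7 σ i.succ = (σ i).succ := by
  rw [ext7, Equiv.Perm.decomposeFin_symm_apply_succ, Equiv.swap_self, Equiv.refl_apply]

lemma rel_perm (σ : Equiv.Perm (Fin 7)) (x : DP 8) : Rel x (permL (ext7 σ) x) := by
  refine ⟨permL (ext7 σ), isWeyl_permL _, ?_, rfl⟩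
  ext i
  refine Fin.cases ?_ (fun j => ?_) i
  · rfl
  · rw [permL_succ]
    refine Fin.cases ?_ (fun k => ?_) j
    · rw [ext7_zero]
    · rw [ext7_succ]
      simp only [E1, Matrix.cons_val_succ]
      have h0 : ∀ i : Fin 7, (![0,0,0,0,0,0,0] : Fin 7 → ℤ) i = 0 := by decide
      rw [h0, h0]

/-- representatives -/
def rep (m : ℤ) : DP 8 :=
  if m = -1 then ![0, -1, 0, 0, 0, 0, 0, 0, 0]
  else if m = 0 then ![0, 0, -1, 0, 0, 0, 0, 0, 0]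
  else if m = 1 then ![1, 1, 0, 0, 0, 0, 0, 0, 1]
  else if m = 2 then ![3, 2, 0, 1, 1, 1, 1, 1, 1]
  else ![6, 3, 2, 2, 2, 2, 2, 2, 2]

lemma vec_eq (y : DP 8) : y = ![y 0, y 1, y 2, y 3, y 4, y 5, y 6, y 7, y 8] := by
  funext i
  fin_cases i <;> rfl

theorem descent (n : ℕ) : ∀ x : DP 8, IsExc x → x 0 + 1 = n → Rel x (rep (x 1)) := by
  induction n using Nat.strong_induction_on with
  | _ n ih =>
    intro x hx hxn
    -- sort the last seven coordinates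
    obtain ⟨σ, hσ⟩ : ∃ σ : Equiv.Perm (Fin 7), σ = Tuple.sort (fun i : Fin 7 => x i.succ.succ) :=
      ⟨_, rfl⟩
    obtain ⟨y, hy⟩ : ∃ y : DP 8, y = permL (ext7 σ) x := ⟨_, rfl⟩
    have hxy : Rel x y := hy ▸ rel_perm σ x
    have hyE : IsExc y := hy ▸ isExc_map (isWeyl_permL _) hx
    have hy0 : y 0 = x 0 := by rw [hy]; rfl
    have hy1 : y 1 = x 1 := by
      rw [hy]
      change permL (ext7 σ) x (Fin.succ 0) = _
      rw [permL_succ, ext7_zero]; rfl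
    have hyss : ∀ i : Fin 7, y i.succ.succ = x (σ i).succ.succ := by
      intro i
      rw [hy, permL_succ, ext7_succ]
    have hmono : ∀ i j : Fin 7, i ≤ j → y i.succ.succ ≤ y j.succ.succ := by
      intro i j hij
      rw [hyss, hyss, hσ]
      exact Tuple.monotone_sort (fun i : Fin 7 => x i.succ.succ) hij
    have m01 : y 2 ≤ y 3 := hmono 0 1 (by decide)
    have m12 : y 3 ≤ y 4 := hmono 1 2 (by decide)
    have m23 : y 4 ≤ y 5 := hmono 2 3 (by decide)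
    have m34 : y 5 ≤ y 6 := hmono 3 4 (by decide)
    have m45 : y 6 ≤ y 7 := hmono 4 5 (by decide)
    have m56 : y 7 ≤ y 8 := hmono 5 6 (by decide)
    have hyE' := (isExc_iff y).mp hyE
    obtain ⟨h2, h1⟩ := hyE'
    obtain ⟨ha1, ha7⟩ := exc_bound_a (y 0) (fun i => y i.succ) h2 h1
    have hb := exc_bound_b (y 0) (fun i => y i.succ) h2 h1
    have b1 := hb 0
    have b2 := hb 1
    have b3 := hb 2
    have b4 := hb 3
    have b5 := hb 4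
    have b6 := hb 5
    have b7 := hb 6
    have b8 := hb 7
    rw [Fin.sum_univ_eight] at h1 h2
    simp only [Fin.succ_zero_eq_one, Fin.reduceSucc] at h1 h2 b1 b2 b3 b4 b5 b6 b7 b8
    obtain ⟨A, hA⟩ : ∃ A : ℕ, y 0 = (A : ℤ) - 1 := ⟨(y 0 + 1).toNat, by omega⟩
    obtain ⟨M, hM⟩ : ∃ A : ℕ, y 1 = (A : ℤ) - 1 := ⟨(y 1 + 1).toNat, by omega⟩
    obtain ⟨C0, hC0⟩ : ∃ A : ℕ, y 2 = (A : ℤ) - 1 := ⟨(y 2 + 1).toNat, by omega⟩
    obtain ⟨C1, hC1⟩ : ∃ A : ℕ, y 3 = (A : ℤ) - 1 := ⟨(y 3 + 1).toNat, by omega⟩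
    obtain ⟨C2, hC2⟩ : ∃ A : ℕ, y 4 = (A : ℤ) - 1 := ⟨(y 4 + 1).toNat, by omega⟩
    obtain ⟨C3, hC3⟩ : ∃ A : ℕ, y 5 = (A : ℤ) - 1 := ⟨(y 5 + 1).toNat, by omega⟩
    obtain ⟨C4, hC4⟩ : ∃ A : ℕ, y 6 = (A : ℤ) - 1 := ⟨(y 6 + 1).toNat, by omega⟩
    obtain ⟨C5, hC5⟩ : ∃ A : ℕ, y 7 = (A : ℤ) - 1 := ⟨(y 7 + 1).toNat, by omega⟩
    obtain ⟨C6, hC6⟩ : ∃ A : ℕ, y 8 = (A : ℤ) - 1 := ⟨(y 8 + 1).toNat, by omega⟩
    have eq1 : M + C0 + C1 + C2 + C3 + C4 + C5 + C6 = 3 * A + 4 := by omega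
    have eq2 : M ^ 2 + C0 ^ 2 + C1 ^ 2 + C2 ^ 2 + C3 ^ 2 + C4 ^ 2 + C5 ^ 2 + C6 ^ 2 + 2 * A + 6 =
        A ^ 2 + 2 * (M + C0 + C1 + C2 + C3 + C4 + C5 + C6) := by
      have : ((M : ℤ) ^ 2 + C0 ^ 2 + C1 ^ 2 + C2 ^ 2 + C3 ^ 2 + C4 ^ 2 + C5 ^ 2 + C6 ^ 2 + 2 * A + 6 : ℤ) =
          A ^ 2 + 2 * (M + C0 + C1 + C2 + C3 + C4 + C5 + C6) := by
        rw [hA, hM, hC0, hC1, hC2, hC3, hC4, hC5, hC6] at h2
        linear_combination h2
      exact_mod_cast this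
    have key := searchB A (by rw [Finset.mem_range]; omega) M (by rw [Finset.mem_range]; omega)
      C6 (by rw [Finset.mem_range]; omega) C5 (by rw [Finset.mem_range]; omega)
      C4 (by rw [Finset.mem_range]; omega) C3 (by rw [Finset.mem_range]; omega)
      C2 (by rw [Finset.mem_range]; omega) C1 (by rw [Finset.mem_range]; omega)
      C0 (by rw [Finset.mem_range]; omega) eq1 eq2
    rcases key with hlt | ⟨rfl, rfl, rfl, rfl, rfl, rfl, rfl, rfl, rfl⟩ | ⟨rfl, rfl, rfl, rfl, rfl, rfl, rfl, rfl, rfl⟩ | ⟨rfl, rfl, rfl, rfl, rfl, rfl, rfl, rfl, rfl⟩ | ⟨rfl, rfl, rfl, rfl, rfl, rfl, rfl, rfl, rfl⟩ | ⟨rfl, rfl, rfl, rfl, rfl, rfl, rfl, rfl, rfl⟩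
    · -- descent step
      obtain ⟨z, hz⟩ : ∃ z : DP 8, z = refl αC αC_sq y := ⟨_, rfl⟩
      have hyz : Rel y z := hz ▸ rel_refl_αC y
      have hzE : IsExc z := hz ▸ isExc_map (isWeyl_refl _ _ αC_K) hyE
      have hf : form y αC < 0 := by rw [form_αC]; omega
      have hz0 : z 0 = y 0 + form y αC := by
        rw [hz, refl_apply]; simp [αC]
      have hz1 : z 1 = y 1 := by
        rw [hz, refl_apply]; simp [αC]
      obtain ⟨hz2, hz1'⟩ := (isExc_iff z).mp hzE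
      obtain ⟨hza, -⟩ := exc_bound_a (z 0) (fun i => z i.succ) hz2 hz1'
      obtain ⟨n', hn'⟩ : ∃ n' : ℕ, z 0 + 1 = n' := ⟨(z 0 + 1).toNat, by omega⟩
      have hlt' : n' < n := by omega
      have := ih n' hlt' z hzE hn'
      rw [hz1, hy1] at this
      exact hxy.trans (hyz.trans this)
    all_goals
      rw [← hy1]
      refine hxy.trans ?_
      rw [vec_eq y, hA, hM, hC0, hC1, hC2, hC3, hC4, hC5, hC6]
      norm_num [rep]
      try exact Rel.rfl' _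

lemma form_sub_left (u v w : DP 8) : form (u - v) w = form u w - form v w := by
  have : u - v = u + (-1 : ℤ) • v := by rw [neg_one_smul, sub_eq_add_neg]
  rw [this, form_add_left, form_smul_left]; ring

lemma form_sub_right (u v w : DP 8) : form u (v - w) = form u v - form u w := by
  rw [form_comm, form_sub_left, form_comm v, form_comm w]

/-- same orbit under the full Weyl group -/
def RelW (x y : DP 8) : Prop := ∃ g : DP 8 ≃ₗ[ℤ] DP 8, IsWeyl g ∧ g x = y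

lemma RelW.trans {x y z : DP 8} (h1 : RelW x y) (h2 : RelW y z) : RelW x z := by
  obtain ⟨g, hg, rfl⟩ := h1
  obtain ⟨h, hh, rfl⟩ := h2
  exact ⟨g.trans h, isWeyl_trans hg hh, rfl⟩

lemma Rel.relW {x y : DP 8} (h : Rel x y) : RelW x y := by
  obtain ⟨g, hg, -, hgx⟩ := h
  exact ⟨g, hg, hgx⟩

lemma relW_of_orth {x y : DP 8} (hx : IsExc x) (hy : IsExc y) (h : form x y = 0) : RelW x y := by
  have hα : form (x - y) (x - y) = -2 := by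
    rw [form_sub_left, form_sub_right, form_sub_right, hx.1, hy.1, h, form_comm y x, h]; ring
  have hK : form (canon 8) (x - y) = 0 := by
    rw [form_sub_right, hx.2, hy.2]; ring
  refine ⟨refl (x - y) hα, isWeyl_refl _ _ hK, ?_⟩
  rw [refl_apply, form_sub_right, hx.1, h]
  simp

lemma isExc_vec (a b1 b2 b3 b4 b5 b6 b7 b8 : ℤ)
    (h2 : b1 ^ 2 + b2 ^ 2 + b3 ^ 2 + b4 ^ 2 + b5 ^ 2 + b6 ^ 2 + b7 ^ 2 + b8 ^ 2 = a ^ 2 + 1)
    (h1 : b1 + b2 + b3 + b4 + b5 + b6 + b7 + b8 = 3 * a - 1) :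
    IsExc (![a, b1, b2, b3, b4, b5, b6, b7, b8] : DP 8) := by
  rw [isExc_iff, Fin.sum_univ_eight, Fin.sum_univ_eight]
  exact ⟨h2, h1⟩

lemma form_vec (a b1 b2 b3 b4 b5 b6 b7 b8 a' c1 c2 c3 c4 c5 c6 c7 c8 : ℤ) :
    form (![a, b1, b2, b3, b4, b5, b6, b7, b8] : DP 8) ![a', c1, c2, c3, c4, c5, c6, c7, c8] =
      a * a' - (b1 * c1 + b2 * c2 + b3 * c3 + b4 * c4 + b5 * c5 + b6 * c6 + b7 * c7 + b8 * c8) := by
  unfold form
  rw [Fin.sum_univ_eight]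
  rfl

lemma rep_relW (m : ℤ) (h1 : -1 ≤ m) (h3 : m ≤ 3) : RelW (rep m) E1 := by
  have e1 : IsExc E1 := isExc_vec _ _ _ _ _ _ _ _ _ (by norm_num) (by norm_num)
  have e2 : IsExc (![0, 0, -1, 0, 0, 0, 0, 0, 0] : DP 8) :=
    isExc_vec _ _ _ _ _ _ _ _ _ (by norm_num) (by norm_num)
  have r2 : RelW (![0, 0, -1, 0, 0, 0, 0, 0, 0] : DP 8) E1 :=
    relW_of_orth e2 e1 (by rw [E1, form_vec]; norm_num)
  have e3 : IsExc (![3, 2, 0, 1, 1, 1, 1, 1, 1] : DP 8) :=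
    isExc_vec _ _ _ _ _ _ _ _ _ (by norm_num) (by norm_num)
  have r3 : RelW (![3, 2, 0, 1, 1, 1, 1, 1, 1] : DP 8) E1 :=
    (relW_of_orth e3 e2 (by rw [form_vec]; norm_num)).trans r2
  interval_cases m
  · exact ⟨LinearEquiv.refl ℤ _, isWeyl_refl', rfl⟩
  · exact r2
  · have e : IsExc (![1, 1, 0, 0, 0, 0, 0, 0, 1] : DP 8) :=
      isExc_vec _ _ _ _ _ _ _ _ _ (by norm_num) (by norm_num)
    exact (relW_of_orth e e2 (by rw [form_vec]; norm_num)).trans r2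
  · exact r3
  · have e : IsExc (![6, 3, 2, 2, 2, 2, 2, 2, 2] : DP 8) :=
      isExc_vec _ _ _ _ _ _ _ _ _ (by norm_num) (by norm_num)
    exact (relW_of_orth e e3 (by rw [form_vec]; norm_num)).trans r3

lemma rel_rep (x : DP 8) (hx : IsExc x) : Rel x (rep (x 1)) := by
  obtain ⟨h2, h1⟩ := (isExc_iff x).mp hx
  obtain ⟨ha, -⟩ := exc_bound_a (x 0) (fun i => x i.succ) h2 h1
  obtain ⟨n, hn⟩ : ∃ n : ℕ, x 0 + 1 = n := ⟨(x 0 + 1).toNat, by omega⟩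
  exact descent n x hx hn

lemma toE1 (x : DP 8) (hx : IsExc x) : RelW x E1 := by
  obtain ⟨h2, h1⟩ := (isExc_iff x).mp hx
  have hb := exc_bound_b (x 0) (fun i => x i.succ) h2 h1 0
  exact (rel_rep x hx).relW.trans (rep_relW _ hb.1 hb.2)

theorem stab_trans (L L₁ L₂ : DP 8) (hL : IsExc L) (hL₁ : IsExc L₁)
    (hL₂ : IsExc L₂) (h : form L₁ L = form L₂ L) :
    ∃ g : DP 8 ≃ₗ[ℤ] DP 8, IsWeyl g ∧ g L = L ∧ g L₁ = L₂ := by
  obtain ⟨k, hk, hkL⟩ := toE1 L hL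
  have hx₁ : IsExc (k L₁) := isExc_map hk hL₁
  have hx₂ : IsExc (k L₂) := isExc_map hk hL₂
  have e₁ : k L₁ 1 = form L₁ L := by rw [← form_E1 (k L₁), ← hkL, hk.1]
  have e₂ : k L₂ 1 = form L₂ L := by rw [← form_E1 (k L₂), ← hkL, hk.1]
  have r₁ := rel_rep _ hx₁
  have r₂ := rel_rep _ hx₂
  rw [e₁] at r₁
  rw [e₂, ← h] at r₂
  obtain ⟨g, hg, hgE, hgx⟩ := r₁.trans r₂.symm
  refine ⟨k.trans (g.trans k.symm), isWeyl_trans hk (isWeyl_trans hg (isWeyl_symm hk)), ?_, ?_⟩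
  · rw [LinearEquiv.trans_apply, LinearEquiv.trans_apply, hkL, hgE, ← hkL]
    exact LinearEquiv.symm_apply_apply _ _
  · rw [LinearEquiv.trans_apply, LinearEquiv.trans_apply, hgx]
    exact LinearEquiv.symm_apply_apply _ _

end H21.DPWeyl
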