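import Mathlib
import Groth.Agent.H21.DPExcStab
import Groth.Agent.H21.DPConStepII

set_option autoImplicit false

open W4c3severiratdp

namespace H21.DPWeyl

set_option maxRecDepth 100000 in
set_option synthInstance.maxSize 100000 in
set_option synthInstance.maxHeartbeats 0 in
set_option maxHeartbeats 0 in
/-- the finite search (two frozen coordinates `0, 1`) -/
lemma searchIII : ∀ A ∈ Finset.range 9, ∀ C5 ∈ Finset.range 5, ∀ C4 ∈ Finset.range (C5 + 1), ∀ C3 ∈ Finset.range (C4 + 1), ∀ C2 ∈ Finset.range (C3 + 1), ∀ C1 ∈ Finset.range (C2 + 1), ∀ C0 ∈ Finset.range (C1 + 1),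
    C0 + C1 + C2 + C3 + C4 + C5 = 3 * A + 1 → C0 ^ 2 + C1 ^ 2 + C2 ^ 2 + C3 ^ 2 + C4 ^ 2 + C5 ^ 2 + 2 * A + 5 = A ^ 2 + 2 * (C0 + C1 + C2 + C3 + C4 + C5) →
      A + 2 < C3 + C4 + C5 ∨
      (A = 2 ∧ C0 = 1 ∧ C1 = 1 ∧ C2 = 1 ∧ C3 = 1 ∧ C4 = 1 ∧ C5 = 2) := by
  decide +kernel

/-- the second fixed exceptional class -/
def E2 : DP 8 := ![0, 0, -1, 0, 0, 0, 0, 0, 0]

/-- the terminal form -/
def Q3 : DP 8 := ![1, 0, 1, 0, 0, 0, 0, 0, 1]

/-- same orbit under the stabilizer of `E1` and `E2` -/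
def Rel2 (x y : DP 8) : Prop :=
  ∃ g : DP 8 ≃ₗ[ℤ] DP 8, IsWeyl g ∧ g E1 = E1 ∧ g E2 = E2 ∧ g x = y

lemma Rel2.trans {x y z : DP 8} (h1 : Rel2 x y) (h2 : Rel2 y z) : Rel2 x z := by
  obtain ⟨g, hg, hgE, hgE2, rfl⟩ := h1
  obtain ⟨h, hh, hhE, hhE2, rfl⟩ := h2
  exact ⟨g.trans h, isWeyl_trans hg hh, by rw [LinearEquiv.trans_apply, hgE, hhE],
    by rw [LinearEquiv.trans_apply, hgE2, hhE2], rfl⟩

lemma form_E2 (x : DP 8) : form x E2 = x 2 := by
  unfold form E2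
  rw [Fin.sum_univ_eight]
  simp

lemma rel2_refl_αC (x : DP 8) : Rel2 x (refl αC αC_sq x) := by
  refine ⟨refl αC αC_sq, isWeyl_refl _ _ αC_K, ?_, ?_, rfl⟩
  · rw [refl_apply, form_αC]
    simp [E1]
  · rw [refl_apply, form_αC]
    simp [E2]

/-- extend a permutation of the last six coordinates -/
noncomputable def ext6 (σ : Equiv.Perm (Fin 6)) : Equiv.Perm (Fin 8) :=
  H21.DPCon.extP (H21.DPCon.extP σ)

lemma ext6_zero (σ : Equiv.Perm (Fin 6)) : ext6 σ 0 = 0 := H21.DPCon.extP_zero _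

lemma ext6_one (σ : Equiv.Perm (Fin 6)) : ext6 σ (Fin.succ 0) = Fin.succ 0 := by
  rw [ext6, H21.DPCon.extP_succ, H21.DPCon.extP_zero]

lemma ext6_succ (σ : Equiv.Perm (Fin 6)) (i : Fin 6) : ext6 σ i.succ.succ = (σ i).succ.succ := by
  rw [ext6, H21.DPCon.extP_succ, H21.DPCon.extP_succ]

lemma rel2_perm (σ : Equiv.Perm (Fin 6)) (x : DP 8) : Rel2 x (permL (ext6 σ) x) := by
  have h0 : ∀ i : Fin 6, (![0,0,0,0,0,0] : Fin 6 → ℤ) i = 0 := by decide
  refine ⟨permL (ext6 σ), isWeyl_permL _, ?_, ?_, rfl⟩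
  · ext i
    refine Fin.cases ?_ (fun j => ?_) i
    · rfl
    · rw [permL_succ]
      refine Fin.cases ?_ (fun k => ?_) j
      · rw [ext6_zero]
      · refine Fin.cases ?_ (fun l => ?_) k
        · rw [ext6_one]
        · rw [ext6_succ]
          simp only [E1, Matrix.cons_val_succ]
          rw [h0, h0]
  · ext i
    refine Fin.cases ?_ (fun j => ?_) i
    · rfl
    · rw [permL_succ]
      refine Fin.cases ?_ (fun k => ?_) j
      · rw [ext6_zero]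
      · refine Fin.cases ?_ (fun l => ?_) k
        · rw [ext6_one]
        · rw [ext6_succ]
          simp only [E2, Matrix.cons_val_succ]
          rw [h0, h0]

theorem descent3 (n : ℕ) :
    ∀ x : DP 8, IsExc x → x 1 = 0 → x 2 = 1 → x 0 + 1 = n → Rel2 x Q3 := by
  induction n using Nat.strong_induction_on with
  | _ n ih =>
    intro x hx hx1 hx2 hxn
    obtain ⟨σ, hσ⟩ : ∃ σ : Equiv.Perm (Fin 6), σ = Tuple.sort (fun i : Fin 6 => x i.succ.succ.succ) :=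
      ⟨_, rfl⟩
    obtain ⟨y, hy⟩ : ∃ y : DP 8, y = permL (ext6 σ) x := ⟨_, rfl⟩
    have hxy : Rel2 x y := hy ▸ rel2_perm σ x
    have hyE : IsExc y := hy ▸ isExc_map (isWeyl_permL _) hx
    have hy0 : y 0 = x 0 := by rw [hy]; rfl
    have hy1 : y 1 = 0 := by
      rw [hy]
      change permL (ext6 σ) x (Fin.succ 0) = _
      rw [permL_succ, ext6_zero]; exact hx1
    have hy2 : y 2 = 1 := by
      rw [hy]
      change permL (ext6 σ) x (Fin.succ (Fin.succ 0)) = _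
      rw [permL_succ, ext6_one]; exact hx2
    have hyss : ∀ i : Fin 6, y i.succ.succ.succ = x (σ i).succ.succ.succ := by
      intro i
      rw [hy, permL_succ, ext6_succ]
    have hmono : ∀ i j : Fin 6, i ≤ j → y i.succ.succ.succ ≤ y j.succ.succ.succ := by
      intro i j hij
      rw [hyss, hyss, hσ]
      exact Tuple.monotone_sort (fun i : Fin 6 => x i.succ.succ.succ) hij
    have m01 : y 3 ≤ y 4 := hmono 0 1 (by decide)
    have m12 : y 4 ≤ y 5 := hmono 1 2 (by decide)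
    have m23 : y 5 ≤ y 6 := hmono 2 3 (by decide)
    have m34 : y 6 ≤ y 7 := hmono 3 4 (by decide)
    have m45 : y 7 ≤ y 8 := hmono 4 5 (by decide)
    have hyE' := (isExc_iff y).mp hyE
    obtain ⟨h2, h1⟩ := hyE'
    obtain ⟨ha1, ha7⟩ := exc_bound_a (y 0) (fun i => y i.succ) h2 h1
    have hb := exc_bound_b (y 0) (fun i => y i.succ) h2 h1
    have b3 := hb 2
    have b4 := hb 3
    have b5 := hb 4
    have b6 := hb 5
    have b7 := hb 6
    have b8 := hb 7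
    rw [Fin.sum_univ_eight] at h1 h2
    simp only [Fin.succ_zero_eq_one, Fin.reduceSucc] at h1 h2 b3 b4 b5 b6 b7 b8
    rw [hy1, hy2] at h1 h2
    obtain ⟨A, hA⟩ : ∃ A : ℕ, y 0 = (A : ℤ) - 1 := ⟨(y 0 + 1).toNat, by omega⟩
    obtain ⟨C0, hC0⟩ : ∃ A : ℕ, y 3 = (A : ℤ) - 1 := ⟨(y 3 + 1).toNat, by omega⟩
    obtain ⟨C1, hC1⟩ : ∃ A : ℕ, y 4 = (A : ℤ) - 1 := ⟨(y 4 + 1).toNat, by omega⟩
    obtain ⟨C2, hC2⟩ : ∃ A : ℕ, y 5 = (A : ℤ) - 1 := ⟨(y 5 + 1).toNat, by omega⟩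
    obtain ⟨C3, hC3⟩ : ∃ A : ℕ, y 6 = (A : ℤ) - 1 := ⟨(y 6 + 1).toNat, by omega⟩
    obtain ⟨C4, hC4⟩ : ∃ A : ℕ, y 7 = (A : ℤ) - 1 := ⟨(y 7 + 1).toNat, by omega⟩
    obtain ⟨C5, hC5⟩ : ∃ A : ℕ, y 8 = (A : ℤ) - 1 := ⟨(y 8 + 1).toNat, by omega⟩
    have eq1 : C0 + C1 + C2 + C3 + C4 + C5 = 3 * A + 1 := by omega
    have eq2 : C0 ^ 2 + C1 ^ 2 + C2 ^ 2 + C3 ^ 2 + C4 ^ 2 + C5 ^ 2 + 2 * A + 5 =
        A ^ 2 + 2 * (C0 + C1 + C2 + C3 + C4 + C5) := by
      have : ((C0 : ℤ) ^ 2 + C1 ^ 2 + C2 ^ 2 + C3 ^ 2 + C4 ^ 2 + C5 ^ 2 + 2 * A + 5 : ℤ) =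
          A ^ 2 + 2 * (C0 + C1 + C2 + C3 + C4 + C5) := by
        rw [hA, hC0, hC1, hC2, hC3, hC4, hC5] at h2
        linear_combination h2
      exact_mod_cast this
    have key := searchIII A (by rw [Finset.mem_range]; omega)
      C5 (by rw [Finset.mem_range]; omega)
      C4 (by rw [Finset.mem_range]; omega) C3 (by rw [Finset.mem_range]; omega)
      C2 (by rw [Finset.mem_range]; omega) C1 (by rw [Finset.mem_range]; omega)
      C0 (by rw [Finset.mem_range]; omega) eq1 eq2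
    rcases key with hlt | ⟨rfl, rfl, rfl, rfl, rfl, rfl, rfl⟩
    · -- descent step
      obtain ⟨z, hz⟩ : ∃ z : DP 8, z = refl αC αC_sq y := ⟨_, rfl⟩
      have hyz : Rel2 y z := hz ▸ rel2_refl_αC y
      have hzE : IsExc z := hz ▸ isExc_map (isWeyl_refl _ _ αC_K) hyE
      have hf : form y αC < 0 := by rw [form_αC]; omega
      have hz0 : z 0 = y 0 + form y αC := by
        rw [hz, refl_apply]; simp [αC]
      have hz1 : z 1 = y 1 := by
        rw [hz, refl_apply]; simp [αC]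
      have hz2' : z 2 = y 2 := by
        rw [hz, refl_apply]; simp [αC]
      obtain ⟨hz2, hz1'⟩ := (isExc_iff z).mp hzE
      obtain ⟨hza, -⟩ := exc_bound_a (z 0) (fun i => z i.succ) hz2 hz1'
      obtain ⟨n', hn'⟩ : ∃ n' : ℕ, z 0 + 1 = n' := ⟨(z 0 + 1).toNat, by omega⟩
      have hlt' : n' < n := by omega
      have := ih n' hlt' z hzE (by rw [hz1, hy1]) (by rw [hz2', hy2]) hn'
      exact hxy.trans (hyz.trans this)
    · refine hxy.trans ?_
      have : y = Q3 := by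
        rw [vec_eq y, hA, hy1, hy2, hC0, hC1, hC2, hC3, hC4, hC5]
        norm_num [Q3]
      rw [this]
      exact ⟨LinearEquiv.refl ℤ _, isWeyl_refl', rfl, rfl, rfl⟩

end H21.DPWeyl
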