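import Mathlib
import Groth.Agent.H21.DPExcStab2

set_option autoImplicit false

open W4c3severiratdp

namespace H21.DPWeyl

def S1 : DP 8 := ![6, 1, 2, 2, 2, 2, 2, 2, 2]
def R3 : DP 8 := ![6, 3, 2, 2, 2, 2, 2, 2, 2]
def R23 : DP 8 := ![6, 2, 3, 2, 2, 2, 2, 2, 2]
def R1 : DP 8 := ![1, 1, 0, 0, 0, 0, 0, 0, 1]
def R51 : DP 8 := ![5, 1, 2, 2, 2, 2, 2, 2, 1]

lemma S1_eq : E1 - 2 • canon 8 = S1 := by
  funext i
  fin_cases i <;> rfl

/-- the four representatives for `L = E1` -/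
def r0 : Fin 4 → (Fin 3 → DP 8) := ![![E1, E1, R3], ![E1, E2, R23], ![E1, R1, R51], ![E2, Q3, R51]]

lemma exc_E1 : IsExc E1 := isExc_vec _ _ _ _ _ _ _ _ _ (by norm_num) (by norm_num)
lemma exc_E2 : IsExc E2 := isExc_vec _ _ _ _ _ _ _ _ _ (by norm_num) (by norm_num)
lemma exc_R3 : IsExc R3 := isExc_vec _ _ _ _ _ _ _ _ _ (by norm_num) (by norm_num)
lemma exc_R23 : IsExc R23 := isExc_vec _ _ _ _ _ _ _ _ _ (by norm_num) (by norm_num)
lemma exc_R1 : IsExc R1 := isExc_vec _ _ _ _ _ _ _ _ _ (by norm_num) (by norm_num)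
lemma exc_R51 : IsExc R51 := isExc_vec _ _ _ _ _ _ _ _ _ (by norm_num) (by norm_num)
lemma exc_Q3 : IsExc Q3 := isExc_vec _ _ _ _ _ _ _ _ _ (by norm_num) (by norm_num)

lemma r0_exc (j : Fin 4) (i : Fin 3) : IsExc (r0 j i) := by
  fin_cases j <;> fin_cases i
  · exact exc_E1
  · exact exc_E1
  · exact exc_R3
  · exact exc_E1
  · exact exc_E2
  · exact exc_R23
  · exact exc_E1
  · exact exc_R1
  · exact exc_R51
  · exact exc_E2
  · exact exc_Q3
  · exact exc_R51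

lemma r0_sum (j : Fin 4) : r0 j 0 + r0 j 1 + r0 j 2 = S1 := by
  fin_cases j <;> (funext i; fin_cases i <;> rfl)

/-- the invariant -/
def I0 (j : Fin 4) : ℤ := (r0 j 0 1) ^ 2 + (r0 j 1 1) ^ 2 + (r0 j 2 1) ^ 2

lemma I0_inj : ∀ j j' : Fin 4, I0 j = I0 j' → j = j' := by decide

lemma exc_m_neg1 (x : DP 8) (hx : IsExc x) (h : x 1 = -1) : x = E1 := by
  obtain ⟨g, hg, hgE, hgx⟩ := rel_rep x hx
  rw [h] at hgx
  have : rep (-1) = E1 := by simp [rep, E1]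
  rw [this, ← hgE] at hgx
  exact g.injective hgx

lemma form_S1 (x : DP 8) (hx : IsExc x) : form S1 x = 2 + x 1 := by
  obtain ⟨-, h1⟩ := (isExc_iff x).mp hx
  rw [Fin.sum_univ_eight] at h1
  simp only [Fin.succ_zero_eq_one, Fin.reduceSucc] at h1
  unfold form S1
  rw [Fin.sum_univ_eight]
  simp only [Fin.succ_zero_eq_one, Fin.reduceSucc]
  simp
  linarith

lemma form_S1_S1 : form S1 S1 = 7 := by
  rw [S1, form_vec]; norm_num

lemma map_S1 {g : DP 8 ≃ₗ[ℤ] DP 8} (hg : IsWeyl g) (hgE : g E1 = E1) : g S1 = S1 := by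
  rw [← S1_eq, map_sub, map_nsmul, hgE, hg.2]

lemma rep_zero : rep 0 = E2 := by simp [rep, E2]
lemma rep_one : rep 1 = R1 := by simp [rep, R1]

lemma third_eq {a b c : DP 8} (h : a + b + c = S1) : c = S1 - a - b := by
  rw [← h]; abel

theorem cover (t : Fin 3 → DP 8) (ht : ∀ i, IsExc (t i)) (hsum : t 0 + t 1 + t 2 = S1) :
    ∃ j, ∃ g : DP 8 ≃ₗ[ℤ] DP 8, IsWeyl g ∧ g E1 = E1 ∧
      ∃ σ : Equiv.Perm (Fin 3), ∀ i, g (t (σ i)) = r0 j i := by
  obtain ⟨π, hπ⟩ : ∃ π : Equiv.Perm (Fin 3), π = Tuple.sort (fun i : Fin 3 => t i 1) := ⟨_, rfl⟩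
  have hmono : ∀ i j : Fin 3, i ≤ j → t (π i) 1 ≤ t (π j) 1 := by
    intro i j hij
    rw [hπ]
    exact Tuple.monotone_sort (fun i : Fin 3 => t i 1) hij
  have hsum' : t (π 0) + t (π 1) + t (π 2) = S1 := by
    rw [← hsum, ← Fin.sum_univ_three (fun i => t (π i)), ← Fin.sum_univ_three t]
    exact Equiv.sum_comp π t
  have hu : ∀ i, IsExc (t (π i)) := fun i => ht (π i)
  have hbd : ∀ x : DP 8, IsExc x → -1 ≤ x 1 ∧ x 1 ≤ 3 := by
    intro x hx
    obtain ⟨h2, h1⟩ := (isExc_iff x).mp hx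
    exact exc_bound_b (x 0) (fun i => x i.succ) h2 h1 0
  have b0 := hbd _ (hu 0)
  have b1 := hbd _ (hu 1)
  have b2 := hbd _ (hu 2)
  have m01 := hmono 0 1 (by decide)
  have m12 := hmono 1 2 (by decide)
  have hs1 : t (π 0) 1 + t (π 1) 1 + t (π 2) 1 = 1 := by
    have := congrFun hsum' 1
    simpa [S1] using this
  have h3 := third_eq hsum'
  have cases4 : (t (π 0) 1 = -1 ∧ t (π 1) 1 = -1 ∧ t (π 2) 1 = 3) ∨
      (t (π 0) 1 = -1 ∧ t (π 1) 1 = 0 ∧ t (π 2) 1 = 2) ∨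
      (t (π 0) 1 = -1 ∧ t (π 1) 1 = 1 ∧ t (π 2) 1 = 1) ∨
      (t (π 0) 1 = 0 ∧ t (π 1) 1 = 0 ∧ t (π 2) 1 = 1) := by omega
  rcases cases4 with ⟨c0, c1, c2⟩ | ⟨c0, c1, c2⟩ | ⟨c0, c1, c2⟩ | ⟨c0, c1, c2⟩
  · -- (-1, -1, 3)
    have e0 := exc_m_neg1 _ (hu 0) c0
    have e1 := exc_m_neg1 _ (hu 1) c1
    refine ⟨0, LinearEquiv.refl ℤ _, isWeyl_refl', rfl, π, ?_⟩
    intro i
    fin_cases i
    · exact e0
    · exact e1
    · change t (π 2) = R3
      rw [h3, e0, e1]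
      funext i; fin_cases i <;> rfl
  · -- (-1, 0, 2)
    have e0 := exc_m_neg1 _ (hu 0) c0
    obtain ⟨g, hg, hgE, hgx⟩ := rel_rep _ (hu 1)
    rw [c1, rep_zero] at hgx
    refine ⟨1, g, hg, hgE, π, ?_⟩
    intro i
    fin_cases i
    · change g (t (π 0)) = E1
      rw [e0, hgE]
    · exact hgx
    · change g (t (π 2)) = R23
      rw [h3, map_sub, map_sub, map_S1 hg hgE, hgx, e0, hgE]
      funext i; fin_cases i <;> rfl
  · -- (-1, 1, 1)
    have e0 := exc_m_neg1 _ (hu 0) c0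
    obtain ⟨g, hg, hgE, hgx⟩ := rel_rep _ (hu 1)
    rw [c1, rep_one] at hgx
    refine ⟨2, g, hg, hgE, π, ?_⟩
    intro i
    fin_cases i
    · change g (t (π 0)) = E1
      rw [e0, hgE]
    · exact hgx
    · change g (t (π 2)) = R51
      rw [h3, map_sub, map_sub, map_S1 hg hgE, hgx, e0, hgE]
      funext i; fin_cases i <;> rfl
  · -- (0, 0, 1)
    obtain ⟨g1, hg1, hg1E, hg1x⟩ := rel_rep _ (hu 0)
    rw [c0, rep_zero] at hg1x
    -- the product of the first two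
    have hprod : form (t (π 1)) (t (π 0)) = 1 := by
      have h33 := (hu 2).1
      rw [h3] at h33
      rw [form_sub_left, form_sub_left, form_sub_right, form_sub_right, form_sub_right, form_sub_right,
        form_sub_right, form_sub_right, form_S1_S1, form_S1 _ (hu 0), form_S1 _ (hu 1),
        form_comm (t (π 0)) S1, form_comm (t (π 1)) S1, form_S1 _ (hu 0), form_S1 _ (hu 1),
        (hu 0).1, (hu 1).1, form_comm (t (π 0)) (t (π 1)), c0, c1] at h33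
      linarith
    have hv : IsExc (g1 (t (π 1))) := isExc_map hg1 (hu 1)
    have hv1 : g1 (t (π 1)) 1 = 0 := by
      rw [← form_E1 (g1 (t (π 1))), ← hg1E, hg1.1, form_E1, c1]
    have hv2 : g1 (t (π 1)) 2 = 1 := by
      rw [← form_E2 (g1 (t (π 1))), ← hg1x, hg1.1, hprod]
    obtain ⟨hv2', hv1'⟩ := (isExc_iff _).mp hv
    obtain ⟨hva, -⟩ := exc_bound_a _ (fun i => g1 (t (π 1)) i.succ) hv2' hv1'
    obtain ⟨n, hn⟩ : ∃ n : ℕ, g1 (t (π 1)) 0 + 1 = n := ⟨(g1 (t (π 1)) 0 + 1).toNat, by omega⟩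
    obtain ⟨g2, hg2, hg2E, hg2E2, hg2x⟩ := descent3 n _ hv hv1 hv2 hn
    have hgg : IsWeyl (g1.trans g2) := isWeyl_trans hg1 hg2
    have hggE : (g1.trans g2) E1 = E1 := by rw [LinearEquiv.trans_apply, hg1E, hg2E]
    refine ⟨3, g1.trans g2, hgg, hggE, π, ?_⟩
    have i0 : (g1.trans g2) (t (π 0)) = E2 := by rw [LinearEquiv.trans_apply, hg1x, hg2E2]
    have i1 : (g1.trans g2) (t (π 1)) = Q3 := by rw [LinearEquiv.trans_apply, hg2x]
    intro i
    fin_cases i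
    · exact i0
    · exact i1
    · change (g1.trans g2) (t (π 2)) = R51
      rw [h3, map_sub, map_sub, map_S1 hgg hggE, i0, i1]
      funext i; fin_cases i <;> rfl

theorem triples (L : DP 8) (hL : IsExc L) :
    ∃ r : Fin 4 → (Fin 3 → DP 8),
      (∀ j, (∀ i, IsExc (r j i)) ∧ r j 0 + r j 1 + r j 2 = L - 2 • canon 8) ∧
      (∀ j j', (∃ g : DP 8 ≃ₗ[ℤ] DP 8, IsWeyl g ∧ g L = L ∧ ∃ σ : Equiv.Perm (Fin 3), ∀ i, g (r j (σ i)) = r j' i) → j = j') ∧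
      ∀ t : Fin 3 → DP 8, (∀ i, IsExc (t i)) → t 0 + t 1 + t 2 = L - 2 • canon 8 →
        ∃ j, ∃ g : DP 8 ≃ₗ[ℤ] DP 8, IsWeyl g ∧ g L = L ∧ ∃ σ : Equiv.Perm (Fin 3), ∀ i, g (t (σ i)) = r j i := by
  obtain ⟨h, hh, hhL⟩ := toE1 L hL
  have hhs : IsWeyl h.symm := isWeyl_symm hh
  have hsL : h.symm E1 = L := by rw [← hhL]; exact LinearEquiv.symm_apply_apply _ _
  have hS : h.symm S1 = L - 2 • canon 8 := by
    rw [← S1_eq, map_sub, map_nsmul, hsL, hhs.2]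
  have hS' : h (L - 2 • canon 8) = S1 := by
    rw [← hS]; exact LinearEquiv.apply_symm_apply _ _
  refine ⟨fun j i => h.symm (r0 j i), ?_, ?_, ?_⟩
  · intro j
    refine ⟨fun i => isExc_map hhs (r0_exc j i), ?_⟩
    change h.symm (r0 j 0) + h.symm (r0 j 1) + h.symm (r0 j 2) = _
    rw [← map_add, ← map_add, r0_sum, hS]
  · rintro j j' ⟨g, hg, hgL, σ, hσ⟩
    replace hσ : ∀ i : Fin 3, g (h.symm (r0 j (σ i))) = h.symm (r0 j' i) := hσ
    apply I0_inj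
    have key : ∀ j i, form (h.symm (r0 j i)) L = r0 j i 1 := by
      intro j i
      conv_lhs => rw [← hsL]
      rw [hhs.1, form_E1]
    have e1 : ∀ i, r0 j' i 1 = r0 j (σ i) 1 := by
      intro i
      rw [← key j' i, ← hσ i, ← key j (σ i)]
      conv_lhs => rw [← hgL]
      rw [hg.1]
    have : ∑ i : Fin 3, (r0 j (σ i) 1) ^ 2 = ∑ i : Fin 3, (r0 j i 1) ^ 2 :=
      Equiv.sum_comp σ (fun i => (r0 j i 1) ^ 2)
    rw [Fin.sum_univ_three, Fin.sum_univ_three] at this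
    unfold I0
    rw [← this, e1 0, e1 1, e1 2]
  · intro t ht hsum
    have ht' : ∀ i, IsExc (h (t i)) := fun i => isExc_map hh (ht i)
    have hsum' : h (t 0) + h (t 1) + h (t 2) = S1 := by
      rw [← map_add, ← map_add, hsum, hS']
    obtain ⟨j, g, hg, hgE, σ, hσ⟩ := cover (fun i => h (t i)) ht' hsum'
    refine ⟨j, h.trans (g.trans h.symm), isWeyl_trans hh (isWeyl_trans hg hhs), ?_, σ, ?_⟩
    · rw [LinearEquiv.trans_apply, LinearEquiv.trans_apply, hhL, hgE, hsL]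
    · intro i
      rw [LinearEquiv.trans_apply, LinearEquiv.trans_apply]
      exact congrArg h.symm (hσ i)

end H21.DPWeyl
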