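import Mathlib

namespace Groth.Agent.H21.DPFree

open DividedPowers

universe u v w

variable {R : Type u} [CommRing R] {N : ℕ}
    {P : Type v} [CommRing P] [Algebra R P] (x : Fin N → ℕ → P)
    (hx0 : ∀ i, x i 0 = 1)
    (hxmul : ∀ i n m, x i n * x i m = ((n + m).choose n : P) * x i (n + m))
    (b : Module.Basis (Fin N →₀ ℕ) R P) (hb : ∀ e : Fin N →₀ ℕ, b e = e.prod (fun i k => x i k))
    (γ : DividedPowers (Ideal.span {y : P | ∃ (i : Fin N) (n : ℕ), 1 ≤ n ∧ y = x i n}))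
    (hγ : ∀ (i : Fin N) (n : ℕ), γ.dpow n (x i 1) = x i n)
    {S : Type w} [CommRing S] [Algebra R S] {J : Ideal S} (δ : DividedPowers J)
    (s : Fin N → S) (hs : ∀ i, s i ∈ J)

/-- the values on the basis -/
def g (e : Fin N →₀ ℕ) : S := e.prod (fun i k => δ.dpow k (s i))

include hs in
lemma g_eq (e : Fin N →₀ ℕ) : g δ s e = ∏ i, δ.dpow (e i) (s i) := by
  unfold g
  rw [Finsupp.prod_fintype]
  intro i
  exact δ.dpow_zero (hs i)

include hx0 hb in
lemma b_eq (e : Fin N →₀ ℕ) : b e = ∏ i, x i (e i) := by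
  rw [hb, Finsupp.prod_fintype]
  intro i
  exact hx0 i

include hx0 hxmul hb in
lemma b_mul (e e' : Fin N →₀ ℕ) :
    b e * b e' = ((∏ i, (e i + e' i).choose (e i) : ℕ) : P) * b (e + e') := by
  rw [b_eq x hx0 b hb, b_eq x hx0 b hb, b_eq x hx0 b hb, ← Finset.prod_mul_distrib, Nat.cast_prod,
    ← Finset.prod_mul_distrib]
  refine Finset.prod_congr rfl fun i _ => ?_
  rw [hxmul, Finsupp.add_apply]

include hs in
lemma g_mul (e e' : Fin N →₀ ℕ) :
    g δ s e * g δ s e' = ((∏ i, (e i + e' i).choose (e i) : ℕ) : S) * g δ s (e + e') := by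
  rw [g_eq δ s hs, g_eq δ s hs, g_eq δ s hs, ← Finset.prod_mul_distrib, Nat.cast_prod,
    ← Finset.prod_mul_distrib]
  refine Finset.prod_congr rfl fun i _ => ?_
  rw [δ.mul_dpow (hs i), Finsupp.add_apply]

/-- the linear map -/
noncomputable def φₗ : P →ₗ[R] S := b.constr R (g δ s)

lemma φₗ_b (e : Fin N →₀ ℕ) : φₗ b δ s (b e) = g δ s e := by
  unfold φₗ
  rw [Module.Basis.constr_basis]

include hx0 hxmul hb hs in
lemma φₗ_mul (p q : P) : φₗ b δ s (p * q) = φₗ b δ s p * φₗ b δ s q := by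
  have h : (LinearMap.mul R P).compr₂ (φₗ b δ s)
      = (LinearMap.mul R S).compl₁₂ (φₗ b δ s) (φₗ b δ s) := by
    apply b.ext
    intro e
    apply b.ext
    intro e'
    simp only [LinearMap.compr₂_apply, LinearMap.mul_apply', LinearMap.compl₁₂_apply]
    rw [φₗ_b, φₗ_b, b_mul x hx0 hxmul b hb, g_mul δ s hs, ← nsmul_eq_mul, map_nsmul, φₗ_b,
      nsmul_eq_mul]
  exact LinearMap.congr_fun (LinearMap.congr_fun h p) q

include hb in
lemma b_zero : b 0 = 1 := by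
  rw [hb, Finsupp.prod_zero_index]

include hb in
lemma φₗ_one : φₗ b δ s 1 = 1 := by
  rw [← b_zero x b hb, φₗ_b]
  unfold g
  rw [Finsupp.prod_zero_index]

/-- the algebra map -/
noncomputable def φ : P →ₐ[R] S :=
  AlgHom.ofLinearMap (φₗ b δ s) (φₗ_one x b hb δ s) (φₗ_mul x hx0 hxmul b hb δ s hs)

include hx0 hb in
lemma x_eq_b (i : Fin N) (n : ℕ) : x i n = b (Finsupp.single i n) := by
  rw [hb, Finsupp.prod_single_index (hx0 i)]

lemma φ_x (i : Fin N) (n : ℕ) : φ x hx0 hxmul b hb δ s hs (x i n) = δ.dpow n (s i) := by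
  rw [x_eq_b x hx0 b hb]
  change φₗ b δ s _ = _
  rw [φₗ_b]
  unfold g
  rw [Finsupp.prod_single_index (h := fun i k => δ.dpow k (s i)) (δ.dpow_zero (hs i))]

lemma x_one_mem (i : Fin N) :
    x i 1 ∈ Ideal.span {y : P | ∃ (i : Fin N) (n : ℕ), 1 ≤ n ∧ y = x i n} :=
  Ideal.subset_span ⟨i, 1, le_rfl, rfl⟩

include hγ in
lemma φ_isDP : γ.IsDPMorphism δ (φ x hx0 hxmul b hb δ s hs).toRingHom := by
  apply IsDPMorphism.on_span γ δ rfl
  · rintro _ ⟨i, n, hn, rfl⟩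
    change φ x hx0 hxmul b hb δ s hs (x i n) ∈ J
    rw [φ_x]
    exact δ.dpow_mem (by omega) (hs i)
  · rintro n _ ⟨i, m, hm, rfl⟩
    change φ x hx0 hxmul b hb δ s hs (γ.dpow n (x i m)) = δ.dpow n (φ x hx0 hxmul b hb δ s hs (x i m))
    rw [φ_x, ← hγ i m, γ.dpow_comp (by omega) (x_one_mem x i), hγ, map_mul, map_natCast, φ_x,
      δ.dpow_comp (by omega) (hs i)]

include hγ in
lemma unique (ψ : P →ₐ[R] S) (hψ : γ.IsDPMorphism δ ψ.toRingHom) (hψs : ∀ i, ψ (x i 1) = s i) :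
    ψ = φ x hx0 hxmul b hb δ s hs := by
  have hψx : ∀ i n, ψ (x i n) = δ.dpow n (s i) := by
    intro i n
    rw [← hγ i n]
    have := hψ.map_dpow (n := n) (x_one_mem x i)
    change ψ _ = δ.dpow n (ψ _) at this
    rw [this, hψs]
  apply AlgHom.toLinearMap_injective
  apply b.ext
  intro e
  change ψ (b e) = φₗ b δ s (b e)
  rw [φₗ_b, b_eq x hx0 b hb, map_prod, g_eq δ s hs]
  refine Finset.prod_congr rfl fun i _ => ?_
  rw [hψx]

end Groth.Agent.H21.DPFree
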