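import Mathlib
open CategoryTheory CategoryTheory.Limits CochainComplex HomComplex
universe v u
namespace Groth.Agent.H21

variable {C : Type u} [Category.{v} C] [Preadditive C]

lemma split_aux {X₁ X₂ X₃ : CochainComplex C ℤ} (f : X₁ ⟶ X₂) (g : X₂ ⟶ X₃)
    (s s' : ∀ n, X₃.X n ⟶ X₂.X n) (r r' : ∀ n, X₂.X n ⟶ X₁.X n)
    (hid : ∀ n, r n ≫ f.f n + g.f n ≫ s n = 𝟙 _)
    (hid' : ∀ n, r' n ≫ f.f n + g.f n ≫ s' n = 𝟙 _)
    (hsg : ∀ n, s n ≫ g.f n = 𝟙 _) (hsg' : ∀ n, s' n ≫ g.f n = 𝟙 _)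
    (hfr : ∀ n, f.f n ≫ r n = 𝟙 _) (p : ℤ) :
    s' p ≫ X₂.d p (p + 1) ≫ r' (p + 1) - s p ≫ X₂.d p (p + 1) ≫ r (p + 1) =
      (s' p ≫ r p) ≫ X₁.d p (p + 1) - X₃.d p (p + 1) ≫ (s' (p + 1) ≫ r (p + 1)) := by
  have hf : Mono (f.f (p + 1)) := mono_of_mono_fac (hfr (p + 1))
  rw [← cancel_mono (f.f (p + 1))]
  have rf : ∀ n, r n ≫ f.f n = 𝟙 _ - g.f n ≫ s n := by
    intro n; rw [← hid n]; abel
  have rf' : ∀ n, r' n ≫ f.f n = 𝟙 _ - g.f n ≫ s' n := by
    intro n; rw [← hid' n]; abel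
  simp only [Preadditive.sub_comp, Category.assoc]
  rw [rf (p + 1), rf' (p + 1), ← f.comm, reassoc_of% (rf p)]
  simp only [Preadditive.comp_sub, Preadditive.sub_comp, Category.comp_id, Category.id_comp,
    Category.assoc]
  have e1 : ∀ n, s' n ≫ g.f n ≫ s n = s n := fun n => by rw [reassoc_of% (hsg' n)]
  rw [← g.comm_assoc, ← g.comm_assoc, reassoc_of% (hsg p), reassoc_of% (hsg' p),
    reassoc_of% (hsg' p), e1 (p + 1)]
  abel

variable [HasBinaryBiproducts C]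

theorem cocycle_diff (S : ShortComplex (CochainComplex C ℤ))
    (σ σ' : ∀ n : ℤ, (S.map (HomologicalComplex.eval C (ComplexShape.up ℤ) n)).Splitting) :
    (cocycleOfDegreewiseSplit S σ').1 - (cocycleOfDegreewiseSplit S σ).1 =
      δ 0 1 (Cochain.ofHoms (fun p => (σ' p).s ≫ (σ p).r)) := by
  ext p q hpq
  obtain rfl : q = p + 1 := by omega
  rw [δ_v 0 1 (zero_add 1) _ p (p + 1) rfl p (p + 1) (by omega) rfl]
  simp only [Cochain.ofHoms_v, Int.negOnePow_one, Units.neg_smul, one_smul, Cochain.sub_v]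
  rw [← sub_eq_add_neg]
  exact split_aux S.f S.g (fun n => (σ n).s) (fun n => (σ' n).s) (fun n => (σ n).r)
    (fun n => (σ' n).r) (fun n => (σ n).id) (fun n => (σ' n).id) (fun n => (σ n).s_g)
    (fun n => (σ' n).s_g) (fun n => (σ n).f_r) p

end Groth.Agent.H21

namespace Groth.Agent.H21

variable {C : Type u} [Category.{v} C] [Preadditive C] [HasBinaryBiproducts C]

theorem homotopy_homOfDegreewiseSplit (S : ShortComplex (CochainComplex C ℤ))
    (σ σ' : ∀ n : ℤ, (S.map (HomologicalComplex.eval C (ComplexShape.up ℤ) n)).Splitting) :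
    Nonempty (Homotopy (CochainComplex.homOfDegreewiseSplit S σ)
      (CochainComplex.homOfDegreewiseSplit S σ')) := by
  let w : Cochain S.X₃ S.X₁ 0 := Cochain.ofHoms (fun p => (σ' p).s ≫ (σ p).r)
  have h1 : ∀ τ : ∀ n : ℤ, (S.map (HomologicalComplex.eval C (ComplexShape.up ℤ) n)).Splitting,
      Cochain.ofHom (CochainComplex.homOfDegreewiseSplit S τ) =
        (cocycleOfDegreewiseSplit S τ).1.rightShift 1 0 (zero_add 1) := by
    intro τ
    have := (Cocycle.equivHom S.X₃ (S.X₁⟦(1 : ℤ)⟧)).apply_symm_apply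
      ((cocycleOfDegreewiseSplit S τ).rightShift 1 0 (zero_add 1))
    exact congrArg Subtype.val this
  refine ⟨(Cochain.equivHomotopy _ _).symm ⟨w.rightShift 1 (-1) (by omega), ?_⟩⟩
  rw [h1, h1, Cochain.δ_rightShift w 1 (-1) 0 (by omega) 1 (by omega), ← cocycle_diff]
  rw [sub_eq_add_neg, Cochain.rightShift_add, Cochain.rightShift_neg]
  simp only [Int.negOnePow_one, Units.neg_smul, one_smul]
  abel

end Groth.Agent.H21
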