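import Mathlib

/-!
Helper lemmas (helper21): a morphism in the derived category from an object `≤ m` to an object
`≥ m` which is zero on `H^m` is zero.
-/

namespace Groth.Agent.H21

open CategoryTheory CategoryTheory.Limits DerivedCategory

universe w v u
variable {C : Type u} [Category.{v} C] [Abelian C]

/-- A chain map from a complex strictly `≤ m` to a complex strictly `≥ m` inducing zero on
`H^m` is zero. -/
lemma chainMap_eq_zero_of_homologyMap_eq_zero {K L : CochainComplex C ℤ} (m : ℤ)
    [K.IsStrictlyLE m] [L.IsStrictlyGE m] (g : K ⟶ L)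
    (hg : HomologicalComplex.homologyMap g m = 0) : g = 0 := by
  ext i
  by_cases hi : i < m
  · exact (L.isZero_of_isStrictlyGE m i hi).eq_of_tgt _ _
  · by_cases hi' : m < i
    · exact (K.isZero_of_isStrictlyLE m i hi').eq_of_src _ _
    · obtain rfl : i = m := by omega
      have h1 : IsIso (K.iCycles i) := K.isIso_iCycles i (i + 1) (by simp)
        ((K.isZero_of_isStrictlyLE i (i + 1) (by omega)).eq_of_tgt _ _)
      have h2 : IsIso (L.homologyπ i) := L.isIso_homologyπ (i - 1) i (by simp)
        ((L.isZero_of_isStrictlyGE i (i - 1) (by omega)).eq_of_src _ _)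
      have h3 : HomologicalComplex.cyclesMap g i = 0 := by
        rw [← cancel_mono (L.homologyπ i), zero_comp, ← HomologicalComplex.homologyπ_naturality,
          hg, comp_zero]
      rw [← cancel_epi (K.iCycles i), ← HomologicalComplex.cyclesMap_i, h3, zero_comp]
      simp

variable [HasDerivedCategory.{w} C]

/-- A morphism in the derived category from an object `≤ m` to an object `≥ m` which
induces zero on `H^m` is zero. -/
lemma hom_eq_zero_of_isLE_of_isGE {X Y : DerivedCategory C} (m : ℤ) [X.IsLE m] [Y.IsGE m]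
    (f : X ⟶ Y) (hf : (homologyFunctor C m).map f = 0) : f = 0 := by
  obtain ⟨K, hK, ⟨eX⟩⟩ := X.exists_iso_Q_obj_of_isLE m
  obtain ⟨L, hL, ⟨eY⟩⟩ := Y.exists_iso_Q_obj_of_isGE m
  suffices h : eX.inv ≫ f ≫ eY.hom = 0 by
    rw [← cancel_epi eX.inv, ← cancel_mono eY.hom]
    simpa using h
  obtain ⟨K', hK', s, hs, g, hfac⟩ := right_fac_of_isStrictlyLE (eX.inv ≫ f ≫ eY.hom) m
  have hg : HomologicalComplex.homologyMap g m = 0 := by
    have h1 : (homologyFunctor C m).map (Q.map g) = 0 := by
      have : Q.map g = Q.map s ≫ eX.inv ≫ f ≫ eY.hom := by rw [hfac]; simp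
      rw [this]
      simp [hf]
    have h2 := NatIso.naturality_1 (homologyFunctorFactors C m) g
    have h1' : (Q ⋙ homologyFunctor C m).map g = 0 := h1
    rw [h1', zero_comp, comp_zero] at h2
    exact h2.symm
  rw [hfac, chainMap_eq_zero_of_homologyMap_eq_zero m g hg]
  simp

end Groth.Agent.H21
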