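import Groth.Statements.S16542
import Mathlib

set_option autoImplicit false
open TensorProduct

namespace Groth.Agent.H21.DispFF

theorem tmul_one_eq_zero {A S R : Type*} [CommRing A] [CommRing S] [CommRing R] [Algebra S R]
    [Module.FaithfullyFlat S R]
    (π : A →+* S) (hπ : Function.Surjective π) (g : A →+* R) (hg : ∀ a, g a = algebraMap S R (π a))
    {N : Type*} [AddCommGroup N] [Module A N] (hN : ∀ a : A, π a = 0 → ∀ n : N, a • n = 0)
    (n : N) (h : Dieu.BC.tmul g 1 n = 0) : n = 0 := by
  classical
  have key : ∀ a b : A, π a = π b → ∀ n : N, a • n = b • n := by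
    intro a b hab n
    have := hN (a - b) (by rw [map_sub, hab, sub_self]) n
    rwa [sub_smul, sub_eq_zero] at this
  have hτ : ∀ s, π (Function.surjInv hπ s) = s := Function.surjInv_eq hπ
  letI : Module S N :=
    { smul := fun s n => Function.surjInv hπ s • n
      one_smul := fun n => by
        show Function.surjInv hπ 1 • n = n
        rw [key _ 1 (by rw [hτ, map_one]) n, one_smul]
      mul_smul := fun s t n => by
        show Function.surjInv hπ (s * t) • n = Function.surjInv hπ s • (Function.surjInv hπ t • n)
        rw [← mul_smul]
        exact key _ _ (by rw [hτ, map_mul, hτ, hτ]) n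
      smul_zero := fun s => smul_zero _
      smul_add := fun s m n => smul_add _ _ _
      add_smul := fun s t n => by
        show Function.surjInv hπ (s + t) • n = Function.surjInv hπ s • n + Function.surjInv hπ t • n
        rw [← add_smul]
        exact key _ _ (by rw [hτ, map_add, hτ, hτ]) n
      zero_smul := fun n => by
        show Function.surjInv hπ 0 • n = 0
        rw [key _ 0 (by rw [hτ, map_zero]) n, zero_smul] }
  have compat : ∀ (a : A) (n : N), (π a) • n = a • n := fun a n => key _ _ (hτ _) n
  let f : Dieu.Res g →+ N →+ R ⊗[S] N :=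
    { toFun := fun t => (TensorProduct.mk S R N (Dieu.Res.val t)).toAddMonoidHom
      map_zero' := by
        ext n
        simp
      map_add' := fun s t => by
        ext n
        simp [add_tmul] }
  have hf : ∀ (a : A) (t : Dieu.Res g) (n : N), f (a • t) n = f t (a • n) := by
    intro a t n
    show (Dieu.Res.val (a • t)) ⊗ₜ[S] n = (Dieu.Res.val t) ⊗ₜ[S] (a • n)
    rw [Dieu.Res.val_smul, hg, ← Algebra.smul_def, TensorProduct.smul_tmul, compat]
  let Φ : Dieu.BC g N →+ R ⊗[S] N := TensorProduct.liftAddHom f hf
  have h1 : Φ (Dieu.BC.tmul g 1 n) = (1 : R) ⊗ₜ[S] n := TensorProduct.liftAddHom_tmul _ _ _ _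
  rw [h, map_zero] at h1
  have inj := Module.FaithfullyFlat.tensorProduct_mk_injective (A := S) (B := R) N
  apply inj
  rw [map_zero]
  exact h1.symm

universe u v
theorem main (p : ℕ) [Fact p.Prime]
    (S R : Type u) [CommRing S] [CommRing R] [Algebra S R] [Module.FaithfullyFlat S R]
    (P : Type v) [AddCommGroup P] [Module (WittVector p S) P] (D : W4c1extbt610.Display3n p S P)
    (DR : W4c1extbt610.Display3n p R (Dieu.BC (WittVector.map (algebraMap S R) : WittVector p S →+* WittVector p R) P))
    (hDR : Dieu.IsDispBaseChange (algebraMap S R) D DR) (x : P) :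
    x ∈ D.Q ↔ Dieu.BC.ι (WittVector.map (algebraMap S R) : WittVector p S →+* WittVector p R) P x ∈ DR.Q := by
  rw [hDR.Q_eq, LinearMap.mem_ker, Dieu.BC.ι_apply, Dieu.bcQuotMap_tmul, map_one]
  constructor
  · intro hx
    have : D.Q.mkQ x = 0 := (Submodule.Quotient.mk_eq_zero _).mpr hx
    rw [this, Dieu.BC.tmul_zero]
  · intro h
    have hz := tmul_one_eq_zero (A := WittVector p S) (S := S) (R := R)
      (WittVector.constantCoeff : WittVector p S →+* S) (WittVector.constantCoeff_surjective p)
      ((WittVector.constantCoeff : WittVector p R →+* R).comp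
          (WittVector.map (algebraMap S R) : WittVector p S →+* WittVector p R))
      (fun a => by
        show (WittVector.map (algebraMap S R) a).coeff 0 = algebraMap S R (a.coeff 0)
        rw [WittVector.map_coeff])
      (N := P ⧸ D.Q)
      (fun a ha n => by
        obtain ⟨y, rfl⟩ := Submodule.Quotient.mk_surjective _ n
        rw [← Submodule.Quotient.mk_smul, Submodule.Quotient.mk_eq_zero]
        have ha' : a = WittVector.verschiebung (a.shift 1) := by
          have := WittVector.eq_iterate_verschiebung (x := a) (n := 1)
            (fun i hi => by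
              have : i = 0 := by omega
              subst this
              exact ha)
          simpa using this
        rw [ha']
        exact D.IV_smul_le (Submodule.smul_mem_smul
          (W4c1extbt610.verschiebung_mem_IV p S _) Submodule.mem_top))
      (D.Q.mkQ x) h
    exact (Submodule.Quotient.mk_eq_zero _).mp hz

end Groth.Agent.H21.DispFF
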