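import Mathlib

set_option autoImplicit false

namespace H21.E6Count

def T : Finset (ℤ × (Fin 6 → ℤ)) :=
  ((({1, 2, 3, 4, 5} : Finset ℤ)) ×ˢ Fintype.piFinset (fun _ : Fin 6 => ({0, 1, 2} : Finset ℤ))).filter
    (fun p => 3 * p.1 - (Finset.univ.sum fun i => p.2 i) = 3 ∧
        p.1 ^ 2 - (Finset.univ.sum fun i => p.2 i ^ 2) = 1)

set_option maxRecDepth 100000 in
lemma card_T : T.card = 72 := by
  decide +kernel

lemma mul_pred_nonneg (x : ℤ) : 0 ≤ x ^ 2 - x := by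
  rcases le_or_gt x 0 with h | h
  · nlinarith
  · nlinarith

lemma mul_pred_nonneg' (x : ℤ) : 0 ≤ x ^ 2 - 3 * x + 2 := by
  have := mul_pred_nonneg (x - 1)
  nlinarith

lemma sq_nonneg' (x : ℤ) : 0 ≤ x ^ 2 - 2 * x + 1 := by
  nlinarith [sq_nonneg (x - 1)]

lemma mem_01 (x : ℤ) (h : x ^ 2 - x ≤ 0) : x = 0 ∨ x = 1 := by
  have h1 : 0 ≤ x := by nlinarith
  have h2 : x ≤ 1 := by nlinarith
  omega

lemma mem_12 (x : ℤ) (h : x ^ 2 - 3 * x + 2 ≤ 0) : x = 1 ∨ x = 2 := by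
  have h1 : 1 ≤ x := by nlinarith
  have h2 : x ≤ 2 := by nlinarith
  omega

lemma mem_012 (x : ℤ) (h : x ^ 2 - 2 * x + 1 ≤ 2) : x = 0 ∨ x = 1 ∨ x = 2 := by
  have h1 : 0 ≤ x := by nlinarith
  have h2 : x ≤ 2 := by nlinarith
  omega

lemma range_a (a : ℤ) (b0 b1 b2 b3 b4 b5 : ℤ)
    (h1 : 3 * a - (b0 + b1 + b2 + b3 + b4 + b5) = 3)
    (h2 : a ^ 2 - (b0 ^ 2 + b1 ^ 2 + b2 ^ 2 + b3 ^ 2 + b4 ^ 2 + b5 ^ 2) = 1)
    (hcs : (b0 + b1 + b2 + b3 + b4 + b5) ^ 2 ≤ 6 * (b0 ^ 2 + b1 ^ 2 + b2 ^ 2 + b3 ^ 2 + b4 ^ 2 + b5 ^ 2)) :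
    1 ≤ a ∧ a ≤ 5 := by
  have e1 : b0 + b1 + b2 + b3 + b4 + b5 = 3 * a - 3 := by linarith
  have e2 : b0 ^ 2 + b1 ^ 2 + b2 ^ 2 + b3 ^ 2 + b4 ^ 2 + b5 ^ 2 = a ^ 2 - 1 := by linarith
  rw [e1, e2] at hcs
  constructor <;> nlinarith

lemma box (a : ℤ) (b : Fin 6 → ℤ)
    (h1 : 3 * a - (Finset.univ.sum fun i => b i) = 3)
    (h2 : a ^ 2 - (Finset.univ.sum fun i => b i ^ 2) = 1) :
    a ∈ ({1, 2, 3, 4, 5} : Finset ℤ) ∧ ∀ i, b i ∈ ({0, 1, 2} : Finset ℤ) := by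
  have hcs := sq_sum_le_card_mul_sum_sq (s := (Finset.univ : Finset (Fin 6))) (f := b)
  simp only [Finset.card_univ, Fintype.card_fin, Nat.cast_ofNat] at hcs
  rw [Fin.sum_univ_six] at h1 h2 hcs
  rw [Fin.sum_univ_six] at hcs
  obtain ⟨ha1, ha5⟩ := range_a a _ _ _ _ _ _ h1 h2 hcs
  have n0 := mul_pred_nonneg (b 0)
  have n1 := mul_pred_nonneg (b 1)
  have n2 := mul_pred_nonneg (b 2)
  have n3 := mul_pred_nonneg (b 3)
  have n4 := mul_pred_nonneg (b 4)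
  have n5 := mul_pred_nonneg (b 5)
  have m0 := mul_pred_nonneg' (b 0)
  have m1 := mul_pred_nonneg' (b 1)
  have m2 := mul_pred_nonneg' (b 2)
  have m3 := mul_pred_nonneg' (b 3)
  have m4 := mul_pred_nonneg' (b 4)
  have m5 := mul_pred_nonneg' (b 5)
  have s0 := sq_nonneg' (b 0)
  have s1 := sq_nonneg' (b 1)
  have s2 := sq_nonneg' (b 2)
  have s3 := sq_nonneg' (b 3)
  have s4 := sq_nonneg' (b 4)
  have s5 := sq_nonneg' (b 5)
  have hacases : a = 1 ∨ a = 2 ∨ a = 3 ∨ a = 4 ∨ a = 5 := by omega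
  refine ⟨by simp only [Finset.mem_insert, Finset.mem_singleton]; exact hacases, ?_⟩
  have key : ∀ x : ℤ, (x = 0 ∨ x = 1) ∨ (x = 1 ∨ x = 2) ∨ (x = 0 ∨ x = 1 ∨ x = 2) →
      x ∈ ({0, 1, 2} : Finset ℤ) := by
    intro x hx
    simp only [Finset.mem_insert, Finset.mem_singleton]
    omega
  rcases hacases with rfl | rfl | rfl | rfl | rfl
  · intro i
    apply key
    left
    apply mem_01
    fin_cases i <;> simp only [Fin.isValue, Fin.zero_eta, Fin.mk_one, Fin.reduceFinMk] <;> linarith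
  · intro i
    apply key
    left
    apply mem_01
    fin_cases i <;> simp only [Fin.isValue, Fin.zero_eta, Fin.mk_one, Fin.reduceFinMk] <;> linarith
  · intro i
    apply key
    right; right
    apply mem_012
    fin_cases i <;> simp only [Fin.isValue, Fin.zero_eta, Fin.mk_one, Fin.reduceFinMk] <;> linarith
  · intro i
    apply key
    right; left
    apply mem_12
    fin_cases i <;> simp only [Fin.isValue, Fin.zero_eta, Fin.mk_one, Fin.reduceFinMk] <;> linarith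
  · intro i
    apply key
    right; left
    apply mem_12
    fin_cases i <;> simp only [Fin.isValue, Fin.zero_eta, Fin.mk_one, Fin.reduceFinMk] <;> linarith

theorem main :
    {p : ℤ × (Fin 6 → ℤ) | 3 * p.1 - (Finset.univ.sum fun i => p.2 i) = 3 ∧
        p.1 ^ 2 - (Finset.univ.sum fun i => p.2 i ^ 2) = 1}.ncard = 72 := by
  have : {p : ℤ × (Fin 6 → ℤ) | 3 * p.1 - (Finset.univ.sum fun i => p.2 i) = 3 ∧
        p.1 ^ 2 - (Finset.univ.sum fun i => p.2 i ^ 2) = 1} = ↑T := by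
    ext p
    rw [Set.mem_ofPred_eq, Finset.mem_coe, T, Finset.mem_filter, Finset.mem_product, Fintype.mem_piFinset]
    constructor
    · rintro ⟨h1, h2⟩
      exact ⟨box p.1 p.2 h1 h2, h1, h2⟩
    · rintro ⟨_, h1, h2⟩
      exact ⟨h1, h2⟩
  rw [this, Set.ncard_coe_finset, card_T]

end H21.E6Count
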