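import Mathlib
open Finset
namespace Groth.Agent.H21
variable {A : Type*} [CommRing A]

lemma esymm_cons_succ (a : A) (s : Multiset A) (j : ℕ) :
    (a ::ₘ s).esymm (j+1) = s.esymm (j+1) + a * s.esymm j := by
  unfold Multiset.esymm
  rw [Multiset.powersetCard_cons, Multiset.map_add, Multiset.sum_add, Multiset.map_map]
  congr 1
  rw [← Multiset.sum_map_mul_left]
  congr 1
  apply Multiset.map_congr rfl
  intro x _
  simp

lemma esymm_zero' (s : Multiset A) : s.esymm 0 = 1 := by simp [Multiset.esymm]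

lemma esymm_card' (s : Multiset A) : s.esymm s.card = s.prod := by
  simp [Multiset.esymm, Multiset.powersetCard_self]

lemma E_succ (τ a : A) (M : Multiset A) (n : ℕ) (hM : M.card = n + 1) :
    ∑ j ∈ range (n + 2), τ ^ (n + 1 - j) * (a ::ₘ M).esymm j =
      (τ + a) * (∑ j ∈ range (n + 1), τ ^ (n - j) * M.esymm j) + M.prod := by
  rw [Finset.sum_range_succ' _ (n + 1)]
  simp only [Nat.sub_zero, esymm_zero', mul_one, Nat.add_sub_add_right, esymm_cons_succ]
  have h1 : ∑ j ∈ range (n + 1), τ ^ (n - j) * (M.esymm (j + 1) + a * M.esymm j) =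
      ∑ j ∈ range (n + 1), τ ^ (n - j) * M.esymm (j + 1) +
        a * ∑ j ∈ range (n + 1), τ ^ (n - j) * M.esymm j := by
    rw [Finset.mul_sum, ← Finset.sum_add_distrib]
    apply Finset.sum_congr rfl
    intro j _
    ring
  have h2 : ∑ j ∈ range (n + 1), τ ^ (n - j) * M.esymm (j + 1) =
      ∑ j ∈ range n, τ ^ (n - j) * M.esymm (j + 1) + M.prod := by
    rw [Finset.sum_range_succ, Nat.sub_self, pow_zero, one_mul, ← hM, esymm_card']
  have h3 : τ * ∑ j ∈ range (n + 1), τ ^ (n - j) * M.esymm j =
      τ ^ (n + 1) + ∑ j ∈ range n, τ ^ (n - j) * M.esymm (j + 1) := by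
    rw [Finset.sum_range_succ' _ n, Nat.sub_zero, esymm_zero', mul_one, mul_add, Finset.mul_sum,
      ← pow_succ', add_comm]
    congr 1
    apply Finset.sum_congr rfl
    intro j hj
    rw [Finset.mem_range] at hj
    have : n - j = (n - (j + 1)) + 1 := by omega
    rw [this, pow_succ]
    ring
  rw [h1, h2, add_mul, h3]
  ring

theorem prod_adjacent_key (τ : A) (h : ℕ → A) (n : ℕ) (hrel : ∀ i ≤ n, h i ^ 2 + τ * h i = 0) :
    (∏ i ∈ range n, (h i + h (i + 1) + τ) =
        ∑ j ∈ range (n + 1), τ ^ (n - j) * ((range (n + 1)).val.map h).esymm j) ∧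
      (∏ i ∈ range n, (h i + h (i + 1) + τ)) * h n = ∏ i ∈ range (n + 1), h i := by
  induction n with
  | zero => simp [esymm_zero']
  | succ n ih =>
    obtain ⟨ih1, ih2⟩ := ih (fun i hi => hrel i (by omega))
    have hM : ((range (n + 1)).val.map h).card = n + 1 := by simp
    have hcons : (range (n + 2)).val.map h = h (n + 1) ::ₘ ((range (n + 1)).val.map h) := by
      rw [Finset.range_val, Multiset.range_succ, Multiset.map_cons, ← Finset.range_val]
    have hprod : ((range (n + 1)).val.map h).prod = ∏ i ∈ range (n + 1), h i := rfl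
    have hr := hrel (n + 1) le_rfl
    constructor
    · rw [Finset.prod_range_succ, hcons, E_succ τ (h (n + 1)) _ n hM, ← ih1, hprod, ← ih2]
      ring
    · rw [Finset.prod_range_succ, Finset.prod_range_succ _ (n + 1), ← ih2]
      linear_combination (∏ i ∈ range n, (h i + h (i + 1) + τ)) * hr

end Groth.Agent.H21
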