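import Mathlib

/-!
Helper lemmas (helper21): effaceability of `Ext^n`, `n ≥ 1`, in an abelian category:
for `α : Ext X Y n` there is an epimorphism `π : X' ⟶ X` with `π^* α = 0`.
-/

namespace Groth.Agent.H21

open CategoryTheory CategoryTheory.Limits DerivedCategory Abelian

universe w w' v u
variable {C : Type u} [Category.{v} C] [Abelian C]

/-- For a quasi-isomorphism `s : K ⟶ X[0]` with `K` strictly `≤ 0`, the degree `0` component
is an epimorphism. -/
lemma epi_f_zero_of_quasiIso_to_single {K : CochainComplex C ℤ} [K.IsStrictlyLE 0] {X : C}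
    (s : K ⟶ (CochainComplex.singleFunctor C 0).obj X) [QuasiIso s] : Epi (s.f 0) := by
  have h1 : IsIso (K.iCycles 0) := K.isIso_iCycles 0 1 (by simp)
    ((K.isZero_of_isStrictlyLE 0 1 (by omega)).eq_of_tgt _ _)
  have h2 : IsIso (((CochainComplex.singleFunctor C 0).obj X).homologyπ 0) :=
    ((CochainComplex.singleFunctor C 0).obj X).isIso_homologyπ (-1) 0 (by simp)
    (by
      apply IsZero.eq_of_src
      exact HomologicalComplex.isZero_single_obj_X (ComplexShape.up ℤ) 0 X (-1) (by omega))
  have h3 : IsIso (HomologicalComplex.homologyMap s 0) := inferInstance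
  have h4 : Epi (HomologicalComplex.cyclesMap s 0) := by
    have e : HomologicalComplex.cyclesMap s 0 ≫
        ((CochainComplex.singleFunctor C 0).obj X).homologyπ 0 =
        K.homologyπ 0 ≫ HomologicalComplex.homologyMap s 0 :=
      (HomologicalComplex.homologyπ_naturality s 0).symm
    have : Epi (HomologicalComplex.cyclesMap s 0 ≫
        ((CochainComplex.singleFunctor C 0).obj X).homologyπ 0) := by
      rw [e]; infer_instance
    have h5 : HomologicalComplex.cyclesMap s 0 =
        (HomologicalComplex.cyclesMap s 0 ≫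
          ((CochainComplex.singleFunctor C 0).obj X).homologyπ 0) ≫
            inv (((CochainComplex.singleFunctor C 0).obj X).homologyπ 0) := by simp
    rw [h5]; infer_instance
  have h7 : IsIso (((CochainComplex.singleFunctor C 0).obj X).iCycles 0) :=
    ((CochainComplex.singleFunctor C 0).obj X).isIso_iCycles 0 1 (by simp)
    (by
      apply IsZero.eq_of_tgt
      exact HomologicalComplex.isZero_single_obj_X (ComplexShape.up ℤ) 0 X 1 (by omega))
  have h6 : s.f 0 = inv (K.iCycles 0) ≫ HomologicalComplex.cyclesMap s 0 ≫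
      ((CochainComplex.singleFunctor C 0).obj X).iCycles 0 := by
    rw [HomologicalComplex.cyclesMap_i]; simp
  rw [h6]
  infer_instance


/-- Effaceability of `Ext^n` for `n ≥ 1`. -/
lemma ext_exists_epi_comp_eq_zero [HasExt.{w} C] {X Y : C} {n : ℕ} (hn : 0 < n)
    (α : Ext.{w} X Y n) :
    ∃ (X' : C) (π : X' ⟶ X), Epi π ∧ (Ext.mk₀ π).comp α (zero_add n) = 0 := by
  letI := HasDerivedCategory.standard C
  -- the target of `α.hom`
  set T : DerivedCategory C := ((singleFunctor C 0).obj Y)⟦(n : ℤ)⟧ with hT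
  haveI hTle : T.IsLE (-(n : ℤ)) := by
    have : ((singleFunctor C 0).obj Y).IsLE 0 := inferInstance
    exact (TStructure.t).isLE_shift ((singleFunctor C 0).obj Y) 0 (n : ℤ) (-(n : ℤ)) (by omega)
  obtain ⟨L, hL, ⟨eT⟩⟩ := T.exists_iso_Q_obj_of_isLE (-(n : ℤ))
  let eX := (singleFunctorIsoCompQ C 0).app X
  let f : Q.obj ((CochainComplex.singleFunctor C 0).obj X) ⟶ Q.obj L :=
    eX.inv ≫ α.hom ≫ eT.hom
  obtain ⟨K, hK, s, hs, g, hfac⟩ := right_fac_of_isStrictlyLE f 0
  haveI : QuasiIso s := (isIso_Q_map_iff_quasiIso C s).mp hs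
  -- the object X' and the maps
  let ι : (CochainComplex.singleFunctor C 0).obj (K.X 0) ⟶ K :=
    HomologicalComplex.mkHomFromSingle (𝟙 (K.X 0)) (by
      intro k hk
      exact (K.isZero_of_isStrictlyLE 0 k (by simp at hk; omega)).eq_of_tgt _ _)
  let sf0 : K.X 0 ⟶ ((HomologicalComplex.single C (ComplexShape.up ℤ) 0).obj X).X 0 := s.f 0
  let π : K.X 0 ⟶ X := sf0 ≫ (HomologicalComplex.singleObjXSelf (ComplexShape.up ℤ) 0 X).hom
  have hπ : Epi π := by
    haveI : Epi sf0 := epi_f_zero_of_quasiIso_to_single s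
    exact epi_comp _ _
  have hιs : ι ≫ s = (CochainComplex.singleFunctor C 0).map π := by
    apply HomologicalComplex.from_single_hom_ext
    rw [HomologicalComplex.comp_f, HomologicalComplex.mkHomFromSingle_f]
    erw [HomologicalComplex.single_map_f_self]
    change _ = (HomologicalComplex.singleObjXSelf (ComplexShape.up ℤ) 0 (K.X 0)).hom ≫
      (sf0 ≫ (HomologicalComplex.singleObjXSelf (ComplexShape.up ℤ) 0 X).hom) ≫
        (HomologicalComplex.singleObjXSelf (ComplexShape.up ℤ) 0 X).inv
    rw [Category.assoc, Iso.hom_inv_id]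
    congr 1
    · exact Category.comp_id _
    · exact (Category.comp_id sf0).symm
  have hιg : ι ≫ g = 0 := by
    apply HomologicalComplex.from_single_hom_ext
    exact (L.isZero_of_isStrictlyLE (-(n : ℤ)) 0 (by omega)).eq_of_tgt _ _
  refine ⟨K.X 0, π, hπ, ?_⟩
  apply Ext.ext
  rw [Ext.comp_hom, Ext.mk₀_hom, Ext.zero_hom, ShiftedHom.mk₀_comp]
  have hα : α.hom = eX.hom ≫ (inv (Q.map s) ≫ Q.map g) ≫ eT.inv := by
    rw [← hfac]
    simp only [f, Category.assoc, Iso.hom_inv_id, Category.comp_id, Iso.hom_inv_id_assoc]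
  have hnat : (singleFunctor C 0).map π ≫ eX.hom =
      ((singleFunctorIsoCompQ C 0).app (K.X 0)).hom ≫
        Q.map ((CochainComplex.singleFunctor C 0).map π) :=
    (singleFunctorIsoCompQ C 0).hom.naturality π
  rw [hα, ← Category.assoc, hnat, ← hιs, Q.map_comp]
  simp only [Category.assoc, IsIso.hom_inv_id_assoc]
  rw [← Q.map_comp_assoc, hιg, Q.map_zero, zero_comp, comp_zero]

end Groth.Agent.H21
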