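import Mathlib

set_option autoImplicit false
universe u
open CategoryTheory Limits

namespace Groth.Agent.H21.FPColim

variable {A B : CommRingCat.{u}}

/-- recognising directed colimits in `Under A` -/
noncomputable def isColimitUnder {J : Type u} [Preorder J] [IsDirected J (· ≤ ·)] [Nonempty J]
    (F : J ⥤ Under A) (c : Cocone F)
    (hsurj : ∀ x : c.pt.right, ∃ (i : J) (xi : (F.obj i).right), x = (c.ι.app i).right xi)
    (hinj : ∀ (i : J) (x y : (F.obj i).right), (c.ι.app i).right x = (c.ι.app i).right y →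
      ∃ (k : J) (f : i ⟶ k), (F.map f).right x = (F.map f).right y) : IsColimit c := by
  haveI : IsFiltered J := inferInstance
  haveI : IsConnected J := IsFiltered.isConnected J
  apply isColimitOfReflects (Under.forget A)
  haveI : PreservesColimit (F ⋙ Under.forget A) (forget CommRingCat) := inferInstance
  haveI : ReflectsColimit (F ⋙ Under.forget A) (forget CommRingCat) :=
    reflectsColimit_of_reflectsIsomorphisms _ _
  apply isColimitOfReflects (forget CommRingCat)
  apply Types.FilteredColimit.isColimitOf'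
  · exact hsurj
  · exact hinj

variable (f : A ⟶ B)

/-- a system of `A`-algebras over `B` indexed by a preorder -/
structure Sys (J : Type u) [Preorder J] where
  R : J → CommRingCat.{u}
  a : ∀ j, A ⟶ R j
  φ : ∀ {j k : J}, j ≤ k → (R j ⟶ R k)
  aφ : ∀ {j k : J} (h : j ≤ k), a j ≫ φ h = a k
  φ_id : ∀ j, φ (le_refl j) = 𝟙 _
  φ_comp : ∀ {j k l : J} (h1 : j ≤ k) (h2 : k ≤ l), φ h1 ≫ φ h2 = φ (h1.trans h2)
  ψ : ∀ j, R j ⟶ B
  aψ : ∀ j, a j ≫ ψ j = f
  φψ : ∀ {j k : J} (h : j ≤ k), φ h ≫ ψ k = ψ j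

variable {f} {J : Type u} [Preorder J]

/-- the diagram -/
def Sys.F (S : Sys f J) : J ⥤ Under A where
  obj j := Under.mk (S.a j)
  map h := Under.homMk (S.φ (leOfHom h)) (S.aφ _)
  map_id j := by
    apply Under.UnderMorphism.ext
    exact S.φ_id j
  map_comp h1 h2 := by
    apply Under.UnderMorphism.ext
    exact (S.φ_comp _ _).symm

/-- the cocone -/
def Sys.c (S : Sys f J) : Cocone S.F where
  pt := Under.mk f
  ι :=
    { app := fun j => Under.homMk (S.ψ j) (S.aψ j)
      naturality := fun j k h => by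
        apply Under.UnderMorphism.ext
        simp only [Functor.const_obj_obj, Functor.const_obj_map, Category.comp_id]
        exact S.φψ _ }

lemma Sys.exists_section [IsDirected J (· ≤ ·)] [Nonempty J] (S : Sys f J)
    (h : PreservesColimit S.F (coyoneda.obj (Opposite.op (Under.mk f))))
    (hsurj : ∀ x : B, ∃ (j : J) (y : S.R j), x = S.ψ j y)
    (hinj : ∀ (j : J) (x y : S.R j), S.ψ j x = S.ψ j y →
      ∃ (k : J) (hk : j ≤ k), S.φ hk x = S.φ hk y) :
    ∃ (j : J) (u : B ⟶ S.R j), f ≫ u = S.a j ∧ u ≫ S.ψ j = 𝟙 B := by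
  have hc : IsColimit S.c := isColimitUnder S.F S.c hsurj (fun i x y hxy => by
    obtain ⟨k, hk, e⟩ := hinj i x y hxy
    exact ⟨k, homOfLE hk, e⟩)
  have hc' := isColimitOfPreserves (coyoneda.obj (Opposite.op (Under.mk f))) hc
  obtain ⟨j, u, hu⟩ := Types.jointly_surjective_of_isColimit hc' (𝟙 (Under.mk f))
  refine ⟨j, u.right, Under.w u, ?_⟩
  exact congrArg (fun m => m.right) hu

end Groth.Agent.H21.FPColim
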