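import Groth.Agent.H21.FPColim

set_option autoImplicit false
universe u
open CategoryTheory Limits

namespace Groth.Agent.H21.FPColim

variable {A B : CommRingCat.{u}} (f : A ⟶ B)

/-- the system of finitely generated subalgebras -/
noncomputable def sys1 : Sys f (Finset B) :=
  letI : Algebra A B := f.hom.toAlgebra
  { R := fun s => CommRingCat.of (Algebra.adjoin A (s : Set B))
    a := fun s => CommRingCat.ofHom (algebraMap A (Algebra.adjoin A (s : Set B)))
    φ := fun {s t} h => CommRingCat.ofHom
      (Subalgebra.inclusion (Algebra.adjoin_mono (Finset.coe_subset.2 h))).toRingHom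
    aφ := fun h => by ext x; rfl
    φ_id := fun s => by ext x; rfl
    φ_comp := fun h1 h2 => by ext x; rfl
    ψ := fun s => CommRingCat.ofHom (Algebra.adjoin A (s : Set B)).val.toRingHom
    aψ := fun s => by ext x; rfl
    φψ := fun h => by ext x; rfl }

lemma finiteType (h : ∀ (J : Type u) [Preorder J] [IsDirected J (· ≤ ·)] [Nonempty J]
      (F : J ⥤ Under A), PreservesColimit F (coyoneda.obj (Opposite.op (Under.mk f)))) :
    f.hom.FiniteType := by
  classical
  letI : Algebra A B := f.hom.toAlgebra
  obtain ⟨s, u, hu1, hu2⟩ := (sys1 f).exists_section (h _ _)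
    (fun x => ⟨{x}, ⟨x, Algebra.subset_adjoin (by simp)⟩, rfl⟩)
    (fun s x y hxy => ⟨s, le_refl s, by
      have : x = y := Subtype.ext hxy
      rw [this]⟩)
  change Algebra.FiniteType A B
  refine ⟨s, ?_⟩
  rw [eq_top_iff]
  intro b _
  have hb : b = ((u ≫ (sys1 f).ψ s) b) := by rw [hu2]; rfl
  rw [hb]
  exact (u b).2

end Groth.Agent.H21.FPColim

namespace Groth.Agent.H21.FPColim

variable {A B : CommRingCat.{u}} (f : A ⟶ B) {n : ℕ}
  (π : MvPolynomial (Fin n) A →+* B) (hπ : π.comp MvPolynomial.C = f.hom)

/-- the finitely generated subideal -/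
noncomputable def It (t : Finset (RingHom.ker π)) : Ideal (MvPolynomial (Fin n) A) :=
  Ideal.span ((fun x : RingHom.ker π => (x : MvPolynomial (Fin n) A)) '' (t : Set (RingHom.ker π)))

lemma It_le (t : Finset (RingHom.ker π)) : It π t ≤ RingHom.ker π := by
  rw [It, Ideal.span_le]
  rintro _ ⟨x, _, rfl⟩
  exact x.2

lemma It_mono {s t : Finset (RingHom.ker π)} (h : s ≤ t) : It π s ≤ It π t :=
  Ideal.span_mono (Set.image_mono (Finset.coe_subset.2 h))

include hπ in
/-- the system of quotients by finitely generated subideals -/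
noncomputable def sys2 : Sys f (Finset (RingHom.ker π)) :=
  { R := fun t => CommRingCat.of (MvPolynomial (Fin n) A ⧸ It π t)
    a := fun t => CommRingCat.ofHom ((Ideal.Quotient.mk (It π t)).comp MvPolynomial.C)
    φ := fun {s t} h => CommRingCat.ofHom (Ideal.Quotient.factor (It_mono π h))
    aφ := fun h => by ext x; rfl
    φ_id := fun s => by
      apply CommRingCat.hom_ext
      apply RingHom.ext
      intro x
      obtain ⟨p, rfl⟩ := Ideal.Quotient.mk_surjective x
      rfl
    φ_comp := fun h1 h2 => by
      apply CommRingCat.hom_ext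
      apply RingHom.ext
      intro x
      obtain ⟨p, rfl⟩ := Ideal.Quotient.mk_surjective x
      rfl
    ψ := fun t => CommRingCat.ofHom (Ideal.Quotient.lift (It π t) π (fun a ha => It_le π t ha))
    aψ := fun s => by
      ext x
      exact congrArg (fun g => g x) hπ
    φψ := fun h => by
      apply CommRingCat.hom_ext
      apply RingHom.ext
      intro x
      obtain ⟨p, rfl⟩ := Ideal.Quotient.mk_surjective x
      rfl }

end Groth.Agent.H21.FPColim

namespace Groth.Agent.H21.FPColim

variable {A B : CommRingCat.{u}} (f : A ⟶ B) {n : ℕ}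
  (π : MvPolynomial (Fin n) A →+* B) (hπ : π.comp MvPolynomial.C = f.hom)

lemma mem_It {t : Finset (RingHom.ker π)} (x : RingHom.ker π) (hx : x ∈ t) :
    (x : MvPolynomial (Fin n) A) ∈ It π t :=
  Ideal.subset_span ⟨x, Finset.mem_coe.2 hx, rfl⟩

include hπ in
lemma ker_fg (hs : Function.Surjective π)
    (h : ∀ (J : Type u) [Preorder J] [IsDirected J (· ≤ ·)] [Nonempty J]
      (F : J ⥤ Under A), PreservesColimit F (coyoneda.obj (Opposite.op (Under.mk f)))) :
    (RingHom.ker π).FG := by
  classical
  obtain ⟨t, u, hu1, hu2⟩ := (sys2 f π hπ).exists_section (h _ _)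
    (fun x => by
      obtain ⟨p, rfl⟩ := hs x
      exact ⟨∅, Ideal.Quotient.mk _ p, rfl⟩)
    (fun t x y hxy => by
      obtain ⟨p, rfl⟩ := Ideal.Quotient.mk_surjective x
      obtain ⟨q, rfl⟩ := Ideal.Quotient.mk_surjective y
      have hpq : p - q ∈ RingHom.ker π := by
        rw [RingHom.mem_ker, map_sub, sub_eq_zero]
        exact hxy
      refine ⟨t ∪ {⟨p - q, hpq⟩}, Finset.subset_union_left, ?_⟩
      change Ideal.Quotient.mk _ p = Ideal.Quotient.mk _ q
      rw [Ideal.Quotient.eq]
      exact mem_It π ⟨p - q, hpq⟩ (Finset.mem_union_right _ (Finset.mem_singleton_self _)))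
  have hq : ∀ i : Fin n, ∃ q : MvPolynomial (Fin n) A,
      Ideal.Quotient.mk (It π t) q = u (π (MvPolynomial.X i)) :=
    fun i => Ideal.Quotient.mk_surjective _
  choose q hq using hq
  have hu2' : ∀ b : B, (sys2 f π hπ).ψ t (u b) = b := fun b =>
    congrArg (fun g => g.hom b) hu2
  have hr : ∀ i, q i - MvPolynomial.X i ∈ RingHom.ker π := by
    intro i
    rw [RingHom.mem_ker, map_sub, sub_eq_zero]
    have e : π (q i) = ((sys2 f π hπ).ψ t) (Ideal.Quotient.mk (It π t) (q i)) := rfl
    rw [e, hq, hu2']
  obtain ⟨t', ht'⟩ : ∃ t' : Finset (RingHom.ker π),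
      t' = t ∪ Finset.image (fun i => (⟨q i - MvPolynomial.X i, hr i⟩ : RingHom.ker π))
        Finset.univ := ⟨_, rfl⟩
  have htt' : t ≤ t' := by rw [ht']; exact Finset.subset_union_left
  have key : (Ideal.Quotient.mk (It π t')) =
      ((Ideal.Quotient.factor (It_mono π htt')).comp u.hom).comp π := by
    apply MvPolynomial.ringHom_ext
    · intro a
      have e1 : π (MvPolynomial.C a) = f.hom a := congrArg (fun g => g a) hπ
      have e2 : u (f.hom a) = Ideal.Quotient.mk (It π t) (MvPolynomial.C a) :=
        congrArg (fun g => g.hom a) hu1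
      simp only [RingHom.comp_apply]
      rw [e1]
      change _ = Ideal.Quotient.factor (It_mono π htt') (u (f.hom a))
      rw [e2]
      rfl
    · intro i
      simp only [RingHom.comp_apply]
      change _ = Ideal.Quotient.factor (It_mono π htt') (u (π (MvPolynomial.X i)))
      rw [← hq]
      change Ideal.Quotient.mk _ _ = Ideal.Quotient.mk _ (q i)
      rw [eq_comm, Ideal.Quotient.eq]
      apply mem_It π ⟨q i - MvPolynomial.X i, hr i⟩
      rw [ht']
      exact Finset.mem_union_right _ (Finset.mem_image_of_mem _ (Finset.mem_univ i))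
  have hle : RingHom.ker π ≤ It π t' := by
    intro p hp
    rw [← Ideal.Quotient.eq_zero_iff_mem, key]
    simp only [RingHom.comp_apply]
    rw [RingHom.mem_ker.1 hp]
    simp
  have heq : RingHom.ker π = It π t' := le_antisymm hle (It_le π t')
  rw [heq, It]
  refine ⟨Finset.image (fun x : RingHom.ker π => (x : MvPolynomial (Fin n) A)) t', ?_⟩
  rw [Finset.coe_image]

end Groth.Agent.H21.FPColim

namespace Groth.Agent.H21.FPColim

variable {A B : CommRingCat.{u}} (f : A ⟶ B)

theorem main (h : ∀ (J : Type u) [Preorder J] [IsDirected J (· ≤ ·)] [Nonempty J]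
      (F : J ⥤ Under A), PreservesColimit F (coyoneda.obj (Opposite.op (Under.mk f)))) :
    f.hom.FinitePresentation := by
  have hft := finiteType f h
  letI : Algebra A B := f.hom.toAlgebra
  change Algebra.FiniteType A B at hft
  obtain ⟨n, π, hπs⟩ := Algebra.FiniteType.iff_quotient_mvPolynomial''.1 hft
  have hπ : π.toRingHom.comp MvPolynomial.C = f.hom := by
    ext a
    exact π.commutes a
  have hfg := ker_fg f π.toRingHom hπ hπs h
  change Algebra.FinitePresentation A B
  exact ⟨n, π, hπs, hfg⟩

end Groth.Agent.H21.FPColim
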