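import Groth.Agent.H21.FPColim2

set_option autoImplicit false
universe u
open CategoryTheory Limits

namespace Groth.Agent.H21.FPColim

variable {A B : CommRingCat.{u}} {f : A ⟶ B} {J : Type u} [Preorder J]

lemma Sys.exists_preimage [IsDirected J (· ≤ ·)] [Nonempty J] (S : Sys f J)
    (F : Under A ⥤ Type u) [PreservesColimit S.F F]
    (hsurj : ∀ x : B, ∃ (j : J) (y : S.R j), x = S.ψ j y)
    (hinj : ∀ (j : J) (x y : S.R j), S.ψ j x = S.ψ j y →
      ∃ (k : J) (hk : j ≤ k), S.φ hk x = S.φ hk y)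
    (ξ : F.obj (Under.mk f)) :
    ∃ (j : J) (ξj : F.obj (Under.mk (S.a j))),
      F.map (Under.homMk (S.ψ j) (S.aψ j) : Under.mk (S.a j) ⟶ Under.mk f) ξj = ξ := by
  have hc : IsColimit S.c := isColimitUnder S.F S.c hsurj (fun i x y hxy => by
    obtain ⟨k, hk, e⟩ := hinj i x y hxy
    exact ⟨k, homOfLE hk, e⟩)
  have hc' := isColimitOfPreserves F hc
  obtain ⟨j, ξj, hξ⟩ := Types.jointly_surjective_of_isColimit hc' ξ
  exact ⟨j, ξj, hξ⟩

end Groth.Agent.H21.FPColim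

namespace Groth.Agent.H21.FPColim

variable {A B : CommRingCat.{u}}

lemma step1 (F : Under A ⥤ Type u)
    (hF : ∀ (J : Type u) [SmallCategory J] [IsFiltered J], PreservesColimitsOfShape J F)
    (f : A ⟶ B) (ξ : F.obj (Under.mk f)) :
    ∃ (s : Finset B) (ξ₁ : F.obj (Under.mk ((sys1 f).a s))),
      F.map (Under.homMk ((sys1 f).ψ s) ((sys1 f).aψ s) :
        Under.mk ((sys1 f).a s) ⟶ Under.mk f) ξ₁ = ξ := by
  classical
  letI : Algebra A B := f.hom.toAlgebra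
  haveI : PreservesColimit (sys1 f).F F := (hF _).preservesColimit
  exact (sys1 f).exists_preimage F
    (fun x => ⟨{x}, ⟨x, Algebra.subset_adjoin (by simp)⟩, rfl⟩)
    (fun s x y hxy => ⟨s, le_refl s, by
      have : x = y := Subtype.ext hxy
      rw [this]⟩) ξ

end Groth.Agent.H21.FPColim

namespace Groth.Agent.H21.FPColim

variable {A B : CommRingCat.{u}}

lemma step2 (F : Under A ⥤ Type u)
    (hF : ∀ (J : Type u) [SmallCategory J] [IsFiltered J], PreservesColimitsOfShape J F)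
    (f : A ⟶ B) {k : ℕ} (π : MvPolynomial (Fin k) A →+* B)
    (hπ : π.comp MvPolynomial.C = f.hom) (hπs : Function.Surjective π)
    (ξ : F.obj (Under.mk f)) :
    ∃ (t : Finset (RingHom.ker π)) (ξ₂ : F.obj (Under.mk ((sys2 f π hπ).a t))),
      F.map (Under.homMk ((sys2 f π hπ).ψ t) ((sys2 f π hπ).aψ t) :
        Under.mk ((sys2 f π hπ).a t) ⟶ Under.mk f) ξ₂ = ξ := by
  classical
  haveI : PreservesColimit (sys2 f π hπ).F F := (hF _).preservesColimit
  exact (sys2 f π hπ).exists_preimage F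
    (fun x => by
      obtain ⟨p, rfl⟩ := hπs x
      exact ⟨∅, Ideal.Quotient.mk _ p, rfl⟩)
    (fun t x y hxy => by
      obtain ⟨p, rfl⟩ := Ideal.Quotient.mk_surjective x
      obtain ⟨q, rfl⟩ := Ideal.Quotient.mk_surjective y
      have hpq : p - q ∈ RingHom.ker π := by
        rw [RingHom.mem_ker, map_sub, sub_eq_zero]
        exact hxy
      refine ⟨t ∪ {⟨p - q, hpq⟩}, Finset.subset_union_left, ?_⟩
      change Ideal.Quotient.mk _ p = Ideal.Quotient.mk _ q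
      rw [Ideal.Quotient.eq]
      exact mem_It π ⟨p - q, hpq⟩
        (Finset.mem_union_right _ (Finset.mem_singleton_self _))) ξ

lemma exists_pres (f : A ⟶ B) (s : Finset B) :
    ∃ (k : ℕ) (π : MvPolynomial (Fin k) A →+* (sys1 f).R s),
      π.comp MvPolynomial.C = ((sys1 f).a s).hom ∧ Function.Surjective π := by
  letI : Algebra A B := f.hom.toAlgebra
  have hft : Algebra.FiniteType A (Algebra.adjoin A (s : Set B)) :=
    (Subalgebra.fg_iff_finiteType _).1 (Subalgebra.fg_adjoin_finset s)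
  obtain ⟨k, π, hπs⟩ := Algebra.FiniteType.iff_quotient_mvPolynomial''.1 hft
  refine ⟨k, π.toRingHom, ?_, hπs⟩
  apply RingHom.ext
  intro a
  exact π.commutes a

end Groth.Agent.H21.FPColim

namespace Groth.Agent.H21.FPColim

variable {A B : CommRingCat.{u}}

lemma exists_fp (F : Under A ⥤ Type u)
    (hF : ∀ (J : Type u) [SmallCategory J] [IsFiltered J], PreservesColimitsOfShape J F)
    (f : A ⟶ B) (ξ : F.obj (Under.mk f)) :
    ∃ (k : ℕ) (B₁ : CommRingCat.{u}) (f₁ : A ⟶ B₁) (ι : B₁ ⟶ B) (hι : f₁ ≫ ι = f)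
      (π : MvPolynomial (Fin k) A →+* B₁) (hπ : π.comp MvPolynomial.C = f₁.hom)
      (t : Finset (RingHom.ker π)) (ξ₂ : F.obj (Under.mk ((sys2 f₁ π hπ).a t))),
      F.map ((Under.homMk ((sys2 f₁ π hπ).ψ t) ((sys2 f₁ π hπ).aψ t) :
        Under.mk ((sys2 f₁ π hπ).a t) ⟶ Under.mk f₁) ≫
          (Under.homMk ι hι : Under.mk f₁ ⟶ Under.mk f)) ξ₂ = ξ := by
  obtain ⟨s, ξ₁, h₁⟩ := step1 F hF f ξ
  obtain ⟨k, π, hπ, hπs⟩ := exists_pres f s
  obtain ⟨t, ξ₂, h₂⟩ := step2 F hF ((sys1 f).a s) π hπ hπs ξ₁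
  refine ⟨k, (sys1 f).R s, (sys1 f).a s, (sys1 f).ψ s, (sys1 f).aψ s, π, hπ, t, ξ₂, ?_⟩
  rw [FunctorToTypes.map_comp_apply, h₂, h₁]

end Groth.Agent.H21.FPColim
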