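import Groth.Agent.H21.FPColim3

set_option autoImplicit false
universe u
open CategoryTheory Limits

namespace Groth.Agent.H21.FPColim

theorem artinApprox (A : Type u) [CommRing A]
    (m : Ideal A)
    (hAP : ∀ (k l c : ℕ) (f : Fin l → MvPolynomial (Fin k) A) (â : Fin k → AdicCompletion m A),
      (∀ i, MvPolynomial.aeval â (f i) = 0) →
      ∃ a : Fin k → A, (∀ i, MvPolynomial.eval a (f i) = 0) ∧
        ∀ j, Ideal.Quotient.mk (m ^ c) (a j) = AdicCompletion.evalₐ m c (â j))
    (F : Under (CommRingCat.of A) ⥤ Type u)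
    (hF : ∀ (J : Type u) [SmallCategory J] [IsFiltered J], PreservesColimitsOfShape J F)
    (c : ℕ)
    (π : Under.mk (CommRingCat.ofHom (algebraMap A (AdicCompletion m A))) ⟶
      Under.mk (CommRingCat.ofHom (algebraMap A (A ⧸ m ^ c))))
    (hπ : π.right = CommRingCat.ofHom
      (AdicCompletion.evalₐ m c : AdicCompletion m A →ₐ[A] A ⧸ m ^ c).toRingHom)
    (ρ : Under.mk (𝟙 (CommRingCat.of A)) ⟶ Under.mk (CommRingCat.ofHom (algebraMap A (A ⧸ m ^ c))))
    (ξ : F.obj (Under.mk (CommRingCat.ofHom (algebraMap A (AdicCompletion m A))))) :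
    ∃ η : F.obj (Under.mk (𝟙 (CommRingCat.of A))), F.map ρ η = F.map π ξ := by
  classical
  obtain ⟨k, B₁, f₁, ι, hι, p, hp, t, ξ₂, hξ⟩ := exists_fp F hF _ ξ
  -- the point of the completion
  obtain ⟨â, hâ⟩ : ∃ â : Fin k → AdicCompletion m A, â = fun j => ι.hom (p (MvPolynomial.X j)) :=
    ⟨_, rfl⟩
  have hae : ∀ q : MvPolynomial (Fin k) A, MvPolynomial.aeval â q = ι.hom (p q) := by
    intro q
    have : (MvPolynomial.aeval â : MvPolynomial (Fin k) A →ₐ[A] AdicCompletion m A).toRingHom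
        = ι.hom.comp p := by
      apply MvPolynomial.ringHom_ext
      · intro r
        have e1 : p (MvPolynomial.C r) = f₁.hom r := congrArg (fun g => g r) hp
        have e2 : ι.hom (f₁.hom r) = algebraMap A (AdicCompletion m A) r :=
          congrArg (fun g => g.hom r) hι
        simp only [RingHom.comp_apply]
        rw [e1, e2]
        simp
      · intro j
        simp [hâ]
    exact congrArg (fun g => g q) this
  obtain ⟨e⟩ : Nonempty (Fin t.card ≃ t) := ⟨t.equivFin.symm⟩
  obtain ⟨a, ha1, ha2⟩ := hAP k t.card c (fun i => ((e i : t) : RingHom.ker p)) â (by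
    intro i
    rw [hae]
    have : p ((e i : t) : RingHom.ker p) = 0 := ((e i : t) : RingHom.ker p).2
    rw [this, map_zero])
  -- the induced map to `A`
  have hker : ∀ q ∈ It p t, MvPolynomial.eval a q = 0 := by
    intro q hq
    have hle : It p t ≤ RingHom.ker (MvPolynomial.eval a) := by
      rw [It, Ideal.span_le]
      rintro _ ⟨x, hx, rfl⟩
      obtain ⟨i, hi⟩ := e.surjective ⟨x, Finset.mem_coe.1 hx⟩
      have := ha1 i
      rw [hi] at this
      exact this
    exact hle hq
  obtain ⟨θ, hθ⟩ : ∃ θ : MvPolynomial (Fin k) A ⧸ It p t →+* A,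
      θ = Ideal.Quotient.lift (It p t) (MvPolynomial.eval a) hker := ⟨_, rfl⟩
  have hθmk : ∀ q, θ (Ideal.Quotient.mk _ q) = MvPolynomial.eval a q := by
    intro q; rw [hθ]; rfl
  have hΘw : (sys2 f₁ p hp).a t ≫ CommRingCat.ofHom θ = 𝟙 (CommRingCat.of A) := by
    apply CommRingCat.hom_ext
    apply RingHom.ext
    intro r
    change θ (Ideal.Quotient.mk _ (MvPolynomial.C r)) = r
    rw [hθmk, MvPolynomial.eval_C]
  have hρ : ρ.right.hom = algebraMap A (A ⧸ m ^ c) := by
    have := Under.w ρ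
    simp only [Under.mk_hom, Category.id_comp] at this
    rw [this]
    rfl
  have key : (Under.homMk (CommRingCat.ofHom θ) hΘw :
      Under.mk ((sys2 f₁ p hp).a t) ⟶ Under.mk (𝟙 (CommRingCat.of A))) ≫ ρ =
      ((Under.homMk ((sys2 f₁ p hp).ψ t) ((sys2 f₁ p hp).aψ t) :
        Under.mk ((sys2 f₁ p hp).a t) ⟶ Under.mk f₁) ≫
          (Under.homMk ι hι : Under.mk f₁ ⟶ Under.mk _)) ≫ π := by
    apply Under.UnderMorphism.ext
    apply CommRingCat.hom_ext
    apply Ideal.Quotient.ringHom_ext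
    apply MvPolynomial.ringHom_ext
    · intro r
      change ρ.right.hom (θ (Ideal.Quotient.mk _ (MvPolynomial.C r))) =
        π.right.hom (ι.hom (p (MvPolynomial.C r)))
      have e1 : p (MvPolynomial.C r) = f₁.hom r := congrArg (fun g => g r) hp
      have e2 : ι.hom (f₁.hom r) = algebraMap A (AdicCompletion m A) r :=
        congrArg (fun g => g.hom r) hι
      rw [hθmk, MvPolynomial.eval_C, hρ, e1, e2, hπ]
      change _ = AdicCompletion.evalₐ m c (algebraMap A (AdicCompletion m A) r)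
      rw [AlgHom.commutes]
    · intro j
      change ρ.right.hom (θ (Ideal.Quotient.mk _ (MvPolynomial.X j))) =
        π.right.hom (ι.hom (p (MvPolynomial.X j)))
      rw [hθmk, MvPolynomial.eval_X, hρ, hπ]
      change Ideal.Quotient.mk (m ^ c) (a j) = AdicCompletion.evalₐ m c (ι.hom (p (MvPolynomial.X j)))
      rw [ha2 j, hâ]
  refine ⟨F.map (Under.homMk (CommRingCat.ofHom θ) hΘw :
    Under.mk ((sys2 f₁ p hp).a t) ⟶ Under.mk (𝟙 (CommRingCat.of A))) ξ₂, ?_⟩
  rw [← hξ, ← FunctorToTypes.map_comp_apply, ← FunctorToTypes.map_comp_apply, key]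

end Groth.Agent.H21.FPColim
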