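import Mathlib
import Groth.Prelude.Def_SpSeq

/-! Helper lemmas (helper21): images of subobjects in abelian categories, strict morphisms
of filtered objects. -/

namespace Groth.Agent.H21

open CategoryTheory CategoryTheory.Limits

universe v u

variable {A : Type u} [Category.{v} A] [Abelian A]

/-- image of an epi followed by a mono is the mono -/
lemma imageSubobject_epi_comp_mono {X I Y : A} (e : X ⟶ I) [Epi e] (m : I ⟶ Y) [Mono m] :
    imageSubobject (e ≫ m) = Subobject.mk m := by
  haveI : StrongEpi e := strongEpi_of_epi e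
  refine Subobject.eq_of_comm
    (imageSubobjectIso (e ≫ m) ≪≫ (image.isoStrongEpiMono e m rfl).symm ≪≫
      (Subobject.underlyingIso m).symm) ?_
  simp

lemma imageSubobject_comp_mono {X Y Z : A} (h : X ⟶ Y) (g : Y ⟶ Z) [Mono g] :
    imageSubobject (h ≫ g) = (Subobject.map g).obj (imageSubobject h) := by
  have h1 : h ≫ g = factorThruImageSubobject h ≫ ((imageSubobject h).arrow ≫ g) := by
    rw [← Category.assoc, imageSubobject_arrow_comp]
  rw [h1, imageSubobject_epi_comp_mono]
  conv_rhs => rw [← Subobject.mk_arrow (imageSubobject h)]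
  rw [Subobject.map_mk]

lemma imageSubobject_epi_comp {X Y Z : A} (e : X ⟶ Y) [Epi e] (h : Y ⟶ Z) :
    imageSubobject (e ≫ h) = imageSubobject h := by
  have h1 : e ≫ h = (e ≫ factorThruImageSubobject h) ≫ (imageSubobject h).arrow := by
    rw [Category.assoc, imageSubobject_arrow_comp]
  rw [h1, imageSubobject_epi_comp_mono, Subobject.mk_arrow]

lemma imageSubobject_eq_top_of_epi {X Y : A} (e : X ⟶ Y) [Epi e] : imageSubobject e = ⊤ := by
  have : e = e ≫ 𝟙 Y := (Category.comp_id e).symm
  rw [this, imageSubobject_epi_comp_mono]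
  exact Subobject.mk_eq_top_of_isIso (𝟙 Y)

open SpSeq SpSeq.FilObj

theorem isStrict_comp_of_mono {K L M : SpSeq.FilObj A} (f : K ⟶ L) (g : L ⟶ M)
    (hf : SpSeq.FilObj.IsStrict f) (hg : SpSeq.FilObj.IsStrict g) [Mono g.hom] :
    SpSeq.FilObj.IsStrict (f ≫ g) := by
  intro p
  change imageSubobject ((K.fil p).arrow ≫ f.hom ≫ g.hom) = imageSubobject (f.hom ≫ g.hom) ⊓ M.fil p
  rw [← Category.assoc, imageSubobject_comp_mono, hf p, Subobject.inf_map,
    ← imageSubobject_comp_mono]
  have h2 : (Subobject.map g.hom).obj (L.fil p) = imageSubobject ((L.fil p).arrow ≫ g.hom) := by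
    rw [imageSubobject_mono]
    conv_lhs => rw [← Subobject.mk_arrow (L.fil p)]
    rw [Subobject.map_mk]
  rw [h2, hg p, ← inf_assoc]
  congr 1
  exact inf_eq_left.mpr (imageSubobject_comp_le f.hom g.hom)

theorem isStrict_comp_of_epi {K L M : SpSeq.FilObj A} (f : K ⟶ L) (g : L ⟶ M)
    (hf : SpSeq.FilObj.IsStrict f) (hg : SpSeq.FilObj.IsStrict g) [Epi f.hom] :
    SpSeq.FilObj.IsStrict (f ≫ g) := by
  intro p
  change imageSubobject ((K.fil p).arrow ≫ f.hom ≫ g.hom) = imageSubobject (f.hom ≫ g.hom) ⊓ M.fil p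
  have h1 : imageSubobject ((K.fil p).arrow ≫ f.hom) = L.fil p := by
    rw [hf p, imageSubobject_eq_top_of_epi, top_inf_eq]
  -- (K.fil p).arrow ≫ f.hom = e ≫ (L.fil p).arrow with e epi
  have h2 : (K.fil p).arrow ≫ f.hom =
      (factorThruImageSubobject ((K.fil p).arrow ≫ f.hom) ≫
        (Subobject.isoOfEq _ _ h1).hom) ≫ (L.fil p).arrow := by
    rw [Category.assoc, Subobject.isoOfEq_hom, Subobject.ofLE_arrow, imageSubobject_arrow_comp]
  rw [← Category.assoc, h2, Category.assoc, imageSubobject_epi_comp, hg p, imageSubobject_epi_comp]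

end Groth.Agent.H21
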