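import Mathlib

set_option autoImplicit false
universe u

namespace Groth.Agent.H21.FlatKer

open TensorProduct

/-- the kernel of a surjection of flat modules is flat -/
theorem flat_of_exact {R : Type u} [CommRing R] {M N P : Type u} [AddCommGroup M] [AddCommGroup N]
    [AddCommGroup P] [Module R M] [Module R N] [Module R P] [Module.Flat R N] [Module.Flat R P]
    (g : M →ₗ[R] N) (f : N →ₗ[R] P) (hg : Function.Injective g) (hf : Function.Surjective f)
    (H : Function.Exact g f) : Module.Flat R M := by
  rw [Module.Flat.iff_rTensor_preserves_injective_linearMap]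
  intro X Y _ _ _ _ i hi
  have h1 : Function.Injective (g.lTensor X) :=
    LinearMap.lTensor_injective_of_exact_of_flat f hf g hg H X
  have h2 : Function.Injective (i.rTensor N) :=
    Module.Flat.rTensor_preserves_injective_linearMap i hi
  have hcomp : (g.lTensor Y) ∘ₗ (i.rTensor M) = (i.rTensor N) ∘ₗ (g.lTensor X) := by
    ext x m
    simp
  have h3 : Function.Injective ((g.lTensor Y) ∘ₗ (i.rTensor M)) := by
    rw [hcomp]
    exact h2.comp h1
  exact Function.Injective.of_comp h3

/-- a binary product of flat modules is flat -/
theorem flat_prod {R : Type u} [CommRing R] {M N : Type u} [AddCommGroup M] [AddCommGroup N]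
    [Module R M] [Module R N] [Module.Flat R M] [Module.Flat R N] : Module.Flat R (M × N) := by
  rw [Module.Flat.iff_rTensor_preserves_injective_linearMap]
  intro X Y _ _ _ _ i hi
  have h1 : Function.Injective (i.rTensor M) :=
    Module.Flat.rTensor_preserves_injective_linearMap i hi
  have h2 : Function.Injective (i.rTensor N) :=
    Module.Flat.rTensor_preserves_injective_linearMap i hi
  have hcomp : (TensorProduct.prodRight R R Y M N).toLinearMap ∘ₗ (i.rTensor (M × N)) =
      (LinearMap.prodMap (i.rTensor M) (i.rTensor N)) ∘ₗ
        (TensorProduct.prodRight R R X M N).toLinearMap := by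
    ext x m <;> simp
  have h3 : Function.Injective ((TensorProduct.prodRight R R Y M N).toLinearMap ∘ₗ
      (i.rTensor (M × N))) := by
    rw [hcomp]
    exact (Function.Injective.prodMap h1 h2).comp (TensorProduct.prodRight R R X M N).injective
  exact Function.Injective.of_comp h3

end Groth.Agent.H21.FlatKer
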