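import Mathlib
import Groth.Prelude.Def_GrSeg
import Groth.Prelude.Def_GrLC

set_option autoImplicit false
universe u
open DirectSum

namespace Groth.Agent.H21.GDual

section Basic
variable {k : Type u} [Field k] {R : Type u} [CommRing R] [Algebra k R]
  {M : Type u} [AddCommGroup M] [Module R M] [Module k M] [IsScalarTower k R M]
  {τ : Type u} [SetLike τ M] [AddSubgroupClass τ M]
  {ℳ : ℤ → τ} [DirectSum.Decomposition ℳ]
  {D : Type u} [AddCommGroup D] [Module R D] [Module k D] [IsScalarTower k R D]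
  {τ' : Type u} [SetLike τ' D] [AddSubgroupClass τ' D]
  {𝒟 : ℤ → τ'} [DirectSum.Decomposition 𝒟]
  {β : D →ₗ[k] M →ₗ[k] k}

/-- `β d x = β d x_{-n}` for `d ∈ 𝒟 n`. -/
theorem beta_eq_comp (hD : GrSeg.IsGDual R ℳ 𝒟 β) {n : ℤ} {d : D} (hd : d ∈ 𝒟 n) (x : M) :
    β d x = β d (decompose ℳ x (-n) : M) := by
  induction x using DirectSum.Decomposition.inductionOn ℳ with
  | zero => simp
  | add x y hx hy =>
    rw [map_add, hx, hy, decompose_add, DirectSum.add_apply, AddMemClass.coe_add, map_add]
  | @homogeneous i x =>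
    by_cases h : i = -n
    · subst h
      rw [decompose_coe, DirectSum.of_eq_same]
    · rw [decompose_of_mem_ne ℳ x.2 h, hD.vanish n d hd i h x x.2]
      simp

/-- for `x ∈ ℳ (-n)`, `β d x = β d_n x`. -/
theorem beta_comp_eq (hD : GrSeg.IsGDual R ℳ 𝒟 β) (d : D) {n : ℤ} {x : M} (hx : x ∈ ℳ (-n)) :
    β d x = β (decompose 𝒟 d n : D) x := by
  induction d using DirectSum.Decomposition.inductionOn 𝒟 with
  | zero => simp
  | add d d' hd hd' =>
    rw [map_add, LinearMap.add_apply, hd, hd', decompose_add, DirectSum.add_apply,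
      AddMemClass.coe_add, map_add, LinearMap.add_apply]
  | @homogeneous i d =>
    by_cases h : i = n
    · subst h
      rw [decompose_coe, DirectSum.of_eq_same]
    · rw [decompose_of_mem_ne 𝒟 d.2 h]
      have : -n ≠ -i := fun h' => h (neg_injective h').symm
      rw [hD.vanish i d d.2 (-n) this x hx]
      simp

/-- nondegeneracy on the dual side. -/
theorem eq_zero_of_beta (hD : GrSeg.IsGDual R ℳ 𝒟 β) {d : D} (h : ∀ x, β d x = 0) : d = 0 := by
  classical
  have : ∀ n, (decompose 𝒟 d n : D) = 0 := by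
    intro n
    refine hD.eq_zero n _ (decompose 𝒟 d n).2 ?_
    intro x hx
    rw [← beta_comp_eq hD d hx]; exact h x
  rw [← DirectSum.sum_support_decompose 𝒟 d]
  exact Finset.sum_eq_zero fun i _ => this i

/-- a functional concentrated in degree `-n` is represented by an element of `𝒟 n`. -/
theorem exists_repr (hD : GrSeg.IsGDual R ℳ 𝒟 β) (n : ℤ) (l : M →ₗ[k] k)
    (hl : ∀ m, m ≠ -n → ∀ x ∈ ℳ m, l x = 0) : ∃ d ∈ 𝒟 n, ∀ x, β d x = l x := by
  obtain ⟨d, hd, hdx⟩ := hD.exists_eq n l
  refine ⟨d, hd, fun x => ?_⟩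
  induction x using DirectSum.Decomposition.inductionOn ℳ with
  | zero => simp
  | add x y hx hy => rw [map_add, map_add, hx, hy]
  | @homogeneous i x =>
    by_cases h : i = -n
    · subst h; exact hdx x x.2
    · rw [hD.vanish n d hd i h x x.2, hl i h x x.2]

/-- nondegeneracy on the module side. -/
theorem eq_zero_of_forall_beta (hD : GrSeg.IsGDual R ℳ 𝒟 β) {x : M} (h : ∀ d, β d x = 0) : x = 0 := by
  classical
  have : ∀ n, (decompose ℳ x n : M) = 0 := by
    intro n
    by_contra hne
    obtain ⟨l, hl⟩ : ∃ l : M →ₗ[k] k, l (decompose ℳ x n : M) ≠ 0 := by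
      by_contra hcon
      push Not at hcon
      exact hne ((Module.forall_dual_apply_eq_zero_iff k _).mp hcon)
    obtain ⟨d, hd, hdx⟩ := hD.exists_eq (-n) l
    have h1 := beta_eq_comp hD hd x
    rw [neg_neg] at h1
    have h2 := hdx (decompose ℳ x n : M) (by rw [neg_neg]; exact (decompose ℳ x n).2)
    rw [← h1, h d] at h2
    exact hl h2.symm
  rw [← DirectSum.sum_support_decompose ℳ x]
  exact Finset.sum_eq_zero fun i _ => this i

/-- membership in a piece of the dual is detected by the pairing. -/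
theorem mem_piece (hD : GrSeg.IsGDual R ℳ 𝒟 β) {n : ℤ} {d : D}
    (h : ∀ m, m ≠ -n → ∀ x ∈ ℳ m, β d x = 0) : d ∈ 𝒟 n := by
  classical
  have : ∀ j, j ≠ n → (decompose 𝒟 d j : D) = 0 := by
    intro j hj
    refine hD.eq_zero j _ (decompose 𝒟 d j).2 ?_
    intro x hx
    rw [← beta_comp_eq hD d hx]
    exact h (-j) (fun h' => hj (neg_injective h')) x hx
  have h2 : d = (decompose 𝒟 d n : D) := by
    conv_lhs => rw [← DirectSum.sum_support_decompose 𝒟 d]
    by_cases hn : n ∈ (decompose 𝒟 d).support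
    · rw [Finset.sum_eq_single_of_mem n hn]
      intro j _ hj; exact this j hj
    · rw [Finset.sum_eq_zero]
      · rw [DFinsupp.notMem_support_iff] at hn
        rw [hn]; rfl
      · intro j hj
        by_cases hjn : j = n
        · subst hjn; exact absurd hj hn
        · exact this j hjn
  rw [h2]; exact (decompose 𝒟 d n).2

end Basic

section Graded
variable {k : Type u} [Field k] {R : Type u} [CommRing R] [Algebra k R]
  (𝒜 : ℤ → Submodule k R) [GradedAlgebra 𝒜]

theorem exists_scalar (h0R : 𝒜 0 = Submodule.span k {(1 : R)}) {r : R} (hr : r ∈ 𝒜 0) :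
    ∃ c : k, r = c • (1 : R) := by
  rw [h0R, Submodule.mem_span_singleton] at hr
  obtain ⟨c, rfl⟩ := hr; exact ⟨c, rfl⟩

theorem sub_proj_mem (hposR : ∀ n : ℤ, n < 0 → 𝒜 n = ⊥) (mR : HomogeneousIdeal 𝒜)
    (hmR : mR.toIdeal = Ideal.span (⋃ n ∈ Set.Ioi (0 : ℤ), (𝒜 n : Set R))) (r : R) :
    r - (decompose 𝒜 r 0 : R) ∈ mR.toIdeal := by
  induction r using DirectSum.Decomposition.inductionOn 𝒜 with
  | zero => simp
  | add x y hx hy =>
    rw [decompose_add, DirectSum.add_apply, Submodule.coe_add]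
    have : x + y - ((decompose 𝒜 x 0 : R) + (decompose 𝒜 y 0 : R))
        = (x - (decompose 𝒜 x 0 : R)) + (y - (decompose 𝒜 y 0 : R)) := by abel
    rw [this]; exact add_mem hx hy
  | @homogeneous i x =>
    rcases lt_trichotomy i 0 with h | h | h
    · have : (x : R) = 0 := by
        have h1 : (x : R) ∈ (⊥ : Submodule k R) := hposR i h ▸ x.2
        simpa using h1
      rw [this]; simp
    · subst h; rw [decompose_of_mem_same 𝒜 x.2, sub_self]; exact zero_mem _
    · rw [decompose_of_mem_ne 𝒜 x.2 h.ne', sub_zero, hmR]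
      exact Ideal.subset_span (Set.mem_biUnion (Set.mem_Ioi.mpr h) x.2)

variable {F : Type u} [AddCommGroup F] [Module R F] [Module k F] [IsScalarTower k R F]
  {τF : Type u} [SetLike τF F] [AddSubgroupClass τF F]
  (ℱ : ℤ → τF) [DirectSum.Decomposition ℱ] [SetLike.GradedSMul 𝒜 ℱ]

include 𝒜 in
theorem smul_mem_piece {n : ℤ} {x : F} (hx : x ∈ ℱ n) (c : k) : c • x ∈ ℱ n := by
  have h1 : (c • (1 : R)) ∈ 𝒜 0 := Submodule.smul_mem _ _ (SetLike.GradedOne.one_mem)
  have := SetLike.GradedSMul.smul_mem (A := 𝒜) (B := ℱ) h1 hx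
  rw [vadd_eq_add, zero_add, smul_assoc, one_smul] at this
  exact this

/-- the `k`-linear projection onto a homogeneous piece -/
noncomputable def projk (j : ℤ) : F →ₗ[k] F where
  toFun x := (decompose ℱ x j : F)
  map_add' x y := by rw [decompose_add, DirectSum.add_apply, AddMemClass.coe_add]
  map_smul' c x := by
    simp only [RingHom.id_apply]
    induction x using DirectSum.Decomposition.inductionOn ℱ with
    | zero => simp
    | add x y hx hy =>
      rw [smul_add, decompose_add, DirectSum.add_apply, AddMemClass.coe_add, hx, hy, decompose_add,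
        DirectSum.add_apply, AddMemClass.coe_add, smul_add]
    | @homogeneous i x =>
      have hcx := smul_mem_piece 𝒜 ℱ x.2 c
      by_cases h : i = j
      · subst h; rw [decompose_of_mem_same ℱ hcx, decompose_of_mem_same ℱ x.2]
      · rw [decompose_of_mem_ne ℱ hcx h, decompose_of_mem_ne ℱ x.2 h, smul_zero]

theorem projk_apply (j : ℤ) (x : F) : projk 𝒜 ℱ j x = (decompose ℱ x j : F) := rfl

theorem irrel_smul_eq_zero (mR : HomogeneousIdeal 𝒜)
    (hmR : mR.toIdeal = Ideal.span (⋃ n ∈ Set.Ioi (0 : ℤ), (𝒜 n : Set R))) {e : F}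
    (h : ∀ j > 0, ∀ r ∈ 𝒜 j, r • e = 0) : ∀ r ∈ mR.toIdeal, r • e = 0 := by
  intro r hr
  rw [hmR] at hr
  have hle : Ideal.span (⋃ n ∈ Set.Ioi (0 : ℤ), (𝒜 n : Set R)) ≤
      LinearMap.ker (LinearMap.toSpanSingleton R F e) := by
    rw [Ideal.span_le]
    intro r hr
    simp only [Set.mem_iUnion] at hr
    obtain ⟨n, hn, hr⟩ := hr
    simp only [SetLike.mem_coe, LinearMap.mem_ker, LinearMap.toSpanSingleton_apply]
    exact h n hn r hr
  have := hle hr
  simpa using this

theorem smul_eq_scalar (hposR : ∀ n : ℤ, n < 0 → 𝒜 n = ⊥)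
    (h0R : 𝒜 0 = Submodule.span k {(1 : R)}) (mR : HomogeneousIdeal 𝒜)
    (hmR : mR.toIdeal = Ideal.span (⋃ n ∈ Set.Ioi (0 : ℤ), (𝒜 n : Set R))) {e : F}
    (h : ∀ r ∈ mR.toIdeal, r • e = 0) (r : R) : ∃ c : k, r • e = c • e := by
  obtain ⟨c, hc⟩ := exists_scalar 𝒜 h0R (decompose 𝒜 r 0).2
  refine ⟨c, ?_⟩
  have h1 := h _ (sub_proj_mem 𝒜 hposR mR hmR r)
  rw [sub_smul, sub_eq_zero] at h1
  rw [h1, hc, smul_assoc, one_smul]

theorem exists_lower_bound (hposR : ∀ n : ℤ, n < 0 → 𝒜 n = ⊥) [Module.Finite R F] :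
    ∃ N0 : ℤ, ∀ j < N0, ∀ x ∈ ℱ j, x = 0 := by
  classical
  obtain ⟨S, hS⟩ := (Module.Finite.fg_top : (⊤ : Submodule R F).FG)
  let T : Finset ℤ := S.biUnion (fun s => (decompose ℱ s).support)
  obtain ⟨M0, hM0⟩ := Finset.exists_le (T.image Neg.neg)
  refine ⟨-M0, ?_⟩
  have hT : ∀ s ∈ S, ∀ j, j < -M0 → (decompose ℱ s j : F) = 0 := by
    intro s hs j hj
    by_contra hne
    have hjT : j ∈ T := Finset.mem_biUnion.mpr ⟨s, hs, by
      rw [DFinsupp.mem_support_iff]; intro h0; exact hne (by rw [h0]; rfl)⟩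
    have := hM0 (-j) (Finset.mem_image_of_mem _ hjT)
    omega
  let G : Submodule R F :=
    { carrier := {x | ∀ j, j < -M0 → (decompose ℱ x j : F) = 0}
      add_mem' := by
        intro a b ha hb j hj
        rw [decompose_add, DirectSum.add_apply, AddMemClass.coe_add, ha j hj, hb j hj, add_zero]
      zero_mem' := by
        intro j _
        rw [decompose_zero]; rfl
      smul_mem' := by
        intro r x hx j hj
        induction r using DirectSum.Decomposition.inductionOn 𝒜 with
        | zero => rw [zero_smul, decompose_zero]; rfl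
        | add r r' hr hr' =>
          rw [add_smul, decompose_add, DirectSum.add_apply, AddMemClass.coe_add, hr, hr', add_zero]
        | @homogeneous a r =>
          rcases lt_or_ge a 0 with ha | ha
          · have : (r : R) = 0 := by
              have h1 : (r : R) ∈ (⊥ : Submodule k R) := hposR a ha ▸ r.2
              simpa using h1
            rw [this, zero_smul, decompose_zero]; rfl
          · have hx' : (r : R) • x = ∑ b ∈ (decompose ℱ x).support, (r : R) • (decompose ℱ x b : F) := by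
              conv_lhs => rw [← DirectSum.sum_support_decompose ℱ x, Finset.smul_sum]
            rw [hx', decompose_sum, DFinsupp.finset_sum_apply, AddSubmonoidClass.coe_finset_sum]
            refine Finset.sum_eq_zero fun b _ => ?_
            by_cases hb : b < -M0
            · rw [hx b hb, smul_zero, decompose_zero]; rfl
            · have hmem := SetLike.GradedSMul.smul_mem (A := 𝒜) (B := ℱ) r.2 (decompose ℱ x b).2
              rw [vadd_eq_add] at hmem
              exact decompose_of_mem_ne ℱ hmem (by omega) }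
  have hG : (⊤ : Submodule R F) ≤ G := by
    rw [← hS]; exact Submodule.span_le.mpr (fun s hs => hT s hs)
  intro j hj x hx
  have := hG (Submodule.mem_top : x ∈ ⊤) j hj
  rwa [decompose_of_mem_same ℱ hx] at this

theorem decompose_hsmul {a : ℤ} {r : R} (hr : r ∈ 𝒜 a) (y : F) (j : ℤ) :
    (decompose ℱ (r • y) j : F) = r • (decompose ℱ y (j - a) : F) := by
  induction y using DirectSum.Decomposition.inductionOn ℱ with
  | zero => simp
  | add y y' hy hy' =>
    rw [smul_add, decompose_add, DirectSum.add_apply, AddMemClass.coe_add, hy, hy', decompose_add,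
      DirectSum.add_apply, AddMemClass.coe_add, smul_add]
  | @homogeneous b y =>
    have hmem := SetLike.GradedSMul.smul_mem (A := 𝒜) (B := ℱ) hr y.2
    rw [vadd_eq_add] at hmem
    by_cases h : a + b = j
    · have h' : b = j - a := by omega
      subst h'
      rw [decompose_of_mem_same ℱ y.2]
      have : a + (j - a) = j := by ring
      rw [this] at hmem
      rw [decompose_of_mem_same ℱ hmem]
    · rw [decompose_of_mem_ne ℱ hmem h, decompose_of_mem_ne ℱ y.2 (by omega : b ≠ j - a), smul_zero]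

/-- elements with no components in degrees `< n` -/
def geSub (hposR : ∀ n : ℤ, n < 0 → 𝒜 n = ⊥) (n : ℤ) : Submodule R F where
  carrier := {x | ∀ j, j < n → (decompose ℱ x j : F) = 0}
  add_mem' := by
    intro a b ha hb j hj
    rw [decompose_add, DirectSum.add_apply, AddMemClass.coe_add, ha j hj, hb j hj, add_zero]
  zero_mem' := by
    intro j _
    rw [decompose_zero]; rfl
  smul_mem' := by
    intro r x hx j hj
    induction r using DirectSum.Decomposition.inductionOn 𝒜 with
    | zero => rw [zero_smul, decompose_zero]; rfl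
    | add r r' hr hr' =>
      rw [add_smul, decompose_add, DirectSum.add_apply, AddMemClass.coe_add, hr, hr', add_zero]
    | @homogeneous a r =>
      rcases lt_or_ge a 0 with ha | ha
      · have : (r : R) = 0 := by
          have h1 : (r : R) ∈ (⊥ : Submodule k R) := hposR a ha ▸ r.2
          simpa using h1
        rw [this, zero_smul, decompose_zero]; rfl
      · rw [decompose_hsmul 𝒜 ℱ r.2, hx (j - a) (by omega), smul_zero]

theorem mem_geSub (hposR : ∀ n : ℤ, n < 0 → 𝒜 n = ⊥) (n : ℤ) (x : F) :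
    x ∈ geSub 𝒜 ℱ hposR n ↔ ∀ j, j < n → (decompose ℱ x j : F) = 0 := Iff.rfl

theorem proj_smul_of_mem_geSub (hposR : ∀ n : ℤ, n < 0 → 𝒜 n = ⊥) (n : ℤ) {y : F}
    (hy : y ∈ geSub 𝒜 ℱ hposR n) (r : R) :
    (decompose ℱ (r • y) n : F) = (decompose 𝒜 r 0 : R) • (decompose ℱ y n : F) := by
  induction r using DirectSum.Decomposition.inductionOn 𝒜 with
  | zero => simp
  | add r r' hr hr' =>
    rw [add_smul, decompose_add, DirectSum.add_apply, AddMemClass.coe_add, hr, hr', decompose_add,
      DirectSum.add_apply, Submodule.coe_add, add_smul]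
  | @homogeneous a r =>
    rcases lt_trichotomy a 0 with ha | ha | ha
    · have : (r : R) = 0 := by
        have h1 : (r : R) ∈ (⊥ : Submodule k R) := hposR a ha ▸ r.2
        simpa using h1
      rw [this]; simp
    · subst ha
      rw [decompose_hsmul 𝒜 ℱ r.2, sub_zero, decompose_of_mem_same 𝒜 r.2]
    · rw [decompose_hsmul 𝒜 ℱ r.2, (mem_geSub 𝒜 ℱ hposR n y).mp hy (n - a) (by omega), smul_zero,
        decompose_of_mem_ne 𝒜 r.2 ha.ne', zero_smul]

/-- the pieces of a finitely generated graded module are finite-dimensional -/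
theorem piece_fg (hposR : ∀ n : ℤ, n < 0 → 𝒜 n = ⊥) (h0R : 𝒜 0 = Submodule.span k {(1 : R)})
    [Algebra.FiniteType k R] [Module.Finite R F] (n : ℤ) :
    ∃ T : Finset F, ∀ x ∈ ℱ n, x ∈ Submodule.span k (T : Set F) := by
  classical
  haveI : IsNoetherianRing R := Algebra.FiniteType.isNoetherianRing k R
  haveI : IsNoetherian R F := isNoetherian_of_isNoetherianRing_of_finite R F
  obtain ⟨S, hS⟩ := IsNoetherian.noetherian (geSub 𝒜 ℱ hposR n)
  refine ⟨S.image (fun s => (decompose ℱ s n : F)), ?_⟩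
  have key : ∀ y ∈ Submodule.span R (S : Set F),
      (decompose ℱ y n : F) ∈ Submodule.span k ((S.image (fun s => (decompose ℱ s n : F)) : Finset F) : Set F) := by
    intro y hy
    induction hy using Submodule.span_induction with
    | mem y hy => exact Submodule.subset_span (Finset.mem_coe.mpr (Finset.mem_image_of_mem _ hy))
    | zero => rw [decompose_zero]; exact zero_mem _
    | add y y' _ _ hy hy' =>
      rw [decompose_add, DirectSum.add_apply, AddMemClass.coe_add]; exact add_mem hy hy'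
    | smul r y hy1 hy =>
      rw [hS] at hy1
      rw [proj_smul_of_mem_geSub 𝒜 ℱ hposR n hy1 r]
      obtain ⟨c, hc⟩ := exists_scalar 𝒜 h0R (decompose 𝒜 r 0).2
      rw [hc, smul_assoc, one_smul]
      exact Submodule.smul_mem _ _ hy
  intro x hx
  have hxG : x ∈ geSub 𝒜 ℱ hposR n := by
    intro j hj
    exact decompose_of_mem_ne ℱ hx (by omega)
  rw [← hS] at hxG
  have := key x hxG
  rwa [decompose_of_mem_same ℱ hx] at this

/-- a piece as a `k`-subspace -/
def pieceSub (n : ℤ) : Submodule k F where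
  carrier := (ℱ n : Set F)
  add_mem' ha hb := add_mem ha hb
  zero_mem' := zero_mem _
  smul_mem' c _ hx := smul_mem_piece 𝒜 ℱ hx c

theorem mem_pieceSub (n : ℤ) (x : F) : x ∈ pieceSub 𝒜 ℱ n ↔ x ∈ ℱ n := Iff.rfl

theorem pieceSub_finite (hposR : ∀ n : ℤ, n < 0 → 𝒜 n = ⊥) (h0R : 𝒜 0 = Submodule.span k {(1 : R)})
    [Algebra.FiniteType k R] [Module.Finite R F] (n : ℤ) :
    FiniteDimensional k (pieceSub 𝒜 ℱ n) := by
  obtain ⟨T, hT⟩ := piece_fg 𝒜 ℱ hposR h0R n
  have hle : pieceSub 𝒜 ℱ n ≤ Submodule.span k (T : Set F) := fun x hx => hT x hx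
  haveI : FiniteDimensional k (Submodule.span k (T : Set F)) :=
    FiniteDimensional.span_finset k T
  exact Submodule.finiteDimensional_of_le hle

end Graded

end Groth.Agent.H21.GDual
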