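import Mathlib
import Groth.Prelude.Def_GrSeg
import Groth.Prelude.Def_GrLC
import Groth.Agent.H21.GDual

set_option autoImplicit false
universe u
open DirectSum

namespace Groth.Agent.H21.GDual1
open Groth.Agent.H21.GDual

section
variable {R : Type u} [CommRing R]
  {F : Type u} [AddCommGroup F] [Module R F]
  (ℱ : ℤ → AddSubgroup F) [DirectSum.Decomposition ℱ]
  {M : Type u} [AddCommGroup M] [Module R M]
  (ℳ : ℤ → AddSubgroup M) [DirectSum.Decomposition ℳ]

theorem grHom_decompose (f : F →ₗ[R] M) (hfgr : GrLC.IsGrHom ℱ ℳ f) (x : F) (j : ℤ) :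
    (decompose ℳ (f x) j : M) = f (decompose ℱ x j : F) := by
  induction x using DirectSum.Decomposition.inductionOn ℱ with
  | zero => simp
  | add x y hx hy =>
    rw [map_add, decompose_add, DirectSum.add_apply, AddSubgroup.coe_add, hx, hy, decompose_add,
      DirectSum.add_apply, AddSubgroup.coe_add, map_add]
  | @homogeneous i x =>
    by_cases h : i = j
    · subst h
      rw [decompose_of_mem_same ℳ (hfgr i x x.2), decompose_of_mem_same ℱ x.2]
    · rw [decompose_of_mem_ne ℳ (hfgr i x x.2) h, decompose_of_mem_ne ℱ x.2 h, map_zero]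
end

theorem main (k : Type u) [Field k] (R : Type u) [CommRing R] [Algebra k R]
    (𝒜 : ℤ → Submodule k R) [GradedAlgebra 𝒜] (hposR : ∀ n : ℤ, n < 0 → 𝒜 n = ⊥)
    (h0R : 𝒜 0 = Submodule.span k {(1 : R)})
    (mR : HomogeneousIdeal 𝒜)
    (hmR : mR.toIdeal = Ideal.span (⋃ n ∈ Set.Ioi (0 : ℤ), (𝒜 n : Set R)))
    (F : Type u) [AddCommGroup F] [Module R F] [Module k F] [IsScalarTower k R F]
    (ℱ : ℤ → AddSubgroup F) [DirectSum.Decomposition ℱ] [SetLike.GradedSMul 𝒜 ℱ] [Module.Finite R F]
    (M : Type u) [AddCommGroup M] [Module R M] [Module k M] [IsScalarTower k R M]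
    (ℳ : ℤ → AddSubgroup M) [DirectSum.Decomposition ℳ] [SetLike.GradedSMul 𝒜 ℳ]
    (f : F →ₗ[R] M) (hf : Function.Surjective f) (hfgr : GrLC.IsGrHom ℱ ℳ f)
    (DM : Type u) [AddCommGroup DM] [Module R DM] [Module k DM] [IsScalarTower k R DM]
    (𝒟M : ℤ → AddSubgroup DM) [DirectSum.Decomposition 𝒟M] [SetLike.GradedSMul 𝒜 𝒟M]
    (βM : DM →ₗ[k] M →ₗ[k] k) (hDM : GrSeg.IsGDual R ℳ 𝒟M βM)
    (DF : Type u) [AddCommGroup DF] [Module R DF] [Module k DF] [IsScalarTower k R DF]
    (𝒟F : ℤ → AddSubgroup DF) [DirectSum.Decomposition 𝒟F] [SetLike.GradedSMul 𝒜 𝒟F]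
    (βF : DF →ₗ[k] F →ₗ[k] k) (hDF : GrSeg.IsGDual R ℱ 𝒟F βF)
    (g : DM →ₗ[R] DF) (hg : GrSeg.IsGDualMap βM βF f g) :
    LinearMap.ker f ≤ mR.toIdeal • (⊤ : Submodule R F) ↔ GrLC.IsStarEss 𝒟M 𝒟F g := by
  classical
  have hginj : Function.Injective g := by
    rw [injective_iff_map_eq_zero]
    intro d hd
    refine eq_zero_of_beta hDM ?_
    intro y
    obtain ⟨x, rfl⟩ := hf y
    rw [← hg d x, hd]; simp
  have hggr : GrLC.IsGrHom 𝒟M 𝒟F g := by
    intro n d hd
    refine mem_piece hDF ?_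
    intro m hm x hx
    rw [hg d x]
    exact hDM.vanish n d hd m hm (f x) (hfgr m x hx)
  have hker_hom : ∀ x ∈ LinearMap.ker f, ∀ j, (decompose ℱ x j : F) ∈ LinearMap.ker f := by
    intro x hx j
    rw [LinearMap.mem_ker] at hx ⊢
    rw [← grHom_decompose ℱ ℳ f hfgr x j, hx, decompose_zero]; rfl
  -- homogeneous elements killing ker f are in the range
  have hrange : ∀ n, ∀ e ∈ 𝒟F n, (∀ x ∈ LinearMap.ker f, βF e x = 0) → e ∈ LinearMap.range g := by
    intro n e he hek
    have hsurj : LinearMap.range (f.restrictScalars k) = ⊤ := by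
      rw [LinearMap.range_eq_top]; exact hf
    obtain ⟨s, hs⟩ := (f.restrictScalars k).exists_rightInverse_of_surjective hsurj
    have hs' : ∀ y, f (s y) = y := fun y => by
      have := LinearMap.congr_fun hs y
      simpa using this
    obtain ⟨d, hd, hdx⟩ := hDM.exists_eq n ((βF e).comp s)
    refine ⟨d, ?_⟩
    rw [← sub_eq_zero]
    refine eq_zero_of_beta hDF ?_
    intro x
    rw [map_sub, LinearMap.sub_apply, sub_eq_zero, hg d x]
    induction x using DirectSum.Decomposition.inductionOn ℱ with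
    | zero => simp
    | add x y hx hy => rw [map_add, map_add, map_add, hx, hy]
    | @homogeneous i x =>
      by_cases h : i = -n
      · subst h
        rw [hdx (f x) (hfgr _ x x.2), LinearMap.comp_apply]
        have h1 : s (f x) - x ∈ LinearMap.ker f := by
          rw [LinearMap.mem_ker, map_sub, hs', sub_self]
        have h2 := hek _ h1
        rw [map_sub, sub_eq_zero] at h2
        exact h2
      · rw [hDM.vanish n d hd i h (f x) (hfgr i x x.2), hDF.vanish n e he i h x x.2]
  constructor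
  · intro hker
    refine ⟨hginj, hggr, ?_⟩
    intro P hP hPne
    obtain ⟨p, hpP, hpne⟩ := Submodule.exists_mem_ne_zero_of_ne_bot hPne
    obtain ⟨n, hn⟩ : ∃ n, (decompose 𝒟F p n : DF) ≠ 0 := by
      by_contra hcon
      push Not at hcon
      apply hpne
      rw [← DirectSum.sum_support_decompose 𝒟F p]
      exact Finset.sum_eq_zero fun i _ => hcon i
    obtain ⟨N0, hN0⟩ := exists_lower_bound 𝒜 ℱ hposR
    have hDFvanish : ∀ j, -j < N0 → ∀ d ∈ 𝒟F j, d = 0 := by
      intro j hj d hd
      refine hDF.eq_zero j d hd ?_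
      intro x hx
      rw [hN0 (-j) hj x hx, map_zero]
    have key : ∀ t : ℕ, ∀ n e, e ∈ 𝒟F n → e ∈ P → e ≠ 0 → (-n - N0 < t) →
        ∃ e' ∈ P, e' ≠ 0 ∧ (∃ n', e' ∈ 𝒟F n') ∧ ∀ j > 0, ∀ r ∈ 𝒜 j, r • e' = 0 := by
      intro t
      induction t with
      | zero =>
        intro n e he _ hene hlt
        exact absurd (hDFvanish n (by push_cast at hlt; omega) e he) hene
      | succ t ih =>
        intro n e he heP hene hlt
        by_cases h : ∀ j > 0, ∀ r ∈ 𝒜 j, r • e = 0
        · exact ⟨e, heP, hene, ⟨n, he⟩, h⟩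
        · push Not at h
          obtain ⟨j, hj, r, hr, hre⟩ := h
          have hmem := SetLike.GradedSMul.smul_mem (A := 𝒜) (B := 𝒟F) hr he
          rw [vadd_eq_add] at hmem
          exact ih (j + n) (r • e) hmem (P.smul_mem r heP) hre (by push_cast at hlt ⊢; omega)
    obtain ⟨e', he'P, he'ne, ⟨n', he'n'⟩, he'm⟩ :=
      key (-n - N0 + 1).toNat n _ (decompose 𝒟F p n).2 (hP n hpP) hn (by
        have : (0:ℤ) ≤ -n - N0 + 1 ∨ -n - N0 + 1 < 0 := le_or_gt _ _
        rcases this with h | h
        · rw [Int.toNat_of_nonneg h]; omega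
        · exfalso
          exact hn (hDFvanish n (by omega) _ (decompose 𝒟F p n).2))
    have he'm' := irrel_smul_eq_zero 𝒜 mR hmR he'm
    have hkill : ∀ x ∈ mR.toIdeal • (⊤ : Submodule R F), βF e' x = 0 := by
      intro x hx
      refine Submodule.smul_induction_on hx ?_ ?_
      · intro r hr y _
        rw [← hDF.map_smul, he'm' r hr]; simp
      · intro x y hx hy
        rw [map_add, hx, hy, add_zero]
    have he'range : e' ∈ LinearMap.range g := hrange n' e' he'n' (fun x hx => hkill x (hker hx))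
    intro hbot
    exact he'ne ((Submodule.eq_bot_iff _).mp hbot e' ⟨he'P, he'range⟩)
  · intro hess x hx
    by_contra hxN
    obtain ⟨i, hi⟩ : ∃ i, (decompose ℱ x i : F) ∉ mR.toIdeal • (⊤ : Submodule R F) := by
      by_contra hcon
      push Not at hcon
      apply hxN
      rw [← DirectSum.sum_support_decompose ℱ x]
      exact Submodule.sum_mem _ fun i _ => hcon i
    obtain ⟨y, hy⟩ : ∃ y : F, y = (decompose ℱ x i : F) := ⟨_, rfl⟩
    have hyi : y ∈ ℱ i := hy ▸ (decompose ℱ x i).2
    have hyk : y ∈ LinearMap.ker f := hy ▸ hker_hom x hx i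
    have hyN : y ∉ (mR.toIdeal • (⊤ : Submodule R F)).restrictScalars k := by
      rw [Submodule.restrictScalars_mem, hy]; exact hi
    obtain ⟨l0, hl0y, hl0N⟩ := Submodule.exists_dual_map_eq_bot_of_notMem hyN inferInstance
    have hl0N' : ∀ z ∈ mR.toIdeal • (⊤ : Submodule R F), l0 z = 0 := by
      intro z hz
      have : l0 z ∈ ((mR.toIdeal • (⊤ : Submodule R F)).restrictScalars k).map l0 :=
        Submodule.mem_map_of_mem (by rw [Submodule.restrictScalars_mem]; exact hz)
      rw [hl0N] at this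
      exact (Submodule.mem_bot k).mp this
    obtain ⟨e, he, hex⟩ := hDF.exists_eq (-i) l0
    rw [neg_neg] at hex
    have he_m : ∀ j > 0, ∀ r ∈ 𝒜 j, r • e = 0 := by
      intro j hj r hr
      refine eq_zero_of_beta hDF ?_
      intro z
      rw [hDF.map_smul]
      have hrm : r ∈ mR.toIdeal := by
        rw [hmR]; exact Ideal.subset_span (Set.mem_biUnion (Set.mem_Ioi.mpr hj) hr)
      induction z using DirectSum.Decomposition.inductionOn ℱ with
      | zero => simp
      | add z z' hz hz' => rw [smul_add, map_add, hz, hz', add_zero]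
      | @homogeneous b z =>
        have hmem := SetLike.GradedSMul.smul_mem (A := 𝒜) (B := ℱ) hr z.2
        rw [vadd_eq_add] at hmem
        by_cases hb : j + b = i
        · rw [hb] at hmem
          rw [hex _ hmem]
          exact hl0N' _ (Submodule.smul_mem_smul hrm Submodule.mem_top)
        · exact hDF.vanish (-i) e he (j + b) (by rw [neg_neg]; exact hb) _ hmem
    have he_m' := irrel_smul_eq_zero 𝒜 mR hmR he_m
    have hene : e ≠ 0 := by
      intro h0
      apply hl0y
      rw [← hex y hyi, h0]; simp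
    have hscal := smul_eq_scalar 𝒜 hposR h0R mR hmR he_m'
    have hP : (Submodule.span R {e}).IsHomogeneous 𝒟F := by
      intro j p hp
      obtain ⟨r, rfl⟩ := Submodule.mem_span_singleton.mp hp
      obtain ⟨c, hc⟩ := hscal r
      have hce : c • e ∈ 𝒟F (-i) := smul_mem_piece 𝒜 𝒟F he c
      rw [hc]
      by_cases hj : -i = j
      · subst hj
        rw [decompose_of_mem_same 𝒟F hce, ← hc]
        exact Submodule.smul_mem _ _ (Submodule.mem_span_singleton_self e)
      · rw [decompose_of_mem_ne 𝒟F hce hj]; exact zero_mem _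
    have hPne : Submodule.span R {e} ≠ ⊥ := by
      intro hbot
      exact hene ((Submodule.eq_bot_iff _).mp hbot e (Submodule.mem_span_singleton_self e))
    obtain ⟨p, hp, hpne⟩ := Submodule.exists_mem_ne_zero_of_ne_bot (hess.essential _ hP hPne)
    obtain ⟨hp1, ⟨d, hd⟩⟩ := hp
    obtain ⟨r, hr⟩ := Submodule.mem_span_singleton.mp hp1
    obtain ⟨c, hc⟩ := hscal r
    have hc0 : c ≠ 0 := by
      intro h0
      apply hpne
      rw [← hr, hc, h0, zero_smul]
    have h1 : βF p y = c * l0 y := by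
      rw [← hr, hc, map_smul, LinearMap.smul_apply, hex y hyi, smul_eq_mul]
    have h2 : βF p y = 0 := by
      rw [← hd, hg d y, LinearMap.mem_ker.mp hyk, map_zero]
    rw [h1] at h2
    exact (mul_ne_zero hc0 hl0y) h2

end Groth.Agent.H21.GDual1
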