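import Mathlib
import Groth.Prelude.Def_GrSeg
import Groth.Prelude.Def_GrLC
import Groth.Agent.H21.GDual
import Groth.Agent.H21.GDual1

set_option autoImplicit false
universe u
open DirectSum

namespace Groth.Agent.H21.GDual2
open Groth.Agent.H21.GDual Groth.Agent.H21.GDual1

theorem starInj_aux (k : Type u) [Field k] (R : Type u) [CommRing R] [Algebra k R]
    (𝒜 : ℤ → Submodule k R) [GradedAlgebra 𝒜]
    (D : Type u) [AddCommGroup D] [Module R D] [Module k D] [IsScalarTower k R D]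
    (𝒟 : ℤ → AddSubgroup D) [DirectSum.Decomposition 𝒟] [SetLike.GradedSMul 𝒜 𝒟]
    (β : D →ₗ[k] R →ₗ[k] k) (hD : GrSeg.IsGDual R 𝒜 𝒟 β)
    {A : Type u} [AddCommGroup A] [Module R A] [Module k A] [IsScalarTower k R A]
    (𝒜A : ℤ → AddSubgroup A) [DirectSum.Decomposition 𝒜A] [SetLike.GradedSMul 𝒜 𝒜A]
    {B : Type u} [AddCommGroup B] [Module R B] [Module k B] [IsScalarTower k R B]
    (ℬB : ℤ → AddSubgroup B) [DirectSum.Decomposition ℬB] [SetLike.GradedSMul 𝒜 ℬB]
    (f : A →ₗ[R] B) (hfgr : GrLC.IsGrHom 𝒜A ℬB f) (hinj : Function.Injective f)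
    (g : A →ₗ[R] D) (hggr : GrLC.IsGrHom 𝒜A 𝒟 g) :
    ∃ h : B →ₗ[R] D, GrLC.IsGrHom ℬB 𝒟 h ∧ h ∘ₗ f = g := by
  classical
  obtain ⟨s, hs⟩ := (f.restrictScalars k).exists_leftInverse_of_injective
    (LinearMap.ker_eq_bot.mpr hinj)
  have hs' : ∀ a, s (f a) = a := fun a => by simpa using LinearMap.congr_fun hs a
  let lA : A →ₗ[k] k := (β.flip 1).comp (g.restrictScalars k)
  have lA_apply : ∀ a, lA a = β (g a) 1 := fun a => rfl
  let lB : B →ₗ[k] k := (lA.comp s).comp (projk 𝒜 ℬB 0)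
  have lB_apply : ∀ b, lB b = lA (s (decompose ℬB b 0 : B)) := fun b => rfl
  have hlA0 : ∀ a, lA a = lA (decompose 𝒜A a 0 : A) := by
    intro a
    induction a using DirectSum.Decomposition.inductionOn 𝒜A with
    | zero => simp
    | add a a' ha ha' =>
      rw [map_add, ha, ha', decompose_add, DirectSum.add_apply, AddSubgroup.coe_add, map_add]
    | @homogeneous i a =>
      by_cases h : i = 0
      · subst h; rw [decompose_of_mem_same 𝒜A a.2]
      · rw [decompose_of_mem_ne 𝒜A a.2 h, map_zero, lA_apply]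
        exact hD.vanish i (g a) (hggr i a a.2) 0 (by intro h0; apply h; omega) 1
          (SetLike.GradedOne.one_mem)
  have hlBf : ∀ a, lB (f a) = lA a := by
    intro a
    rw [hlA0 a, lB_apply, grHom_decompose 𝒜A ℬB f hfgr a 0, hs']
  have hlBvanish : ∀ j, j ≠ 0 → ∀ b ∈ ℬB j, lB b = 0 := by
    intro j hj b hb
    rw [lB_apply, decompose_of_mem_ne ℬB hb hj, map_zero, map_zero]
  have hex : ∀ b : B, ∃ d : D, ∀ r : R, β d r = lB (r • b) := by
    intro b
    induction b using DirectSum.Decomposition.inductionOn ℬB with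
    | zero => exact ⟨0, fun r => by simp⟩
    | add b b' hb hb' =>
      obtain ⟨d, hd⟩ := hb
      obtain ⟨d', hd'⟩ := hb'
      exact ⟨d + d', fun r => by rw [map_add, LinearMap.add_apply, hd, hd', smul_add, map_add]⟩
    | @homogeneous n b =>
      let l : R →ₗ[k] k := lB.comp ((LinearMap.toSpanSingleton R B (b : B)).restrictScalars k)
      obtain ⟨d, _, hd⟩ := exists_repr hD n l (by
        intro m hm x hx
        show lB (x • (b : B)) = 0
        have hmem := SetLike.GradedSMul.smul_mem (A := 𝒜) (B := ℬB) hx b.2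
        rw [vadd_eq_add] at hmem
        exact hlBvanish (m + n) (by intro h0; apply hm; omega) _ hmem)
      exact ⟨d, fun r => hd r⟩
  choose h0 hh0 using hex
  let h : B →ₗ[R] D :=
    { toFun := h0
      map_add' := fun b b' => by
        rw [← sub_eq_zero]
        refine eq_zero_of_beta hD fun r => ?_
        rw [map_sub, map_add, LinearMap.sub_apply, LinearMap.add_apply, hh0, hh0, hh0, smul_add,
          map_add, sub_self]
      map_smul' := fun t b => by
        simp only [RingHom.id_apply]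
        rw [← sub_eq_zero]
        refine eq_zero_of_beta hD fun r => ?_
        rw [map_sub, LinearMap.sub_apply, hD.map_smul, hh0, hh0, smul_smul, smul_eq_mul,
          mul_comm, sub_self] }
  refine ⟨h, ?_, ?_⟩
  · intro n b hb
    show h0 b ∈ 𝒟 n
    refine mem_piece hD ?_
    intro m hm x hx
    rw [hh0]
    have hmem := SetLike.GradedSMul.smul_mem (A := 𝒜) (B := ℬB) hx hb
    rw [vadd_eq_add] at hmem
    exact hlBvanish (m + n) (by intro h0; apply hm; omega) _ hmem
  · ext a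
    show h0 (f a) = g a
    rw [← sub_eq_zero]
    refine eq_zero_of_beta hD fun r => ?_
    rw [map_sub, LinearMap.sub_apply, hh0, ← map_smul, hlBf, lA_apply, map_smul, hD.map_smul,
      smul_eq_mul, mul_one, sub_self]

theorem main (k : Type u) [Field k] (R : Type u) [CommRing R] [Algebra k R]
    (𝒜 : ℤ → Submodule k R) [GradedAlgebra 𝒜] (hposR : ∀ n : ℤ, n < 0 → 𝒜 n = ⊥)
    (h0R : 𝒜 0 = Submodule.span k {(1 : R)})
    (mR : HomogeneousIdeal 𝒜)
    (hmR : mR.toIdeal = Ideal.span (⋃ n ∈ Set.Ioi (0 : ℤ), (𝒜 n : Set R)))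
    (D : Type u) [AddCommGroup D] [Module R D] [Module k D] [IsScalarTower k R D]
    (𝒟 : ℤ → AddSubgroup D) [DirectSum.Decomposition 𝒟] [SetLike.GradedSMul 𝒜 𝒟]
    (β : D →ₗ[k] R →ₗ[k] k) (hD : GrSeg.IsGDual R 𝒜 𝒟 β)
    (e : (R ⧸ mR.toIdeal) →ₗ[R] D) (he : Function.Injective e)
    (hegr : GrLC.IsGrHom (GrLC.quotGr 𝒜 mR) 𝒟 e) :
    GrLC.IsStarInjHull 𝒜 (GrLC.quotGr 𝒜 mR) 𝒟 e := by
  classical
  refine { injective := he, grHom := hegr, essential := ?_, starInj := ?_ }
  · intro P hP hPne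
    obtain ⟨p, hpP, hpne⟩ := Submodule.exists_mem_ne_zero_of_ne_bot hPne
    obtain ⟨n, hn⟩ : ∃ n, (decompose 𝒟 p n : D) ≠ 0 := by
      by_contra hcon
      push Not at hcon
      apply hpne
      rw [← DirectSum.sum_support_decompose 𝒟 p]
      exact Finset.sum_eq_zero fun i _ => hcon i
    have hdP := hP n hpP
    obtain ⟨d, hd⟩ : ∃ d : D, d = (decompose 𝒟 p n : D) := ⟨_, rfl⟩
    rw [← hd] at hn hdP
    have hdn : d ∈ 𝒟 n := hd ▸ (decompose 𝒟 p n).2
    obtain ⟨r, hr, hrd⟩ : ∃ r ∈ 𝒜 (-n), β d r ≠ 0 := by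
      by_contra hcon
      push Not at hcon
      exact hn (hD.eq_zero n d hdn hcon)
    obtain ⟨d0, hd0def⟩ : ∃ d0 : D, d0 = r • d := ⟨_, rfl⟩
    have hd0 : d0 ∈ 𝒟 0 := by
      have hmem := SetLike.GradedSMul.smul_mem (A := 𝒜) (B := 𝒟) hr hdn
      rw [vadd_eq_add, neg_add_cancel] at hmem
      rw [hd0def]; exact hmem
    have hd01 : β d0 1 ≠ 0 := by
      rw [hd0def, hD.map_smul, smul_eq_mul, mul_one]; exact hrd
    have hd0P : d0 ∈ P := hd0def ▸ P.smul_mem r hdP
    have hm0 : ∀ j > 0, ∀ t ∈ 𝒜 j, t • d0 = 0 := by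
      intro j hj t ht
      have hmem := SetLike.GradedSMul.smul_mem (A := 𝒜) (B := 𝒟) ht hd0
      rw [vadd_eq_add, add_zero] at hmem
      refine hD.eq_zero j _ hmem ?_
      intro x hx
      have : x = 0 := by
        have h1 : x ∈ (⊥ : Submodule k R) := hposR (-j) (by omega) ▸ hx
        simpa using h1
      rw [this, map_zero]
    have hm0' := irrel_smul_eq_zero 𝒜 mR hmR hm0
    have h1m : (1 : R) ∉ mR.toIdeal := by
      intro h1
      have := hm0' 1 h1
      rw [one_smul] at this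
      rw [this] at hd01
      simp at hd01
    obtain ⟨u, hudef⟩ : ∃ u : D, u = e (Ideal.Quotient.mk mR.toIdeal 1) := ⟨_, rfl⟩
    have hu0 : u ∈ 𝒟 0 := by
      rw [hudef]
      refine hegr 0 _ ?_
      have h1A : (1 : R) ∈ 𝒜 0 := SetLike.GradedOne.one_mem
      exact ⟨1, h1A, rfl⟩
    have hune : u ≠ 0 := by
      intro h0
      have : Ideal.Quotient.mk mR.toIdeal 1 = 0 := he (by rw [map_zero, ← hudef]; exact h0)
      rw [Ideal.Quotient.eq_zero_iff_mem] at this
      exact h1m this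
    have hu1 : β u 1 ≠ 0 := by
      intro h0
      apply hune
      refine hD.eq_zero 0 u hu0 ?_
      intro x hx
      rw [neg_zero] at hx
      obtain ⟨c, rfl⟩ := exists_scalar 𝒜 h0R hx
      rw [map_smul, h0, smul_zero]
    have hdc : d0 = (β d0 1 / β u 1) • u := by
      rw [← sub_eq_zero]
      refine hD.eq_zero 0 _ (sub_mem hd0 (smul_mem_piece 𝒜 𝒟 hu0 _)) ?_
      intro x hx
      rw [neg_zero] at hx
      obtain ⟨c', rfl⟩ := exists_scalar 𝒜 h0R hx
      rw [map_smul, map_sub, LinearMap.sub_apply, map_smul, LinearMap.smul_apply, smul_eq_mul,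
        smul_eq_mul, div_mul_cancel₀ _ hu1, sub_self, mul_zero]
    intro hbot
    have hd0ne : d0 ≠ 0 := fun h0 => hd01 (by rw [h0]; simp)
    apply hd0ne
    refine (Submodule.eq_bot_iff _).mp hbot d0 ⟨hd0P, ?_⟩
    refine ⟨((β d0 1 / β u 1) • (1 : R)) • Ideal.Quotient.mk mR.toIdeal 1, ?_⟩
    rw [map_smul, smul_assoc, one_smul, ← hudef, ← hdc]
  · intro A B f hf hinj g hg
    letI : Module k A.carrier := Module.compHom A.carrier (algebraMap k R)
    haveI : IsScalarTower k R A.carrier := ⟨fun c r x => by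
      show (c • r) • x = algebraMap k R c • (r • x)
      rw [Algebra.smul_def, mul_smul]⟩
    letI : Module k B.carrier := Module.compHom B.carrier (algebraMap k R)
    haveI : IsScalarTower k R B.carrier := ⟨fun c r x => by
      show (c • r) • x = algebraMap k R c • (r • x)
      rw [Algebra.smul_def, mul_smul]⟩
    exact starInj_aux k R 𝒜 D 𝒟 β hD A.gr B.gr f hf hinj g hg

end Groth.Agent.H21.GDual2
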