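import Mathlib
import Groth.Prelude.Def_GrSeg
import Groth.Prelude.Def_GrLC
import Groth.Agent.H21.GDual
import Groth.Agent.H21.GDual1

set_option autoImplicit false
universe u
open DirectSum

namespace Groth.Agent.H21.GDual3
open Groth.Agent.H21.GDual Groth.Agent.H21.GDual1

theorem main (k : Type u) [Field k] (R : Type u) [CommRing R] [Algebra k R]
    (𝒜 : ℤ → Submodule k R) [GradedAlgebra 𝒜] (hposR : ∀ n : ℤ, n < 0 → 𝒜 n = ⊥)
    (h0R : 𝒜 0 = Submodule.span k {(1 : R)}) [Algebra.FiniteType k R]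
    (F : Type u) [AddCommGroup F] [Module R F] [Module k F] [IsScalarTower k R F]
    (ℱ : ℤ → AddSubgroup F) [DirectSum.Decomposition ℱ] [SetLike.GradedSMul 𝒜 ℱ]
    (M : Type u) [AddCommGroup M] [Module R M] [Module k M] [IsScalarTower k R M]
    (ℳ : ℤ → AddSubgroup M) [DirectSum.Decomposition ℳ] [SetLike.GradedSMul 𝒜 ℳ] [Module.Finite R M]
    (DM : Type u) [AddCommGroup DM] [Module R DM] [Module k DM] [IsScalarTower k R DM]
    (𝒟M : ℤ → AddSubgroup DM) [DirectSum.Decomposition 𝒟M] [SetLike.GradedSMul 𝒜 𝒟M]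
    (βM : DM →ₗ[k] M →ₗ[k] k) (hDM : GrSeg.IsGDual R ℳ 𝒟M βM)
    (DF : Type u) [AddCommGroup DF] [Module R DF] [Module k DF] [IsScalarTower k R DF]
    (𝒟F : ℤ → AddSubgroup DF) [DirectSum.Decomposition 𝒟F] [SetLike.GradedSMul 𝒜 𝒟F]
    (βF : DF →ₗ[k] F →ₗ[k] k) (hDF : GrSeg.IsGDual R ℱ 𝒟F βF)
    (g : DM →ₗ[R] DF) (hg : GrLC.IsGrHom 𝒟M 𝒟F g) :
    ∃! f : F →ₗ[R] M, GrLC.IsGrHom ℱ ℳ f ∧ GrSeg.IsGDualMap βM βF f g := by
  classical
  -- homogeneous existence
  have hhom : ∀ n, ∀ x ∈ ℱ n, ∃ y ∈ ℳ n, ∀ d, βM d y = βF (g d) x := by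
    intro n x hx
    haveI := pieceSub_finite 𝒜 ℳ hposR h0R n
    let W : Submodule k (Module.Dual k DM) := (pieceSub 𝒜 ℳ n).map βM.flip
    haveI : FiniteDimensional k W := inferInstance
    let φ : Module.Dual k DM := (βF.flip x).comp (g.restrictScalars k)
    have hφ : ∀ d, φ d = βF (g d) x := fun d => rfl
    have hφW : φ ∈ W := by
      rw [← Subspace.dualCoannihilator_dualAnnihilator_eq (W := W), Submodule.mem_dualAnnihilator]
      intro d hd
      rw [Submodule.mem_dualCoannihilator] at hd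
      have hd' : ∀ y ∈ ℳ n, βM d y = 0 := by
        intro y hy
        exact hd (βM.flip y) (Submodule.mem_map_of_mem ((mem_pieceSub 𝒜 ℳ n y).mpr hy))
      have hx' : x ∈ ℱ (-(-n)) := by rw [neg_neg]; exact hx
      rw [hφ, beta_comp_eq hDF (g d) hx', grHom_decompose 𝒟M 𝒟F g hg d (-n)]
      have h0 : (decompose 𝒟M d (-n) : DM) = 0 := by
        refine hDM.eq_zero (-n) _ (decompose 𝒟M d (-n)).2 ?_
        intro y hy
        rw [← beta_comp_eq hDM d hy]
        rw [neg_neg] at hy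
        exact hd' y hy
      rw [h0, map_zero]; simp
    obtain ⟨y, hy, hyφ⟩ := hφW
    refine ⟨y, (mem_pieceSub 𝒜 ℳ n y).mp hy, fun d => ?_⟩
    have := LinearMap.congr_fun hyφ d
    rw [hφ] at this
    rw [← this]; rfl
  have hex : ∀ x : F, ∃ y : M, ∀ d, βM d y = βF (g d) x := by
    intro x
    induction x using DirectSum.Decomposition.inductionOn ℱ with
    | zero => exact ⟨0, fun d => by simp⟩
    | add x x' hx hx' =>
      obtain ⟨y, hy⟩ := hx
      obtain ⟨y', hy'⟩ := hx'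
      exact ⟨y + y', fun d => by rw [map_add, map_add, hy, hy']⟩
    | @homogeneous n x =>
      obtain ⟨y, _, hy⟩ := hhom n x x.2
      exact ⟨y, hy⟩
  choose f0 hf0 using hex
  have huniq : ∀ y y' : M, (∀ d, βM d y = βM d y') → y = y' := by
    intro y y' h
    rw [← sub_eq_zero]
    refine eq_zero_of_forall_beta hDM fun d => ?_
    rw [map_sub, h d, sub_self]
  let f : F →ₗ[R] M :=
    { toFun := f0
      map_add' := fun x x' => by
        refine huniq _ _ fun d => ?_
        rw [map_add, hf0, hf0, hf0, map_add]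
      map_smul' := fun r x => by
        simp only [RingHom.id_apply]
        refine huniq _ _ fun d => ?_
        rw [hf0, ← hDM.map_smul, hf0, ← hDF.map_smul, g.map_smul r d] }
  have hfgr : GrLC.IsGrHom ℱ ℳ f := by
    intro n x hx
    obtain ⟨y, hy, hyd⟩ := hhom n x hx
    have : f0 x = y := huniq _ _ fun d => by rw [hf0, hyd]
    show f0 x ∈ ℳ n
    rw [this]; exact hy
  have hfdual : GrSeg.IsGDualMap βM βF f g := fun d x => (hf0 x d).symm
  refine ⟨f, ⟨hfgr, hfdual⟩, ?_⟩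
  rintro f' ⟨_, hf'⟩
  ext x
  refine huniq _ _ fun d => ?_
  rw [← hf' d x, ← hfdual d x]

end Groth.Agent.H21.GDual3
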