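import Mathlib
import Groth.Prelude.Def_GrSeg
import Groth.Prelude.Def_GrLC
import Groth.Agent.H21.GDual

set_option autoImplicit false
universe u
open DirectSum

namespace Groth.Agent.H21.GDual4
open Groth.Agent.H21.GDual

section InForm
variable {k : Type u} [Field k] {R : Type u} [CommRing R] [Algebra k R]
  (𝒜 : ℤ → Submodule k R) [GradedAlgebra 𝒜]
  {D : Type u} [AddCommGroup D] [Module R D] [Module k D] [IsScalarTower k R D]
  (𝒟 : ℤ → AddSubgroup D) [DirectSum.Decomposition 𝒟] [SetLike.GradedSMul 𝒜 𝒟]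
  (s : ℤ)

omit [SetLike.GradedSMul 𝒜 𝒟] in
theorem decompose_zero_coe (j : ℤ) : (decompose 𝒟 (0 : D) j : D) = 0 := by
  rw [decompose_zero]; rfl

/-- leading forms in degree `j` -/
def inSet (N : Submodule R D) (j : ℤ) : AddSubmonoid D where
  carrier := {x | ∃ e ∈ N, (∀ i, s * i < s * j → (decompose 𝒟 e i : D) = 0) ∧
    (decompose 𝒟 e j : D) = x}
  add_mem' := by
    rintro x y ⟨e, he, he0, rfl⟩ ⟨e', he', he0', rfl⟩
    refine ⟨e + e', N.add_mem he he', fun i hi => ?_, ?_⟩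
    · rw [decompose_add, DirectSum.add_apply, AddSubgroup.coe_add, he0 i hi, he0' i hi, add_zero]
    · rw [decompose_add, DirectSum.add_apply, AddSubgroup.coe_add]
  zero_mem' := ⟨0, N.zero_mem, fun i _ => decompose_zero_coe 𝒟 i, decompose_zero_coe 𝒟 j⟩

/-- the module of leading forms -/
def inForm (N : Submodule R D) : Submodule R D where
  carrier := {d | ∀ j, (decompose 𝒟 d j : D) ∈ inSet 𝒟 s N j}
  add_mem' := fun ha hb j => by
    rw [decompose_add, DirectSum.add_apply, AddSubgroup.coe_add]; exact add_mem (ha j) (hb j)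
  zero_mem' := fun j => by rw [decompose_zero_coe]; exact zero_mem _
  smul_mem' := by
    intro r d hd j
    induction r using DirectSum.Decomposition.inductionOn 𝒜 generalizing j with
    | zero => rw [zero_smul, decompose_zero_coe]; exact zero_mem _
    | add r r' hr hr' =>
      rw [add_smul, decompose_add, DirectSum.add_apply, AddSubgroup.coe_add]
      exact add_mem (hr j) (hr' j)
    | @homogeneous a r =>
      rw [decompose_hsmul 𝒜 𝒟 r.2]
      obtain ⟨e, he, he0, hej⟩ := hd (j - a)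
      refine ⟨(r : R) • e, N.smul_mem _ he, fun i hi => ?_, ?_⟩
      · rw [decompose_hsmul 𝒜 𝒟 r.2, he0 (i - a) (by rw [mul_sub, mul_sub]; linarith), smul_zero]
      · rw [decompose_hsmul 𝒜 𝒟 r.2, hej]

theorem mem_inForm (N : Submodule R D) (d : D) :
    d ∈ inForm 𝒜 𝒟 s N ↔ ∀ j, (decompose 𝒟 d j : D) ∈ inSet 𝒟 s N j := Iff.rfl

theorem inForm_mono {N N' : Submodule R D} (h : N ≤ N') : inForm 𝒜 𝒟 s N ≤ inForm 𝒜 𝒟 s N' := by
  intro d hd j
  obtain ⟨e, he, he0, hej⟩ := hd j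
  exact ⟨e, h he, he0, hej⟩

theorem inForm_homogeneous (N : Submodule R D) : (inForm 𝒜 𝒟 s N).IsHomogeneous 𝒟 := by
  intro n d hd j
  by_cases h : n = j
  · subst h
    rw [decompose_of_mem_same 𝒟 (decompose 𝒟 d n).2]; exact hd n
  · rw [decompose_of_mem_ne 𝒟 (decompose 𝒟 d n).2 h]; exact zero_mem _

theorem le_of_inForm_le (hs : s = 1 ∨ s = -1) (B : ℤ)
    (hB : ∀ i, B ≤ s * i → ∀ d ∈ 𝒟 i, d = 0) {N N' : Submodule R D} (hle : N ≤ N')
    (hin : inForm 𝒜 𝒟 s N' ≤ inForm 𝒜 𝒟 s N) : N' ≤ N := by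
  classical
  have hss : s * s = 1 := by rcases hs with rfl | rfl <;> norm_num
  have key : ∀ t : ℕ, ∀ d' ∈ N', (∀ i, s * i < B - t → (decompose 𝒟 d' i : D) = 0) → d' ∈ N := by
    intro t
    induction t with
    | zero =>
      intro d' _ h0
      have : d' = 0 := by
        rw [← DirectSum.sum_support_decompose 𝒟 d']
        refine Finset.sum_eq_zero fun i _ => ?_
        rcases lt_or_ge (s * i) B with h | h
        · exact h0 i (by push_cast; linarith)
        · exact hB i h _ (decompose 𝒟 d' i).2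
      rw [this]; exact N.zero_mem
    | succ t ih =>
      intro d' hd' h0
      obtain ⟨j, hj⟩ : ∃ j : ℤ, j = s * (B - t - 1) := ⟨_, rfl⟩
      have hsj : s * j = B - t - 1 := by rw [hj, ← mul_assoc, hss, one_mul]
      have h1 : (decompose 𝒟 d' j : D) ∈ inForm 𝒜 𝒟 s N' := by
        intro j'
        by_cases h : j = j'
        · subst h
          rw [decompose_of_mem_same 𝒟 (decompose 𝒟 d' j).2]
          refine ⟨d', hd', fun i hi => h0 i ?_, rfl⟩
          rw [hsj] at hi; push_cast; linarith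
        · rw [decompose_of_mem_ne 𝒟 (decompose 𝒟 d' j).2 h]; exact zero_mem _
      have h2 := hin h1 j
      rw [decompose_of_mem_same 𝒟 (decompose 𝒟 d' j).2] at h2
      obtain ⟨e, he, he0, hej⟩ := h2
      have h3 : d' - e ∈ N := by
        refine ih (d' - e) (N'.sub_mem hd' (hle he)) ?_
        intro i hi
        rw [decompose_sub, DirectSum.sub_apply, AddSubgroup.coe_sub]
        rcases lt_or_eq_of_le (show s * i ≤ s * j by rw [hsj]; linarith) with h | h
        · rw [he0 i h, h0 i (by rw [hsj] at h; push_cast; linarith), sub_zero]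
        · have hij : i = j := by
            have := congrArg (fun z => s * z) h
            simp only [← mul_assoc, hss, one_mul] at this
            exact this
          rw [hij, hej, sub_self]
      have : d' = (d' - e) + e := by abel
      rw [this]; exact N.add_mem h3 he
  intro d' hd'
  obtain ⟨M0, hM0⟩ := Finset.exists_le (((decompose 𝒟 d').support).image (fun i => -(s * i)))
  refine key (B + M0).toNat d' hd' ?_
  intro i hi
  by_contra hne
  have hmem : i ∈ (decompose 𝒟 d').support := by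
    rw [DFinsupp.mem_support_iff]; intro h0; exact hne (by rw [h0]; rfl)
  have h1 := hM0 _ (Finset.mem_image_of_mem _ hmem)
  have h2 : B + M0 ≤ ((B + M0).toNat : ℤ) := Int.self_le_toNat _
  linarith

end InForm

section Perp
variable {k : Type u} [Field k] {R : Type u} [CommRing R] [Algebra k R]
  (𝒜 : ℤ → Submodule k R) [GradedAlgebra 𝒜]
  {M : Type u} [AddCommGroup M] [Module R M] [Module k M] [IsScalarTower k R M]
  {τM : Type u} [SetLike τM M] [AddSubgroupClass τM M]
  {ℳ : ℤ → τM} [DirectSum.Decomposition ℳ] [SetLike.GradedSMul 𝒜 ℳ]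
  {D : Type u} [AddCommGroup D] [Module R D] [Module k D] [IsScalarTower k R D]
  {𝒟 : ℤ → AddSubgroup D} [DirectSum.Decomposition 𝒟] [SetLike.GradedSMul 𝒜 𝒟]
  {β : D →ₗ[k] M →ₗ[k] k} (hD : GrSeg.IsGDual R ℳ 𝒟 β)

include hD in
/-- the annihilator in `M` of a submodule of the dual -/
def perp (N : Submodule R D) : Submodule R M where
  carrier := {x | ∀ d ∈ N, β d x = 0}
  add_mem' := fun ha hb d hd => by rw [map_add, ha d hd, hb d hd, add_zero]
  zero_mem' := fun d _ => by rw [map_zero]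
  smul_mem' := fun r x hx d hd => by rw [← hD.map_smul]; exact hx _ (N.smul_mem r hd)

theorem mem_perp (N : Submodule R D) (x : M) : x ∈ perp hD N ↔ ∀ d ∈ N, β d x = 0 := Iff.rfl

theorem perp_anti {N N' : Submodule R D} (h : N ≤ N') : perp hD N' ≤ perp hD N :=
  fun _ hx d hd => hx d (h hd)

theorem le_of_perp_le (hfin : ∀ n, FiniteDimensional k (pieceSub 𝒜 ℳ n)) {N N' : Submodule R D}
    (hN : N.IsHomogeneous 𝒟) (hN' : N'.IsHomogeneous 𝒟) (h : perp hD N ≤ perp hD N') : N' ≤ N := by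
  classical
  intro d' hd'
  rw [← DirectSum.sum_support_decompose 𝒟 d']
  refine Submodule.sum_mem _ fun n _ => ?_
  obtain ⟨dn, hdn⟩ : ∃ dn : D, dn = (decompose 𝒟 d' n : D) := ⟨_, rfl⟩
  rw [← hdn]
  have hdnN' : dn ∈ N' := hdn ▸ hN' n hd'
  have hdnn : dn ∈ 𝒟 n := hdn ▸ (decompose 𝒟 d' n).2
  by_contra hdnN
  haveI := hfin (-n)
  let V : Submodule k M := pieceSub 𝒜 ℳ (-n)
  let res : D →ₗ[k] Module.Dual k V := (LinearMap.lcomp k k V.subtype).comp β
  have hres : ∀ d (v : V), res d v = β d (v : M) := fun d v => rfl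
  let Nn : Submodule k D := N.restrictScalars k ⊓ pieceSub 𝒜 𝒟 n
  let W : Submodule k (Module.Dual k V) := Nn.map res
  haveI : FiniteDimensional k W := inferInstance
  have hφ : res dn ∉ W := by
    rintro ⟨d, ⟨hdN, hdn'⟩, hdeq⟩
    apply hdnN
    have : dn - d = 0 := by
      refine hD.eq_zero n _ (sub_mem hdnn hdn') ?_
      intro x hx
      have := LinearMap.congr_fun hdeq ⟨x, hx⟩
      rw [hres, hres] at this
      rw [map_sub, LinearMap.sub_apply, ← this, sub_self]
    rw [sub_eq_zero] at this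
    rw [this]; exact hdN
  rw [← Subspace.dualCoannihilator_dualAnnihilator_eq (W := W), Submodule.mem_dualAnnihilator] at hφ
  push Not at hφ
  obtain ⟨v, hv, hvne⟩ := hφ
  rw [Submodule.mem_dualCoannihilator] at hv
  apply hvne
  rw [hres]
  refine h ?_ dn hdnN'
  intro d hd
  rw [beta_comp_eq hD d v.2]
  have h1 : (decompose 𝒟 d n : D) ∈ Nn := ⟨hN n hd, (decompose 𝒟 d n).2⟩
  have h2 := hv (res _) (Submodule.mem_map_of_mem h1)
  rw [hres] at h2
  exact h2

include hD in
theorem isGDual_flip (hfin : ∀ n, FiniteDimensional k (pieceSub 𝒜 ℳ n)) :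
    GrSeg.IsGDual R 𝒟 ℳ β.flip := by
  refine ⟨?_, ?_, ?_, ?_⟩
  · intro r x d
    rw [LinearMap.flip_apply, LinearMap.flip_apply, hD.map_smul]
  · intro n x hx m hm d hd
    rw [LinearMap.flip_apply]
    exact hD.vanish m d hd n (fun h => hm (by rw [h, neg_neg])) x hx
  · intro n x hx h
    refine eq_zero_of_forall_beta hD fun d => ?_
    have hx' : x ∈ ℳ (-(-n)) := by rw [neg_neg]; exact hx
    rw [beta_comp_eq hD d hx']
    exact h _ (decompose 𝒟 d (-n)).2
  · intro n φ
    haveI := hfin n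
    let W : Submodule k (Module.Dual k D) := (pieceSub 𝒜 ℳ n).map β.flip
    haveI : FiniteDimensional k W := inferInstance
    let φ' : Module.Dual k D := φ.comp (projk 𝒜 𝒟 (-n))
    have hφ' : ∀ d, φ' d = φ (decompose 𝒟 d (-n) : D) := fun d => rfl
    have hφW : φ' ∈ W := by
      rw [← Subspace.dualCoannihilator_dualAnnihilator_eq (W := W), Submodule.mem_dualAnnihilator]
      intro d hd
      rw [Submodule.mem_dualCoannihilator] at hd
      have h0 : (decompose 𝒟 d (-n) : D) = 0 := by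
        refine hD.eq_zero (-n) _ (decompose 𝒟 d (-n)).2 ?_
        intro y hy
        rw [← beta_comp_eq hD d hy]
        rw [neg_neg] at hy
        exact hd (β.flip y) (Submodule.mem_map_of_mem ((mem_pieceSub 𝒜 ℳ n y).mpr hy))
      rw [hφ', h0, map_zero]
    obtain ⟨x, hx, hxφ⟩ := hφW
    refine ⟨x, (mem_pieceSub 𝒜 ℳ n x).mp hx, fun d hd => ?_⟩
    have := LinearMap.congr_fun hxφ d
    rw [hφ', decompose_of_mem_same 𝒟 hd] at this
    exact this

end Perp

section ArtFin
variable {k : Type u} [Field k] {R : Type u} [CommRing R] [Algebra k R]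
  (𝒜 : ℤ → Submodule k R) [GradedAlgebra 𝒜]
  {M : Type u} [AddCommGroup M] [Module R M] [Module k M] [IsScalarTower k R M]
  {τM : Type u} [SetLike τM M] [AddSubgroupClass τM M]
  (ℳ : ℤ → τM) [DirectSum.Decomposition ℳ] [SetLike.GradedSMul 𝒜 ℳ]

theorem exists_upper_bound_of_isArtinian (hposR : ∀ n : ℤ, n < 0 → 𝒜 n = ⊥) [IsArtinian R M] :
    ∃ J : ℤ, ∀ j, J ≤ j → ∀ x ∈ ℳ j, x = 0 := by
  let f : ℕ →o (Submodule R M)ᵒᵈ :=
    { toFun := fun i => OrderDual.toDual (geSub 𝒜 ℳ hposR (i : ℤ))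
      monotone' := by
        intro i i' hii x hx j hj
        exact hx j (lt_of_lt_of_le hj (by exact_mod_cast hii)) }
  obtain ⟨n0, hn0⟩ := IsArtinian.monotone_stabilizes f
  refine ⟨n0, ?_⟩
  intro j hj x hx
  obtain ⟨m, rfl⟩ : ∃ m : ℕ, j = (m : ℤ) := ⟨j.toNat, by rw [Int.toNat_of_nonneg]; omega⟩
  have hm : n0 ≤ m := by exact_mod_cast hj
  have h1 : geSub 𝒜 ℳ hposR (m : ℤ) = geSub 𝒜 ℳ hposR ((m + 1 : ℕ) : ℤ) := by
    have e1 := hn0 m hm
    have e2 := hn0 (m + 1) (by omega)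
    have : f m = f (m + 1) := e1.symm.trans e2
    exact OrderDual.toDual.injective this
  have hxG : x ∈ geSub 𝒜 ℳ hposR (m : ℤ) := fun i hi => decompose_of_mem_ne ℳ hx (by omega)
  rw [h1] at hxG
  have := hxG (m : ℤ) (by push_cast; omega)
  rwa [decompose_of_mem_same ℳ hx] at this

theorem pieceSub_finite_of_isArtinian (hposR : ∀ n : ℤ, n < 0 → 𝒜 n = ⊥)
    (h0R : 𝒜 0 = Submodule.span k {(1 : R)}) [IsArtinian R M] (n : ℤ) :
    FiniteDimensional k (pieceSub 𝒜 ℳ n) := by
  let Ψ : Submodule k (pieceSub 𝒜 ℳ n) → Submodule R M := fun U =>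
    { carrier := {x | x ∈ geSub 𝒜 ℳ hposR n ∧ ∃ u ∈ U, (u : M) = (decompose ℳ x n : M)}
      add_mem' := by
        rintro x y ⟨hx, u, hu, hux⟩ ⟨hy, v, hv, hvy⟩
        refine ⟨add_mem hx hy, u + v, U.add_mem hu hv, ?_⟩
        rw [decompose_add, DirectSum.add_apply]
        have e1 : ((((decompose ℳ x) n + (decompose ℳ y) n : ℳ n)) : M)
            = ((decompose ℳ x) n : M) + ((decompose ℳ y) n : M) := AddMemClass.coe_add _ _ _
        rw [e1, ← hux, ← hvy]; rfl
      zero_mem' := ⟨zero_mem _, 0, U.zero_mem, by rw [decompose_zero]; rfl⟩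
      smul_mem' := by
        rintro r x ⟨hx, u, hu, hux⟩
        refine ⟨Submodule.smul_mem _ r hx, ?_⟩
        obtain ⟨c, hc⟩ := exists_scalar 𝒜 h0R (decompose 𝒜 r 0).2
        refine ⟨c • u, U.smul_mem c hu, ?_⟩
        rw [proj_smul_of_mem_geSub 𝒜 ℳ hposR n hx r, hc, smul_assoc, one_smul, ← hux]; rfl }
  have hΨ : StrictMono Ψ := by
    intro U U' hUU'
    refine lt_of_le_of_ne ?_ ?_
    · rintro x ⟨hx, u, hu, hux⟩
      exact ⟨hx, u, hUU'.le hu, hux⟩
    · intro heq
      apply hUU'.not_ge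
      intro u' hu'
      have hmem : (u' : M) ∈ Ψ U' := by
        refine ⟨fun i hi => decompose_of_mem_ne ℳ u'.2 (by omega), u', hu', ?_⟩
        rw [decompose_of_mem_same ℳ u'.2]
      rw [← heq] at hmem
      obtain ⟨_, u, hu, hux⟩ := hmem
      rw [decompose_of_mem_same ℳ u'.2] at hux
      have : u = u' := Subtype.ext hux
      rw [← this]; exact hu
  have hArt : IsArtinian k (pieceSub 𝒜 ℳ n) := hΨ.wellFoundedLT
  have h := (IsSemisimpleModule.finite_tfae (R := k) (M := pieceSub 𝒜 ℳ n)).out 2 0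
  exact h.mp hArt

end ArtFin

theorem main (k : Type u) [Field k] (R : Type u) [CommRing R] [Algebra k R]
    (𝒜 : ℤ → Submodule k R) [GradedAlgebra 𝒜] (hposR : ∀ n : ℤ, n < 0 → 𝒜 n = ⊥)
    (h0R : 𝒜 0 = Submodule.span k {(1 : R)}) [Algebra.FiniteType k R]
    (M : Type u) [AddCommGroup M] [Module R M] [Module k M] [IsScalarTower k R M]
    {τM : Type u} [SetLike τM M] [AddSubgroupClass τM M]
    (ℳ : ℤ → τM) [DirectSum.Decomposition ℳ] [SetLike.GradedSMul 𝒜 ℳ]
    (D : Type u) [AddCommGroup D] [Module R D] [Module k D] [IsScalarTower k R D]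
    (𝒟 : ℤ → AddSubgroup D) [DirectSum.Decomposition 𝒟] [SetLike.GradedSMul 𝒜 𝒟]
    (β : D →ₗ[k] M →ₗ[k] k) (hD : GrSeg.IsGDual R ℳ 𝒟 β) :
    (Module.Finite R M → IsArtinian R D ∧ GrSeg.IsGDual R 𝒟 ℳ β.flip) ∧
      (IsArtinian R M → Module.Finite R D ∧ GrSeg.IsGDual R 𝒟 ℳ β.flip) := by
  haveI : IsNoetherianRing R := Algebra.FiniteType.isNoetherianRing k R
  constructor
  · intro hfinM
    have hfin : ∀ n, FiniteDimensional k (pieceSub 𝒜 ℳ n) := fun n => pieceSub_finite 𝒜 ℳ hposR h0R n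
    refine ⟨?_, isGDual_flip 𝒜 hD hfin⟩
    obtain ⟨N0, hN0⟩ := exists_lower_bound 𝒜 ℳ hposR
    have hB : ∀ i, (-N0 + 1) ≤ 1 * i → ∀ d ∈ 𝒟 i, d = 0 := by
      intro i hi d hd
      refine hD.eq_zero i d hd ?_
      intro x hx
      rw [hN0 (-i) (by omega) x hx, map_zero]
    haveI : IsNoetherian R M := isNoetherian_of_isNoetherianRing_of_finite R M
    haveI : WellFoundedGT (Submodule R M) := isNoetherian_iff'.mp inferInstance
    let Φ : Submodule R D → Submodule R M := fun N => perp hD (inForm 𝒜 𝒟 1 N)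
    have hΦ : StrictAnti Φ := by
      intro N N' hNN'
      refine lt_of_le_of_ne (perp_anti hD (inForm_mono 𝒜 𝒟 1 hNN'.le)) ?_
      intro heq
      apply hNN'.not_ge
      refine le_of_inForm_le 𝒜 𝒟 1 (Or.inl rfl) _ hB hNN'.le ?_
      exact le_of_perp_le 𝒜 hD hfin (inForm_homogeneous 𝒜 𝒟 1 N) (inForm_homogeneous 𝒜 𝒟 1 N')
        heq.symm.le
    exact hΦ.wellFoundedLT
  · intro hArt
    have hfin : ∀ n, FiniteDimensional k (pieceSub 𝒜 ℳ n) :=
      fun n => pieceSub_finite_of_isArtinian 𝒜 ℳ hposR h0R n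
    refine ⟨?_, isGDual_flip 𝒜 hD hfin⟩
    obtain ⟨J, hJ⟩ := exists_upper_bound_of_isArtinian 𝒜 ℳ hposR
    have hB : ∀ i, J ≤ (-1) * i → ∀ d ∈ 𝒟 i, d = 0 := by
      intro i hi d hd
      refine hD.eq_zero i d hd ?_
      intro x hx
      rw [hJ (-i) (by omega) x hx, map_zero]
    let Φ : Submodule R D → Submodule R M := fun N => perp hD (inForm 𝒜 𝒟 (-1) N)
    have hΦ : StrictAnti Φ := by
      intro N N' hNN'
      refine lt_of_le_of_ne (perp_anti hD (inForm_mono 𝒜 𝒟 (-1) hNN'.le)) ?_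
      intro heq
      apply hNN'.not_ge
      refine le_of_inForm_le 𝒜 𝒟 (-1) (Or.inr rfl) _ hB hNN'.le ?_
      exact le_of_perp_le 𝒜 hD hfin (inForm_homogeneous 𝒜 𝒟 (-1) N)
        (inForm_homogeneous 𝒜 𝒟 (-1) N') heq.symm.le
    haveI : WellFoundedGT (Submodule R D) := hΦ.wellFoundedGT
    haveI : IsNoetherian R D := isNoetherian_iff'.mpr inferInstance
    exact Module.IsNoetherian.finite R D

end Groth.Agent.H21.GDual4
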