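import Mathlib
import Groth.Prelude.Def_GrSeg
import Groth.Prelude.Def_GrLC
import Groth.Agent.H21.GDual
import Groth.Agent.H21.GDual4

set_option autoImplicit false
universe u
open DirectSum

namespace Groth.Agent.H21.GDual5
open Groth.Agent.H21.GDual

section
variable {k : Type u} [Field k] {R : Type u} [CommRing R] [Algebra k R]
  (𝒜 : ℤ → Submodule k R) [GradedAlgebra 𝒜]
  {D : Type u} [AddCommGroup D] [Module R D] [Module k D] [IsScalarTower k R D]
  {𝒟 : ℤ → AddSubgroup D} [DirectSum.Decomposition 𝒟] [SetLike.GradedSMul 𝒜 𝒟]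
  {β : D →ₗ[k] R →ₗ[k] k} (hD : GrSeg.IsGDual R 𝒜 𝒟 β)
  {M : Type u} [AddCommGroup M] [Module R M] [Module k M] [IsScalarTower k R M]
  (ℳ : ℤ → AddSubgroup M) [DirectSum.Decomposition ℳ] [SetLike.GradedSMul 𝒜 ℳ]

include hD in
/-- the map `M → R^*` attached to a functional concentrated in degree `g` -/
theorem exists_map (g : ℤ) (l : M →ₗ[k] k) (hl : ∀ j, j ≠ g → ∀ x ∈ ℳ j, l x = 0) :
    ∃ h : M →ₗ[R] D, (∀ x r, β (h x) r = l (r • x)) ∧ ∀ j x, x ∈ ℳ j → h x ∈ 𝒟 (j - g) := by
  classical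
  have hex : ∀ b : M, ∃ d : D, ∀ r : R, β d r = l (r • b) := by
    intro b
    induction b using DirectSum.Decomposition.inductionOn ℳ with
    | zero => exact ⟨0, fun r => by simp⟩
    | add b b' hb hb' =>
      obtain ⟨d, hd⟩ := hb
      obtain ⟨d', hd'⟩ := hb'
      exact ⟨d + d', fun r => by rw [map_add, LinearMap.add_apply, hd, hd', smul_add, map_add]⟩
    | @homogeneous n b =>
      let l' : R →ₗ[k] k := l.comp ((LinearMap.toSpanSingleton R M (b : M)).restrictScalars k)
      obtain ⟨d, _, hd⟩ := exists_repr hD (n - g) l' (by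
        intro m hm x hx
        show l (x • (b : M)) = 0
        have hmem := SetLike.GradedSMul.smul_mem (A := 𝒜) (B := ℳ) hx b.2
        rw [vadd_eq_add] at hmem
        exact hl (m + n) (by intro h0; apply hm; omega) _ hmem)
      exact ⟨d, fun r => hd r⟩
  choose h0 hh0 using hex
  let h : M →ₗ[R] D :=
    { toFun := h0
      map_add' := fun b b' => by
        rw [← sub_eq_zero]
        refine eq_zero_of_beta hD fun r => ?_
        rw [map_sub, map_add, LinearMap.sub_apply, LinearMap.add_apply, hh0, hh0, hh0, smul_add,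
          map_add, sub_self]
      map_smul' := fun t b => by
        simp only [RingHom.id_apply]
        rw [← sub_eq_zero]
        refine eq_zero_of_beta hD fun r => ?_
        rw [map_sub, LinearMap.sub_apply, hD.map_smul, hh0, hh0, smul_smul, smul_eq_mul,
          mul_comm, sub_self] }
  refine ⟨h, fun x r => hh0 x r, ?_⟩
  intro n b hb
  show h0 b ∈ 𝒟 (n - g)
  refine mem_piece hD ?_
  intro m hm x hx
  rw [hh0]
  have hmem := SetLike.GradedSMul.smul_mem (A := 𝒜) (B := ℳ) hx hb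
  rw [vadd_eq_add] at hmem
  exact hl (m + n) (by intro h0; apply hm; omega) _ hmem

end

theorem main (k : Type u) [Field k] (R : Type u) [CommRing R] [Algebra k R]
    (𝒜 : ℤ → Submodule k R) [GradedAlgebra 𝒜] (hposR : ∀ n : ℤ, n < 0 → 𝒜 n = ⊥)
    (h0R : 𝒜 0 = Submodule.span k {(1 : R)}) [Algebra.FiniteType k R]
    (D : Type u) [AddCommGroup D] [Module R D] [Module k D] [IsScalarTower k R D]
    (𝒟 : ℤ → AddSubgroup D) [DirectSum.Decomposition 𝒟] [SetLike.GradedSMul 𝒜 𝒟]
    (β : D →ₗ[k] R →ₗ[k] k) (hD : GrSeg.IsGDual R 𝒜 𝒟 β)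
    (M : Type u) [AddCommGroup M] [Module R M] [Module k M] [IsScalarTower k R M]
    (ℳ : ℤ → AddSubgroup M) [DirectSum.Decomposition ℳ] [SetLike.GradedSMul 𝒜 ℳ] :
    IsArtinian R M ↔ ∃ (t : ℕ) (sh : Fin t → ℤ) (f : M →ₗ[R] (Fin t → D)),
      Function.Injective f ∧ ∀ (i : Fin t) (g : ℤ) (x : M), x ∈ ℳ g → f x i ∈ 𝒟 (g + sh i) := by
  classical
  constructor
  · intro hArt
    -- the type of homogeneous functionals
    let Λ : Type u := {p : ℤ × (M →ₗ[k] k) // ∀ j, j ≠ p.1 → ∀ x ∈ ℳ j, p.2 x = 0}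
    have hΛ : ∀ p : Λ, ∃ h : M →ₗ[R] D, (∀ x r, β (h x) r = p.1.2 (r • x)) ∧
        ∀ j x, x ∈ ℳ j → h x ∈ 𝒟 (j - p.1.1) := fun p => exists_map 𝒜 hD ℳ p.1.1 p.1.2 p.2
    choose h hh1 hh2 using hΛ
    let 𝒮 : Set (Submodule R M) := {K | ∃ S : Finset Λ, K = ⨅ i ∈ S, LinearMap.ker (h i)}
    have h𝒮 : 𝒮.Nonempty := ⟨⊤, ∅, by simp⟩
    obtain ⟨K0, ⟨S0, hK0⟩, hmin⟩ := IsArtinian.set_has_minimal 𝒮 h𝒮
    have hK0bot : K0 = ⊥ := by
      rw [Submodule.eq_bot_iff]
      intro x hx
      by_contra hxne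
      obtain ⟨g, hg⟩ : ∃ g, (decompose ℳ x g : M) ≠ 0 := by
        by_contra hcon
        push Not at hcon
        apply hxne
        rw [← DirectSum.sum_support_decompose ℳ x]
        exact Finset.sum_eq_zero fun i _ => hcon i
      obtain ⟨l0, hl0⟩ : ∃ l : M →ₗ[k] k, l (decompose ℳ x g : M) ≠ 0 := by
        by_contra hcon
        push Not at hcon
        exact hg ((Module.forall_dual_apply_eq_zero_iff k _).mp hcon)
      let l : M →ₗ[k] k := l0.comp (projk 𝒜 ℳ g)
      have hl : ∀ j, j ≠ g → ∀ y ∈ ℳ j, l y = 0 := by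
        intro j hj y hy
        show l0 (decompose ℳ y g : M) = 0
        rw [decompose_of_mem_ne ℳ hy hj, map_zero]
      let i0 : Λ := ⟨(g, l), hl⟩
      have hx0 : h i0 x ≠ 0 := by
        intro h0
        have := hh1 i0 x 1
        rw [h0, one_smul] at this
        apply hl0
        have h2 : l x = l0 (decompose ℳ x g : M) := rfl
        rw [← h2, ← this]; simp
      let K1 : Submodule R M := ⨅ i ∈ insert i0 S0, LinearMap.ker (h i)
      have hK1 : K1 ∈ 𝒮 := ⟨insert i0 S0, rfl⟩
      have hK1le : K1 ≤ K0 := by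
        rw [hK0]
        refine le_iInf₂ fun i hi => ?_
        exact iInf₂_le i (Finset.mem_insert_of_mem hi)
      have hK1ne : K1 ≠ K0 := by
        intro heq
        have hxK1 : x ∈ K1 := heq ▸ hx
        have : x ∈ LinearMap.ker (h i0) := by
          have := (iInf₂_le (f := fun i (_ : i ∈ insert i0 S0) => LinearMap.ker (h i)) i0
            (Finset.mem_insert_self i0 S0)) hxK1
          exact this
        exact hx0 (LinearMap.mem_ker.mp this)
      exact hmin K1 hK1 (lt_of_le_of_ne hK1le hK1ne)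
    let e : Fin S0.card ≃ S0 := S0.equivFin.symm
    refine ⟨S0.card, fun i => -(e i).1.1.1, LinearMap.pi (fun i => h (e i).1), ?_, ?_⟩
    · rw [injective_iff_map_eq_zero]
      intro x hx
      have hxK : x ∈ K0 := by
        rw [hK0]
        simp only [Submodule.mem_iInf]
        intro i hi
        have := congrFun hx (e.symm ⟨i, hi⟩)
        simp only [LinearMap.pi_apply, Equiv.apply_symm_apply, Pi.zero_apply] at this
        exact LinearMap.mem_ker.mpr this
      rw [hK0bot] at hxK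
      exact (Submodule.mem_bot R).mp hxK
    · intro i g x hx
      rw [LinearMap.pi_apply, ← sub_eq_add_neg]
      exact hh2 (e i).1 g x hx
  · rintro ⟨t, sh, f, hf, -⟩
    have h1 := (GDual4.main k R 𝒜 hposR h0R R 𝒜 D 𝒟 β hD).1 inferInstance
    haveI : IsArtinian R D := h1.1
    exact isArtinian_of_injective f hf

end Groth.Agent.H21.GDual5
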