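import Groth.Prelude.Def_W4c5flasquetoriphsGLat
import Mathlib

set_option autoImplicit false
open scoped BigOperators

namespace Groth.Agent.H21.GLatLib

section perm
variable {G : Type} [Group G] (X : Type) [MulAction G X]

/-- the permutation representation on `X →₀ ℤ` -/
noncomputable def permRep : Representation ℤ G (X →₀ ℤ) where
  toFun g := Finsupp.lmapDomain ℤ ℤ (g • ·)
  map_one' := by ext; simp
  map_mul' g h := by ext; simp [mul_smul]

@[simp] lemma permRep_single (g : G) (x : X) (n : ℤ) :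
    permRep X g (Finsupp.single x n) = Finsupp.single (g • x) n := by
  simp [permRep]

lemma permRep_apply (g : G) (m : X →₀ ℤ) (x : X) :
    permRep X g m x = m (g⁻¹ • x) := by
  have : permRep X g m = Finsupp.mapDomain (MulAction.toPerm g) m := rfl
  rw [this, Finsupp.mapDomain_equiv_apply]
  rfl

theorem perm_H1 [Finite G] [Finite X] (H : Subgroup G) (f : H → (X →₀ ℤ))
    (hf : ∀ a b : H, f (a * b) = f a + permRep X (a : G) (f b)) :
    ∃ m : X →₀ ℤ, ∀ a : H, f a = permRep X (a : G) m - m := by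
  have hc : ∀ (a b : H) (x : X), f (a * b) x = f a x + f b (a⁻¹ • x) := by
    intro a b x
    rw [hf, Finsupp.add_apply, permRep_apply]
    rfl
  have h1 : f 1 = 0 := by
    have := hf 1 1
    simp only [mul_one, OneMemClass.coe_one, map_one, Module.End.one_apply] at this
    simpa using this
  -- stabilizer elements
  have hstab : ∀ (s : H) (x : X), s • x = x → f s x = 0 := by
    intro s x hs
    have hs' : s⁻¹ • x = x := by rw [inv_smul_eq_iff, hs]
    have hpow : ∀ n : ℕ, f (s ^ n) x = n * f s x := by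
      intro n
      induction n with
      | zero => simp [h1]
      | succ n ih =>
        rw [pow_succ', hc, hs', ih]
        push_cast
        ring
    have h2 := hpow (Nat.card H)
    rw [pow_card_eq_one', h1] at h2
    have hpos : (0 : ℤ) < (Nat.card H : ℤ) := by exact_mod_cast Nat.card_pos
    simp only [Finsupp.coe_zero, Pi.zero_apply] at h2
    rcases mul_eq_zero.1 h2.symm with h | h
    · omega
    · exact h
  -- orbit representatives
  obtain ⟨r, hrdef⟩ : ∃ r : X → X,
      r = fun x => (Quotient.mk (MulAction.orbitRel H X) x).out := ⟨_, rfl⟩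
  have hr : ∀ x, ∃ a : H, a • r x = x := by
    intro x
    have h1 : (MulAction.orbitRel H X).r (r x) x := by
      rw [hrdef]; exact Quotient.mk_out (s := MulAction.orbitRel H X) x
    obtain ⟨γ, hγ⟩ := h1
    refine ⟨γ⁻¹, ?_⟩
    rw [← hγ, inv_smul_smul]
  have hrr : ∀ (a : H) x, r (a • x) = r x := by
    intro a x
    rw [hrdef]
    simp only
    congr 1
    exact Quotient.sound (s := MulAction.orbitRel H X) (MulAction.mem_orbit x a)
  choose t ht using hr
  have htinv : ∀ y, (t y)⁻¹ • y = r y := fun y => by rw [inv_smul_eq_iff, ht]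
  refine ⟨Finsupp.equivFunOnFinite.symm (fun j => f (t j)⁻¹ (r j)), fun a => ?_⟩
  ext j
  rw [Finsupp.sub_apply, permRep_apply]
  simp only [Finsupp.equivFunOnFinite_symm_apply_apply]
  change f a j = f (t (a⁻¹ • j))⁻¹ (r (a⁻¹ • j)) - f (t j)⁻¹ (r j)
  rw [hrr]
  have e1 : f ((t j)⁻¹ * a) (r j) = f (t j)⁻¹ (r j) + f a j := by
    rw [hc, inv_inv, ht]
  have hs : ((t (a⁻¹ • j))⁻¹ * ((t j)⁻¹ * a)⁻¹) • r j = r j := by
    rw [mul_smul, mul_inv_rev, mul_smul, inv_inv, ht, htinv, hrr]
  have e2 : f (t (a⁻¹ • j))⁻¹ (r j) = f ((t j)⁻¹ * a) (r j) := by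
    have h3 : (t (a⁻¹ • j))⁻¹ = ((t (a⁻¹ • j))⁻¹ * ((t j)⁻¹ * a)⁻¹) * ((t j)⁻¹ * a) := by group
    rw [h3, hc, hstab _ _ hs, zero_add]
    congr 1
    rw [inv_smul_eq_iff, hs]
  rw [e2, e1]
  ring

lemma isPermutation_permRep : GLat.IsPermutation (permRep (G := G) X) :=
  ⟨X, Finsupp.basisSingleOne, fun g i => ⟨g • i, by simp⟩⟩

end perm

section cover
variable (G : Type) [Group G] [Finite G] (A : Type) [AddCommGroup A] [Module.Finite ℤ A]
  (ρ : Representation ℤ G A)

instance : Finite (Subgroup G) :=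
  Finite.of_injective (fun H : Subgroup G => (H : Set G)) SetLike.coe_injective

/-- invariants of a subgroup -/
noncomputable abbrev invH (H : Subgroup G) : Submodule ℤ A := Representation.invariants (ρ.comp H.subtype)

lemma mem_invH (H : Subgroup G) (a : A) : a ∈ invH G A ρ H ↔ ∀ h : H, ρ (h : G) a = a :=
  Iff.rfl

lemma exists_gens (H : Subgroup G) : ∃ S : Finset A, Submodule.span ℤ (S : Set A) = invH G A ρ H := by
  have : IsNoetherian ℤ A := isNoetherian_of_isNoetherianRing_of_finite ℤ A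
  exact IsNoetherian.noetherian _

/-- chosen generators of the invariants -/
noncomputable def gens (H : Subgroup G) : Finset A := (exists_gens G A ρ H).choose

lemma span_gens (H : Subgroup G) : Submodule.span ℤ (gens G A ρ H : Set A) = invH G A ρ H :=
  (exists_gens G A ρ H).choose_spec

/-- the index set -/
abbrev CI : Type := Σ H : Subgroup G, (gens G A ρ H : Type)

/-- the G-set -/
abbrev CX : Type := Σ p : CI G A ρ, G ⧸ p.1

noncomputable instance : MulAction G (CX G A ρ) := inferInstance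

instance : Finite (CX G A ρ) := inferInstance

/-- the map on basis elements -/
noncomputable def cphi (x : CX G A ρ) : A := ρ (x.2.out) (x.1.2 : A)

lemma gen_inv (p : CI G A ρ) (h : G) (hh : h ∈ p.1) : ρ h (p.2 : A) = (p.2 : A) := by
  have h1 : (p.2 : A) ∈ invH G A ρ p.1 := by
    rw [← span_gens]
    exact Submodule.subset_span p.2.2
  exact h1 ⟨h, hh⟩

lemma cphi_smul (g : G) (x : CX G A ρ) : cphi G A ρ (g • x) = ρ g (cphi G A ρ x) := by
  obtain ⟨p, y⟩ := x
  change ρ ((g • y).out) (p.2 : A) = ρ g (ρ (y.out) (p.2 : A))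
  have h1 : (g * y.out)⁻¹ * (g • y).out ∈ p.1 := by
    rw [← QuotientGroup.eq, QuotientGroup.out_eq']
    conv_rhs => rw [← QuotientGroup.out_eq' y]
    rfl
  have h2 : (g • y).out = g * y.out * ((g * y.out)⁻¹ * (g • y).out) := by group
  rw [h2, map_mul, map_mul, Module.End.mul_apply, Module.End.mul_apply, gen_inv G A ρ p _ h1]

/-- the cover map -/
noncomputable def cpi : (CX G A ρ →₀ ℤ) →ₗ[ℤ] A := Finsupp.linearCombination ℤ (cphi G A ρ)

lemma cpi_single (x : CX G A ρ) (n : ℤ) : cpi G A ρ (Finsupp.single x n) = n • cphi G A ρ x := by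
  simp [cpi]

lemma cpi_equiv (g : G) (m : CX G A ρ →₀ ℤ) :
    cpi G A ρ (permRep (CX G A ρ) g m) = ρ g (cpi G A ρ m) := by
  induction m using Finsupp.induction_linear with
  | zero => simp
  | add a b ha hb => rw [map_add, map_add, map_add, ha, hb, map_add]
  | single x n => rw [permRep_single, cpi_single, cpi_single, cphi_smul, map_zsmul]

lemma exists_inv_lift (H : Subgroup G) (a : A) (ha : a ∈ invH G A ρ H) :
    ∃ p : CX G A ρ →₀ ℤ, (∀ h : H, permRep (CX G A ρ) (h : G) p = p) ∧ cpi G A ρ p = a := by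
  rw [← span_gens] at ha
  induction ha using Submodule.span_induction with
  | mem a₀ h0 =>
    refine ⟨Finsupp.single ⟨⟨H, ⟨a₀, h0⟩⟩, ((1 : G) : G ⧸ H)⟩ 1, fun h => ?_, ?_⟩
    · rw [permRep_single]
      congr 1
      change (⟨⟨H, ⟨a₀, h0⟩⟩, (h : G) • ((1 : G) : G ⧸ H)⟩ : CX G A ρ) = _
      congr 1
      change (((h : G) * 1 : G) : G ⧸ H) = _
      rw [QuotientGroup.eq]
      simp
    · rw [cpi_single, one_smul]
      change ρ ((((1 : G) : G ⧸ H)).out) a₀ = a₀
      have h1 : (((1 : G) : G ⧸ H)).out ∈ H := by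
        have := QuotientGroup.out_eq' ((1 : G) : G ⧸ H)
        rw [QuotientGroup.eq] at this
        simpa using H.inv_mem this
      exact gen_inv G A ρ ⟨H, ⟨a₀, h0⟩⟩ _ h1
  | zero => exact ⟨0, fun h => map_zero _, map_zero _⟩
  | add x y _ _ hx hy =>
    obtain ⟨p, hp1, hp2⟩ := hx
    obtain ⟨q, hq1, hq2⟩ := hy
    exact ⟨p + q, fun h => by rw [map_add, hp1, hq1], by rw [map_add, hp2, hq2]⟩
  | smul n x _ hx =>
    obtain ⟨p, hp1, hp2⟩ := hx
    exact ⟨n • p, fun h => by rw [map_zsmul, hp1], by rw [map_zsmul, hp2]⟩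

lemma cpi_surjective : Function.Surjective (cpi G A ρ) := by
  intro a
  obtain ⟨p, -, hp⟩ := exists_inv_lift G A ρ ⊥ a (by
    rintro ⟨h, hh⟩
    rw [Subgroup.mem_bot] at hh
    subst hh
    simp)
  exact ⟨p, hp⟩

lemma ker_le_comap (g : G) :
    LinearMap.ker (cpi G A ρ) ≤ (LinearMap.ker (cpi G A ρ)).comap (permRep (CX G A ρ) g) := by
  intro m hm
  rw [Submodule.mem_comap, LinearMap.mem_ker, cpi_equiv, LinearMap.mem_ker.1 hm, map_zero]

theorem main_S18675 :
    ∃ (Q : Type) (_ : AddCommGroup Q) (P : Type) (_ : AddCommGroup P)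
      (_ : Module.Finite ℤ Q) (_ : Module.Free ℤ Q) (_ : Module.Finite ℤ P) (_ : Module.Free ℤ P)
      (σ : Representation ℤ G Q) (τ : Representation ℤ G P) (i : Q →ₗ[ℤ] P) (π : P →ₗ[ℤ] A),
      GLat.IsEquivariant σ τ i ∧ GLat.IsEquivariant τ ρ π ∧ Function.Injective i ∧ Function.Surjective π ∧
      LinearMap.range i = LinearMap.ker π ∧ GLat.IsPermutation τ ∧ GLat.IsCoflasque σ := by
  refine ⟨LinearMap.ker (cpi G A ρ), inferInstance, CX G A ρ →₀ ℤ, inferInstance,
    inferInstance, inferInstance, inferInstance, inferInstance,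
    (permRep (CX G A ρ)).subrepresentation _ (ker_le_comap G A ρ), permRep (CX G A ρ),
    (LinearMap.ker (cpi G A ρ)).subtype, cpi G A ρ, ?_, ?_, ?_, ?_, ?_, ?_, ?_⟩
  · intro g m; rfl
  · intro g m; exact cpi_equiv G A ρ g m
  · exact Subtype.val_injective
  · exact cpi_surjective G A ρ
  · exact Submodule.range_subtype _
  · exact isPermutation_permRep _
  · intro H f hf
    obtain ⟨p, hp⟩ := perm_H1 (CX G A ρ) H (fun a => (f a : CX G A ρ →₀ ℤ)) (by
      intro a b
      have := congrArg Subtype.val (hf a b)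
      exact this)
    have hinv : cpi G A ρ p ∈ invH G A ρ H := by
      intro h
      change ρ (h : G) (cpi G A ρ p) = cpi G A ρ p
      rw [← cpi_equiv, ← sub_eq_zero, ← map_sub, ← hp h]
      exact (f h).2
    obtain ⟨p', hp'1, hp'2⟩ := exists_inv_lift G A ρ H _ hinv
    refine ⟨⟨p - p', by rw [LinearMap.mem_ker, map_sub, hp'2, sub_self]⟩, fun a => ?_⟩
    apply Subtype.ext
    change (f a : CX G A ρ →₀ ℤ) = permRep (CX G A ρ) (a : G) (p - p') - (p - p')
    rw [map_sub, hp'1 a, hp a]
    abel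

end cover

end Groth.Agent.H21.GLatLib
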