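import Groth.Agent.H21.GLatLib
import Groth.Agent.H21.Cofl

set_option autoImplicit false
open scoped BigOperators

namespace Groth.Agent.H21.GLatLib

section ext
variable {G : Type} [Group G] {A : Type} [AddCommGroup A] (ρ : Representation ℤ G A)
  (X : Type) [MulAction G X]

/-- twisting datum -/
structure TwZ where
  w : G → X → A
  w_mul : ∀ g d x, w (g * d) x = ρ g (w d x) + w g (d • x)

variable {ρ X}

lemma TwZ.w_one (T : TwZ ρ X) (x : X) : T.w 1 x = 0 := by
  have := T.w_mul 1 1 x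
  simp only [mul_one, map_one, Module.End.one_apply, one_smul] at this
  simpa using this

/-- off-diagonal part -/
noncomputable def TwZ.U (T : TwZ ρ X) (g : G) : (X →₀ ℤ) →ₗ[ℤ] A :=
  Finsupp.linearCombination ℤ (T.w g)

@[simp] lemma TwZ.U_single (T : TwZ ρ X) (g : G) (x : X) (n : ℤ) :
    T.U g (Finsupp.single x n) = n • T.w g x := by
  simp [TwZ.U]

/-- twisted representation -/
noncomputable def TwZ.rho (T : TwZ ρ X) : Representation ℤ G (A × (X →₀ ℤ)) where
  toFun g := ((ρ g).coprod (T.U g)).prod ((permRep X g).comp (LinearMap.snd ℤ _ _))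
  map_one' := by
    ext <;> simp [T.w_one]
  map_mul' g d := by
    ext <;> simp [T.w_mul, mul_smul]

lemma TwZ.rho_apply (T : TwZ ρ X) (g : G) (a : A) (p : X →₀ ℤ) :
    T.rho g (a, p) = (ρ g a + T.U g p, permRep X g p) := rfl

end ext

section cofl
variable (G : Type) [Group G] [Finite G] (A : Type) [AddCommGroup A] [Module.Finite ℤ A]
  (ρ : Representation ℤ G A)

/-- 1-cocycles on a subgroup, as a submodule of functions -/
def Z1 (H : Subgroup G) : Submodule ℤ (H → A) where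
  carrier := {f | ∀ a b : H, f (a * b) = f a + ρ (a : G) (f b)}
  zero_mem' := by intro a b; simp
  add_mem' := by
    intro f g hf hg a b
    simp only [Pi.add_apply, hf a b, hg a b, map_add]
    abel
  smul_mem' := by
    intro n f hf a b
    simp only [Pi.smul_apply, hf a b, smul_add, map_zsmul]

lemma mem_Z1 (H : Subgroup G) (f : H → A) :
    f ∈ Z1 G A ρ H ↔ ∀ a b : H, f (a * b) = f a + ρ (a : G) (f b) := Iff.rfl

lemma exists_gensZ (H : Subgroup G) :
    ∃ S : Finset (H → A), Submodule.span ℤ (S : Set (H → A)) = Z1 G A ρ H := by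
  have : IsNoetherian ℤ (H → A) := isNoetherian_of_isNoetherianRing_of_finite ℤ (H → A)
  exact IsNoetherian.noetherian _

/-- chosen generators of the cocycles -/
noncomputable def gensZ (H : Subgroup G) : Finset (H → A) := (exists_gensZ G A ρ H).choose

lemma span_gensZ (H : Subgroup G) :
    Submodule.span ℤ (gensZ G A ρ H : Set (H → A)) = Z1 G A ρ H :=
  (exists_gensZ G A ρ H).choose_spec

/-- the index set -/
abbrev DI : Type := Σ H : Subgroup G, (gensZ G A ρ H : Type)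

/-- the G-set -/
abbrev DX : Type := Σ s : DI G A ρ, G ⧸ s.1

lemma gensZ_coc (s : DI G A ρ) (a b : s.1) :
    (s.2 : s.1 → A) (a * b) = (s.2 : s.1 → A) a + ρ (a : G) ((s.2 : s.1 → A) b) := by
  have h1 : (s.2 : s.1 → A) ∈ Z1 G A ρ s.1 := by
    rw [← span_gensZ]
    exact Submodule.subset_span s.2.2
  exact h1 a b

open Groth.Agent.H21.Cofl in
/-- the twisting datum killing all chosen cocycles -/
noncomputable def dtw : TwZ ρ (DX G A ρ) where
  w g x := ρ (sig x.1.1 (g • x.2)) ((x.1.2 : x.1.1 → A) (mm x.1.1 g x.2))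
  w_mul g d x := by
    obtain ⟨s, y⟩ := x
    change ρ (sig s.1 ((g * d) • y)) ((s.2 : s.1 → A) (mm s.1 (g * d) y))
      = ρ g (ρ (sig s.1 (d • y)) ((s.2 : s.1 → A) (mm s.1 d y)))
        + ρ (sig s.1 (g • d • y)) ((s.2 : s.1 → A) (mm s.1 g (d • y)))
    rw [mm_mul, gensZ_coc, map_add, mul_smul, add_comm]
    congr 1
    rw [← Module.End.mul_apply, ← map_mul, ← Module.End.mul_apply, ← map_mul]
    congr 2
    simp [mm]

open Groth.Agent.H21.Cofl in
/-- each chosen cocycle becomes a coboundary in the twisted extension -/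
lemma dtw_kill (K : Subgroup G) (z : K → A) (hz : z ∈ Z1 G A ρ K) :
    ∃ e : A × (DX G A ρ →₀ ℤ), ∀ a : K, (z a, (0 : DX G A ρ →₀ ℤ)) = (dtw G A ρ).rho (a : G) e - e := by
  rw [← span_gensZ] at hz
  induction hz using Submodule.span_induction with
  | mem c₀ h0 =>
    refine ⟨(0, Finsupp.single ⟨⟨K, ⟨c₀, h0⟩⟩, ((1 : G) : G ⧸ K)⟩ 1), fun a => ?_⟩
    have hax : (a : G) • ((1 : G) : G ⧸ K) = ((1 : G) : G ⧸ K) := by
      change (((a : G) * 1 : G) : G ⧸ K) = _
      rw [QuotientGroup.eq]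
      simp
    have hax' : (a : G) • (⟨⟨K, ⟨c₀, h0⟩⟩, ((1 : G) : G ⧸ K)⟩ : DX G A ρ)
        = ⟨⟨K, ⟨c₀, h0⟩⟩, ((1 : G) : G ⧸ K)⟩ := by
      change (⟨⟨K, ⟨c₀, h0⟩⟩, (a : G) • ((1 : G) : G ⧸ K)⟩ : DX G A ρ) = _
      rw [hax]
    have hw : (dtw G A ρ).w (a : G) ⟨⟨K, ⟨c₀, h0⟩⟩, ((1 : G) : G ⧸ K)⟩ = c₀ a := by
      change ρ (sig K ((a : G) • ((1 : G) : G ⧸ K))) (c₀ (mm K a ((1 : G) : G ⧸ K))) = c₀ a
      have hm : mm K a ((1 : G) : G ⧸ K) = a := Subtype.ext (by simp [mm, hax, sig_one])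
      rw [hm, hax, sig_one, map_one]
      rfl
    rw [TwZ.rho_apply, map_zero, zero_add, TwZ.U_single, one_smul, hw, permRep_single, hax']
    simp
  | zero => exact ⟨0, fun a => by simp⟩
  | add x y _ _ hx hy =>
    obtain ⟨e₁, h₁⟩ := hx
    obtain ⟨e₂, h₂⟩ := hy
    refine ⟨e₁ + e₂, fun a => ?_⟩
    have : ((x + y) a, (0 : DX G A ρ →₀ ℤ)) = (x a, 0) + (y a, 0) := by simp
    rw [this, h₁, h₂, map_add]
    abel
  | smul n x _ hx =>
    obtain ⟨e₁, h₁⟩ := hx
    refine ⟨n • e₁, fun a => ?_⟩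
    have : ((n • x) a, (0 : DX G A ρ →₀ ℤ)) = n • (x a, (0 : DX G A ρ →₀ ℤ)) := by simp
    rw [this, h₁, map_zsmul, smul_sub]

theorem main_S18687 [Module.Free ℤ A] :
    ∃ (Q : Type) (_ : AddCommGroup Q) (P : Type) (_ : AddCommGroup P)
      (_ : Module.Finite ℤ Q) (_ : Module.Free ℤ Q) (_ : Module.Finite ℤ P) (_ : Module.Free ℤ P)
      (σ : Representation ℤ G Q) (τ : Representation ℤ G P) (i : A →ₗ[ℤ] Q) (π : Q →ₗ[ℤ] P),
      GLat.IsEquivariant ρ σ i ∧ GLat.IsEquivariant σ τ π ∧ Function.Injective i ∧ Function.Surjective π ∧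
      LinearMap.range i = LinearMap.ker π ∧ GLat.IsCoflasque σ ∧ GLat.IsPermutation τ := by
  refine ⟨A × (DX G A ρ →₀ ℤ), inferInstance, DX G A ρ →₀ ℤ, inferInstance,
    inferInstance, inferInstance, inferInstance, inferInstance,
    (dtw G A ρ).rho, permRep (DX G A ρ),
    LinearMap.inl ℤ A (DX G A ρ →₀ ℤ), LinearMap.snd ℤ A (DX G A ρ →₀ ℤ), ?_, ?_, ?_, ?_, ?_, ?_, ?_⟩
  · intro g m
    change (ρ g m, (0 : DX G A ρ →₀ ℤ)) = (dtw G A ρ).rho g (m, 0)
    rw [TwZ.rho_apply]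
    simp
  · intro g m; rfl
  · exact LinearMap.inl_injective
  · exact LinearMap.snd_surjective
  · exact LinearMap.range_inl ℤ A _
  · intro K f hf
    -- second components
    obtain ⟨p, hp⟩ := perm_H1 (DX G A ρ) K (fun a => (f a).2) (by
      intro a b
      have := congrArg Prod.snd (hf a b)
      exact this)
    obtain ⟨q₀, hq₀⟩ : ∃ q₀ : A × (DX G A ρ →₀ ℤ), q₀ = (0, p) := ⟨_, rfl⟩
    -- the corrected cocycle
    have hf' : ∀ a : K, f a - ((dtw G A ρ).rho (a : G) q₀ - q₀)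
        = ((f a).1 - (dtw G A ρ).U (a : G) p, (0 : DX G A ρ →₀ ℤ)) := by
      intro a
      rw [hq₀, TwZ.rho_apply]
      apply Prod.ext
      · simp
      · simp only [Prod.snd_sub, Prod.snd]
        rw [hp a]
        simp
    have hz : (fun a : K => (f a).1 - (dtw G A ρ).U (a : G) p) ∈ Z1 G A ρ K := by
      intro a b
      have h1 : f (a * b) - ((dtw G A ρ).rho ((a * b : K) : G) q₀ - q₀)
          = (f a - ((dtw G A ρ).rho (a : G) q₀ - q₀))
            + (dtw G A ρ).rho (a : G) (f b - ((dtw G A ρ).rho (b : G) q₀ - q₀)) := by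
        rw [hf a b, Subgroup.coe_mul, map_mul, Module.End.mul_apply]
        simp only [map_sub]
        abel
      rw [hf', hf', hf', TwZ.rho_apply] at h1
      have h2 := congrArg Prod.fst h1
      simpa using h2
    obtain ⟨e, he⟩ := dtw_kill G A ρ K _ hz
    refine ⟨e + q₀, fun a => ?_⟩
    have h3 := hf' a
    rw [he a] at h3
    rw [map_add]
    have h4 : f a = ((dtw G A ρ).rho (a : G) e - e) + ((dtw G A ρ).rho (a : G) q₀ - q₀) := by
      rw [← h3]; abel
    rw [h4]; abel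
  · exact isPermutation_permRep _

end cofl

end Groth.Agent.H21.GLatLib
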