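import Groth.Agent.H21.GLatLib2

set_option autoImplicit false
open scoped BigOperators

namespace Groth.Agent.H21.GLatLib

section dual
variable {G : Type} [Group G] [Finite G] {M : Type} [AddCommGroup M] [Module.Finite ℤ M]
  [Module.Free ℤ M] (ρ : Representation ℤ G M)

/-- zeroth differential -/
noncomputable def d0 (H : Subgroup G) : M →ₗ[ℤ] (H → M) :=
  LinearMap.pi (fun h => ρ (h : G) - LinearMap.id)

lemma d0_apply (H : Subgroup G) (m : M) (h : H) : d0 ρ H m h = ρ (h : G) m - m := rfl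

/-- first differential -/
noncomputable def d1 (H : Subgroup G) : (H → M) →ₗ[ℤ] (H × H → M) where
  toFun c := fun ab => c ab.1 + ρ (ab.1 : G) (c ab.2) - c (ab.1 * ab.2)
  map_add' := by
    intro c c'
    funext ab
    simp only [Pi.add_apply, map_add]
    abel
  map_smul' := by
    intro n c
    funext ab
    simp [smul_sub, smul_add]

lemma d1_apply (H : Subgroup G) (c : H → M) (a b : H) :
    d1 ρ H c (a, b) = c a + ρ (a : G) (c b) - c (a * b) := rfl

lemma d1_d0 (H : Subgroup G) (m : M) : d1 ρ H (d0 ρ H m) = 0 := by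
  funext ⟨a, b⟩
  rw [d1_apply, d0_apply, d0_apply, d0_apply, Subgroup.coe_mul, map_mul, Module.End.mul_apply,
    map_sub]
  simp

theorem flasque_dual (hρ : GLat.IsCoflasque ρ) : GLat.IsFlasque ρ.dual := by
  intro H φ hφ
  classical
  haveI : Fintype H := Fintype.ofFinite H
  have h1 : ∀ m : M, (∀ h : H, ρ (h : G) m = m) → φ m = 0 := by
    intro m hm
    have h2 : (∑ᶠ h : H, ρ.dual (h : G) φ) m = (0 : Module.Dual ℤ M) m := by rw [hφ]
    rw [finsum_eq_sum_of_fintype, LinearMap.sum_apply] at h2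
    have h3 : ∀ h : H, (ρ.dual (h : G) φ) m = φ m := by
      intro h
      change φ (ρ (h : G)⁻¹ m) = φ m
      have := hm h⁻¹
      rw [show ((h⁻¹ : H) : G) = (h : G)⁻¹ from rfl] at this
      rw [this]
    simp only [h3, Finset.sum_const, Finset.card_univ, LinearMap.zero_apply] at h2
    rcases smul_eq_zero.1 h2 with h | h
    · exact absurd h Fintype.card_ne_zero
    · exact h
  -- (2) φ factors through d0
  have hker : LinearMap.ker (d0 ρ H) ≤ LinearMap.ker φ := by
    intro m hm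
    rw [LinearMap.mem_ker] at hm ⊢
    apply h1
    intro h
    have := congrFun hm h
    rw [d0_apply] at this
    exact sub_eq_zero.1 this
  obtain ⟨φbar, hφbar⟩ : ∃ φbar : LinearMap.range (d0 ρ H) →ₗ[ℤ] ℤ,
      ∀ m, φbar ⟨d0 ρ H m, LinearMap.mem_range_self _ m⟩ = φ m := by
    refine ⟨((LinearMap.ker (d0 ρ H)).liftQ φ hker) ∘ₗ
      ((d0 ρ H).quotKerEquivRange).symm.toLinearMap, fun m => ?_⟩
    have : ((d0 ρ H).quotKerEquivRange).symm ⟨d0 ρ H m, LinearMap.mem_range_self _ m⟩
        = Submodule.Quotient.mk m := by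
      rw [LinearEquiv.symm_apply_eq]
      rfl
    simp only [LinearMap.coe_comp, LinearEquiv.coe_coe, Function.comp_apply]
    rw [this, Submodule.liftQ_apply]
  -- (3) a retraction onto the cocycles
  have hfree : Module.Free ℤ (LinearMap.range (d1 ρ H)) := inferInstance
  obtain ⟨s, hs⟩ := Module.projective_lifting_property (d1 ρ H).rangeRestrict LinearMap.id
    (LinearMap.surjective_rangeRestrict _)
  have hs' : ∀ y : LinearMap.range (d1 ρ H), d1 ρ H (s y) = y.1 := by
    intro y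
    have := congrArg (fun f => (f y).1) hs
    exact this
  obtain ⟨r, hrdef⟩ : ∃ r : (H → M) →ₗ[ℤ] (H → M),
      r = LinearMap.id - s ∘ₗ (d1 ρ H).rangeRestrict := ⟨_, rfl⟩
  have hr1 : ∀ c, d1 ρ H (r c) = 0 := by
    intro c
    rw [hrdef]
    simp only [LinearMap.sub_apply, LinearMap.id_coe, id_eq, LinearMap.coe_comp,
      Function.comp_apply, map_sub]
    rw [hs']
    simp
  have hr2 : ∀ c, r c ∈ LinearMap.range (d0 ρ H) := by
    intro c
    obtain ⟨m, hm⟩ := hρ H (r c) (by
      intro a b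
      have := congrFun (hr1 c) (a, b)
      rw [d1_apply] at this
      exact (sub_eq_zero.1 this).symm)
    exact ⟨m, funext fun a => (hm a).symm⟩
  have hr3 : ∀ m, r (d0 ρ H m) = d0 ρ H m := by
    intro m
    rw [hrdef]
    simp only [LinearMap.sub_apply, LinearMap.id_coe, id_eq, LinearMap.coe_comp,
      Function.comp_apply]
    have : (d1 ρ H).rangeRestrict (d0 ρ H m) = 0 := Subtype.ext (d1_d0 ρ H m)
    rw [this, map_zero, sub_zero]
  obtain ⟨ψ, hψ⟩ : ∃ ψ : (H → M) →ₗ[ℤ] ℤ, ∀ m, ψ (d0 ρ H m) = φ m := by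
    refine ⟨φbar ∘ₗ (r.codRestrict (LinearMap.range (d0 ρ H)) hr2), fun m => ?_⟩
    simp only [LinearMap.coe_comp, Function.comp_apply]
    rw [← hφbar m]
    congr 1
    exact Subtype.ext (hr3 m)
  -- (4) unwind
  have hφeq : φ = ∑ h : H, (ρ.dual ((h⁻¹ : H) : G) (ψ ∘ₗ LinearMap.single ℤ (fun _ : H => M) h)
      - ψ ∘ₗ LinearMap.single ℤ (fun _ : H => M) h) := by
    ext m
    rw [← hψ m, LinearMap.sum_apply]
    have : d0 ρ H m = ∑ h : H, Pi.single h (d0 ρ H m h) := (Finset.univ_sum_single _).symm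
    conv_lhs => rw [this, map_sum]
    refine Finset.sum_congr rfl fun h _ => ?_
    rw [LinearMap.sub_apply, d0_apply]
    change ψ (Pi.single h (ρ (h : G) m - m))
      = ψ (Pi.single h (ρ (((h⁻¹ : H) : G))⁻¹ m)) - ψ (Pi.single h m)
    rw [← map_sub, ← Pi.single_sub]
    simp
  rw [hφeq]
  refine Submodule.sum_mem _ fun h _ => ?_
  exact Submodule.subset_span ⟨h⁻¹, _, rfl⟩

end dual

end Groth.Agent.H21.GLatLib
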