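import Groth.Agent.H21.GLatLib3

set_option autoImplicit false
open scoped BigOperators

namespace Groth.Agent.H21.GLatLib

section dualres
variable (G : Type) [Group G] [Finite G] (A : Type) [AddCommGroup A] [Module.Finite ℤ A]
  [Module.Free ℤ A] (ρ : Representation ℤ G A)

lemma isPermutation_dual {P : Type} [AddCommGroup P] [Module.Finite ℤ P]
    (τ : Representation ℤ G P) (hτ : GLat.IsPermutation τ) : GLat.IsPermutation τ.dual := by
  classical
  obtain ⟨ι, b, hb⟩ := hτ
  haveI : Finite ι := Module.Finite.finite_basis b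
  refine ⟨ι, b.dualBasis, fun g i => ?_⟩
  obtain ⟨j, hj⟩ := hb g i
  refine ⟨j, ?_⟩
  apply b.ext
  intro l
  obtain ⟨l', hl'⟩ := hb g⁻¹ l
  change (b.dualBasis i) (τ g⁻¹ (b l)) = (b.dualBasis j) (b l)
  rw [hl', Module.Basis.dualBasis_apply_self, Module.Basis.dualBasis_apply_self]
  have : l' = i ↔ l = j := by
    constructor
    · intro h
      subst h
      apply b.injective
      rw [← hj, ← hl', ← Module.End.mul_apply, ← map_mul, mul_inv_cancel, map_one,
        Module.End.one_apply]
    · intro h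
      subst h
      apply b.injective
      rw [← hl', ← hj, ← Module.End.mul_apply, ← map_mul, inv_mul_cancel, map_one,
        Module.End.one_apply]
  simp only [this]

theorem main_S18686 :
    ∃ (P : Type) (_ : AddCommGroup P) (F : Type) (_ : AddCommGroup F)
      (_ : Module.Finite ℤ P) (_ : Module.Free ℤ P) (_ : Module.Finite ℤ F) (_ : Module.Free ℤ F)
      (σ : Representation ℤ G P) (τ : Representation ℤ G F) (i : A →ₗ[ℤ] P) (π : P →ₗ[ℤ] F),
      GLat.IsEquivariant ρ σ i ∧ GLat.IsEquivariant σ τ π ∧ Function.Injective i ∧ Function.Surjective π ∧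
      LinearMap.range i = LinearMap.ker π ∧ GLat.IsPermutation σ ∧ GLat.IsFlasque τ := by
  obtain ⟨Q, instQ, P', instP', finQ, freeQ, finP, freeP, σ, τ, i, π, h1, h2, h3, h4, h5, h6, h7⟩ :=
    main_S18675 G (Module.Dual ℤ A) ρ.dual
  -- a section of π
  obtain ⟨s', hs'⟩ := Module.projective_lifting_property π LinearMap.id h4
  have hs'' : ∀ f, π (s' f) = f := fun f => congrArg (fun φ => φ f) hs'
  have hπi : ∀ q, π (i q) = 0 := by
    intro q
    have : i q ∈ LinearMap.ker π := h5 ▸ LinearMap.mem_range_self i q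
    exact this
  have hkill : ∀ (χ : Module.Dual ℤ P'), χ ∘ₗ i = 0 → ∀ p, χ p = χ (s' (π p)) := by
    intro χ hχ p
    have hmem : p - s' (π p) ∈ LinearMap.range i := by
      rw [h5, LinearMap.mem_ker, map_sub, hs'', sub_self]
    obtain ⟨q, hq⟩ := hmem
    have h0 : χ (i q) = 0 := congrArg (fun φ => φ q) hχ
    rw [hq, map_sub] at h0
    exact sub_eq_zero.1 h0
  -- a retraction of i
  have hret : ∃ r : P' →ₗ[ℤ] Q, ∀ q, r (i q) = q := by
    have hmem : ∀ p, ((LinearMap.id - s' ∘ₗ π : P' →ₗ[ℤ] P')) p ∈ LinearMap.range i := by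
      intro p
      rw [h5, LinearMap.mem_ker]
      simp only [LinearMap.sub_apply, LinearMap.id_coe, id_eq, LinearMap.coe_comp,
        Function.comp_apply, map_sub, hs'', sub_self]
    refine ⟨(LinearEquiv.ofInjective i h3).symm.toLinearMap ∘ₗ
      ((LinearMap.id - s' ∘ₗ π : P' →ₗ[ℤ] P').codRestrict (LinearMap.range i) hmem), fun q => ?_⟩
    simp only [LinearMap.coe_comp, LinearEquiv.coe_coe, Function.comp_apply]
    rw [LinearEquiv.symm_apply_eq]
    apply Subtype.ext
    simp [hπi]
  obtain ⟨r, hr⟩ := hret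
  refine ⟨Module.Dual ℤ P', inferInstance, Module.Dual ℤ Q, inferInstance,
    inferInstance, inferInstance, inferInstance, inferInstance,
    τ.dual, σ.dual, π.dualMap ∘ₗ (Module.Dual.eval ℤ A), i.dualMap, ?_, ?_, ?_, ?_, ?_, ?_, ?_⟩
  · -- equivariance of i'
    intro g a
    apply LinearMap.ext
    intro p
    change (π p) (ρ g a) = (π (τ g⁻¹ p)) a
    rw [h2 g⁻¹ p]
    change (π p) (ρ g a) = (π p) (ρ (g⁻¹)⁻¹ a)
    rw [inv_inv]
  · -- equivariance of π'
    intro g χ
    apply LinearMap.ext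
    intro q
    change χ (τ g⁻¹ (i q)) = χ (i (σ g⁻¹ q))
    rw [h1 g⁻¹ q]
  · -- injectivity
    intro a a' haa
    have h8 : Module.Dual.eval ℤ A a = Module.Dual.eval ℤ A a' :=
      LinearMap.dualMap_injective_of_surjective h4 haa
    exact (Module.evalEquiv ℤ A).injective h8
  · -- surjectivity
    intro χ
    refine ⟨χ ∘ₗ r, ?_⟩
    apply LinearMap.ext
    intro q
    change χ (r (i q)) = χ q
    rw [hr]
  · -- exactness
    apply le_antisymm
    · rintro _ ⟨a, rfl⟩
      rw [LinearMap.mem_ker]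
      apply LinearMap.ext
      intro q
      change (π (i q)) a = 0
      rw [hπi]
      rfl
    · intro χ hχ
      rw [LinearMap.mem_ker] at hχ
      have hχ' : χ ∘ₗ i = 0 := hχ
      obtain ⟨a, ha⟩ := (Module.evalEquiv ℤ A).surjective (χ ∘ₗ s')
      refine ⟨a, ?_⟩
      apply LinearMap.ext
      intro p
      change (Module.Dual.eval ℤ A a) (π p) = χ p
      have ha' : Module.Dual.eval ℤ A a = χ ∘ₗ s' := ha
      rw [ha', hkill χ hχ' p]
      rfl
  · exact isPermutation_dual G τ h6
  · exact flasque_dual σ h7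

end dualres

end Groth.Agent.H21.GLatLib
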