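import Groth.Agent.H21.GLatLib4

set_option autoImplicit false
open scoped BigOperators

namespace Groth.Agent.H21.GLatLib

section permfl
variable {G : Type} [Group G] [Finite G] (X : Type) [MulAction G X]

theorem perm_flasque : GLat.IsFlasque (permRep (G := G) X) := by
  intro H p hp
  classical
  haveI : Fintype H := Fintype.ofFinite H
  obtain ⟨r, hrdef⟩ : ∃ r : X → X,
      r = fun x => (Quotient.mk (MulAction.orbitRel H X) x).out := ⟨_, rfl⟩
  have hr : ∀ x, ∃ a : H, a • r x = x := by
    intro x
    have h1 : (MulAction.orbitRel H X).r (r x) x := by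
      rw [hrdef]; exact Quotient.mk_out (s := MulAction.orbitRel H X) x
    obtain ⟨γ, hγ⟩ := h1
    refine ⟨γ⁻¹, ?_⟩
    rw [← hγ, inv_smul_smul]
  have hrr : ∀ (a : H) x, r (a • x) = r x := by
    intro a x
    rw [hrdef]
    simp only
    congr 1
    exact Quotient.sound (s := MulAction.orbitRel H X) (MulAction.mem_orbit x a)
  choose t ht using hr
  -- the averaged element vanishes
  have hbar : Finsupp.lmapDomain ℤ ℤ r p = 0 := by
    have h1 : ∀ h : H, Finsupp.lmapDomain ℤ ℤ r (permRep X (h : G) p) = Finsupp.lmapDomain ℤ ℤ r p := by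
      intro h
      change Finsupp.mapDomain r (Finsupp.mapDomain ((h : G) • ·) p) = Finsupp.mapDomain r p
      rw [← Finsupp.mapDomain_comp]
      congr 1
      funext x
      exact hrr h x
    have h2 := congrArg (Finsupp.lmapDomain ℤ ℤ r) hp
    rw [finsum_eq_sum_of_fintype, map_sum, map_zero] at h2
    simp only [h1, Finset.sum_const, Finset.card_univ] at h2
    rcases smul_eq_zero.1 h2 with h | h
    · exact absurd h Fintype.card_ne_zero
    · exact h
  have hL : ∀ q : X →₀ ℤ, q - Finsupp.lmapDomain ℤ ℤ r q ∈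
      Submodule.span ℤ {x : X →₀ ℤ | ∃ (h : H) (y : X →₀ ℤ), x = permRep X (h : G) y - y} := by
    intro q
    induction q using Finsupp.induction_linear with
    | zero => simp
    | add a b ha hb =>
      have : a + b - Finsupp.lmapDomain ℤ ℤ r (a + b)
          = (a - Finsupp.lmapDomain ℤ ℤ r a) + (b - Finsupp.lmapDomain ℤ ℤ r b) := by
        rw [map_add]; abel
      rw [this]
      exact Submodule.add_mem _ ha hb
    | single x n =>
      apply Submodule.subset_span
      refine ⟨t x, Finsupp.single (r x) n, ?_⟩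
      rw [permRep_single]
      change _ = Finsupp.single (t x • r x) n - _
      rw [ht]
      simp
  have := hL p
  rwa [hbar, sub_zero] at this

end permfl

section strong
variable (G : Type) [Group G] [Finite G] (A : Type) [AddCommGroup A] [Module.Finite ℤ A]
  (ρ : Representation ℤ G A)

theorem main_S18675_strong :
    ∃ (Q : Type) (_ : AddCommGroup Q) (P : Type) (_ : AddCommGroup P)
      (_ : Module.Finite ℤ Q) (_ : Module.Free ℤ Q) (_ : Module.Finite ℤ P) (_ : Module.Free ℤ P)
      (σ : Representation ℤ G Q) (τ : Representation ℤ G P) (i : Q →ₗ[ℤ] P) (π : P →ₗ[ℤ] A),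
      GLat.IsEquivariant σ τ i ∧ GLat.IsEquivariant τ ρ π ∧ Function.Injective i ∧ Function.Surjective π ∧
      LinearMap.range i = LinearMap.ker π ∧ GLat.IsPermutation τ ∧ GLat.IsFlasque τ := by
  refine ⟨LinearMap.ker (cpi G A ρ), inferInstance, CX G A ρ →₀ ℤ, inferInstance,
    inferInstance, inferInstance, inferInstance, inferInstance,
    (permRep (CX G A ρ)).subrepresentation _ (ker_le_comap G A ρ), permRep (CX G A ρ),
    (LinearMap.ker (cpi G A ρ)).subtype, cpi G A ρ, ?_, ?_, ?_, ?_, ?_, ?_, ?_⟩
  · intro g m; rfl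
  · intro g m; exact cpi_equiv G A ρ g m
  · exact Subtype.val_injective
  · exact cpi_surjective G A ρ
  · exact Submodule.range_subtype _
  · exact isPermutation_permRep _
  · exact perm_flasque _

end strong

section exact
variable {G : Type} [Group G] [Finite G]
  {P F F₂ : Type} [AddCommGroup P] [AddCommGroup F] [AddCommGroup F₂]
  (τ₁ : Representation ℤ G P) (τ : Representation ℤ G F) (τ₂ : Representation ℤ G F₂)
  (j : P →ₗ[ℤ] F) (π : F →ₗ[ℤ] F₂)

theorem flasque_of_exact (hj : GLat.IsEquivariant τ₁ τ j) (hπ : GLat.IsEquivariant τ τ₂ π)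
    (hinj : Function.Injective j) (hsurj : Function.Surjective π)
    (hex : LinearMap.range j = LinearMap.ker π)
    (h1 : GLat.IsFlasque τ₁) (h2 : GLat.IsFlasque τ₂) : GLat.IsFlasque τ := by
  intro H x hx
  classical
  haveI : Fintype H := Fintype.ofFinite H
  rw [finsum_eq_sum_of_fintype] at hx
  -- image in F₂
  have hx2 : (∑ᶠ h : H, τ₂ (h : G) (π x)) = 0 := by
    rw [finsum_eq_sum_of_fintype]
    have := congrArg π hx
    rw [map_sum, map_zero] at this
    rw [← this]
    exact Finset.sum_congr rfl fun h _ => (hπ (h : G) x).symm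
  have hπx := h2 H (π x) hx2
  -- lift
  have hmap : Submodule.span ℤ {y : F₂ | ∃ (h : H) (z : F₂), y = τ₂ (h : G) z - z}
      ≤ (Submodule.span ℤ {y : F | ∃ (h : H) (z : F), y = τ (h : G) z - z}).map π := by
    rw [Submodule.span_le]
    rintro _ ⟨h, z, rfl⟩
    obtain ⟨z', rfl⟩ := hsurj z
    refine ⟨τ (h : G) z' - z', Submodule.subset_span ⟨h, z', rfl⟩, ?_⟩
    rw [map_sub, hπ]
  obtain ⟨x', hx'1, hx'2⟩ := hmap hπx
  -- x' has zero norm
  have hN : ∀ y ∈ Submodule.span ℤ {y : F | ∃ (h : H) (z : F), y = τ (h : G) z - z},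
      ∑ h : H, τ (h : G) y = 0 := by
    intro y hy
    induction hy using Submodule.span_induction with
    | mem y hy =>
      obtain ⟨a, z, rfl⟩ := hy
      simp only [map_sub, Finset.sum_sub_distrib]
      rw [sub_eq_zero]
      have : ∀ h : H, τ (h : G) (τ (a : G) z) = τ ((h * a : H) : G) z := by
        intro h
        rw [Subgroup.coe_mul, map_mul, Module.End.mul_apply]
      simp only [this]
      exact Fintype.sum_bijective (· * a) (Group.mulRight_bijective a) _ _ (fun _ => rfl)
    | zero => simp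
    | add y z _ _ hy hz => simp only [map_add, Finset.sum_add_distrib, hy, hz, add_zero]
    | smul n y _ hy => simp only [map_zsmul, ← Finset.smul_sum, hy, smul_zero]
  have hker : x - x' ∈ LinearMap.ker π := by
    rw [LinearMap.mem_ker, map_sub, hx'2, sub_self]
  rw [← hex] at hker
  obtain ⟨p, hp⟩ := hker
  have hNp : (∑ᶠ h : H, τ₁ (h : G) p) = 0 := by
    rw [finsum_eq_sum_of_fintype]
    apply hinj
    rw [map_sum, map_zero]
    have : ∀ h : H, j (τ₁ (h : G) p) = τ (h : G) x - τ (h : G) x' := by
      intro h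
      rw [hj, hp, map_sub]
    simp only [this, Finset.sum_sub_distrib, hx, hN x' hx'1, sub_zero]
  have hp1 := h1 H p hNp
  have hjmap : (Submodule.span ℤ {y : P | ∃ (h : H) (z : P), y = τ₁ (h : G) z - z}).map j
      ≤ Submodule.span ℤ {y : F | ∃ (h : H) (z : F), y = τ (h : G) z - z} := by
    rw [Submodule.map_span, Submodule.span_le]
    rintro _ ⟨_, ⟨h, z, rfl⟩, rfl⟩
    apply Submodule.subset_span
    exact ⟨h, j z, by rw [map_sub, hj]⟩
  have hjp : j p ∈ Submodule.span ℤ {y : F | ∃ (h : H) (z : F), y = τ (h : G) z - z} :=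
    hjmap ⟨p, hp1, rfl⟩
  have : x = x' + j p := by rw [hp]; abel
  rw [this]
  exact Submodule.add_mem _ hx'1 hjp

end exact

end Groth.Agent.H21.GLatLib
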