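import Groth.Agent.H21.GLatLib5

set_option autoImplicit false
open scoped BigOperators

namespace Groth.Agent.H21.GLatLib

section pushout
variable (G : Type) [Group G] [Finite G] (A : Type) [AddCommGroup A] [Module.Finite ℤ A]
  (ρ : Representation ℤ G A)

theorem main_S18685 :
    ∃ (P : Type) (_ : AddCommGroup P) (F : Type) (_ : AddCommGroup F)
      (_ : Module.Finite ℤ P) (_ : Module.Free ℤ P) (_ : Module.Finite ℤ F) (_ : Module.Free ℤ F)
      (σ : Representation ℤ G P) (τ : Representation ℤ G F) (i : P →ₗ[ℤ] F) (π : F →ₗ[ℤ] A),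
      GLat.IsEquivariant σ τ i ∧ GLat.IsEquivariant τ ρ π ∧ Function.Injective i ∧ Function.Surjective π ∧
      LinearMap.range i = LinearMap.ker π ∧ GLat.IsPermutation σ ∧ GLat.IsFlasque τ := by
  obtain ⟨Q₁, _, P₁, _, _, _, _, _, σ₁, τ₁, i₁, π₁, a1, a2, a3, a4, a5, a6, a7⟩ :=
    main_S18675_strong G A ρ
  obtain ⟨P₂, _, F₂, _, _, _, _, _, τ₂, φ₂, i₂, π₂, b1, b2, b3, b4, b5, b6, b7⟩ :=
    main_S18686 G Q₁ σ₁
  obtain ⟨ν, hν⟩ : ∃ ν : Q₁ →ₗ[ℤ] P₁ × P₂, ν = i₁.prod (-i₂) := ⟨_, rfl⟩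
  have hνa : ∀ q, ν q = (i₁ q, -i₂ q) := fun q => by rw [hν]; rfl
  obtain ⟨N, hNdef⟩ : ∃ N : Submodule ℤ (P₁ × P₂), N = LinearMap.range ν := ⟨_, rfl⟩
  have hmemN : ∀ z : P₁ × P₂, z ∈ N ↔ ∃ q, (i₁ q, -i₂ q) = z := by
    intro z
    rw [hNdef, LinearMap.mem_range]
    simp only [hνa]
  have hπi₁ : ∀ q, π₁ (i₁ q) = 0 := by
    intro q
    have : i₁ q ∈ LinearMap.ker π₁ := a5 ▸ LinearMap.mem_range_self i₁ q
    exact this
  have hπi₂ : ∀ q, π₂ (i₂ q) = 0 := by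
    intro q
    have : i₂ q ∈ LinearMap.ker π₂ := b5 ▸ LinearMap.mem_range_self i₂ q
    exact this
  have hN : ∀ g, N ≤ N.comap ((τ₁.prod τ₂) g) := by
    intro g z hz
    rw [Submodule.mem_comap, hmemN]
    obtain ⟨q, rfl⟩ := (hmemN z).1 hz
    refine ⟨σ₁ g q, ?_⟩
    change _ = (τ₁ g (i₁ q), τ₂ g (-i₂ q))
    rw [a1, b1, map_neg]
  have hmk0 : ∀ z : P₁ × P₂, (N.mkQ z = 0) ↔ ∃ q, (i₁ q, -i₂ q) = z := by
    intro z
    rw [Submodule.mkQ_apply, Submodule.Quotient.mk_eq_zero, hmemN]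
  -- torsion-free quotient
  have htf : Module.IsTorsionFree ℤ ((P₁ × P₂) ⧸ N) := by
    apply Module.IsTorsionFree.of_smul_eq_zero
    intro n x hx
    by_cases hn : n = 0
    · exact Or.inl hn
    right
    obtain ⟨⟨p₁, p₂⟩, rfl⟩ := N.mkQ_surjective x
    rw [← map_zsmul, hmk0] at hx
    obtain ⟨q, hq⟩ := hx
    have hq1 : i₁ q = n • p₁ := congrArg Prod.fst hq
    have hq2 : -i₂ q = n • p₂ := congrArg Prod.snd hq
    have h1 : π₂ p₂ = 0 := by
      have : n • π₂ p₂ = 0 := by rw [← map_zsmul, ← hq2, map_neg, hπi₂, neg_zero]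
      exact (smul_eq_zero.1 this).resolve_left hn
    have h2 : p₂ ∈ LinearMap.range i₂ := by rw [b5]; exact h1
    obtain ⟨q', rfl⟩ := h2
    have h3 : n • q' + q = 0 := by
      apply b3
      rw [map_add, map_zsmul, map_zero, ← hq2]
      abel
    have h4 : q = -(n • q') := by
      rw [← add_eq_zero_iff_neg_eq'] at *
      rw [add_comm] at h3
      exact (add_eq_zero_iff_eq_neg.1 h3)
    have h5 : p₁ + i₁ q' = 0 := by
      have : n • (p₁ + i₁ q') = 0 := by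
        rw [smul_add, ← hq1, h4, map_neg, map_zsmul]
        abel
      exact (smul_eq_zero.1 this).resolve_left hn
    rw [hmk0]
    refine ⟨-q', ?_⟩
    rw [map_neg, map_neg, neg_neg]
    exact Prod.ext (by rw [← add_eq_zero_iff_neg_eq]; rw [add_comm]; exact h5) rfl
  haveI : Module.Free ℤ ((P₁ × P₂) ⧸ N) := inferInstance
  have hle : N ≤ LinearMap.ker (π₁ ∘ₗ LinearMap.fst ℤ P₁ P₂) := by
    intro z hz
    obtain ⟨q, rfl⟩ := (hmemN z).1 hz
    rw [LinearMap.mem_ker]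
    exact hπi₁ q
  have hle' : N ≤ LinearMap.ker (π₂ ∘ₗ LinearMap.snd ℤ P₁ P₂) := by
    intro z hz
    obtain ⟨q, rfl⟩ := (hmemN z).1 hz
    rw [LinearMap.mem_ker]
    change π₂ (-i₂ q) = 0
    rw [map_neg, hπi₂, neg_zero]
  have hτ : ∀ g (z : P₁ × P₂), ((τ₁.prod τ₂).quotient N hN) g (N.mkQ z)
      = N.mkQ (τ₁ g z.1, τ₂ g z.2) := fun g z => rfl
  have hfl : GLat.IsFlasque ((τ₁.prod τ₂).quotient N hN) := by
    refine flasque_of_exact τ₁ _ φ₂ (N.mkQ ∘ₗ LinearMap.inl ℤ P₁ P₂)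
      (N.liftQ (π₂ ∘ₗ LinearMap.snd ℤ P₁ P₂) hle') ?_ ?_ ?_ ?_ ?_ a7 b7
    · intro g p
      change N.mkQ (τ₁ g p, 0) = ((τ₁.prod τ₂).quotient N hN) g (N.mkQ (p, 0))
      rw [hτ]
      simp
    · intro g x
      obtain ⟨⟨p₁, p₂⟩, rfl⟩ := N.mkQ_surjective x
      rw [hτ]
      change π₂ (τ₂ g p₂) = φ₂ g (π₂ p₂)
      exact b2 g p₂
    · intro p p' hpp
      have h0 : N.mkQ ((p - p', (0 : P₂))) = 0 := by
        have : ((p - p', (0 : P₂)) : P₁ × P₂) = (p, 0) - (p', 0) := by simp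
        rw [this, map_sub]
        exact sub_eq_zero.2 hpp
      obtain ⟨q, hq⟩ := (hmk0 _).1 h0
      have hq2 : -i₂ q = 0 := congrArg Prod.snd hq
      have hq0 : q = 0 := by
        apply b3
        rw [map_zero]
        exact neg_eq_zero.1 hq2
      have hq1 : i₁ q = p - p' := congrArg Prod.fst hq
      rw [hq0, map_zero] at hq1
      exact (sub_eq_zero.1 hq1.symm)
    · intro f
      obtain ⟨p₂, rfl⟩ := b4 f
      exact ⟨N.mkQ (0, p₂), rfl⟩
    · apply le_antisymm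
      · rintro _ ⟨p, rfl⟩
        rw [LinearMap.mem_ker]
        change π₂ (0 : P₂) = 0
        exact map_zero _
      · intro x hx
        obtain ⟨⟨p₁, p₂⟩, rfl⟩ := N.mkQ_surjective x
        rw [LinearMap.mem_ker] at hx
        have hx' : π₂ p₂ = 0 := hx
        have h2 : p₂ ∈ LinearMap.range i₂ := by rw [b5]; exact hx'
        obtain ⟨q, rfl⟩ := h2
        refine ⟨p₁ + i₁ q, ?_⟩
        change N.mkQ (p₁ + i₁ q, 0) = N.mkQ (p₁, i₂ q)
        rw [← sub_eq_zero, ← map_sub, hmk0]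
        refine ⟨q, ?_⟩
        simp
  refine ⟨P₂, inferInstance, (P₁ × P₂) ⧸ N, inferInstance, inferInstance, inferInstance,
    inferInstance, inferInstance, τ₂, (τ₁.prod τ₂).quotient N hN,
    N.mkQ ∘ₗ LinearMap.inr ℤ P₁ P₂, N.liftQ (π₁ ∘ₗ LinearMap.fst ℤ P₁ P₂) hle,
    ?_, ?_, ?_, ?_, ?_, b6, hfl⟩
  · intro g p
    change N.mkQ (0, τ₂ g p) = ((τ₁.prod τ₂).quotient N hN) g (N.mkQ (0, p))
    rw [hτ]
    simp
  · intro g x
    obtain ⟨⟨p₁, p₂⟩, rfl⟩ := N.mkQ_surjective x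
    rw [hτ]
    change π₁ (τ₁ g p₁) = ρ g (π₁ p₁)
    exact a2 g p₁
  · intro p p' hpp
    have h0 : N.mkQ (((0 : P₁), p - p')) = 0 := by
      have : (((0 : P₁), p - p') : P₁ × P₂) = (0, p) - (0, p') := by simp
      rw [this, map_sub]
      exact sub_eq_zero.2 hpp
    obtain ⟨q, hq⟩ := (hmk0 _).1 h0
    have hq1 : i₁ q = 0 := congrArg Prod.fst hq
    have hq0 : q = 0 := by
      apply a3
      rw [map_zero]
      exact hq1
    have hq2 : -i₂ q = p - p' := congrArg Prod.snd hq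
    rw [hq0, map_zero, neg_zero] at hq2
    exact (sub_eq_zero.1 hq2.symm)
  · intro a
    obtain ⟨p₁, rfl⟩ := a4 a
    exact ⟨N.mkQ (p₁, 0), rfl⟩
  · apply le_antisymm
    · rintro _ ⟨p, rfl⟩
      rw [LinearMap.mem_ker]
      change π₁ (0 : P₁) = 0
      exact map_zero _
    · intro x hx
      obtain ⟨⟨p₁, p₂⟩, rfl⟩ := N.mkQ_surjective x
      rw [LinearMap.mem_ker] at hx
      have hx' : π₁ p₁ = 0 := hx
      have h2 : p₁ ∈ LinearMap.range i₁ := by rw [a5]; exact hx'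
      obtain ⟨q, rfl⟩ := h2
      refine ⟨p₂ + i₂ q, ?_⟩
      change N.mkQ (0, p₂ + i₂ q) = N.mkQ (i₁ q, p₂)
      rw [← sub_eq_zero, ← map_sub, hmk0]
      refine ⟨-q, ?_⟩
      simp

end pushout

end Groth.Agent.H21.GLatLib
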