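import Mathlib

set_option autoImplicit false
open TensorProduct

namespace Groth.Agent.H21.GenFin

universe u
variable {R S : Type u} [CommRing R] [CommRing S] [Algebra R S]

/-- nilpotency of the maximal ideal elements of the localization at a minimal prime -/
theorem isNilpotent_of_mem_maximalIdeal (p : Ideal R) [p.IsPrime] (hp : p ∈ minimalPrimes R)
    (a : Localization.AtPrime p) (ha : a ∈ IsLocalRing.maximalIdeal (Localization.AtPrime p)) :
    IsNilpotent a := by
  have h := IsLocalization.AtPrime.radical_map_of_mem_minimalPrimes (A := Localization.AtPrime p)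
    p ⊥ hp
  rw [Ideal.map_bot, IsLocalization.AtPrime.map_eq_maximalIdeal p (Localization.AtPrime p)] at h
  rw [← h] at ha
  obtain ⟨n, hn⟩ := ha
  exact ⟨n, by simpa using hn⟩

theorem finite_fiber [Algebra.FiniteType R S] (p : Ideal R) [p.IsPrime]
    (hfin : (p.primesOver S).Finite) : Module.Finite p.ResidueField (p.Fiber S) := by
  rw [Module.finite_iff_isArtinianRing, isArtinianRing_iff_isNoetherianRing_krullDimLE_zero]
  have : IsJacobsonRing (p.Fiber S) := isJacobsonRing_of_finiteType (A := p.ResidueField)
  have : Finite (PrimeSpectrum (p.Fiber S)) := by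
    have := hfin.to_subtype
    exact Finite.of_equiv _ (PrimeSpectrum.primesOverOrderIsoFiber R S p).toEquiv
  exact ⟨Algebra.FiniteType.isNoetherianRing p.ResidueField _,
    (PrimeSpectrum.discreteTopology_iff_finite_and_krullDimLE_zero.mp inferInstance).right⟩

theorem exists_monic_fiber [Algebra.FiniteType R S] (p : Ideal R) [p.IsPrime]
    (hfin : (p.primesOver S).Finite) (s : S) :
    ∃ m : R, m ∉ p ∧ ∃ P : Polynomial R, P.Monic ∧
      ((1 : p.ResidueField) ⊗ₜ[R] (Polynomial.aeval (m • s) P) : p.Fiber S) = 0 := by
  have := finite_fiber p hfin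
  have h1 : IsIntegral p.ResidueField ((1 : p.ResidueField) ⊗ₜ[R] s : p.Fiber S) :=
    Algebra.IsIntegral.isIntegral _
  have hsurj : Function.Surjective (algebraMap (Localization.AtPrime p) p.ResidueField) :=
    Ideal.Quotient.mk_surjective
  have : Algebra.IsIntegral (Localization.AtPrime p) p.ResidueField :=
    Algebra.isIntegral_of_surjective hsurj
  have h2 : IsIntegral (Localization.AtPrime p) ((1 : p.ResidueField) ⊗ₜ[R] s : p.Fiber S) :=
    isIntegral_trans _ h1
  obtain ⟨⟨m, hm⟩, P, hP, hP0⟩ :=
    IsIntegral.exists_multiple_integral_of_isLocalization p.primeCompl _ h2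
  refine ⟨m, hm, P, hP, ?_⟩
  have e : ((⟨m, hm⟩ : p.primeCompl) • ((1 : p.ResidueField) ⊗ₜ[R] s : p.Fiber S)) =
      (Algebra.TensorProduct.includeRight : S →ₐ[R] p.Fiber S) (m • s) := by
    show m • ((1 : p.ResidueField) ⊗ₜ[R] s : p.Fiber S) = (1 : p.ResidueField) ⊗ₜ[R] (m • s)
    rw [TensorProduct.tmul_smul]
  rw [e, ← Polynomial.aeval_def, Polynomial.aeval_algHom_apply] at hP0
  exact hP0

theorem exists_smul_pow_eq_zero (p : Ideal R) [p.IsPrime] (hp : p ∈ minimalPrimes R) (y : S)
    (hy : ((1 : p.ResidueField) ⊗ₜ[R] y : p.Fiber S) = 0) :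
    ∃ (N : ℕ) (h : R), h ∉ p ∧ h • y ^ N = 0 := by
  let f : IsLocalRing.maximalIdeal (Localization.AtPrime p) →ₗ[R] Localization.AtPrime p :=
    (Submodule.subtype _).restrictScalars R
  let g : Localization.AtPrime p →ₗ[R] p.ResidueField :=
    (IsScalarTower.toAlgHom R (Localization.AtPrime p) p.ResidueField).toLinearMap
  have hg : Function.Surjective g := Ideal.Quotient.mk_surjective
  have hfg : Function.Exact f g := by
    intro a
    constructor
    · intro ha
      exact ⟨⟨a, (IsLocalRing.residue_eq_zero_iff a).mp ha⟩, rfl⟩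
    · rintro ⟨b, rfl⟩
      exact (IsLocalRing.residue_eq_zero_iff _).mpr b.2
  have hex := rTensor_exact S hfg hg
  have hz : (1 : Localization.AtPrime p) ⊗ₜ[R] y ∈ LinearMap.range (LinearMap.rTensor S f) := by
    rw [← hex.linearMap_ker_eq, LinearMap.mem_ker, LinearMap.rTensor_tmul]
    show (algebraMap (Localization.AtPrime p) p.ResidueField 1) ⊗ₜ[R] y = 0
    rw [map_one]
    exact hy
  have hnil : ∀ w : IsLocalRing.maximalIdeal (Localization.AtPrime p) ⊗[R] S,
      LinearMap.rTensor S f w ∈ nilradical (Localization.AtPrime p ⊗[R] S) := by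
    intro w
    induction w using TensorProduct.induction_on with
    | zero => rw [map_zero]; exact Ideal.zero_mem _
    | tmul a s =>
      rw [LinearMap.rTensor_tmul]
      have : (f a) ⊗ₜ[R] s = (Algebra.TensorProduct.includeLeft (R := R) (S := R)
          (A := Localization.AtPrime p) (B := S) (f a)) * ((1 : Localization.AtPrime p) ⊗ₜ[R] s) := by
        rw [Algebra.TensorProduct.includeLeft_apply, Algebra.TensorProduct.tmul_mul_tmul,
          mul_one, one_mul]
      rw [this]
      apply Ideal.mul_mem_right
      rw [mem_nilradical]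
      exact (isNilpotent_of_mem_maximalIdeal p hp _ a.2).map _
    | add x y hx hy => rw [map_add]; exact Ideal.add_mem _ hx hy
  obtain ⟨w, hw⟩ := hz
  have hz' := hnil w
  rw [hw, mem_nilradical] at hz'
  obtain ⟨N, hN⟩ := hz'
  rw [Algebra.TensorProduct.tmul_pow, one_pow] at hN
  have hloc : IsLocalizedModule p.primeCompl (TensorProduct.mk R (Localization.AtPrime p) S 1) :=
    (isLocalizedModule_iff_isBaseChange p.primeCompl (Localization.AtPrime p) _).mpr
      (TensorProduct.isBaseChange R S (Localization.AtPrime p))
  have h0 : TensorProduct.mk R (Localization.AtPrime p) S 1 (y ^ N) = 0 := hN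
  rw [IsLocalizedModule.eq_zero_iff p.primeCompl] at h0
  obtain ⟨⟨h, hh⟩, hh0⟩ := h0
  exact ⟨N, h, hh, hh0⟩

theorem isIntegral_gen {R' S' : Type u} [CommRing R'] [CommRing S'] [Algebra R R'] [Algebra R' S']
    [Algebra R S'] [Algebra S S'] [IsScalarTower R R' S'] [IsScalarTower R S S']
    (s : S) (m h : R) (hm : IsUnit (algebraMap R R' m)) (hh : IsUnit (algebraMap R R' h))
    (Q : Polynomial R) (hQ : Q.Monic) (h0 : h • Polynomial.aeval (m • s) Q = 0) :
    IsIntegral R' (algebraMap S S' s) := by
  have h1 : algebraMap R S' h * Polynomial.aeval (algebraMap S S' (m • s)) Q = 0 := by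
    have := congrArg (algebraMap S S') h0
    rw [map_zero, Algebra.smul_def, map_mul, ← IsScalarTower.algebraMap_apply,
      ← Polynomial.aeval_algebraMap_apply] at this
    exact this
  have hu : IsUnit (algebraMap R S' h) := by
    rw [IsScalarTower.algebraMap_apply R R' S']
    exact hh.map _
  have h2 : Polynomial.aeval (algebraMap S S' (m • s)) Q = 0 := by
    exact (hu.mul_right_eq_zero).mp h1
  have h3 : IsIntegral R (algebraMap S S' (m • s)) := ⟨Q, hQ, by rw [← Polynomial.aeval_def]; exact h2⟩
  have h4 : IsIntegral R' (algebraMap S S' (m • s)) := h3.tower_top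
  have h5 : algebraMap S S' s = algebraMap R' S' (↑(hm.unit⁻¹)) * algebraMap S S' (m • s) := by
    rw [Algebra.smul_def, map_mul, ← IsScalarTower.algebraMap_apply,
      IsScalarTower.algebraMap_apply R R' S', ← mul_assoc, ← map_mul]
    have : (↑(hm.unit⁻¹) : R') * algebraMap R R' m = 1 := by
      have := hm.unit.inv_mul
      simpa using this
    rw [this, map_one, one_mul]
  rw [h5]
  exact (isIntegral_algebraMap).mul h4

theorem exists_data [Algebra.FiniteType R S] (p : Ideal R) [p.IsPrime] (hp : p ∈ minimalPrimes R)
    (hfin : (p.primesOver S).Finite) (s : S) :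
    ∃ d : R, d ∉ p ∧ ∃ (m h : R) (Q : Polynomial R), m ∣ d ∧ h ∣ d ∧ Q.Monic ∧
      h • Polynomial.aeval (m • s) Q = 0 := by
  obtain ⟨m, hm, P, hP, hP0⟩ := exists_monic_fiber p hfin s
  obtain ⟨N, h, hh, hh0⟩ := exists_smul_pow_eq_zero p hp _ hP0
  refine ⟨m * h, ?_, m, h, P ^ N, dvd_mul_right _ _, dvd_mul_left _ _, hP.pow N, ?_⟩
  · intro hmem
    exact (Ideal.IsPrime.mem_or_mem inferInstance hmem).elim hm hh
  · rw [map_pow]; exact hh0

theorem isUnit_of_dvd (g a : R) (h : a ∣ g) : IsUnit (algebraMap R (Localization.Away g) a) := by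
  obtain ⟨b, rfl⟩ := h
  have := IsLocalization.Away.algebraMap_isUnit (S := Localization.Away (a * b)) (a * b)
  rw [map_mul] at this
  exact isUnit_of_mul_isUnit_left this

theorem main [Algebra.FiniteType R S] (p : Ideal R) [p.IsPrime] (hp : p ∈ minimalPrimes R)
    (hfin : (p.primesOver S).Finite) :
    ∃ g : R, g ∉ p ∧ (Localization.awayMap (algebraMap R S) g).Finite := by
  obtain ⟨t, ht⟩ := Algebra.FiniteType.out (R := R) (A := S)
  choose d hd m h Q hmd hhd hQ h0 using exists_data p hp hfin
  refine ⟨∏ s ∈ t, d s, ?_, ?_⟩
  · rw [Ideal.IsPrime.prod_mem_iff]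
    push Not
    intro s _
    exact hd s
  · obtain ⟨g, hg⟩ : ∃ g, g = ∏ s ∈ t, d s := ⟨_, rfl⟩
    rw [← hg]
    letI : Algebra (Localization.Away g) (Localization.Away (algebraMap R S g)) :=
      (Localization.awayMap (algebraMap R S) g).toAlgebra
    have : IsScalarTower R (Localization.Away g) (Localization.Away (algebraMap R S g)) := by
      apply IsScalarTower.of_algebraMap_eq
      intro x
      rw [RingHom.algebraMap_toAlgebra]
      rw [IsScalarTower.algebraMap_apply R S (Localization.Away (algebraMap R S g))]
      show algebraMap S _ (algebraMap R S x) =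
        Localization.awayMap (algebraMap R S) g (algebraMap R _ x)
      unfold Localization.awayMap IsLocalization.Away.map
      rw [IsLocalization.map_eq]
    show Module.Finite (Localization.Away g) (Localization.Away (algebraMap R S g))
    have hft : Algebra.FiniteType (Localization.Away g)
        (Localization.Away (algebraMap R S g)) := by
      have h1 : (algebraMap R S).FiniteType := (RingHom.finiteType_algebraMap).mpr inferInstance
      have h2 := RingHom.localization_away_map_finiteType R S (Localization.Away g)
        (Localization.Away (algebraMap R S g)) (algebraMap R S) g h1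
      exact h2
    have hgen : ∀ s ∈ t, IsIntegral (Localization.Away g)
        (algebraMap S (Localization.Away (algebraMap R S g)) s) := by
      intro s hs
      have hdg : d s ∣ g := hg ▸ Finset.dvd_prod_of_mem d hs
      exact isIntegral_gen s (m s) (h s) (isUnit_of_dvd g _ ((hmd s).trans hdg))
        (isUnit_of_dvd g _ ((hhd s).trans hdg)) (Q s) (hQ s) (h0 s)
    have hall : ∀ s : S, IsIntegral (Localization.Away g)
        (algebraMap S (Localization.Away (algebraMap R S g)) s) := by
      intro s
      have hs : s ∈ Algebra.adjoin R (t : Set S) := by rw [ht]; trivial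
      induction hs using Algebra.adjoin_induction with
      | mem x hx => exact hgen x hx
      | algebraMap r =>
        rw [← IsScalarTower.algebraMap_apply]
        have e := IsScalarTower.algebraMap_apply R (Localization.Away g)
          (Localization.Away (algebraMap R S g)) r
        rw [e]
        exact isIntegral_algebraMap
      | add x y _ _ hx hy => rw [map_add]; exact hx.add hy
      | mul x y _ _ hx hy => rw [map_mul]; exact hx.mul hy
    have hint : Algebra.IsIntegral (Localization.Away g)
        (Localization.Away (algebraMap R S g)) := by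
      constructor
      intro x
      obtain ⟨s, ⟨_, n, rfl⟩, rfl⟩ := IsLocalization.exists_mk'_eq
        (Submonoid.powers (algebraMap R S g)) x
      have e : IsLocalization.mk' (Localization.Away (algebraMap R S g)) s
          (⟨(algebraMap R S g) ^ n, n, rfl⟩ : Submonoid.powers (algebraMap R S g)) =
          algebraMap S _ s * algebraMap (Localization.Away g) _
            (IsLocalization.mk' (Localization.Away g) 1 (⟨g ^ n, n, rfl⟩ : Submonoid.powers g)) := by
        rw [IsLocalization.mk'_eq_iff_eq_mul, mul_assoc]
        have e2 : algebraMap S (Localization.Away (algebraMap R S g)) (algebraMap R S g ^ n) =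
            algebraMap (Localization.Away g) _ (algebraMap R _ (g ^ n)) := by
          rw [← map_pow, ← IsScalarTower.algebraMap_apply]
          exact IsScalarTower.algebraMap_apply R (Localization.Away g)
            (Localization.Away (algebraMap R S g)) (g ^ n)
        show _ = _ * (_ * algebraMap S (Localization.Away (algebraMap R S g)) (algebraMap R S g ^ n))
        rw [e2, ← map_mul]
        have e3 : IsLocalization.mk' (Localization.Away g) 1 (⟨g ^ n, n, rfl⟩ : Submonoid.powers g) *
            algebraMap R _ (g ^ n) = 1 := by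
          have := IsLocalization.mk'_spec (Localization.Away g) (1 : R)
            (⟨g ^ n, n, rfl⟩ : Submonoid.powers g)
          rw [map_one] at this
          exact this
        rw [e3, map_one, mul_one]
      rw [e]
      exact (hall s).mul isIntegral_algebraMap
    exact Algebra.IsIntegral.finite

end Groth.Agent.H21.GenFin
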