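import Mathlib
import Groth.Prelude.Def_GrLC
import Groth.Prelude.Def_Wider

set_option autoImplicit false
universe u
open DirectSum

namespace Groth.Agent.H21.StarInj

section Basic
variable {ι : Type} [AddCommGroup ι] [DecidableEq ι]
  {R : Type u} [CommRing R] (𝒜 : ι → AddSubgroup R) [GradedRing 𝒜]
  {M : Type u} [AddCommGroup M] [Module R M] (ℳ : ι → AddSubgroup M) [DirectSum.Decomposition ℳ]
  [SetLike.GradedSMul 𝒜 ℳ]
  {N : Type u} [AddCommGroup N] [Module R N] (𝒩 : ι → AddSubgroup N) [DirectSum.Decomposition 𝒩]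

theorem decompose_hsmul {a : ι} {r : R} (hr : r ∈ 𝒜 a) (y : M) (j : ι) :
    (decompose ℳ (r • y) j : M) = r • (decompose ℳ y (j - a) : M) := by
  induction y using DirectSum.Decomposition.inductionOn ℳ with
  | zero => simp
  | add y y' hy hy' =>
    rw [smul_add, decompose_add, DirectSum.add_apply, AddSubgroup.coe_add, hy, hy', decompose_add,
      DirectSum.add_apply, AddSubgroup.coe_add, smul_add]
  | @homogeneous b y =>
    have hmem := SetLike.GradedSMul.smul_mem (A := 𝒜) (B := ℳ) hr y.2
    rw [vadd_eq_add] at hmem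
    by_cases h : a + b = j
    · have h' : b = j - a := by rw [← h]; abel
      subst h'
      rw [decompose_of_mem_same ℳ y.2]
      have : a + (j - a) = j := by abel
      rw [this] at hmem
      rw [decompose_of_mem_same ℳ hmem]
    · have h' : b ≠ j - a := fun hb => h (by rw [hb]; abel)
      rw [decompose_of_mem_ne ℳ hmem h, decompose_of_mem_ne ℳ y.2 h', smul_zero]

omit [SetLike.GradedSMul 𝒜 ℳ] in
theorem grHom_decompose (f : M →ₗ[R] N) (hfgr : GrLC.IsGrHom ℳ 𝒩 f) (x : M) (j : ι) :
    (decompose 𝒩 (f x) j : N) = f (decompose ℳ x j : M) := by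
  induction x using DirectSum.Decomposition.inductionOn ℳ with
  | zero => simp
  | add x y hx hy =>
    rw [map_add, decompose_add, DirectSum.add_apply, AddSubgroup.coe_add, hx, hy, decompose_add,
      DirectSum.add_apply, AddSubgroup.coe_add, map_add]
  | @homogeneous i x =>
    by_cases h : i = j
    · subst h
      rw [decompose_of_mem_same 𝒩 (hfgr i x x.2), decompose_of_mem_same ℳ x.2]
    · rw [decompose_of_mem_ne 𝒩 (hfgr i x x.2) h, decompose_of_mem_ne ℳ x.2 h, map_zero]

omit [SetLike.GradedSMul 𝒜 ℳ] in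
theorem ker_homogeneous (f : M →ₗ[R] N) (hfgr : GrLC.IsGrHom ℳ 𝒩 f) :
    (LinearMap.ker f).IsHomogeneous ℳ := by
  intro j x hx
  rw [LinearMap.mem_ker] at hx ⊢
  rw [← grHom_decompose ℳ 𝒩 f hfgr x j, hx, decompose_zero]; rfl

omit [SetLike.GradedSMul 𝒜 ℳ] in
theorem range_homogeneous (f : M →ₗ[R] N) (hfgr : GrLC.IsGrHom ℳ 𝒩 f) :
    (LinearMap.range f).IsHomogeneous 𝒩 := by
  rintro j _ ⟨x, rfl⟩
  exact ⟨(decompose ℳ x j : M), (grHom_decompose ℳ 𝒩 f hfgr x j).symm⟩

include 𝒜 in
theorem span_singleton_homogeneous {i : ι} {x : M} (hx : x ∈ ℳ i) :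
    (Submodule.span R {x}).IsHomogeneous ℳ := by
  intro j y hy
  obtain ⟨r, rfl⟩ := Submodule.mem_span_singleton.mp hy
  induction r using DirectSum.Decomposition.inductionOn 𝒜 with
  | zero => rw [zero_smul, decompose_zero]; exact zero_mem _
  | add r r' hr hr' =>
    rw [add_smul, decompose_add, DirectSum.add_apply, AddSubgroup.coe_add]
    exact add_mem (hr (Submodule.smul_mem _ _ (Submodule.mem_span_singleton_self x)))
      (hr' (Submodule.smul_mem _ _ (Submodule.mem_span_singleton_self x)))
  | @homogeneous a r =>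
    rw [decompose_hsmul 𝒜 ℳ r.2]
    exact Submodule.smul_mem _ _ (by
      by_cases h : i = j - a
      · rw [← h, decompose_of_mem_same ℳ hx]; exact Submodule.mem_span_singleton_self x
      · rw [decompose_of_mem_ne ℳ hx h]; exact zero_mem _)

end Basic

section Essential
variable {ι : Type} [AddCommGroup ι] [DecidableEq ι]
  {R : Type u} [CommRing R] (𝒜 : ι → AddSubgroup R) [GradedRing 𝒜]
  {M : Type u} [AddCommGroup M] [Module R M]
  {L : Type u} [AddCommGroup L] [Module R L] (𝓛 : ι → AddSubgroup L) [DirectSum.Decomposition 𝓛]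
  [SetLike.GradedSMul 𝒜 𝓛]

include 𝒜 in
/-- a `*`essential extension with homogeneous range is essential -/
theorem essential_aux (f : M →ₗ[R] L) (hinj : Function.Injective f)
    (hess : ∀ P : Submodule R L, P.IsHomogeneous 𝓛 → P ≠ ⊥ → P ⊓ LinearMap.range f ≠ ⊥)
    (hrange : (LinearMap.range f).IsHomogeneous 𝓛) :
    InjHull.IsEssentialInj f := by
  classical
  refine ⟨hinj, ?_⟩
  -- homogeneous case
  have hhom : ∀ i, ∀ x ∈ 𝓛 i, x ≠ 0 → ∃ a, ∃ s ∈ 𝒜 a, s • x ≠ 0 ∧ s • x ∈ LinearMap.range f := by
    intro i x hx hxne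
    have hP := span_singleton_homogeneous 𝒜 𝓛 hx
    have hPne : Submodule.span R {x} ≠ ⊥ := by
      intro hbot
      exact hxne ((Submodule.eq_bot_iff _).mp hbot x (Submodule.mem_span_singleton_self x))
    obtain ⟨y, ⟨hy1, hy2⟩, hyne⟩ := Submodule.exists_mem_ne_zero_of_ne_bot (hess _ hP hPne)
    obtain ⟨r, rfl⟩ := Submodule.mem_span_singleton.mp hy1
    obtain ⟨j, hj⟩ : ∃ j, (decompose 𝓛 (r • x) j : L) ≠ 0 := by
      by_contra hcon
      push Not at hcon
      apply hyne
      rw [← DirectSum.sum_support_decompose 𝓛 (r • x)]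
      exact Finset.sum_eq_zero fun i _ => hcon i
    have hjr := hrange j hy2
    -- (r • x)_j = r_{j - i} • x
    have key : (decompose 𝓛 (r • x) j : L) = (decompose 𝒜 r (j - i) : R) • x := by
      clear hy1 hy2 hyne hj hjr
      induction r using DirectSum.Decomposition.inductionOn 𝒜 with
      | zero => simp
      | add r r' hr hr' =>
        rw [add_smul, decompose_add, DirectSum.add_apply, AddSubgroup.coe_add, hr, hr',
          decompose_add, DirectSum.add_apply, AddSubgroup.coe_add, add_smul]
      | @homogeneous a r =>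
        rw [decompose_hsmul 𝒜 𝓛 r.2]
        by_cases h : a = j - i
        · subst h
          rw [decompose_of_mem_same 𝒜 r.2]
          have : j - (j - i) = i := by abel
          rw [this, decompose_of_mem_same 𝓛 hx]
        · rw [decompose_of_mem_ne 𝒜 r.2 h, zero_smul]
          have h' : i ≠ j - a := fun hi => h (by rw [hi]; abel)
          rw [decompose_of_mem_ne 𝓛 hx h', smul_zero]
    rw [key] at hj hjr
    exact ⟨j - i, _, (decompose 𝒜 r (j - i)).2, hj, hjr⟩
  have hind : ∀ n : ℕ, ∀ x : L, (decompose 𝓛 x).support.card ≤ n → x ≠ 0 →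
      ∃ a, ∃ s ∈ 𝒜 a, s • x ≠ 0 ∧ s • x ∈ LinearMap.range f := by
    intro n
    induction n with
    | zero =>
      intro x hx hxne
      exfalso
      apply hxne
      rw [← DirectSum.sum_support_decompose 𝓛 x]
      have : (decompose 𝓛 x).support = ∅ := Finset.card_eq_zero.mp (Nat.le_zero.mp hx)
      rw [this]; simp
    | succ n ih =>
      intro x hx hxne
      obtain ⟨i, hi⟩ : ∃ i, (decompose 𝓛 x i : L) ≠ 0 := by
        by_contra hcon
        push Not at hcon
        apply hxne
        rw [← DirectSum.sum_support_decompose 𝓛 x]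
        exact Finset.sum_eq_zero fun i _ => hcon i
      obtain ⟨xi, hxi⟩ : ∃ xi : L, xi = (decompose 𝓛 x i : L) := ⟨_, rfl⟩
      have hxii : xi ∈ 𝓛 i := hxi ▸ (decompose 𝓛 x i).2
      rw [← hxi] at hi
      obtain ⟨a, s, hs, hsne, hsr⟩ := hhom i xi hxii hi
      -- z = x - xi
      have hzcomp : ∀ j, (decompose 𝓛 (x - xi) j : L) = if j = i then 0 else (decompose 𝓛 x j : L) := by
        intro j
        rw [decompose_sub, DirectSum.sub_apply, AddSubgroup.coe_sub]
        split_ifs with h
        · subst h
          rw [decompose_of_mem_same 𝓛 hxii, hxi, sub_self]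
        · rw [decompose_of_mem_ne 𝓛 hxii (Ne.symm h), sub_zero]
      by_cases hz : s • (x - xi) = 0
      · refine ⟨a, s, hs, ?_, ?_⟩
        · rw [smul_sub, sub_eq_zero] at hz
          rw [hz]; exact hsne
        · rw [smul_sub, sub_eq_zero] at hz
          rw [hz]; exact hsr
      · -- support of s • (x - xi) has card ≤ n
        have hsupp : (decompose 𝓛 (s • (x - xi))).support.card ≤ n := by
          have hsub : (decompose 𝓛 (s • (x - xi))).support ⊆
              ((decompose 𝓛 x).support.erase i).image (fun j => j + a) := by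
            intro j hj
            rw [DFinsupp.mem_support_iff] at hj
            have hj' : (decompose 𝓛 (s • (x - xi)) j : L) ≠ 0 := fun h0 => hj (Subtype.ext h0)
            rw [decompose_hsmul 𝒜 𝓛 hs, hzcomp] at hj'
            rw [Finset.mem_image]
            refine ⟨j - a, ?_, by abel⟩
            rw [Finset.mem_erase, DFinsupp.mem_support_iff]
            split_ifs at hj' with h
            · simp at hj'
            · refine ⟨h, fun h0 => hj' ?_⟩
              rw [h0]; simp
          calc (decompose 𝓛 (s • (x - xi))).support.card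
              ≤ (((decompose 𝓛 x).support.erase i).image (fun j => j + a)).card :=
                Finset.card_le_card hsub
            _ ≤ ((decompose 𝓛 x).support.erase i).card := Finset.card_image_le
            _ ≤ n := by
                have hmem : i ∈ (decompose 𝓛 x).support := by
                  rw [DFinsupp.mem_support_iff]
                  intro h0
                  apply hi
                  rw [hxi, h0]; rfl
                rw [Finset.card_erase_of_mem hmem]
                omega
        obtain ⟨b, t, ht, htne, htr⟩ := ih _ hsupp hz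
        have hts : t * s ∈ 𝒜 (b + a) := SetLike.GradedMul.mul_mem ht hs
        refine ⟨b + a, t * s, hts, ?_, ?_⟩
        · -- nonzero
          obtain ⟨j, hj⟩ : ∃ j, (decompose 𝓛 (t • s • (x - xi)) j : L) ≠ 0 := by
            by_contra hcon
            push Not at hcon
            apply htne
            rw [← DirectSum.sum_support_decompose 𝓛 (t • s • (x - xi))]
            exact Finset.sum_eq_zero fun i _ => hcon i
          rw [smul_smul, decompose_hsmul 𝒜 𝓛 hts, hzcomp] at hj
          intro h0
          apply hj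
          split_ifs with h
          · simp
          · have := congrArg (fun y => (decompose 𝓛 y j : L)) h0
            simp only [decompose_zero] at this
            rw [decompose_hsmul 𝒜 𝓛 hts] at this
            rw [this]; rfl
        · have : (t * s) • x = t • s • (x - xi) + t • s • xi := by
            rw [← smul_add, ← smul_add, sub_add_cancel, smul_smul]
          rw [this]
          exact add_mem htr (Submodule.smul_mem _ t hsr)
  intro P hPne
  obtain ⟨x, hxP, hxne⟩ := Submodule.exists_mem_ne_zero_of_ne_bot hPne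
  obtain ⟨a, s, _, hsne, hsr⟩ := hind _ x le_rfl hxne
  intro hbot
  exact hsne ((Submodule.eq_bot_iff _).mp hbot _ ⟨P.smul_mem s hxP, hsr⟩)


include 𝒜 in
theorem essential_of_starEss (ℳ : ι → AddSubgroup M) [DirectSum.Decomposition ℳ]
    (f : M →ₗ[R] L) (hf : GrLC.IsStarEss ℳ 𝓛 f) :
    InjHull.IsEssentialInj f :=
  essential_aux 𝒜 𝓛 f hf.injective hf.essential (range_homogeneous ℳ 𝓛 f hf.grHom)

theorem range_quot_homogeneous (p : HomogeneousIdeal 𝒜) (e : (R ⧸ p.toIdeal) →ₗ[R] L)
    (hegr : GrLC.IsGrHom (GrLC.quotGr 𝒜 p) 𝓛 e) : (LinearMap.range e).IsHomogeneous 𝓛 := by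
  rintro j _ ⟨a, rfl⟩
  obtain ⟨a', rfl⟩ := Ideal.Quotient.mk_surjective a
  refine ⟨Ideal.Quotient.mk p.toIdeal (decompose 𝒜 a' j : R), ?_⟩
  induction a' using DirectSum.Decomposition.inductionOn 𝒜 with
  | zero => simp
  | add x y hx hy =>
    rw [decompose_add, DirectSum.add_apply, AddSubgroup.coe_add, map_add, map_add, hx, hy, map_add,
      map_add, decompose_add, DirectSum.add_apply, AddSubgroup.coe_add]
  | @homogeneous i x =>
    have hmem : e (Ideal.Quotient.mk p.toIdeal (x : R)) ∈ 𝓛 i := hegr i _ ⟨x, x.2, rfl⟩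
    by_cases h : i = j
    · subst h
      rw [decompose_of_mem_same 𝒜 x.2, decompose_of_mem_same 𝓛 hmem]
    · rw [decompose_of_mem_ne 𝒜 x.2 h, decompose_of_mem_ne 𝓛 hmem h, map_zero, map_zero]

theorem essential_of_starEss_quot (p : HomogeneousIdeal 𝒜) (e : (R ⧸ p.toIdeal) →ₗ[R] L)
    (he : GrLC.IsStarEss (GrLC.quotGr 𝒜 p) 𝓛 e) : InjHull.IsEssentialInj e :=
  essential_aux 𝒜 𝓛 e he.injective he.essential (range_quot_homogeneous 𝒜 𝓛 p e he.grHom)

end Essential

end Groth.Agent.H21.StarInj
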