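import Mathlib
import Groth.Prelude.Def_GrLC
import Groth.Agent.H21.StarInj

set_option autoImplicit false
universe u
open DirectSum

namespace Groth.Agent.H21.GrCofree
open Groth.Agent.H21.StarInj

section
variable {ι : Type} [AddCommGroup ι] [DecidableEq ι]
  {R : Type u} [CommRing R] (𝒜 : ι → AddSubgroup R) [GradedRing 𝒜]
  (I : Type u) [AddCommGroup I] [Module R I]

/-- graded scalar multiplication on the constant family -/
instance gmod : DirectSum.Gmodule (fun i => 𝒜 i) (fun _ : ι => I) where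
  smul := fun a x => (a : R) • x
  one_smul := fun ⟨i, x⟩ => Sigma.ext (zero_vadd ι i) (heq_of_eq (one_smul R x))
  mul_smul := fun ⟨i, a⟩ ⟨j, b⟩ ⟨k, x⟩ =>
    Sigma.ext (add_vadd i j k) (heq_of_eq (mul_smul (a : R) (b : R) x))
  smul_add := fun a x y => smul_add (a : R) x y
  smul_zero := fun a => smul_zero (a : R)
  add_smul := fun a b x => add_smul (a : R) (b : R) x
  zero_smul := fun x => zero_smul R x

/-- the cofree graded module on `I` -/
def FI (_𝒜 : ι → AddSubgroup R) (I : Type u) [AddCommGroup I] : Type u := ⨁ _ : ι, I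

instance : AddCommGroup (FI 𝒜 I) := inferInstanceAs (AddCommGroup (⨁ _ : ι, I))

noncomputable instance : Module R (FI 𝒜 I) :=
  Module.compHom (⨁ _ : ι, I) (DirectSum.decomposeRingEquiv 𝒜 : R ≃+* ⨁ i, 𝒜 i).toRingHom

/-- inclusion of the degree `g` copy -/
def ofI (g : ι) : I →+ FI 𝒜 I := DirectSum.of (fun _ : ι => I) g

theorem smul_def' (r : R) (z : FI 𝒜 I) :
    r • z = ((decompose 𝒜 r : ⨁ i, 𝒜 i) • (show ⨁ _ : ι, I from z) : ⨁ _ : ι, I) := rfl

theorem smul_ofI {h : ι} {r : R} (hr : r ∈ 𝒜 h) (g : ι) (x : I) :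
    r • ofI 𝒜 I g x = ofI 𝒜 I (h + g) (r • x) := by
  rw [smul_def', decompose_of_mem 𝒜 hr]
  exact DirectSum.Gmodule.of_smul_of _ _ _ _

@[elab_as_elim]
theorem FI_induction {p : FI 𝒜 I → Prop} (z : FI 𝒜 I) (h0 : p 0)
    (hof : ∀ g x, p (ofI 𝒜 I g x)) (hadd : ∀ z z', p z → p z' → p (z + z')) : p z :=
  DirectSum.induction_on (motive := p) z h0 hof hadd

/-- pieces -/
def piece (g : ι) : AddSubgroup (FI 𝒜 I) := (ofI 𝒜 I g).range

theorem mem_piece (g : ι) (z : FI 𝒜 I) : z ∈ piece 𝒜 I g ↔ ∃ x, ofI 𝒜 I g x = z := Iff.rfl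

/-- corestriction to the piece -/
def toPiece (g : ι) : I →+ piece 𝒜 I g where
  toFun x := ⟨ofI 𝒜 I g x, ⟨x, rfl⟩⟩
  map_zero' := by ext; simp
  map_add' x y := by ext; simp

/-- decomposition map -/
def Dc : FI 𝒜 I →+ ⨁ g, piece 𝒜 I g :=
  DirectSum.map (toPiece 𝒜 I)

theorem Dc_ofI (g : ι) (x : I) :
    Dc 𝒜 I (ofI 𝒜 I g x) = DirectSum.of (fun g => piece 𝒜 I g) g ⟨ofI 𝒜 I g x, ⟨x, rfl⟩⟩ := by
  show DirectSum.map _ (DirectSum.of (fun _ : ι => I) g x) = _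
  rw [DirectSum.map_of]; rfl

noncomputable instance decomp : DirectSum.Decomposition (piece 𝒜 I) where
  decompose' z := Dc 𝒜 I z
  left_inv z := by
    beta_reduce
    induction z using FI_induction with
    | h0 => simp
    | hof g x => rw [Dc_ofI, DirectSum.coeAddMonoidHom_of]
    | hadd z z' hz hz' => rw [map_add, map_add, hz, hz']
  right_inv w := by
    beta_reduce
    induction w using DirectSum.induction_on with
    | zero => simp
    | of g y =>
      obtain ⟨y, x, rfl⟩ := y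
      rw [DirectSum.coeAddMonoidHom_of, Dc_ofI]
    | add w w' hw hw' => rw [map_add, map_add, hw, hw']

instance gsmul : SetLike.GradedSMul 𝒜 (piece 𝒜 I) where
  smul_mem := by
    rintro h g r _ hr ⟨x, rfl⟩
    exact ⟨r • x, (smul_ofI 𝒜 I hr g x).symm⟩

/-- the counit -/
def counitAdd : FI 𝒜 I →+ I := DirectSum.toAddMonoid (fun _ : ι => AddMonoidHom.id I)

theorem counitAdd_ofI (g : ι) (x : I) : counitAdd 𝒜 I (ofI 𝒜 I g x) = x := by
  show DirectSum.toAddMonoid _ (DirectSum.of (fun _ : ι => I) g x) = x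
  rw [DirectSum.toAddMonoid_of]; rfl

theorem counitAdd_smul (r : R) (z : FI 𝒜 I) : counitAdd 𝒜 I (r • z) = r • counitAdd 𝒜 I z := by
  induction z using FI_induction with
  | h0 => simp
  | hadd z z' hz hz' => rw [smul_add, map_add, hz, hz', map_add, smul_add]
  | hof g x =>
    induction r using DirectSum.Decomposition.inductionOn 𝒜 with
    | zero => simp
    | add r r' hr hr' => rw [add_smul, map_add, hr, hr', add_smul]
    | @homogeneous h r => rw [smul_ofI 𝒜 I r.2, counitAdd_ofI, counitAdd_ofI]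

/-- the counit as a linear map -/
def counit : FI 𝒜 I →ₗ[R] I where
  toFun := counitAdd 𝒜 I
  map_add' := map_add _
  map_smul' r z := counitAdd_smul 𝒜 I r z

theorem counit_ofI (g : ι) (x : I) : counit 𝒜 I (ofI 𝒜 I g x) = x := counitAdd_ofI 𝒜 I g x

theorem eq_ofI_counit {g : ι} {z : FI 𝒜 I} (hz : z ∈ piece 𝒜 I g) :
    z = ofI 𝒜 I g (counit 𝒜 I z) := by
  obtain ⟨x, rfl⟩ := hz
  rw [counit_ofI]

end

section Lift
variable {ι : Type} [AddCommGroup ι] [DecidableEq ι]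
  {R : Type u} [CommRing R] (𝒜 : ι → AddSubgroup R) [GradedRing 𝒜]
  (I : Type u) [AddCommGroup I] [Module R I]
  {N : Type u} [AddCommGroup N] [Module R N] (𝒩 : ι → AddSubgroup N) [DirectSum.Decomposition 𝒩]
  [SetLike.GradedSMul 𝒜 𝒩]

/-- the graded lift of a linear map `N → I`, additive version -/
def liftAdd (φ : N →ₗ[R] I) : N →+ FI 𝒜 I :=
  (DirectSum.toAddMonoid (fun g => (ofI 𝒜 I g).comp (φ.toAddMonoidHom.comp (𝒩 g).subtype))).comp
    (decomposeAddEquiv 𝒩).toAddMonoidHom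

theorem liftAdd_of_mem (φ : N →ₗ[R] I) {g : ι} {n : N} (hn : n ∈ 𝒩 g) :
    liftAdd 𝒜 I 𝒩 φ n = ofI 𝒜 I g (φ n) := by
  show DirectSum.toAddMonoid _ (decompose 𝒩 n) = _
  rw [decompose_of_mem 𝒩 hn, DirectSum.toAddMonoid_of]; rfl

theorem liftAdd_smul (φ : N →ₗ[R] I) (r : R) (n : N) :
    liftAdd 𝒜 I 𝒩 φ (r • n) = r • liftAdd 𝒜 I 𝒩 φ n := by
  induction n using DirectSum.Decomposition.inductionOn 𝒩 with
  | zero => simp
  | add n n' hn hn' => rw [smul_add, map_add, hn, hn', map_add, smul_add]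
  | @homogeneous g n =>
    induction r using DirectSum.Decomposition.inductionOn 𝒜 with
    | zero => simp
    | add r r' hr hr' => rw [add_smul, map_add, hr, hr', add_smul]
    | @homogeneous h r =>
      have hmem : (r : R) • (n : N) ∈ 𝒩 (h + g) :=
        SetLike.GradedSMul.smul_mem (A := 𝒜) (B := 𝒩) r.2 n.2
      rw [liftAdd_of_mem 𝒜 I 𝒩 φ hmem, liftAdd_of_mem 𝒜 I 𝒩 φ n.2, smul_ofI 𝒜 I r.2, map_smul]

/-- the graded lift -/
def lift (φ : N →ₗ[R] I) : N →ₗ[R] FI 𝒜 I where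
  toFun := liftAdd 𝒜 I 𝒩 φ
  map_add' := map_add _
  map_smul' r n := liftAdd_smul 𝒜 I 𝒩 φ r n

theorem lift_of_mem (φ : N →ₗ[R] I) {g : ι} {n : N} (hn : n ∈ 𝒩 g) :
    lift 𝒜 I 𝒩 φ n = ofI 𝒜 I g (φ n) := liftAdd_of_mem 𝒜 I 𝒩 φ hn

theorem lift_grHom (φ : N →ₗ[R] I) : GrLC.IsGrHom 𝒩 (piece 𝒜 I) (lift 𝒜 I 𝒩 φ) := by
  intro g n hn
  rw [lift_of_mem 𝒜 I 𝒩 φ hn]
  exact ⟨_, rfl⟩

theorem counit_lift (φ : N →ₗ[R] I) (n : N) : counit 𝒜 I (lift 𝒜 I 𝒩 φ n) = φ n := by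
  induction n using DirectSum.Decomposition.inductionOn 𝒩 with
  | zero => simp
  | add n n' hn hn' => rw [map_add, map_add, hn, hn', map_add]
  | @homogeneous g n => rw [lift_of_mem 𝒜 I 𝒩 φ n.2, counit_ofI]

theorem lift_counit_comp (Ψ : N →ₗ[R] FI 𝒜 I) (hΨ : GrLC.IsGrHom 𝒩 (piece 𝒜 I) Ψ) :
    lift 𝒜 I 𝒩 (counit 𝒜 I ∘ₗ Ψ) = Ψ := by
  ext n
  induction n using DirectSum.Decomposition.inductionOn 𝒩 with
  | zero => simp
  | add n n' hn hn' => rw [map_add, map_add, hn, hn']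
  | @homogeneous g n =>
    rw [lift_of_mem 𝒜 I 𝒩 _ n.2]
    exact (eq_ofI_counit 𝒜 I (hΨ g n n.2)).symm

theorem lift_injective (φ : N →ₗ[R] I) (hφ : Function.Injective φ) :
    Function.Injective (lift 𝒜 I 𝒩 φ) := by
  rw [injective_iff_map_eq_zero]
  intro n hn
  -- each component vanishes
  have hcomp : ∀ g, (decompose 𝒩 n g : N) = 0 := by
    intro g
    apply hφ
    rw [map_zero]
    have h1 := grHom_decompose 𝒩 (piece 𝒜 I) (lift 𝒜 I 𝒩 φ) (lift_grHom 𝒜 I 𝒩 φ) n g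
    rw [hn, decompose_zero, DirectSum.zero_apply, ZeroMemClass.coe_zero] at h1
    have h2 := counit_lift 𝒜 I 𝒩 φ (decompose 𝒩 n g : N)
    rw [← h2, ← h1, map_zero]
  classical
  rw [← DirectSum.sum_support_decompose 𝒩 n]
  exact Finset.sum_eq_zero fun g _ => hcomp g

end Lift

section StarInj
variable {ι : Type} [AddCommGroup ι] [DecidableEq ι]
  {R : Type u} [CommRing R] (𝒜 : ι → AddSubgroup R) [GradedRing 𝒜]
  (I : Type u) [AddCommGroup I] [Module R I]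

theorem starInj [Module.Injective R I] : GrLC.IsStarInj 𝒜 (piece 𝒜 I) := by
  intro A B f hfgr hfinj g hggr
  obtain ⟨ψ, hψ⟩ := Module.Injective.out (R := R) (Q := I) f hfinj (counit 𝒜 I ∘ₗ g)
  refine ⟨lift 𝒜 I B.gr ψ, lift_grHom 𝒜 I B.gr ψ, ?_⟩
  rw [← lift_counit_comp 𝒜 I A.gr g hggr]
  ext a
  induction a using DirectSum.Decomposition.inductionOn A.gr with
  | zero => simp
  | add a a' ha ha' => rw [map_add, map_add, ha, ha']
  | @homogeneous i a =>
    show lift 𝒜 I B.gr ψ (f a) = lift 𝒜 I A.gr (counit 𝒜 I ∘ₗ g) a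
    rw [lift_of_mem 𝒜 I B.gr ψ (hfgr i a a.2), lift_of_mem 𝒜 I A.gr _ a.2, hψ]

/-- enough `*`injectives -/
theorem exists_starInj_embedding {M : Type u} [AddCommGroup M] [Module R M] (ℳ : ι → AddSubgroup M)
    [DirectSum.Decomposition ℳ] [SetLike.GradedSMul 𝒜 ℳ] :
    ∃ (E : GrLC.GMod.{u} 𝒜) (f : M →ₗ[R] E.carrier), GrLC.IsStarInj 𝒜 E.gr ∧
      GrLC.IsGrHom ℳ E.gr f ∧ Function.Injective f := by
  haveI : CategoryTheory.EnoughInjectives (ModuleCat.{u} R) := inferInstance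
  obtain ⟨⟨J, hJ, e, he⟩⟩ := CategoryTheory.EnoughInjectives.presentation (ModuleCat.of R M)
  haveI : Module.Injective R J := Module.injective_module_of_injective_object R J
  refine ⟨⟨FI 𝒜 J, piece 𝒜 J⟩, lift 𝒜 J ℳ e.hom, starInj 𝒜 J, lift_grHom 𝒜 J ℳ e.hom, ?_⟩
  exact lift_injective 𝒜 J ℳ e.hom ((ModuleCat.mono_iff_injective e).mp he)

end StarInj

end Groth.Agent.H21.GrCofree
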