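import Mathlib
import Groth.Prelude.Def_GrLC
import Groth.Agent.H21.StarInj

set_option autoImplicit false
universe u
open DirectSum

namespace Groth.Agent.H21.GrInfra
open Groth.Agent.H21.StarInj

section Quot
variable {ι : Type} [AddCommGroup ι] [DecidableEq ι]
  {R : Type u} [CommRing R] (𝒜 : ι → AddSubgroup R) [GradedRing 𝒜]
  {P : Type u} [AddCommGroup P] [Module R P] (𝓟 : ι → AddSubgroup P) [DirectSum.Decomposition 𝓟]
  [SetLike.GradedSMul 𝒜 𝓟] (K : Submodule R P)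

/-- pieces of the quotient -/
def quotPiece (i : ι) : AddSubgroup (P ⧸ K) := (𝓟 i).map (K.mkQ : P →ₗ[R] P ⧸ K).toAddMonoidHom

omit [AddCommGroup ι] [DecidableEq ι] [DirectSum.Decomposition 𝓟] in
theorem mem_quotPiece (i : ι) (y : P ⧸ K) : y ∈ quotPiece 𝓟 K i ↔ ∃ x ∈ 𝓟 i, K.mkQ x = y := Iff.rfl

/-- the restriction of the quotient map to a piece -/
def φq (i : ι) : 𝓟 i →+ quotPiece 𝓟 K i where
  toFun x := ⟨K.mkQ x, ⟨x, x.2, rfl⟩⟩
  map_zero' := by ext; simp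
  map_add' x y := by ext; simp

/-- the decomposition map before passing to the quotient -/
def Dq : P →+ ⨁ i, quotPiece 𝓟 K i :=
  (DirectSum.map (φq 𝓟 K)).comp (decomposeAddEquiv 𝓟).toAddMonoidHom

theorem Dq_apply (x : P) (i : ι) : ((Dq 𝓟 K x) i : P ⧸ K) = K.mkQ (decompose 𝓟 x i : P) := by
  show ((DirectSum.map (φq 𝓟 K) (decompose 𝓟 x)) i : P ⧸ K) = _
  rw [DirectSum.map_apply]; rfl

theorem Dq_of_mem (hK : K.IsHomogeneous 𝓟) {x : P} (hx : x ∈ K) : Dq 𝓟 K x = 0 := by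
  ext i
  rw [Dq_apply, DirectSum.zero_apply, ZeroMemClass.coe_zero]
  exact (Submodule.Quotient.mk_eq_zero K).mpr (hK i hx)

theorem coe_Dq (x : P) : DirectSum.coeAddMonoidHom (quotPiece 𝓟 K) (Dq 𝓟 K x) = K.mkQ x := by
  induction x using DirectSum.Decomposition.inductionOn 𝓟 with
  | zero => simp
  | add x y hx hy => rw [map_add, map_add, hx, hy, map_add]
  | @homogeneous i x =>
    show DirectSum.coeAddMonoidHom (quotPiece 𝓟 K) (DirectSum.map (φq 𝓟 K) (decompose 𝓟 (x : P))) = _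
    rw [decompose_coe, DirectSum.map_of, DirectSum.coeAddMonoidHom_of]; rfl

theorem Dq_eq_of_mk_eq (hK : K.IsHomogeneous 𝓟) {x x' : P} (h : K.mkQ x = K.mkQ x') :
    Dq 𝓟 K x = Dq 𝓟 K x' := by
  rw [← sub_eq_zero, ← map_sub]
  apply Dq_of_mem 𝓟 K hK
  rw [← Submodule.Quotient.mk_eq_zero K]
  have : K.mkQ (x - x') = 0 := by rw [map_sub, h, sub_self]
  exact this

noncomputable def quotDecomp (hK : K.IsHomogeneous 𝓟) : DirectSum.Decomposition (quotPiece 𝓟 K) where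
  decompose' y := Dq 𝓟 K (Quotient.out y)
  left_inv y := by
    beta_reduce
    rw [coe_Dq]
    exact Quotient.out_eq y
  right_inv z := by
    beta_reduce
    have hex : ∃ x : P, K.mkQ x = DirectSum.coeAddMonoidHom (quotPiece 𝓟 K) z ∧ Dq 𝓟 K x = z := by
      induction z using DirectSum.induction_on with
      | zero => exact ⟨0, by simp, by simp⟩
      | of i y =>
        obtain ⟨x, hx, hxy⟩ := y.2
        refine ⟨x, ?_, ?_⟩
        · rw [DirectSum.coeAddMonoidHom_of]; exact hxy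
        · show DirectSum.map (φq 𝓟 K) (decompose 𝓟 x) = _
          rw [decompose_of_mem 𝓟 hx, DirectSum.map_of]
          congr 1
          exact Subtype.ext hxy
      | add z z' hz hz' =>
        obtain ⟨x, hx1, hx2⟩ := hz
        obtain ⟨x', hx1', hx2'⟩ := hz'
        exact ⟨x + x', by rw [map_add, map_add, hx1, hx1'], by rw [map_add, hx2, hx2']⟩
    obtain ⟨x, hx1, hx2⟩ := hex
    have h3 : K.mkQ (Quotient.out (DirectSum.coeAddMonoidHom (quotPiece 𝓟 K) z)) = K.mkQ x := by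
      rw [hx1]; exact Quotient.out_eq _
    rw [Dq_eq_of_mk_eq 𝓟 K hK h3, hx2]

theorem quot_decompose (hK : K.IsHomogeneous 𝓟) (x : P) (i : ι) :
    ((@decompose ι (P ⧸ K) _ _ _ _ _ (quotPiece 𝓟 K) (quotDecomp 𝓟 K hK) (K.mkQ x)) i : P ⧸ K)
      = K.mkQ (decompose 𝓟 x i : P) := by
  show ((Dq 𝓟 K (Quotient.out (K.mkQ x))) i : P ⧸ K) = _
  rw [Dq_eq_of_mk_eq 𝓟 K hK (x := Quotient.out (K.mkQ x)) (x' := x) (Quotient.out_eq _), Dq_apply]

include 𝒜 in
theorem quotGSMul : SetLike.GradedSMul 𝒜 (quotPiece 𝓟 K) where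
  smul_mem := by
    rintro i j r _ hr ⟨x, hx, rfl⟩
    refine ⟨r • x, ?_, ?_⟩
    · exact SetLike.GradedSMul.smul_mem (A := 𝒜) (B := 𝓟) hr hx
    · simp

theorem mkQ_grHom : GrLC.IsGrHom 𝓟 (quotPiece 𝓟 K) K.mkQ := fun i x hx => ⟨x, hx, rfl⟩

end Quot

section Prod
variable {ι : Type} [AddCommGroup ι] [DecidableEq ι]
  {R : Type u} [CommRing R] (𝒜 : ι → AddSubgroup R) [GradedRing 𝒜]
  {M : Type u} [AddCommGroup M] [Module R M] (ℳ : ι → AddSubgroup M) [DirectSum.Decomposition ℳ]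
  [SetLike.GradedSMul 𝒜 ℳ]
  {B : Type u} [AddCommGroup B] [Module R B] (𝓑 : ι → AddSubgroup B) [DirectSum.Decomposition 𝓑]
  [SetLike.GradedSMul 𝒜 𝓑]

def prodPiece (i : ι) : AddSubgroup (M × B) := (ℳ i).prod (𝓑 i)

omit [AddCommGroup ι] [DecidableEq ι] [DirectSum.Decomposition ℳ] [DirectSum.Decomposition 𝓑] in
theorem mem_prodPiece (i : ι) (z : M × B) : z ∈ prodPiece ℳ 𝓑 i ↔ z.1 ∈ ℳ i ∧ z.2 ∈ 𝓑 i := Iff.rfl

def inlP (i : ι) : ℳ i →+ prodPiece ℳ 𝓑 i where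
  toFun x := ⟨((x : M), 0), ⟨x.2, zero_mem _⟩⟩
  map_zero' := by ext <;> simp
  map_add' x y := by ext <;> simp

def inrP (i : ι) : 𝓑 i →+ prodPiece ℳ 𝓑 i where
  toFun y := ⟨(0, (y : B)), ⟨zero_mem _, y.2⟩⟩
  map_zero' := by ext <;> simp
  map_add' x y := by ext <;> simp

def Dp : M × B →+ ⨁ i, prodPiece ℳ 𝓑 i :=
  ((DirectSum.map (inlP ℳ 𝓑)).comp (decomposeAddEquiv ℳ).toAddMonoidHom).comp (AddMonoidHom.fst M B) +
  ((DirectSum.map (inrP ℳ 𝓑)).comp (decomposeAddEquiv 𝓑).toAddMonoidHom).comp (AddMonoidHom.snd M B)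

theorem Dp_apply (z : M × B) : Dp ℳ 𝓑 z =
    DirectSum.map (inlP ℳ 𝓑) (decompose ℳ z.1) + DirectSum.map (inrP ℳ 𝓑) (decompose 𝓑 z.2) := rfl

theorem coe_map_inl (w : ⨁ i, ℳ i) :
    DirectSum.coeAddMonoidHom (prodPiece ℳ 𝓑) (DirectSum.map (inlP ℳ 𝓑) w)
      = (DirectSum.coeAddMonoidHom ℳ w, 0) := by
  induction w using DirectSum.induction_on with
  | zero => simp only [map_zero]; rfl
  | of i x => rw [DirectSum.map_of, DirectSum.coeAddMonoidHom_of, DirectSum.coeAddMonoidHom_of]; rfl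
  | add w w' hw hw' => rw [map_add, map_add, hw, hw', map_add]; simp

theorem coe_map_inr (w : ⨁ i, 𝓑 i) :
    DirectSum.coeAddMonoidHom (prodPiece ℳ 𝓑) (DirectSum.map (inrP ℳ 𝓑) w)
      = (0, DirectSum.coeAddMonoidHom 𝓑 w) := by
  induction w using DirectSum.induction_on with
  | zero => simp only [map_zero]; rfl
  | of i x => rw [DirectSum.map_of, DirectSum.coeAddMonoidHom_of, DirectSum.coeAddMonoidHom_of]; rfl
  | add w w' hw hw' => rw [map_add, map_add, hw, hw', map_add]; simp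

noncomputable def prodDecomp : DirectSum.Decomposition (prodPiece ℳ 𝓑) where
  decompose' z := Dp ℳ 𝓑 z
  left_inv z := by
    beta_reduce
    rw [Dp_apply, map_add, coe_map_inl, coe_map_inr]
    have h1 : DirectSum.coeAddMonoidHom ℳ (decompose ℳ z.1) = z.1 := (decompose ℳ).symm_apply_apply z.1
    have h2 : DirectSum.coeAddMonoidHom 𝓑 (decompose 𝓑 z.2) = z.2 := (decompose 𝓑).symm_apply_apply z.2
    rw [h1, h2]; simp
  right_inv w := by
    beta_reduce
    induction w using DirectSum.induction_on with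
    | zero => simp
    | of i z =>
      rw [DirectSum.coeAddMonoidHom_of, Dp_apply, decompose_of_mem ℳ z.2.1, decompose_of_mem 𝓑 z.2.2,
        DirectSum.map_of, DirectSum.map_of, ← map_add]
      congr 1
      ext <;> simp [inlP, inrP]
    | add w w' hw hw' => rw [map_add, map_add, hw, hw']

theorem prod_decompose (z : M × B) (i : ι) :
    ((@decompose ι (M × B) _ _ _ _ _ (prodPiece ℳ 𝓑) (prodDecomp ℳ 𝓑) z) i : M × B)
      = ((decompose ℳ z.1 i : M), (decompose 𝓑 z.2 i : B)) := by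
  show ((Dp ℳ 𝓑 z) i : M × B) = _
  rw [Dp_apply, DirectSum.add_apply, AddSubgroup.coe_add, DirectSum.map_apply, DirectSum.map_apply]
  simp [inlP, inrP]

include 𝒜 in
theorem prodGSMul : SetLike.GradedSMul 𝒜 (prodPiece ℳ 𝓑) where
  smul_mem := by
    rintro i j r z hr ⟨hz1, hz2⟩
    exact ⟨SetLike.GradedSMul.smul_mem (A := 𝒜) (B := ℳ) hr hz1,
      SetLike.GradedSMul.smul_mem (A := 𝒜) (B := 𝓑) hr hz2⟩

end Prod

end Groth.Agent.H21.GrInfra
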