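import Mathlib
import Groth.Prelude.Def_GrLC
import Groth.Agent.H21.StarInj

set_option autoImplicit false
universe u
open DirectSum

namespace Groth.Agent.H21.GrInfra2
open Groth.Agent.H21.StarInj

section MapComap
variable {ι : Type} [AddCommGroup ι] [DecidableEq ι]
  {R : Type u} [CommRing R]
  {M : Type u} [AddCommGroup M] [Module R M] (ℳ : ι → AddSubgroup M) [DirectSum.Decomposition ℳ]
  {N : Type u} [AddCommGroup N] [Module R N] (𝒩 : ι → AddSubgroup N) [DirectSum.Decomposition 𝒩]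

theorem map_homogeneous (f : M →ₗ[R] N) (hf : GrLC.IsGrHom ℳ 𝒩 f) (P : Submodule R M)
    (hP : P.IsHomogeneous ℳ) : (P.map f).IsHomogeneous 𝒩 := by
  rintro i _ ⟨x, hx, rfl⟩
  rw [grHom_decompose ℳ 𝒩 f hf x i]
  exact ⟨_, hP i hx, rfl⟩

theorem comap_homogeneous (f : M →ₗ[R] N) (hf : GrLC.IsGrHom ℳ 𝒩 f) (Q : Submodule R N)
    (hQ : Q.IsHomogeneous 𝒩) : (Q.comap f).IsHomogeneous ℳ := by
  intro i x hx
  show f (decompose ℳ x i : M) ∈ Q
  rw [← grHom_decompose ℳ 𝒩 f hf x i]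
  exact hQ i hx

omit [AddCommGroup ι] in
theorem inf_homogeneous (P Q : Submodule R M) (hP : P.IsHomogeneous ℳ) (hQ : Q.IsHomogeneous ℳ) :
    (P ⊓ Q).IsHomogeneous ℳ := fun i _ hx => ⟨hP i hx.1, hQ i hx.2⟩

omit [AddCommGroup ι] in
/-- a nonzero homogeneous submodule contains a nonzero homogeneous element -/
theorem exists_homogeneous_ne_zero (P : Submodule R M) (hP : P.IsHomogeneous ℳ) (hne : P ≠ ⊥) :
    ∃ i, ∃ x ∈ P, x ∈ ℳ i ∧ x ≠ 0 := by
  classical
  obtain ⟨y, hy, hyne⟩ := Submodule.exists_mem_ne_zero_of_ne_bot hne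
  by_contra hcon
  push Not at hcon
  apply hyne
  rw [← DirectSum.sum_support_decompose ℳ y]
  exact Finset.sum_eq_zero fun i _ => hcon i _ (hP i hy) (decompose ℳ y i).2

end MapComap

section Sub
variable {ι : Type} [AddCommGroup ι] [DecidableEq ι]
  {R : Type u} [CommRing R] (𝒜 : ι → AddSubgroup R) [GradedRing 𝒜]
  {P : Type u} [AddCommGroup P] [Module R P] (𝓟 : ι → AddSubgroup P) [DirectSum.Decomposition 𝓟]
  [SetLike.GradedSMul 𝒜 𝓟] (X : Submodule R P)

/-- pieces of a submodule -/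
def subPiece (i : ι) : AddSubgroup ↥X := (𝓟 i).comap (X.subtype : ↥X →ₗ[R] P).toAddMonoidHom

omit [AddCommGroup ι] [DecidableEq ι] [DirectSum.Decomposition 𝓟] in
theorem mem_subPiece (i : ι) (x : ↥X) : x ∈ subPiece 𝓟 X i ↔ (x : P) ∈ 𝓟 i := Iff.rfl

/-- inclusion of a piece -/
def inclS (i : ι) : subPiece 𝓟 X i →+ 𝓟 i where
  toFun x := ⟨((x : ↥X) : P), x.2⟩
  map_zero' := by ext; simp
  map_add' x y := by ext; simp

theorem coe_coe_sub (w : ⨁ i, subPiece 𝓟 X i) :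
    ((DirectSum.coeAddMonoidHom (subPiece 𝓟 X) w : ↥X) : P)
      = DirectSum.coeAddMonoidHom 𝓟 (DirectSum.map (inclS 𝓟 X) w) := by
  induction w using DirectSum.induction_on with
  | zero => simp
  | of i x => rw [DirectSum.map_of, DirectSum.coeAddMonoidHom_of, DirectSum.coeAddMonoidHom_of]; rfl
  | add w w' hw hw' => rw [map_add, map_add, map_add, Submodule.coe_add, hw, hw']

open Classical in
/-- decomposition function -/
noncomputable def DsFun (hX : X.IsHomogeneous 𝓟) (x : ↥X) : ⨁ i, subPiece 𝓟 X i :=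
  DirectSum.mk (fun i => subPiece 𝓟 X i) (decompose 𝓟 (x : P)).support
    (fun i => ⟨⟨(decompose 𝓟 (x : P) i : P), hX i x.2⟩, (decompose 𝓟 (x : P) i).2⟩)

theorem DsFun_apply (hX : X.IsHomogeneous 𝓟) (x : ↥X) (i : ι) :
    (((DsFun 𝓟 X hX x) i : ↥X) : P) = (decompose 𝓟 (x : P) i : P) := by
  classical
  by_cases h : i ∈ (decompose 𝓟 (x : P)).support
  · rw [DsFun, DirectSum.mk_apply_of_mem (β := fun i => subPiece 𝓟 X i) h]
  · rw [DsFun, DirectSum.mk_apply_of_notMem (β := fun i => subPiece 𝓟 X i) h]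
    rw [DFinsupp.notMem_support_iff] at h
    rw [h]; rfl

theorem map_DsFun (hX : X.IsHomogeneous 𝓟) (x : ↥X) :
    DirectSum.map (inclS 𝓟 X) (DsFun 𝓟 X hX x) = decompose 𝓟 (x : P) := by
  ext i
  rw [DirectSum.map_apply]
  exact DsFun_apply 𝓟 X hX x i

noncomputable def subDecomp (hX : X.IsHomogeneous 𝓟) : DirectSum.Decomposition (subPiece 𝓟 X) where
  decompose' x := DsFun 𝓟 X hX x
  left_inv x := by
    beta_reduce
    apply Subtype.ext
    rw [coe_coe_sub, map_DsFun]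
    exact (decompose 𝓟).symm_apply_apply (x : P)
  right_inv w := by
    beta_reduce
    have h1 : decompose 𝓟 ((DirectSum.coeAddMonoidHom (subPiece 𝓟 X) w : ↥X) : P)
        = DirectSum.map (inclS 𝓟 X) w := by
      rw [coe_coe_sub]
      exact (decompose 𝓟).apply_symm_apply _
    ext i
    rw [DsFun_apply, h1, DirectSum.map_apply]
    rfl

theorem sub_decompose (hX : X.IsHomogeneous 𝓟) (x : ↥X) (i : ι) :
    (((@decompose ι ↥X _ _ _ _ _ (subPiece 𝓟 X) (subDecomp 𝓟 X hX) x) i : ↥X) : P)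
      = (decompose 𝓟 (x : P) i : P) := DsFun_apply 𝓟 X hX x i

include 𝒜 in
theorem subGSMul : SetLike.GradedSMul 𝒜 (subPiece 𝓟 X) where
  smul_mem := by
    intro i j r x hr hx
    exact SetLike.GradedSMul.smul_mem (A := 𝒜) (B := 𝓟) hr hx

omit [AddCommGroup ι] [DecidableEq ι] [DirectSum.Decomposition 𝓟] in
theorem subtype_grHom : GrLC.IsGrHom (subPiece 𝓟 X) 𝓟 X.subtype := fun _ _ hx => hx

end Sub

end Groth.Agent.H21.GrInfra2
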