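import Mathlib
import Groth.Prelude.Def_GrLC
import Groth.Prelude.Def_Wider
import Groth.Agent.H21.StarInj

set_option autoImplicit false
universe u
open DirectSum

namespace Groth.Agent.H21.StarInj2
open Groth.Agent.H21.StarInj

section Hull
variable {ι : Type} [AddCommGroup ι] [DecidableEq ι]
  {R : Type u} [CommRing R] (𝒜 : ι → AddSubgroup R) [GradedRing 𝒜]
  (p : HomogeneousIdeal 𝒜) [hp : p.toIdeal.IsPrime]
  {E : Type u} [AddCommGroup E] [Module R E] (𝓔 : ι → AddSubgroup E) [DirectSum.Decomposition 𝓔]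
  [SetLike.GradedSMul 𝒜 𝓔]
  (e : (R ⧸ p.toIdeal) →ₗ[R] E) (he : GrLC.IsStarInjHull 𝒜 (GrLC.quotGr 𝒜 p) 𝓔 e)

theorem e_mk_smul (e : (R ⧸ p.toIdeal) →ₗ[R] E) (a b : R) :
    e (Ideal.Quotient.mk p.toIdeal (a * b)) = a • e (Ideal.Quotient.mk p.toIdeal b) := by
  rw [← map_smul]; rfl

include he in
theorem e_mk_eq_zero_iff (a : R) : e (Ideal.Quotient.mk p.toIdeal a) = 0 ↔ a ∈ p.toIdeal := by
  rw [← Ideal.Quotient.eq_zero_iff_mem]
  constructor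
  · intro h; exact he.injective (by rw [h, map_zero])
  · intro h; rw [h, map_zero]

include he in
theorem indec : GrLC.IsStarIndec R 𝓔 := by
  have hess := essential_of_starEss_quot 𝒜 𝓔 p e he.toIsStarEss
  constructor
  · haveI : Nontrivial (R ⧸ p.toIdeal) := Ideal.Quotient.nontrivial_iff.mpr hp.ne_top
    exact he.injective.nontrivial
  · intro P Q _ _ hPQ
    by_contra hcon
    push Not at hcon
    obtain ⟨hP, hQ⟩ := hcon
    obtain ⟨x, ⟨hxP, ⟨a, rfl⟩⟩, hxne⟩ := Submodule.exists_mem_ne_zero_of_ne_bot (hess.essential P hP)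
    obtain ⟨y, ⟨hyQ, ⟨b, rfl⟩⟩, hyne⟩ := Submodule.exists_mem_ne_zero_of_ne_bot (hess.essential Q hQ)
    obtain ⟨a', rfl⟩ := Ideal.Quotient.mk_surjective a
    obtain ⟨b', rfl⟩ := Ideal.Quotient.mk_surjective b
    have h1 : e (Ideal.Quotient.mk p.toIdeal (b' * a')) ∈ P := by
      rw [e_mk_smul]; exact P.smul_mem _ hxP
    have h2 : e (Ideal.Quotient.mk p.toIdeal (b' * a')) ∈ Q := by
      rw [mul_comm, e_mk_smul]; exact Q.smul_mem _ hyQ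
    have h3 := (Submodule.disjoint_def.mp hPQ.disjoint) _ h1 h2
    rw [e_mk_eq_zero_iff 𝒜 p 𝓔 e he] at h3
    rcases hp.mem_or_mem h3 with h | h
    · exact hyne ((e_mk_eq_zero_iff 𝒜 p 𝓔 e he b').mpr h)
    · exact hxne ((e_mk_eq_zero_iff 𝒜 p 𝓔 e he a').mpr h)

include he in
theorem torsion [IsNoetherianRing R] : GrLC.gam p.toIdeal E = ⊤ := by
  have hess := essential_of_starEss_quot 𝒜 𝓔 p e he.toIsStarEss
  rw [eq_top_iff]
  intro x _
  let N' := Submodule.span R {x}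
  let x' : N' := ⟨x, Submodule.mem_span_singleton_self x⟩
  let S : Submodule R N' :=
    { carrier := {y | ∀ r ∈ p.toIdeal, r • y = 0}
      add_mem' := fun ha hb r hr => by rw [smul_add, ha r hr, hb r hr, add_zero]
      zero_mem' := fun r _ => smul_zero r
      smul_mem' := fun t y hy r hr => by rw [smul_comm, hy r hr, smul_zero] }
  obtain ⟨k, hk⟩ := Ideal.exists_pow_inf_eq_pow_smul p.toIdeal S
  have hk1 := hk (k + 1) (by omega)
  have hbot : p.toIdeal ^ (k + 1) • (⊤ : Submodule R N') ⊓ S = ⊥ := by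
    rw [hk1, eq_bot_iff]
    have : k + 1 - k = 1 := by omega
    rw [this, pow_one, Submodule.smul_le]
    intro r hr y hy
    rw [Submodule.mem_bot]
    exact hy.2 r hr
  refine ⟨k + 1, fun r hr => ?_⟩
  by_contra hne
  have hPne : Submodule.span R {r • x} ≠ ⊥ := by
    intro hb
    exact hne ((Submodule.eq_bot_iff _).mp hb _ (Submodule.mem_span_singleton_self _))
  obtain ⟨w, ⟨hw1, ⟨a, hwa⟩⟩, hwne⟩ := Submodule.exists_mem_ne_zero_of_ne_bot (hess.essential _ hPne)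
  obtain ⟨t, rfl⟩ := Submodule.mem_span_singleton.mp hw1
  obtain ⟨a', rfl⟩ := Ideal.Quotient.mk_surjective a
  have hw' : (t * r) • x' ∈ p.toIdeal ^ (k + 1) • (⊤ : Submodule R N') ⊓ S := by
    refine ⟨Submodule.smul_mem_smul (Ideal.mul_mem_left _ t hr) Submodule.mem_top, ?_⟩
    intro s hs
    apply Subtype.ext
    show s • ((t * r) • x) = 0
    rw [mul_smul, ← hwa, ← e_mk_smul]
    exact (e_mk_eq_zero_iff 𝒜 p 𝓔 e he _).mpr (Ideal.mul_mem_right _ _ hs)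
  rw [hbot, Submodule.mem_bot] at hw'
  apply hwne
  have := congrArg (Subtype.val) hw'
  simp only [Submodule.coe_smul, Submodule.coe_zero] at this
  rw [mul_smul] at this
  exact this

end Hull

section Unique
variable {ι : Type} [AddCommGroup ι] [DecidableEq ι]
  {R : Type u} [CommRing R] (𝒜 : ι → AddSubgroup R) [GradedRing 𝒜]
  {M : Type u} [AddCommGroup M] [Module R M] (ℳ : ι → AddSubgroup M) [DirectSum.Decomposition ℳ]
  [SetLike.GradedSMul 𝒜 ℳ]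
  {E₁ : Type u} [AddCommGroup E₁] [Module R E₁] (𝓔₁ : ι → AddSubgroup E₁)
  [DirectSum.Decomposition 𝓔₁] [SetLike.GradedSMul 𝒜 𝓔₁]
  {E₂ : Type u} [AddCommGroup E₂] [Module R E₂] (𝓔₂ : ι → AddSubgroup E₂)
  [DirectSum.Decomposition 𝓔₂] [SetLike.GradedSMul 𝒜 𝓔₂]

theorem unique (f₁ : M →ₗ[R] E₁) (f₂ : M →ₗ[R] E₂) (h₁ : GrLC.IsStarInjHull 𝒜 ℳ 𝓔₁ f₁)
    (h₂ : GrLC.IsStarInjHull 𝒜 ℳ 𝓔₂ f₂) :
    ∃ β : E₁ ≃ₗ[R] E₂, GrLC.IsGrHom 𝓔₁ 𝓔₂ β.toLinearMap ∧ β.toLinearMap ∘ₗ f₁ = f₂ := by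
  obtain ⟨β, hβgr, hβ⟩ : ∃ β : E₁ →ₗ[R] E₂, GrLC.IsGrHom 𝓔₁ 𝓔₂ β ∧ β ∘ₗ f₁ = f₂ :=
    h₂.starInj (GrLC.GMod.of 𝒜 M ℳ) (GrLC.GMod.of 𝒜 E₁ 𝓔₁) f₁ h₁.grHom h₁.injective f₂ h₂.grHom
  have hβ' : ∀ m, β (f₁ m) = f₂ m := fun m => LinearMap.congr_fun hβ m
  have hβinj : Function.Injective β := by
    rw [← LinearMap.ker_eq_bot]
    by_contra hne
    have hK := ker_homogeneous 𝓔₁ 𝓔₂ β hβgr
    obtain ⟨y, ⟨hy1, ⟨m, rfl⟩⟩, hyne⟩ :=
      Submodule.exists_mem_ne_zero_of_ne_bot (h₁.essential _ hK hne)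
    have hy1' : β (f₁ m) = 0 := hy1
    rw [hβ'] at hy1'
    have : m = 0 := h₂.injective (by rw [hy1', map_zero])
    exact hyne (by rw [this, map_zero])
  obtain ⟨ρ, hρgr, hρ⟩ : ∃ ρ : E₂ →ₗ[R] E₁, GrLC.IsGrHom 𝓔₂ 𝓔₁ ρ ∧ ρ ∘ₗ β = LinearMap.id :=
    h₁.starInj (GrLC.GMod.of 𝒜 E₁ 𝓔₁) (GrLC.GMod.of 𝒜 E₂ 𝓔₂) β hβgr hβinj
      LinearMap.id (fun _ _ hx => hx)
  have hρ' : ∀ y, ρ (β y) = y := fun y => LinearMap.congr_fun hρ y
  have hρinj : Function.Injective ρ := by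
    rw [← LinearMap.ker_eq_bot]
    by_contra hne
    have hK := ker_homogeneous 𝓔₂ 𝓔₁ ρ hρgr
    obtain ⟨y, ⟨hy1, ⟨m, rfl⟩⟩, hyne⟩ :=
      Submodule.exists_mem_ne_zero_of_ne_bot (h₂.essential _ hK hne)
    have hy1' : ρ (f₂ m) = 0 := hy1
    rw [← hβ', hρ'] at hy1'
    have : m = 0 := h₁.injective (by rw [hy1', map_zero])
    exact hyne (by rw [this, map_zero])
  have hβsurj : Function.Surjective β := by
    intro y
    exact ⟨ρ y, hρinj (hρ' (ρ y))⟩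
  refine ⟨LinearEquiv.ofBijective β ⟨hβinj, hβsurj⟩, ?_, ?_⟩
  · intro j x hx
    exact hβgr j x hx
  · ext m
    exact hβ' m

end Unique

section PQ
variable {ι : Type} [AddCommGroup ι] [DecidableEq ι]
  {R : Type u} [CommRing R] (𝒜 : ι → AddSubgroup R) [GradedRing 𝒜]
  (p : HomogeneousIdeal 𝒜) [hp : p.toIdeal.IsPrime]
  {E : Type u} [AddCommGroup E] [Module R E] (𝓔 : ι → AddSubgroup E) [DirectSum.Decomposition 𝓔]
  [SetLike.GradedSMul 𝒜 𝓔]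
  (e : (R ⧸ p.toIdeal) →ₗ[R] E) (he : GrLC.IsStarInjHull 𝒜 (GrLC.quotGr 𝒜 p) 𝓔 e)
  (q : HomogeneousIdeal 𝒜) [hq : q.toIdeal.IsPrime]
  {F : Type u} [AddCommGroup F] [Module R F] (𝓕 : ι → AddSubgroup F) [DirectSum.Decomposition 𝓕]
  [SetLike.GradedSMul 𝒜 𝓕]
  (f : (R ⧸ q.toIdeal) →ₗ[R] F) (hf : GrLC.IsStarInjHull 𝒜 (GrLC.quotGr 𝒜 q) 𝓕 f)

include he hf in
theorem eq_of_equiv (φ : E ≃ₗ[R] F) : p = q := by
  have hessF := essential_of_starEss_quot 𝒜 𝓕 q f hf.toIsStarEss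
  obtain ⟨x, hx⟩ : ∃ x : E, x = e (Ideal.Quotient.mk p.toIdeal 1) := ⟨_, rfl⟩
  have h1p : (1 : R) ∉ p.toIdeal := fun h => hp.ne_top ((Ideal.eq_top_iff_one _).mpr h)
  have hxne : φ x ≠ 0 := by
    intro h0
    have : x = 0 := φ.injective (by rw [h0, map_zero])
    rw [hx] at this
    exact h1p ((e_mk_eq_zero_iff 𝒜 p 𝓔 e he 1).mp this)
  have hPne : Submodule.span R {φ x} ≠ ⊥ := by
    intro hb
    exact hxne ((Submodule.eq_bot_iff _).mp hb _ (Submodule.mem_span_singleton_self _))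
  obtain ⟨w, ⟨hw1, ⟨s, hws⟩⟩, hwne⟩ := Submodule.exists_mem_ne_zero_of_ne_bot (hessF.essential _ hPne)
  obtain ⟨r, rfl⟩ := Submodule.mem_span_singleton.mp hw1
  obtain ⟨s', rfl⟩ := Ideal.Quotient.mk_surjective s
  have hs' : s' ∉ q.toIdeal := by
    intro h
    apply hwne
    rw [← hws]
    exact (e_mk_eq_zero_iff 𝒜 q 𝓕 f hf s').mpr h
  have hrx : r • φ x = φ (e (Ideal.Quotient.mk p.toIdeal r)) := by
    rw [← map_smul, hx, ← e_mk_smul, mul_one]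
  have hr : r ∉ p.toIdeal := by
    intro h
    apply hwne
    rw [hrx, (e_mk_eq_zero_iff 𝒜 p 𝓔 e he r).mpr h, map_zero]
  have key : ∀ t : R, t ∈ p.toIdeal ↔ t ∈ q.toIdeal := by
    intro t
    have h1 : t • (r • φ x) = 0 ↔ t ∈ p.toIdeal := by
      rw [hrx, ← map_smul, ← e_mk_smul]
      constructor
      · intro h0
        have : e (Ideal.Quotient.mk p.toIdeal (t * r)) = 0 := φ.injective (by rw [h0, map_zero])
        rw [e_mk_eq_zero_iff 𝒜 p 𝓔 e he] at this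
        exact (hp.mem_or_mem this).resolve_right hr
      · intro h
        rw [(e_mk_eq_zero_iff 𝒜 p 𝓔 e he _).mpr (Ideal.mul_mem_right _ _ h), map_zero]
    have h2 : t • (r • φ x) = 0 ↔ t ∈ q.toIdeal := by
      rw [← hws, ← e_mk_smul, e_mk_eq_zero_iff 𝒜 q 𝓕 f hf]
      constructor
      · intro h; exact (hq.mem_or_mem h).resolve_right hs'
      · intro h; exact Ideal.mul_mem_right _ _ h
    rw [← h1, h2]
  exact HomogeneousIdeal.toIdeal_injective (Ideal.ext key)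

end PQ

end Groth.Agent.H21.StarInj2
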