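import Mathlib
import Groth.Prelude.Def_GrLC
import Groth.Prelude.Def_Wider
import Groth.Agent.H21.StarInj
import Groth.Agent.H21.StarInj2

set_option autoImplicit false
universe u
open DirectSum

namespace Groth.Agent.H21.StarInj3
open Groth.Agent.H21.StarInj Groth.Agent.H21.StarInj2

section Shift
variable {ι : Type} [AddCommGroup ι] [DecidableEq ι]
  {R : Type u} [CommRing R] (𝒜 : ι → AddSubgroup R) [GradedRing 𝒜]
  {E : Type u} [AddCommGroup E] [Module R E] (𝓔 : ι → AddSubgroup E) [DirectSum.Decomposition 𝓔]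
  [SetLike.GradedSMul 𝒜 𝓔] (g : ι)

/-- the shifted grading `E(g)_k = E_{k+g}` -/
abbrev shiftGr : ι → AddSubgroup E := fun k => 𝓔 ((Equiv.subRight g).symm k)

omit [DecidableEq ι] [DirectSum.Decomposition 𝓔] in
theorem mem_shiftGr (k : ι) (x : E) : x ∈ shiftGr 𝓔 g k ↔ x ∈ 𝓔 (k + g) := Iff.rfl

noncomputable def shiftDecomp : DirectSum.Decomposition (shiftGr 𝓔 g) where
  decompose' x := DirectSum.equivCongrLeft (Equiv.subRight g) (decompose 𝓔 x)
  left_inv x := by
    beta_reduce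
    induction x using DirectSum.Decomposition.inductionOn 𝓔 with
    | zero => rw [decompose_zero, map_zero, map_zero]
    | add x y hx hy => rw [decompose_add, map_add, map_add, hx, hy]
    | @homogeneous i x =>
      obtain ⟨k, rfl⟩ : ∃ k, i = (Equiv.subRight g).symm k :=
        ⟨Equiv.subRight g i, ((Equiv.subRight g).symm_apply_apply i).symm⟩
      rw [decompose_coe, DirectSum.equivCongrLeft_of]
      exact DirectSum.coeAddMonoidHom_of (shiftGr 𝓔 g) k x
  right_inv y := by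
    beta_reduce
    induction y using DirectSum.induction_on with
    | zero => rw [map_zero, decompose_zero, map_zero]
    | of k y =>
      rw [DirectSum.coeAddMonoidHom_of]
      have : decompose 𝓔 ((y : E)) = DirectSum.of (fun i => 𝓔 i) ((Equiv.subRight g).symm k) y :=
        decompose_coe 𝓔 (i := (Equiv.subRight g).symm k) y
      rw [this, DirectSum.equivCongrLeft_of]
    | add y y' hy hy' => rw [map_add, decompose_add, map_add, hy, hy']

theorem shift_decompose (x : E) (k : ι) :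
    ((@decompose ι E _ _ _ _ _ (shiftGr 𝓔 g) (shiftDecomp 𝓔 g) x) k : E)
      = (decompose 𝓔 x (k + g) : E) := by
  show ((DirectSum.equivCongrLeft (Equiv.subRight g) (decompose 𝓔 x)) k : E) = _
  rw [DirectSum.equivCongrLeft_apply]
  rfl

include 𝒜 in
theorem shiftGSMul : SetLike.GradedSMul 𝒜 (shiftGr 𝓔 g) where
  smul_mem := by
    intro i j r x hr hx
    rw [mem_shiftGr] at hx ⊢
    have := SetLike.GradedSMul.smul_mem (A := 𝒜) (B := 𝓔) hr hx
    rw [vadd_eq_add] at this ⊢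
    rw [add_assoc]; exact this

theorem homogeneous_of_shift {P : Submodule R E}
    (h : @Submodule.IsHomogeneous ι _ R E _ _ _ P (shiftGr 𝓔 g) _ _ _ (shiftDecomp 𝓔 g)) :
    P.IsHomogeneous 𝓔 := by
  intro j x hx
  have := h (j - g) hx
  rw [shift_decompose, sub_add_cancel] at this
  exact this

end Shift

section Main
variable {ι : Type} [AddCommGroup ι] [DecidableEq ι]
  {R : Type u} [CommRing R] (𝒜 : ι → AddSubgroup R) [GradedRing 𝒜]
  (p : HomogeneousIdeal 𝒜) [hp : p.toIdeal.IsPrime]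
  {E : Type u} [AddCommGroup E] [Module R E] (𝓔 : ι → AddSubgroup E) [DirectSum.Decomposition 𝓔]
  [SetLike.GradedSMul 𝒜 𝓔]
  (e : (R ⧸ p.toIdeal) →ₗ[R] E) (he : GrLC.IsStarInjHull 𝒜 (GrLC.quotGr 𝒜 p) 𝓔 e)

include he in
theorem smul_bijective (g : ι) (r : R) (hr : r ∈ 𝒜 g) (hrp : r ∉ p.toIdeal) :
    Function.Bijective (fun x : E => r • x) := by
  have hess := essential_of_starEss_quot 𝒜 𝓔 p e he.toIsStarEss
  let μ : E →ₗ[R] E := LinearMap.lsmul R E r
  have hμ : ∀ x, μ x = r • x := fun x => rfl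
  have hinj : Function.Injective μ := by
    rw [← LinearMap.ker_eq_bot]
    by_contra hne
    obtain ⟨y, ⟨hy1, ⟨a, rfl⟩⟩, hyne⟩ := Submodule.exists_mem_ne_zero_of_ne_bot (hess.essential _ hne)
    obtain ⟨a', rfl⟩ := Ideal.Quotient.mk_surjective a
    have h1 : r • e (Ideal.Quotient.mk p.toIdeal a') = 0 := hy1
    rw [← e_mk_smul, e_mk_eq_zero_iff 𝒜 p 𝓔 e he] at h1
    rcases hp.mem_or_mem h1 with h | h
    · exact hrp h
    · exact hyne ((e_mk_eq_zero_iff 𝒜 p 𝓔 e he a').mpr h)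
  letI := shiftDecomp 𝓔 g
  letI := shiftGSMul 𝒜 𝓔 g
  let B : GrLC.GMod.{u} 𝒜 := { carrier := E, gr := shiftGr 𝓔 g }
  have hμgr : GrLC.IsGrHom 𝓔 (shiftGr 𝓔 g) μ := by
    intro j x hx
    rw [mem_shiftGr, hμ]
    have := SetLike.GradedSMul.smul_mem (A := 𝒜) (B := 𝓔) hr hx
    rw [vadd_eq_add, add_comm] at this
    exact this
  obtain ⟨ρ, hρgr, hρ⟩ : ∃ ρ : E →ₗ[R] E, GrLC.IsGrHom (shiftGr 𝓔 g) 𝓔 ρ ∧ ρ ∘ₗ μ = LinearMap.id :=
    he.starInj (GrLC.GMod.of 𝒜 E 𝓔) B μ hμgr hinj LinearMap.id (fun _ _ h => h)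
  have hρ' : ∀ y, ρ (μ y) = y := fun y => LinearMap.congr_fun hρ y
  have hcompl : IsCompl (LinearMap.range μ) (LinearMap.ker ρ) := by
    refine ⟨Submodule.disjoint_def.mpr ?_, Submodule.codisjoint_iff_exists_add_eq.mpr ?_⟩
    · rintro _ ⟨y, rfl⟩ hy
      have hy' : ρ (μ y) = 0 := hy
      rw [hρ'] at hy'
      rw [hy', map_zero]
    · intro z
      refine ⟨μ (ρ z), z - μ (ρ z), ⟨_, rfl⟩, ?_, by abel⟩
      rw [LinearMap.mem_ker, map_sub, hρ', sub_self]
  have hKhom : (LinearMap.ker ρ).IsHomogeneous 𝓔 :=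
    homogeneous_of_shift 𝓔 g (ker_homogeneous (shiftGr 𝓔 g) 𝓔 ρ hρgr)
  have hRhom : (LinearMap.range μ).IsHomogeneous 𝓔 :=
    homogeneous_of_shift 𝓔 g (range_homogeneous 𝓔 (shiftGr 𝓔 g) μ hμgr)
  have hindec := indec 𝒜 p 𝓔 e he
  haveI := hindec.1
  rcases hindec.2 _ _ hRhom hKhom hcompl with h | h
  · exfalso
    obtain ⟨x, hx⟩ := exists_ne (0 : E)
    have : μ x ∈ LinearMap.range μ := ⟨x, rfl⟩
    rw [h, Submodule.mem_bot] at this
    exact hx (hinj (by rw [this, map_zero]))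
  · have hρinj : Function.Injective ρ := LinearMap.ker_eq_bot.mp h
    refine ⟨hinj, fun y => ⟨ρ y, hρinj ?_⟩⟩
    show ρ (μ (ρ y)) = ρ y
    rw [hρ']

end Main

end Groth.Agent.H21.StarInj3
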