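import Mathlib
import Groth.Prelude.Def_GrLC
import Groth.Agent.H21.StarInj
import Groth.Agent.H21.GrCofree
import Groth.Agent.H21.StarInj3
import Groth.Agent.H21.GrInfra
import Groth.Agent.H21.GrInfra2

set_option autoImplicit false
universe u
open DirectSum

namespace Groth.Agent.H21.GrExt
open Groth.Agent.H21.StarInj Groth.Agent.H21.GrCofree

section Q
variable {ι : Type} [AddCommGroup ι] [DecidableEq ι]
  {R : Type u} [CommRing R] (𝒜 : ι → AddSubgroup R) [GradedRing 𝒜]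
  {I : Type u} [AddCommGroup I] [Module R I] (ℐ : ι → AddSubgroup I) [DirectSum.Decomposition ℐ]
  [SetLike.GradedSMul 𝒜 ℐ]

/-- projection to a homogeneous component, additive -/
def projAdd (j : ι) : I →+ I where
  toFun x := (decompose ℐ x j : I)
  map_zero' := by simp
  map_add' x y := by rw [decompose_add, DirectSum.add_apply, AddSubgroup.coe_add]

/-- `of_g y ↦ y_{g+d}` -/
def qAdd (d : ι) : FI 𝒜 I →+ I :=
  DirectSum.toAddMonoid (fun g : ι => projAdd ℐ (g + d))

theorem qAdd_ofI (d g : ι) (y : I) : qAdd 𝒜 ℐ d (ofI 𝒜 I g y) = (decompose ℐ y (g + d) : I) := by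
  show DirectSum.toAddMonoid _ (DirectSum.of (fun _ : ι => I) g y) = _
  rw [DirectSum.toAddMonoid_of]; rfl

theorem qAdd_smul (d : ι) (r : R) (z : FI 𝒜 I) : qAdd 𝒜 ℐ d (r • z) = r • qAdd 𝒜 ℐ d z := by
  induction z using FI_induction with
  | h0 => simp
  | hadd z z' hz hz' => rw [smul_add, map_add, hz, hz', map_add, smul_add]
  | hof g x =>
    induction r using DirectSum.Decomposition.inductionOn 𝒜 with
    | zero => simp
    | add r r' hr hr' => rw [add_smul, map_add, hr, hr', add_smul]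
    | @homogeneous h r =>
      rw [smul_ofI 𝒜 I r.2, qAdd_ofI, qAdd_ofI, decompose_hsmul 𝒜 ℐ r.2]
      have : h + g + d - h = g + d := by abel
      rw [this]

/-- the degree `d` part of the counit -/
def q (d : ι) : FI 𝒜 I →ₗ[R] I where
  toFun := qAdd 𝒜 ℐ d
  map_add' := map_add _
  map_smul' r z := qAdd_smul 𝒜 ℐ d r z

theorem q_ofI (d g : ι) (y : I) : q 𝒜 ℐ d (ofI 𝒜 I g y) = (decompose ℐ y (g + d) : I) :=
  qAdd_ofI 𝒜 ℐ d g y

theorem q_mem (d g : ι) {z : FI 𝒜 I} (hz : z ∈ piece 𝒜 I g) : q 𝒜 ℐ d z ∈ ℐ (g + d) := by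
  obtain ⟨y, rfl⟩ := hz
  rw [q_ofI]
  exact (decompose ℐ y (g + d)).2

theorem q_support (z : FI 𝒜 I) : ∃ S : Finset ι, (∀ d, d ∉ S → q 𝒜 ℐ d z = 0) ∧
    ∑ d ∈ S, q 𝒜 ℐ d z = counit 𝒜 I z := by
  classical
  induction z using FI_induction with
  | h0 => exact ⟨∅, fun d _ => map_zero _, by simp⟩
  | hof g y =>
    refine ⟨(DFinsupp.support (decompose ℐ y)).image (fun j => j - g), ?_, ?_⟩
    · intro d hd
      rw [q_ofI]
      by_contra hne
      apply hd
      rw [Finset.mem_image]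
      refine ⟨g + d, ?_, by abel⟩
      rw [DFinsupp.mem_support_toFun]
      intro h0
      apply hne
      rw [h0]; rfl
    · rw [Finset.sum_image (fun a _ b _ hab => sub_left_injective hab), counit_ofI]
      have : ∀ j ∈ DFinsupp.support (decompose ℐ y), q 𝒜 ℐ (j - g) (ofI 𝒜 I g y)
          = (decompose ℐ y j : I) := by
        intro j _
        rw [q_ofI]
        have : g + (j - g) = j := by abel
        rw [this]
      rw [Finset.sum_congr rfl this]
      exact DirectSum.sum_support_decompose ℐ y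
  | hadd z z' hz hz' =>
    obtain ⟨S, hS0, hS⟩ := hz
    obtain ⟨S', hS0', hS'⟩ := hz'
    refine ⟨S ∪ S', ?_, ?_⟩
    · intro d hd
      rw [Finset.mem_union, not_or] at hd
      rw [map_add, hS0 d hd.1, hS0' d hd.2, add_zero]
    · simp only [map_add]
      rw [Finset.sum_add_distrib, ← hS, ← hS']
      congr 1
      · exact (Finset.sum_subset Finset.subset_union_left (fun d _ hd => hS0 d hd)).symm
      · exact (Finset.sum_subset Finset.subset_union_right (fun d _ hd => hS0' d hd)).symm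

end Q

section Decomp
variable {ι : Type} [AddCommGroup ι] [DecidableEq ι]
  {R : Type u} [CommRing R] (𝒜 : ι → AddSubgroup R) [GradedRing 𝒜]
  {I : Type u} [AddCommGroup I] [Module R I] (ℐ : ι → AddSubgroup I) [DirectSum.Decomposition ℐ]
  [SetLike.GradedSMul 𝒜 ℐ]
  {N : Type u} [AddCommGroup N] [Module R N] (𝒩 : ι → AddSubgroup N) [DirectSum.Decomposition 𝒩]
  [SetLike.GradedSMul 𝒜 𝒩]

/-- homogeneous components of a linear map -/
noncomputable def hcomp (φ : N →ₗ[R] I) (d : ι) : N →ₗ[R] I := (q 𝒜 ℐ d).comp (lift 𝒜 I 𝒩 φ)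

theorem hcomp_deg (φ : N →ₗ[R] I) (d : ι) : GrLC.IsGrHomDeg 𝒩 ℐ (hcomp 𝒜 ℐ 𝒩 φ d) d :=
  fun g n hn => q_mem 𝒜 ℐ d g (lift_grHom 𝒜 I 𝒩 φ g n hn)

theorem exists_finset_hcomp [Module.Finite R N] (φ : N →ₗ[R] I) :
    ∃ D : Finset ι, ∀ x, φ x = ∑ d ∈ D, hcomp 𝒜 ℐ 𝒩 φ d x := by
  classical
  obtain ⟨G, hG⟩ := (Module.Finite.fg_top : (⊤ : Submodule R N).FG)
  choose S hS0 hS using fun z : FI 𝒜 I => q_support 𝒜 ℐ z
  obtain ⟨D, hD⟩ : ∃ D : Finset ι, D = G.biUnion (fun k => S (lift 𝒜 I 𝒩 φ k)) := ⟨_, rfl⟩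
  have hzero : ∀ d, d ∉ D → ∀ x, hcomp 𝒜 ℐ 𝒩 φ d x = 0 := by
    intro d hd x
    have hx : x ∈ Submodule.span R (G : Set N) := by rw [hG]; trivial
    induction hx using Submodule.span_induction with
    | mem y hy =>
      apply hS0
      intro hmem
      apply hd
      rw [hD, Finset.mem_biUnion]
      exact ⟨y, hy, hmem⟩
    | zero => exact map_zero _
    | add y y' _ _ hy hy' => rw [map_add, hy, hy', add_zero]
    | smul r y _ hy => rw [map_smul, hy, smul_zero]
  refine ⟨D, fun x => ?_⟩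
  have h1 : ∑ d ∈ D ∪ S (lift 𝒜 I 𝒩 φ x), hcomp 𝒜 ℐ 𝒩 φ d x = φ x := by
    rw [← counit_lift 𝒜 I 𝒩 φ x, ← hS (lift 𝒜 I 𝒩 φ x)]
    exact (Finset.sum_subset Finset.subset_union_right (fun d _ hd => hS0 _ d hd)).symm
  rw [← h1]
  exact (Finset.sum_subset Finset.subset_union_left (fun d _ hd => hzero d hd x)).symm

end Decomp

section ShiftExt
open Groth.Agent.H21.StarInj3
variable {ι : Type} [AddCommGroup ι] [DecidableEq ι]
  {R : Type u} [CommRing R] (𝒜 : ι → AddSubgroup R) [GradedRing 𝒜]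
  {I : Type u} [AddCommGroup I] [Module R I] (ℐ : ι → AddSubgroup I) [DirectSum.Decomposition ℐ]
  [SetLike.GradedSMul 𝒜 ℐ]

/-- the shifted bundled graded module -/
noncomputable def shiftG (A : GrLC.GMod.{u} 𝒜) (g : ι) : GrLC.GMod.{u} 𝒜 :=
  { carrier := A.carrier
    gr := shiftGr A.gr g
    dec := shiftDecomp A.gr g
    gsmul := shiftGSMul 𝒜 A.gr g }

theorem extend_deg (hI : GrLC.IsStarInj 𝒜 ℐ) (A B : GrLC.GMod.{u} 𝒜)
    (f : A.carrier →ₗ[R] B.carrier) (hf : GrLC.IsGrHom A.gr B.gr f) (hinj : Function.Injective f)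
    (d : ι) (g' : A.carrier →ₗ[R] I) (hg' : GrLC.IsGrHomDeg A.gr ℐ g' d) :
    ∃ h : B.carrier →ₗ[R] I, h ∘ₗ f = g' := by
  have hf' : GrLC.IsGrHom (shiftG 𝒜 A (-d)).gr (shiftG 𝒜 B (-d)).gr f := by
    intro k x hx
    exact hf _ x hx
  have hg'' : GrLC.IsGrHom (shiftG 𝒜 A (-d)).gr ℐ g' := by
    intro k x hx
    have := hg' _ x hx
    have e : (Equiv.subRight (-d)).symm k + d = k := by
      change k + -d + d = k
      abel
    rw [e] at this
    exact this
  obtain ⟨h, _, hh⟩ := hI (shiftG 𝒜 A (-d)) (shiftG 𝒜 B (-d)) f hf' hinj g' hg''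
  exact ⟨h, hh⟩

end ShiftExt

section LemmaK
open Groth.Agent.H21.GrInfra2
variable {ι : Type} [AddCommGroup ι] [DecidableEq ι]
  {R : Type u} [CommRing R] (𝒜 : ι → AddSubgroup R) [GradedRing 𝒜]
  {I : Type u} [AddCommGroup I] [Module R I] (ℐ : ι → AddSubgroup I) [DirectSum.Decomposition ℐ]
  [SetLike.GradedSMul 𝒜 ℐ]

/-- a homogeneous submodule as a bundled graded module -/
noncomputable def subG (F : GrLC.GMod.{u} 𝒜) (K : Submodule R F.carrier)
    (hK : K.IsHomogeneous F.gr) : GrLC.GMod.{u} 𝒜 :=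
  { carrier := K
    gr := subPiece F.gr K
    dec := subDecomp F.gr K hK
    gsmul := subGSMul 𝒜 F.gr K }

/-- every linear map from a finitely generated homogeneous submodule to a *injective module extends -/
theorem extend_of_fg (hI : GrLC.IsStarInj 𝒜 ℐ) (F : GrLC.GMod.{u} 𝒜) (K : Submodule R F.carrier)
    (hK : K.IsHomogeneous F.gr) [Module.Finite R K] (φ : K →ₗ[R] I) :
    ∃ ψ : F.carrier →ₗ[R] I, ψ ∘ₗ K.subtype = φ := by
  classical
  letI : DirectSum.Decomposition (subPiece F.gr K) := subDecomp F.gr K hK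
  haveI : SetLike.GradedSMul 𝒜 (subPiece F.gr K) := subGSMul 𝒜 F.gr K
  obtain ⟨D, hD⟩ := exists_finset_hcomp 𝒜 ℐ (subPiece F.gr K) φ
  have hex : ∀ d : ι, ∃ h : F.carrier →ₗ[R] I, h ∘ₗ K.subtype = hcomp 𝒜 ℐ (subPiece F.gr K) φ d :=
    fun d => extend_deg 𝒜 ℐ hI (subG 𝒜 F K hK) F K.subtype (subtype_grHom F.gr K)
      (Submodule.subtype_injective K) d _ (hcomp_deg 𝒜 ℐ (subPiece F.gr K) φ d)
  choose h hh using hex
  refine ⟨∑ d ∈ D, h d, ?_⟩
  ext x
  rw [LinearMap.comp_apply, LinearMap.sum_apply, hD x]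
  refine Finset.sum_congr rfl (fun d _ => ?_)
  exact congrArg (fun m => m x) (hh d)

end LemmaK

section Cover
open Groth.Agent.H21.GrInfra Groth.Agent.H21.StarInj3
variable {ι : Type} [AddCommGroup ι] [DecidableEq ι]
  {R : Type u} [CommRing R] (𝒜 : ι → AddSubgroup R) [GradedRing 𝒜]

/-- `R` as a graded module over itself -/
noncomputable def selfG : GrLC.GMod.{u} 𝒜 := GrLC.GMod.of 𝒜 R 𝒜

/-- product of bundled graded modules -/
noncomputable def prodG (A B : GrLC.GMod.{u} 𝒜) : GrLC.GMod.{u} 𝒜 :=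
  { carrier := A.carrier × B.carrier
    gr := prodPiece A.gr B.gr
    dec := prodDecomp A.gr B.gr
    gsmul := prodGSMul 𝒜 A.gr B.gr }

theorem exists_cover_list (N : GrLC.GMod.{u} 𝒜) (L : List (Σ g : ι, N.gr g)) :
    ∃ (F : GrLC.GMod.{u} 𝒜) (_ : Module.Free R F.carrier) (_ : Module.Finite R F.carrier)
      (π : F.carrier →ₗ[R] N.carrier), GrLC.IsGrHom F.gr N.gr π ∧
        ∀ p ∈ L, ((p.2 : N.gr p.1) : N.carrier) ∈ LinearMap.range π := by
  induction L with
  | nil =>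
    refine ⟨selfG 𝒜, ?_, ?_, 0, fun k x _ => (N.gr k).zero_mem, fun p hp => by simp at hp⟩
    · change Module.Free R R; infer_instance
    · change Module.Finite R R; infer_instance
  | cons p L ih =>
    obtain ⟨F, hfree, hfin, π, hπ, hL⟩ := ih
    obtain ⟨g, x⟩ := p
    refine ⟨prodG 𝒜 (shiftG 𝒜 (selfG 𝒜) (-g)) F, ?_, ?_,
      (LinearMap.toSpanSingleton R N.carrier (x : N.carrier)).coprod π, ?_, ?_⟩
    · change Module.Free R (R × F.carrier); infer_instance
    · change Module.Finite R (R × F.carrier); infer_instance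
    · rintro k ⟨r, y⟩ ⟨hr, hy⟩
      change (show R from r) • (x : N.carrier) + π y ∈ N.gr k
      refine (N.gr k).add_mem ?_ (hπ k y hy)
      have hr' : (show R from r) ∈ 𝒜 (k + -g) := hr
      have := SetLike.GradedSMul.smul_mem (A := 𝒜) (B := N.gr) hr' x.2
      rw [vadd_eq_add] at this
      have e : k + -g + g = k := by abel
      rw [e] at this
      exact this
    · intro q hq
      rcases List.mem_cons.1 hq with rfl | hq
      · refine ⟨((1 : R), (0 : F.carrier)), ?_⟩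
        change (1 : R) • (x : N.carrier) + π 0 = _
        rw [one_smul, map_zero, add_zero]
      · obtain ⟨y, hy⟩ := hL q hq
        refine ⟨((0 : R), y), ?_⟩
        change (0 : R) • (x : N.carrier) + π y = _
        rw [zero_smul, zero_add, hy]

theorem exists_cover (N : GrLC.GMod.{u} 𝒜) [Module.Finite R N.carrier] :
    ∃ (F : GrLC.GMod.{u} 𝒜) (_ : Module.Free R F.carrier) (_ : Module.Finite R F.carrier)
      (π : F.carrier →ₗ[R] N.carrier), GrLC.IsGrHom F.gr N.gr π ∧ Function.Surjective π := by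
  classical
  obtain ⟨G, hG⟩ := (Module.Finite.fg_top : (⊤ : Submodule R N.carrier).FG)
  obtain ⟨L, hL⟩ : ∃ L : List (Σ g : ι, N.gr g), L = G.toList.flatMap (fun x =>
      (DFinsupp.support (decompose N.gr x)).toList.map
        (fun j => (⟨j, decompose N.gr x j⟩ : Σ g : ι, N.gr g))) := ⟨_, rfl⟩
  obtain ⟨F, hfree, hfin, π, hπ, hr⟩ := exists_cover_list 𝒜 N L
  refine ⟨F, hfree, hfin, π, hπ, ?_⟩
  rw [← LinearMap.range_eq_top, eq_top_iff, ← hG, Submodule.span_le]
  intro x hx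
  rw [← DirectSum.sum_support_decompose N.gr x]
  refine Submodule.sum_mem _ (fun j hj => ?_)
  refine hr ⟨j, decompose N.gr x j⟩ ?_
  rw [hL, List.mem_flatMap]
  refine ⟨x, Finset.mem_toList.2 hx, ?_⟩
  rw [List.mem_map]
  exact ⟨j, Finset.mem_toList.2 hj, rfl⟩

end Cover

end Groth.Agent.H21.GrExt
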