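import Mathlib
import Groth.Prelude.Def_GrLC
import Groth.Agent.H21.StarInj
import Groth.Agent.H21.GrInfra
import Groth.Agent.H21.GrInfra2

set_option autoImplicit false
universe u
open DirectSum

namespace Groth.Agent.H21.GrLCH
open Groth.Agent.H21.StarInj Groth.Agent.H21.GrInfra Groth.Agent.H21.GrInfra2

section
variable {ι : Type} [AddCommGroup ι] [DecidableEq ι]
  {R : Type u} [CommRing R] (𝒜 : ι → AddSubgroup R) [GradedRing 𝒜]
  {P : Type u} [AddCommGroup P] [Module R P] (𝓟 : ι → AddSubgroup P) [DirectSum.Decomposition 𝓟]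
  [SetLike.GradedSMul 𝒜 𝓟]

theorem pow_homogeneous (a : Ideal R) (ha : a.IsHomogeneous 𝒜) (n : ℕ) :
    (a ^ n).IsHomogeneous 𝒜 := by
  induction n with
  | zero => rw [pow_zero, Ideal.one_eq_top]; exact Ideal.IsHomogeneous.top 𝒜
  | succ n ih => rw [pow_succ]; exact ih.mul ha

theorem gam_homogeneous (a : Ideal R) (ha : a.IsHomogeneous 𝒜) :
    (GrLC.gam a P).IsHomogeneous 𝓟 := by
  classical
  rintro g x ⟨n, hn⟩
  refine ⟨n, fun r hr => ?_⟩
  have hpow := pow_homogeneous 𝒜 a ha n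
  rw [← DirectSum.sum_support_decompose 𝒜 r, Finset.sum_smul]
  apply Finset.sum_eq_zero
  intro h _
  have h1 : ((decompose 𝒜 r h : R)) • x = 0 := hn _ (hpow h hr)
  have h2 := decompose_hsmul 𝒜 𝓟 (decompose 𝒜 r h).2 x (g + h)
  rw [h1, decompose_zero, DirectSum.zero_apply, ZeroMemClass.coe_zero, add_sub_cancel_right] at h2
  exact h2.symm

end

section Main
variable {ι : Type} [AddCommGroup ι] [DecidableEq ι]
  {R : Type u} [CommRing R] (𝒜 : ι → AddSubgroup R) [GradedRing 𝒜]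
  {M : Type u} [AddCommGroup M] [Module R M] (ℳ : ι → AddSubgroup M) [DirectSum.Decomposition ℳ]
  [SetLike.GradedSMul 𝒜 ℳ]

theorem cocyc_homogeneous (a : HomogeneousIdeal 𝒜) (E : GrLC.StarInjRes 𝒜 ℳ) (i : ℕ) :
    (E.cocyc a i).IsHomogeneous (E.X i).gr :=
  inf_homogeneous (E.X i).gr _ _ (gam_homogeneous 𝒜 (E.X i).gr a.toIdeal a.isHomogeneous)
    (ker_homogeneous (E.X i).gr (E.X (i + 1)).gr (E.d i) (E.d_grHom i))

theorem cobdy_homogeneous (a : HomogeneousIdeal 𝒜) (E : GrLC.StarInjRes 𝒜 ℳ) (i : ℕ) :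
    (E.cobdy a i).IsHomogeneous (E.X i).gr := by
  cases i with
  | zero =>
    intro g x hx
    have : x = 0 := hx
    rw [this, decompose_zero, DirectSum.zero_apply, ZeroMemClass.coe_zero]
    exact Submodule.zero_mem _
  | succ n =>
    exact map_homogeneous (E.X n).gr (E.X (n + 1)).gr (E.d n) (E.d_grHom n) _
      (gam_homogeneous 𝒜 (E.X n).gr a.toIdeal a.isHomogeneous)

theorem main_S13225 (a : HomogeneousIdeal 𝒜) (E : GrLC.StarInjRes 𝒜 ℳ) (i : ℕ) :
    DirectSum.IsInternal (E.Hgr a i) := by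
  have hZ := cocyc_homogeneous 𝒜 ℳ a E i
  letI := subDecomp (E.X i).gr (E.cocyc a i) hZ
  have hB : ((E.cobdy a i).comap (E.cocyc a i).subtype).IsHomogeneous
      (subPiece (E.X i).gr (E.cocyc a i)) :=
    comap_homogeneous (subPiece (E.X i).gr (E.cocyc a i)) (E.X i).gr (E.cocyc a i).subtype
      (subtype_grHom (E.X i).gr (E.cocyc a i)) _ (cobdy_homogeneous 𝒜 ℳ a E i)
  letI := quotDecomp (subPiece (E.X i).gr (E.cocyc a i))
    ((E.cobdy a i).comap (E.cocyc a i).subtype) hB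
  have heq : E.Hgr a i = quotPiece (subPiece (E.X i).gr (E.cocyc a i))
      ((E.cobdy a i).comap (E.cocyc a i).subtype) := by
    funext g
    ext x
    rfl
  rw [heq]
  exact DirectSum.Decomposition.isInternal _

end Main

end Groth.Agent.H21.GrLCH
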