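import Groth.Agent.H13.LCArt

set_option autoImplicit false
set_option linter.style.haveILetI false

open CategoryTheory Limits Opposite Pointwise

namespace Groth.Agent.H21.GrArt1
open Groth.Agent.H13.LC

universe u

variable {R : Type u} [CommRing R] [IsNoetherianRing R]

/-- A finite module which is power-torsion for a maximal ideal is Artinian. -/
theorem isArtinian_of_finite_of_powerTorsion (m : Ideal R) [hmax : m.IsMaximal]
    (N : Type u) [AddCommGroup N] [Module R N]
    [Module.Finite R N] (h : LocCoh.IsPowerTorsion m N) :
    IsArtinian R N := by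
  apply Groth.Agent.Helper7.Melk.isArtinian_of_powerTorsion m
    (IsNoetherian.noetherian _) h
  haveI : IsNoetherian R N := isNoetherian_of_isNoetherianRing_of_finite R N
  haveI : Module.Finite (R ⧸ m)
      (Submodule.torsionBySet R N (m : Set R)) :=
    Module.Finite.of_restrictScalars_finite R _ _
  letI : Field (R ⧸ m) := Ideal.Quotient.field _
  haveI : IsArtinian (R ⧸ m)
      (Submodule.torsionBySet R N (m : Set R)) := inferInstance
  exact isArtinian_of_surjective_algebraMap (S := R) (R := R ⧸ m)
    Ideal.Quotient.mk_surjective

/-- `H^i_m(M)` is Artinian for finite `M`, `m` maximal. -/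
theorem isArtinian_max (m : Ideal R) [hmax : m.IsMaximal] (i : ℕ) :
    ∀ (M : Type u) [AddCommGroup M] [Module R M],
    Module.Finite R M →
    IsArtinian R ((localCohomology m i).obj (ModuleCat.of R M)) := by
  induction i with
  | zero =>
    intro M _ _ hfin
    haveI := finite_H0 m M
    exact isArtinian_of_finite_of_powerTorsion m _ (isPowerTorsion _ 0 _)
  | succ i ih =>
    intro M _ _ hfin
    have htors' := torsionSub_quotient_eq_bot m M
    have hbij := map_mkQ_bijective m M (i + 1) (Nat.succ_pos i)
    obtain ⟨x, hxI, hreg⟩ := exists_isSMulRegular_of_torsionSub_eq_bot m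
      (M ⧸ DRing.torsionSub m M) htors'
    have hA := ih (QuotSMulTop x (M ⧸ DRing.torsionSub m M))
      inferInstance
    haveI := isArtinian_succ_of_regular m i x hxI hreg hA
    exact isArtinian_of_linearEquiv (LinearEquiv.ofBijective _ hbij).symm

end Groth.Agent.H21.GrArt1
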