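import Mathlib
import Groth.Prelude.Def_GrLC
import Groth.Agent.H21.StarInj

set_option autoImplicit false
universe u
open DirectSum

namespace Groth.Agent.H21.GrStarMax
open Groth.Agent.H21.StarInj

variable {R : Type u} [CommRing R] (𝒜 : ℤ → AddSubgroup R) [GradedRing 𝒜]

theorem sup_span_eq_top (m : HomogeneousIdeal 𝒜) (hm : IsCoatom m) (d : ℤ) (y : R) (hy : y ∈ 𝒜 d)
    (hym : y ∉ m.toIdeal) : m.toIdeal ⊔ Ideal.span {y} = ⊤ := by
  have hhom : (Ideal.span {y}).IsHomogeneous 𝒜 := by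
    apply Ideal.homogeneous_span
    intro z hz
    rw [Set.mem_singleton_iff.mp hz]
    exact ⟨d, hy⟩
  obtain ⟨b, hb⟩ : ∃ b : HomogeneousIdeal 𝒜, b = m ⊔ ⟨Ideal.span {y}, hhom⟩ := ⟨_, rfl⟩
  have hlt : m < b := by
    rw [hb]
    refine lt_of_le_of_ne le_sup_left ?_
    intro heq
    apply hym
    have h1 : y ∈ (m ⊔ ⟨Ideal.span {y}, hhom⟩ : HomogeneousIdeal 𝒜).toIdeal := by
      rw [HomogeneousIdeal.toIdeal_sup]
      exact Ideal.mem_sup_right (Ideal.subset_span rfl)
    rw [← heq] at h1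
    exact h1
  have htop := hm.2 b hlt
  have h2 : b.toIdeal = ⊤ := by rw [htop]; rfl
  rw [hb, HomogeneousIdeal.toIdeal_sup] at h2
  exact h2

theorem isMaximal_of_coatom (hpos : ∀ n : ℤ, n < 0 → 𝒜 n = ⊥) (m : HomogeneousIdeal 𝒜)
    (hm : IsCoatom m) : m.toIdeal.IsMaximal := by
  classical
  have hne : (1 : R) ∉ m.toIdeal := by
    intro h1
    apply hm.1
    apply HomogeneousIdeal.toIdeal_injective
    rw [HomogeneousIdeal.toIdeal_top]
    exact (Ideal.eq_top_iff_one _).mpr h1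
  have hone : (decompose 𝒜 (1 : R) 0 : R) = 1 :=
    DirectSum.decompose_of_mem_same 𝒜 (SetLike.GradedOne.one_mem (A := 𝒜))
  -- pieces of nonzero degree lie in `m`
  have hclaim : ∀ d : ℤ, d ≠ 0 → ∀ y ∈ 𝒜 d, y ∈ m.toIdeal := by
    intro d hd y hy
    rcases lt_or_gt_of_ne hd with hlt | hgt
    · rw [hpos d hlt, AddSubgroup.mem_bot] at hy
      rw [hy]; exact Ideal.zero_mem _
    · by_contra hym
      have htop := sup_span_eq_top 𝒜 m hm d y hy hym
      have h1 : (1 : R) ∈ m.toIdeal ⊔ Ideal.span {y} := by rw [htop]; trivial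
      obtain ⟨a, ha, w, hw, haw⟩ := Submodule.mem_sup.mp h1
      obtain ⟨r, rfl⟩ := Ideal.mem_span_singleton'.mp hw
      have h2 : (decompose 𝒜 (r * y) 0 : R) = 0 := by
        have h3 := decompose_hsmul 𝒜 𝒜 hy r 0
        rw [smul_eq_mul, mul_comm] at h3
        rw [h3]
        have h4 : ∀ z : R, z ∈ 𝒜 (0 - d) → z = 0 := by
          intro z hz
          rw [hpos (0 - d) (by omega), AddSubgroup.mem_bot] at hz
          exact hz
        rw [h4 _ (decompose 𝒜 r (0 - d)).2, smul_zero]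
      have h5 : (decompose 𝒜 a 0 : R) = 1 := by
        have := congrArg (fun z => (decompose 𝒜 z 0 : R)) haw
        simp only [decompose_add, DirectSum.add_apply, AddSubgroup.coe_add] at this
        rw [h2, add_zero, hone] at this
        exact this
      apply hne
      rw [← h5]
      exact m.isHomogeneous 0 ha
  have hdiff : ∀ x : R, x - (decompose 𝒜 x 0 : R) ∈ m.toIdeal := by
    intro x
    have h1 : x - (decompose 𝒜 x 0 : R) =
        ∑ i ∈ (decompose 𝒜 x).support.erase 0, (decompose 𝒜 x i : R) := by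
      by_cases h0 : (0 : ℤ) ∈ (decompose 𝒜 x).support
      · rw [sub_eq_iff_eq_add, Finset.sum_erase_add _ _ h0]
        exact (DirectSum.sum_support_decompose 𝒜 x).symm
      · rw [Finset.erase_eq_of_notMem h0]
        have : (decompose 𝒜 x 0 : R) = 0 := by
          rw [DFinsupp.notMem_support_iff] at h0
          rw [h0]; rfl
        rw [this, sub_zero]
        exact (DirectSum.sum_support_decompose 𝒜 x).symm
    rw [h1]
    refine Ideal.sum_mem _ (fun i hi => ?_)
    exact hclaim i (Finset.ne_of_mem_erase hi) _ (decompose 𝒜 x i).2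
  rw [Ideal.isMaximal_iff]
  refine ⟨hne, fun J x hmJ hxm hxJ => ?_⟩
  obtain ⟨x0, hx0⟩ : ∃ x0 : R, x0 = (decompose 𝒜 x 0 : R) := ⟨_, rfl⟩
  have hx0J : x0 ∈ J := by
    have h1 : x0 = x - (x - x0) := by ring
    rw [h1]
    exact J.sub_mem hxJ (hmJ (by rw [hx0]; exact hdiff x))
  have hx0m : x0 ∉ m.toIdeal := by
    intro h
    apply hxm
    have h1 : x = (x - x0) + x0 := by ring
    rw [h1]
    exact Ideal.add_mem _ (by rw [hx0]; exact hdiff x) h
  have htop := sup_span_eq_top 𝒜 m hm 0 x0 (by rw [hx0]; exact (decompose 𝒜 x 0).2) hx0m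
  have h1 : (1 : R) ∈ m.toIdeal ⊔ Ideal.span {x0} := by rw [htop]; trivial
  have hle : m.toIdeal ⊔ Ideal.span {x0} ≤ J := by
    rw [sup_le_iff, Ideal.span_le, Set.singleton_subset_iff]
    exact ⟨hmJ, hx0J⟩
  exact hle h1

end Groth.Agent.H21.GrStarMax
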