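import Mathlib
import Groth.Prelude.Def_GrLC
import Groth.Agent.H21.GrLCIso
import Groth.Agent.H21.GrLCH
import Groth.Agent.H21.GrStarMax
import Groth.Agent.H21.GrArt1
import Groth.Agent.H21.GrArtin

set_option autoImplicit false
universe u
open DirectSum

namespace Groth.Agent.H21.GrArtMain
open Groth.Agent.H21.StarInj Groth.Agent.H21.GrInfra Groth.Agent.H21.GrInfra2

variable {R : Type u} [CommRing R] [IsNoetherianRing R] (𝒜 : ℤ → AddSubgroup R) [GradedRing 𝒜]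
  (hpos : ∀ n : ℤ, n < 0 → 𝒜 n = ⊥) (m : HomogeneousIdeal 𝒜) (hm : GrLC.IsStarLocal 𝒜 m)
  {M : Type u} [AddCommGroup M] [Module R M] [Module.Finite R M] (ℳ : ℤ → AddSubgroup M)
  [DirectSum.Decomposition ℳ] [SetLike.GradedSMul 𝒜 ℳ] (E : GrLC.StarInjRes 𝒜 ℳ) (i : ℕ)

include hpos hm in
theorem isArtinian_H : IsArtinian R (E.H m i) := by
  haveI : m.toIdeal.IsMaximal := GrStarMax.isMaximal_of_coatom 𝒜 hpos m hm.1
  obtain ⟨e⟩ := GrLCIso.main_S13224 E m i
  haveI : IsArtinian R (LocCoh.H m.toIdeal i M) := GrArt1.isArtinian_max m.toIdeal i M inferInstance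
  exact isArtinian_of_linearEquiv e.symm

include hpos hm in
theorem main_S17767 : ∃ N : ℤ, ∀ n : ℤ, N ≤ n → E.Hcomp m i n = ⊥ := by
  haveI := isArtinian_H 𝒜 hpos m hm ℳ E i
  have hZ := GrLCH.cocyc_homogeneous 𝒜 ℳ m E i
  letI := subDecomp (E.X i).gr (E.cocyc m i) hZ
  haveI := subGSMul 𝒜 (E.X i).gr (E.cocyc m i)
  have hB : ((E.cobdy m i).comap (E.cocyc m i).subtype).IsHomogeneous
      (subPiece (E.X i).gr (E.cocyc m i)) :=
    comap_homogeneous (subPiece (E.X i).gr (E.cocyc m i)) (E.X i).gr (E.cocyc m i).subtype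
      (subtype_grHom (E.X i).gr (E.cocyc m i)) _ (GrLCH.cobdy_homogeneous 𝒜 ℳ m E i)
  letI := quotDecomp (subPiece (E.X i).gr (E.cocyc m i))
    ((E.cobdy m i).comap (E.cocyc m i).subtype) hB
  haveI := quotGSMul 𝒜 (subPiece (E.X i).gr (E.cocyc m i))
    ((E.cobdy m i).comap (E.cocyc m i).subtype)
  obtain ⟨N, hN⟩ := GrArtin.exists_bound 𝒜 (quotPiece (subPiece (E.X i).gr (E.cocyc m i))
    ((E.cobdy m i).comap (E.cocyc m i).subtype)) hpos
  refine ⟨N, fun n hn => ?_⟩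
  rw [eq_bot_iff]
  intro x hx
  have h1 : x ∈ quotPiece (subPiece (E.X i).gr (E.cocyc m i))
    ((E.cobdy m i).comap (E.cocyc m i).subtype) n := hx
  rw [hN n hn, AddSubgroup.mem_bot] at h1
  rw [h1]
  exact Submodule.zero_mem _

include hpos hm in
theorem main_S17768 (n : ℤ) : IsArtinian (GrLC.deg0 𝒜) (E.Hcomp m i n) := by
  haveI := isArtinian_H 𝒜 hpos m hm ℳ E i
  have hZ := GrLCH.cocyc_homogeneous 𝒜 ℳ m E i
  letI := subDecomp (E.X i).gr (E.cocyc m i) hZ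
  haveI := subGSMul 𝒜 (E.X i).gr (E.cocyc m i)
  have hB : ((E.cobdy m i).comap (E.cocyc m i).subtype).IsHomogeneous
      (subPiece (E.X i).gr (E.cocyc m i)) :=
    comap_homogeneous (subPiece (E.X i).gr (E.cocyc m i)) (E.X i).gr (E.cocyc m i).subtype
      (subtype_grHom (E.X i).gr (E.cocyc m i)) _ (GrLCH.cobdy_homogeneous 𝒜 ℳ m E i)
  letI := quotDecomp (subPiece (E.X i).gr (E.cocyc m i))
    ((E.cobdy m i).comap (E.cocyc m i).subtype) hB
  haveI := quotGSMul 𝒜 (subPiece (E.X i).gr (E.cocyc m i))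
    ((E.cobdy m i).comap (E.cocyc m i).subtype)
  exact GrArtin.isArtinian_piece 𝒜 (quotPiece (subPiece (E.X i).gr (E.cocyc m i))
    ((E.cobdy m i).comap (E.cocyc m i).subtype)) hpos n (E.Hcomp m i n) (fun x hx => hx)

end Groth.Agent.H21.GrArtMain
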