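import Mathlib
import Groth.Prelude.Def_GrLC

set_option autoImplicit false
universe u
open DirectSum

namespace Groth.Agent.H21.GrConv

section Grading
variable {ι : Type} [DecidableEq ι]
  {M : Type u} [AddCommGroup M] {τ : Type u} [SetLike τ M] [AddSubgroupClass τ M] (ℳ : ι → τ)

/-- the same pieces as additive subgroups -/
def cv : ι → AddSubgroup M := fun g => AddSubgroup.ofClass (ℳ g)

omit [DecidableEq ι] in
theorem mem_cv {g : ι} {m : M} : m ∈ cv ℳ g ↔ m ∈ ℳ g := Iff.rfl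

/-- transport on pieces -/
def toCv (g : ι) : ℳ g →+ cv ℳ g where
  toFun y := ⟨y.1, y.2⟩
  map_zero' := rfl
  map_add' _ _ := rfl

theorem coe_map_toCv (w : ⨁ i, ℳ i) :
    DirectSum.coeAddMonoidHom (cv ℳ) (DirectSum.map (toCv ℳ) w) =
      DirectSum.coeAddMonoidHom ℳ w := by
  induction w using DirectSum.induction_on with
  | zero => simp
  | of i y =>
    rw [DirectSum.map_of, DirectSum.coeAddMonoidHom_of, DirectSum.coeAddMonoidHom_of]
    rfl
  | add a b ha hb => rw [map_add, map_add, ha, hb, map_add]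

noncomputable instance cvDecomp [DirectSum.Decomposition ℳ] : DirectSum.Decomposition (cv ℳ) :=
  DirectSum.Decomposition.ofAddHom (cv ℳ)
    ((DirectSum.map (toCv ℳ)).comp (DirectSum.decomposeAddEquiv ℳ).toAddMonoidHom)
    (by
      ext m
      change DirectSum.coeAddMonoidHom (cv ℳ) (DirectSum.map (toCv ℳ) (decompose ℳ m)) = m
      rw [coe_map_toCv]
      exact DirectSum.Decomposition.left_inv m)
    (by
      apply DirectSum.addHom_ext
      intro i y
      change DirectSum.map (toCv ℳ) (decompose ℳ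
        (DirectSum.coeAddMonoidHom (cv ℳ) (DirectSum.of (fun i => cv ℳ i) i y))) =
        DirectSum.of (fun i => cv ℳ i) i y
      rw [DirectSum.coeAddMonoidHom_of]
      have hy : (y : M) ∈ ℳ i := y.2
      rw [DirectSum.decompose_of_mem ℳ hy, DirectSum.map_of]
      rfl)

theorem decompose_cv [DirectSum.Decomposition ℳ] (m : M) (i : ι) :
    (decompose (cv ℳ) m i : M) = (decompose ℳ m i : M) := by
  change ((DirectSum.map (toCv ℳ) (decompose ℳ m)) i : M) = _
  rw [DirectSum.map_apply]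
  rfl

end Grading

section Ring
variable {ι : Type} [AddCommGroup ι] [DecidableEq ι]
  {R : Type u} [CommRing R] {σ : Type u} [SetLike σ R] [AddSubgroupClass σ R]
  (𝒜 : ι → σ) [GradedRing 𝒜]

noncomputable instance cvGradedRing : GradedRing (cv 𝒜) :=
  { one_mem := SetLike.GradedOne.one_mem (A := 𝒜)
    mul_mem := fun _ _ _ _ ha hb => SetLike.GradedMul.mul_mem (A := 𝒜) ha hb
    toDecomposition := cvDecomp 𝒜 }

variable {M : Type u} [AddCommGroup M] [Module R M] {τ : Type u} [SetLike τ M]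
  [AddSubgroupClass τ M] (ℳ : ι → τ)

instance cvGSMul [SetLike.GradedSMul 𝒜 ℳ] : SetLike.GradedSMul (cv 𝒜) (cv ℳ) where
  smul_mem := fun _ _ _ _ hi hj => SetLike.GradedSMul.smul_mem (A := 𝒜) (B := ℳ) hi hj

/-- convert a bundled graded module -/
noncomputable def toA (X : GrLC.GMod.{u} 𝒜) : GrLC.GMod.{u} (cv 𝒜) :=
  { carrier := X.carrier
    gr := X.gr
    gsmul := ⟨fun _ _ _ _ hi hj => SetLike.GradedSMul.smul_mem (A := 𝒜) (B := X.gr) hi hj⟩ }

/-- convert back -/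
noncomputable def ofA (X : GrLC.GMod.{u} (cv 𝒜)) : GrLC.GMod.{u} 𝒜 :=
  { carrier := X.carrier
    gr := X.gr
    gsmul := ⟨fun _ _ _ _ hi hj =>
      SetLike.GradedSMul.smul_mem (A := cv 𝒜) (B := X.gr) hi hj⟩ }

theorem starInj_toA (X : GrLC.GMod.{u} 𝒜) (h : GrLC.IsStarInj 𝒜 X.gr) :
    GrLC.IsStarInj (cv 𝒜) (toA 𝒜 X).gr :=
  fun A B f hf hinj g hg => h (ofA 𝒜 A) (ofA 𝒜 B) f hf hinj g hg

variable {ℳ} [DirectSum.Decomposition ℳ] [SetLike.GradedSMul 𝒜 ℳ]

/-- convert a resolution -/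
noncomputable def resA (E : GrLC.StarInjRes 𝒜 ℳ) : GrLC.StarInjRes (cv 𝒜) (cv ℳ) where
  X n := toA 𝒜 (E.X n)
  d := E.d
  ε := E.ε
  d_grHom := E.d_grHom
  ε_grHom := E.ε_grHom
  ε_injective := E.ε_injective
  exact_zero := E.exact_zero
  exact_succ := E.exact_succ
  starInj n := starInj_toA 𝒜 (E.X n) (E.starInj n)

/-- convert a homogeneous ideal -/
noncomputable def idA (a : HomogeneousIdeal 𝒜) : HomogeneousIdeal (cv 𝒜) :=
  ⟨a.toIdeal, fun i r hr => by
    rw [decompose_cv]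
    exact a.isHomogeneous i hr⟩

theorem idA_toIdeal (a : HomogeneousIdeal 𝒜) : (idA 𝒜 a).toIdeal = a.toIdeal := rfl

theorem Hcomp_iff (E : GrLC.StarInjRes 𝒜 ℳ) (a : HomogeneousIdeal 𝒜) (i : ℕ) (g : ι) :
    E.Hcomp a i g = ⊥ ↔ (resA 𝒜 E).Hcomp (idA 𝒜 a) i g = ⊥ := by
  rw [Submodule.eq_bot_iff, Submodule.eq_bot_iff]
  constructor
  · rintro h x ⟨z, hz, rfl⟩
    exact h _ ⟨z, hz, rfl⟩
  · rintro h x ⟨z, hz, rfl⟩
    exact h _ ⟨z, hz, rfl⟩

end Ring

end Groth.Agent.H21.GrConv
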