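import Mathlib
import Groth.Prelude.Def_GrLC
import Groth.Prelude.Def_Wider
import Groth.Agent.H21.GrTors
import Groth.Agent.H21.GrExt

set_option autoImplicit false
universe u
open DirectSum

namespace Groth.Agent.H21.GrMaxHull
open Groth.Agent.H21.StarInj Groth.Agent.H21.GrInfra Groth.Agent.H21.GrInfra2
  Groth.Agent.H21.GrExt Groth.Agent.H21.StarInj3

section Baer
variable {ι : Type} [AddCommGroup ι] [DecidableEq ι]
  {R : Type u} [CommRing R] [IsNoetherianRing R] {𝒜 : ι → AddSubgroup R} [GradedRing 𝒜]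
  {Q : Type u} [AddCommGroup Q] [Module R Q] (𝒬 : ι → AddSubgroup Q) [DirectSum.Decomposition 𝒬]
  [SetLike.GradedSMul 𝒜 𝒬] (hQ : GrLC.IsStarInj 𝒜 𝒬) (m : HomogeneousIdeal 𝒜)

include hQ in
theorem exists_elt (ψ : ↥m.toIdeal →ₗ[R] Q) :
    ∃ y : Q, ∀ μ (hμ : μ ∈ m.toIdeal), μ • y = ψ ⟨μ, hμ⟩ := by
  have hfin : Module.Finite R ↥m.toIdeal :=
    Module.Finite.of_fg (IsNoetherian.noetherian m.toIdeal)
  obtain ⟨ψ', hψ'⟩ := @extend_of_fg ι _ _ R _ 𝒜 _ Q _ _ 𝒬 _ _ hQ (selfG 𝒜) m.toIdeal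
    m.isHomogeneous hfin ψ
  obtain ⟨ψ'', hψ''⟩ : ∃ ψ'' : R →ₗ[R] Q, ∀ μ (hμ : μ ∈ m.toIdeal), ψ'' μ = ψ ⟨μ, hμ⟩ :=
    ⟨ψ', fun μ hμ => by rw [← hψ']; rfl⟩
  refine ⟨ψ'' 1, fun μ hμ => ?_⟩
  rw [← hψ'' μ hμ, ← map_smul, smul_eq_mul, mul_one]

variable [hmax : m.toIdeal.IsMaximal]

include hQ hmax in
theorem ext_step (J : Ideal R) (t : R) (ht : ∀ μ ∈ m.toIdeal, μ * t ∈ J) (φ : ↥J →ₗ[R] Q) :
    ∃ φ' : ↥(J ⊔ Ideal.span {t}) →ₗ[R] Q,
      ∀ j (hj : j ∈ J), φ' ⟨j, Ideal.mem_sup_left hj⟩ = φ ⟨j, hj⟩ := by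
  by_cases htJ : t ∈ J
  · have hle : J ⊔ Ideal.span {t} ≤ J := by
      rw [sup_le_iff, Ideal.span_le, Set.singleton_subset_iff]
      exact ⟨le_rfl, htJ⟩
    exact ⟨φ ∘ₗ Submodule.inclusion hle, fun j hj => rfl⟩
  · obtain ⟨ψ, hψ⟩ : ∃ ψ : ↥m.toIdeal →ₗ[R] Q, ∀ μ (hμ : μ ∈ m.toIdeal),
        ψ ⟨μ, hμ⟩ = φ ⟨μ * t, ht μ hμ⟩ := by
      refine ⟨{ toFun := fun μ => φ ⟨μ.1 * t, ht μ.1 μ.2⟩, map_add' := ?_, map_smul' := ?_ },
        fun μ hμ => rfl⟩
      · intro a b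
        rw [← map_add]
        congr 1
        apply Subtype.ext
        change (a.1 + b.1) * t = a.1 * t + b.1 * t
        ring
      · intro r a
        rw [RingHom.id_apply, ← map_smul]
        congr 1
        apply Subtype.ext
        change (r * a.1) * t = r * (a.1 * t)
        ring
    obtain ⟨y, hy⟩ := exists_elt 𝒬 hQ m ψ
    obtain ⟨θ, hθ⟩ : ∃ θ : (↥J × R) →ₗ[R] Q, θ = φ.coprod (LinearMap.toSpanSingleton R Q y) :=
      ⟨_, rfl⟩
    have hθapp : ∀ j r, θ (j, r) = φ j + r • y := by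
      intro j r; rw [hθ, LinearMap.coprod_apply, LinearMap.toSpanSingleton_apply]
    have htJ' : t ∈ J ⊔ Ideal.span {t} := Ideal.mem_sup_right (Ideal.subset_span rfl)
    obtain ⟨ρ, hρ⟩ : ∃ ρ : (↥J × R) →ₗ[R] ↥(J ⊔ Ideal.span {t}), ∀ p,
        ((ρ p : ↥(J ⊔ Ideal.span {t})) : R) = (p.1 : R) + p.2 * t := by
      refine ⟨(Submodule.inclusion le_sup_left).coprod
        (LinearMap.toSpanSingleton R ↥(J ⊔ Ideal.span {t}) ⟨t, htJ'⟩), fun p => ?_⟩
      rw [LinearMap.coprod_apply, LinearMap.toSpanSingleton_apply, Submodule.coe_add,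
        Submodule.coe_smul, Submodule.coe_inclusion, smul_eq_mul]
    have hsurj : Function.Surjective ρ := by
      rintro ⟨z, hz⟩
      obtain ⟨j, hj, w, hw, rfl⟩ := Submodule.mem_sup.mp hz
      obtain ⟨r, rfl⟩ := Ideal.mem_span_singleton'.mp hw
      exact ⟨(⟨j, hj⟩, r), Subtype.ext (hρ _)⟩
    have hker : LinearMap.ker ρ ≤ LinearMap.ker θ := by
      rintro ⟨j, r⟩ hp
      rw [LinearMap.mem_ker] at hp ⊢
      have h1 : (j : R) + r * t = 0 := by
        have := congrArg Subtype.val hp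
        rw [hρ] at this
        exact this
      rw [hθapp]
      by_cases hr : r ∈ m.toIdeal
      · rw [hy r hr, hψ r hr, ← map_add]
        have : j + ⟨r * t, ht r hr⟩ = 0 := Subtype.ext h1
        rw [this, map_zero]
      · exfalso
        obtain ⟨s, μ, hμ, hs⟩ := hmax.exists_inv hr
        apply htJ
        have h2 : t = s * (r * t) + μ * t := by linear_combination (-t) * hs
        rw [h2]
        refine J.add_mem (J.mul_mem_left s ?_) (ht μ hμ)
        have : r * t = -(j : R) := by linear_combination h1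
        rw [this]
        exact J.neg_mem j.2
    refine ⟨(LinearMap.ker ρ).liftQ θ hker ∘ₗ
      (ρ.quotKerEquivOfSurjective hsurj).symm.toLinearMap, fun j hj => ?_⟩
    have h3 : (⟨j, Ideal.mem_sup_left hj⟩ : ↥(J ⊔ Ideal.span {t})) = ρ (⟨j, hj⟩, 0) := by
      apply Subtype.ext
      rw [hρ]
      change j = j + 0 * t
      ring
    rw [h3, LinearMap.comp_apply, LinearEquiv.coe_coe]
    have h4 : (ρ.quotKerEquivOfSurjective hsurj).symm (ρ (⟨j, hj⟩, 0)) =
        (LinearMap.ker ρ).mkQ (⟨j, hj⟩, 0) := by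
      rw [LinearEquiv.symm_apply_eq]
      rfl
    rw [h4, Submodule.mkQ_apply, Submodule.liftQ_apply, hθapp, zero_smul, add_zero]

include hQ hmax in
theorem extend_of_pow_le (n : ℕ) : ∀ J : Ideal R, m.toIdeal ^ n ≤ J → ∀ φ : ↥J →ₗ[R] Q,
    ∃ φ' : R →ₗ[R] Q, ∀ j (hj : j ∈ J), φ' j = φ ⟨j, hj⟩ := by
  intro J
  induction J using IsNoetherian.induction with
  | hgt J ih =>
    intro hJn φ
    by_cases hJ : J = ⊤
    · refine ⟨φ ∘ₗ LinearMap.codRestrict J LinearMap.id (fun r => by rw [hJ]; trivial),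
        fun j hj => rfl⟩
    · have hex : ∃ i, m.toIdeal ^ (i + 1) ≤ J :=
        ⟨n, (Ideal.pow_le_pow_right (Nat.le_succ n)).trans hJn⟩
      classical
      obtain ⟨i₀, hi₀⟩ : ∃ i₀, i₀ = Nat.find hex := ⟨_, rfl⟩
      have h1 : m.toIdeal ^ (i₀ + 1) ≤ J := by rw [hi₀]; exact Nat.find_spec hex
      have h2 : ¬ m.toIdeal ^ i₀ ≤ J := by
        intro hle
        cases i₀ with
        | zero =>
          apply hJ
          rw [pow_zero, Ideal.one_eq_top] at hle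
          exact top_le_iff.mp hle
        | succ i =>
          have := Nat.find_min hex (m := i) (by rw [← hi₀]; exact Nat.lt_succ_self i)
          exact this hle
      obtain ⟨t, htm, htJ⟩ := SetLike.not_le_iff_exists.mp h2
      have ht : ∀ μ ∈ m.toIdeal, μ * t ∈ J := by
        intro μ hμ
        apply h1
        rw [pow_succ']
        exact Ideal.mul_mem_mul hμ htm
      obtain ⟨φ', hφ'⟩ := ext_step 𝒬 hQ m J t ht φ
      have hlt : J < J ⊔ Ideal.span {t} := by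
        refine lt_of_le_of_ne le_sup_left ?_
        intro heq
        apply htJ
        rw [heq]
        exact Ideal.mem_sup_right (Ideal.subset_span rfl)
      obtain ⟨φ'', hφ''⟩ := ih _ hlt (hJn.trans le_sup_left) φ'
      exact ⟨φ'', fun j hj => by rw [hφ'' j (Ideal.mem_sup_left hj), hφ' j hj]⟩

include hQ hmax in
theorem injective_of_tors (htors : GrLC.gam m.toIdeal Q = ⊤) : Module.Injective R Q := by
  apply Module.Baer.injective
  intro I g
  have hfg : (LinearMap.range g).FG := by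
    rw [LinearMap.range_eq_map]
    haveI : Module.Finite R ↥I := Module.Finite.of_fg (IsNoetherian.noetherian I)
    exact Submodule.FG.map g Module.Finite.fg_top
  obtain ⟨k, hk⟩ := GrTors.exists_pow_kill m.toIdeal (LinearMap.range g) hfg
    (fun z _ => by rw [htors]; trivial)
  obtain ⟨c, hc⟩ := Ideal.exists_pow_inf_eq_pow_smul m.toIdeal (I : Submodule R R)
  have hvan : ∀ i (hi : i ∈ I), i ∈ m.toIdeal ^ (c + k) → g ⟨i, hi⟩ = 0 := by
    intro i hi him
    have h1 : i ∈ (m.toIdeal ^ (c + k) • ⊤ ⊓ I : Submodule R R) := by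
      refine ⟨?_, hi⟩
      rw [Ideal.smul_eq_mul, Ideal.mul_top]
      exact him
    rw [hc (c + k) (Nat.le_add_right c k), Nat.add_sub_cancel_left] at h1
    have h2 : ∀ z : R, z ∈ (m.toIdeal ^ k • (m.toIdeal ^ c • ⊤ ⊓ I) : Submodule R R) →
        z ∈ I ∧ ∀ hz : z ∈ I, g ⟨z, hz⟩ = 0 := by
      intro z hz
      refine Submodule.smul_induction_on hz ?_ ?_
      · intro r hr w hw
        refine ⟨I.mul_mem_left r hw.2, fun hz => ?_⟩
        have : (⟨r • w, hz⟩ : ↥I) = r • ⟨w, hw.2⟩ := rfl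
        rw [this, map_smul]
        exact hk _ ⟨_, rfl⟩ r hr
      · intro x y hx hy
        refine ⟨I.add_mem hx.1 hy.1, fun hz => ?_⟩
        have : (⟨x + y, hz⟩ : ↥I) = ⟨x, hx.1⟩ + ⟨y, hy.1⟩ := rfl
        rw [this, map_add, hx.2 hx.1, hy.2 hy.1, add_zero]
    exact (h2 i h1).2 hi
  -- extend to J = I ⊔ m^(c+k)
  obtain ⟨ρ, hρ⟩ : ∃ ρ : (↥I × ↥(m.toIdeal ^ (c + k))) →ₗ[R] ↥(I ⊔ m.toIdeal ^ (c + k)), ∀ p,
      ((ρ p : ↥(I ⊔ m.toIdeal ^ (c + k))) : R) = (p.1 : R) + (p.2 : R) := by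
    refine ⟨(Submodule.inclusion le_sup_left).coprod (Submodule.inclusion le_sup_right),
      fun p => ?_⟩
    rw [LinearMap.coprod_apply, Submodule.coe_add, Submodule.coe_inclusion,
      Submodule.coe_inclusion]
  have hsurj : Function.Surjective ρ := by
    rintro ⟨z, hz⟩
    obtain ⟨i, hi, w, hw, rfl⟩ := Submodule.mem_sup.mp hz
    exact ⟨(⟨i, hi⟩, ⟨w, hw⟩), Subtype.ext (hρ _)⟩
  obtain ⟨θ, hθ⟩ : ∃ θ : (↥I × ↥(m.toIdeal ^ (c + k))) →ₗ[R] Q,
      θ = g ∘ₗ LinearMap.fst R _ _ := ⟨_, rfl⟩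
  have hker : LinearMap.ker ρ ≤ LinearMap.ker θ := by
    rintro ⟨i, w⟩ hp
    rw [LinearMap.mem_ker] at hp ⊢
    have h1 : (i : R) + (w : R) = 0 := by
      have := congrArg Subtype.val hp
      rw [hρ] at this
      exact this
    rw [hθ, LinearMap.comp_apply, LinearMap.fst_apply]
    have h2 : (i : R) ∈ m.toIdeal ^ (c + k) := by
      have : (i : R) = -(w : R) := by linear_combination h1
      rw [this]
      exact neg_mem w.2
    exact hvan i i.2 h2
  obtain ⟨g1, hg1⟩ : ∃ g1 : ↥(I ⊔ m.toIdeal ^ (c + k)) →ₗ[R] Q, ∀ p, g1 (ρ p) = θ p := by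
    refine ⟨(LinearMap.ker ρ).liftQ θ hker ∘ₗ
      (ρ.quotKerEquivOfSurjective hsurj).symm.toLinearMap, fun p => ?_⟩
    rw [LinearMap.comp_apply, LinearEquiv.coe_coe]
    have h4 : (ρ.quotKerEquivOfSurjective hsurj).symm (ρ p) = (LinearMap.ker ρ).mkQ p := by
      rw [LinearEquiv.symm_apply_eq]
      rfl
    rw [h4, Submodule.mkQ_apply, Submodule.liftQ_apply]
  obtain ⟨g', hg'⟩ := extend_of_pow_le 𝒬 hQ m (c + k) (I ⊔ m.toIdeal ^ (c + k)) le_sup_right g1
  refine ⟨g', fun x hx => ?_⟩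
  rw [hg' x (Ideal.mem_sup_left hx)]
  have h3 : (⟨x, Ideal.mem_sup_left hx⟩ : ↥(I ⊔ m.toIdeal ^ (c + k))) = ρ (⟨x, hx⟩, 0) := by
    apply Subtype.ext
    rw [hρ]
    change x = x + ((0 : ↥(m.toIdeal ^ (c + k))) : R)
    rw [Submodule.coe_zero, add_zero]
  rw [h3, hg1, hθ]
  rfl

end Baer

section Main
variable {ι : Type} [AddCommGroup ι] [DecidableEq ι]
  {R : Type u} [CommRing R] [IsNoetherianRing R] {𝒜 : ι → AddSubgroup R} [GradedRing 𝒜]
  (m : HomogeneousIdeal 𝒜) [hmax : m.toIdeal.IsMaximal]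
  {E' : Type u} [AddCommGroup E'] [Module R E'] (𝓔 : ι → AddSubgroup E')
  [DirectSum.Decomposition 𝓔] [SetLike.GradedSMul 𝒜 𝓔]
  (e : (R ⧸ m.toIdeal) →ₗ[R] E') (he : GrLC.IsStarInjHull 𝒜 (GrLC.quotGr 𝒜 m) 𝓔 e)

omit [IsNoetherianRing R] hmax in
theorem range_killed (z : E') (hz : z ∈ LinearMap.range e) (μ : R) (hμ : μ ∈ m.toIdeal) :
    μ • z = 0 := by
  obtain ⟨q, rfl⟩ := hz
  obtain ⟨r, rfl⟩ := Ideal.Quotient.mk_surjective q
  rw [← map_smul]
  have : μ • (Ideal.Quotient.mk m.toIdeal r) = 0 := by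
    rw [Algebra.smul_def, Ideal.Quotient.algebraMap_eq, ← map_mul]
    exact Ideal.Quotient.eq_zero_iff_mem.mpr (Ideal.mul_mem_right r _ hμ)
  rw [this, map_zero]

include he in
theorem tors : GrLC.gam m.toIdeal E' = ⊤ := by
  have hess : GrHull.EssIn 𝓔 (LinearMap.range e) ⊤ := by
    intro Q hQ _ hne
    exact he.essential Q hQ hne
  have hP₀ : LinearMap.range e ≤ GrLC.gam m.toIdeal E' := by
    intro z hz
    refine ⟨1, fun r hr => ?_⟩
    rw [pow_one] at hr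
    exact range_killed m e z hz r hr
  have htop : (⊤ : Submodule R E').IsHomogeneous 𝓔 := fun i x _ => Submodule.mem_top
  exact top_le_iff.mp
    (GrTors.tors_of_essIn 𝒜 𝓔 m.toIdeal m.isHomogeneous _ ⊤ htop hess hP₀)

include he hmax in
theorem soc_le (u : E') (hu : ∀ μ ∈ m.toIdeal, μ • u = 0) : u ∈ LinearMap.range e := by
  classical
  have hcomp : ∀ i, ∀ μ ∈ m.toIdeal, μ • (decompose 𝓔 u i : E') = 0 := by
    intro i μ hμ
    rw [← DirectSum.sum_support_decompose 𝒜 μ, Finset.sum_smul]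
    refine Finset.sum_eq_zero (fun d _ => ?_)
    have hd : (decompose 𝒜 μ d : R) ∈ m.toIdeal := m.isHomogeneous d hμ
    have h1 := decompose_hsmul 𝒜 𝓔 (decompose 𝒜 μ d).2 u (i + d)
    rw [hu _ hd, decompose_zero, DirectSum.zero_apply, ZeroMemClass.coe_zero,
      add_sub_cancel_right] at h1
    exact h1.symm
  rw [← DirectSum.sum_support_decompose 𝓔 u]
  refine Submodule.sum_mem _ (fun i _ => ?_)
  obtain ⟨w, hw⟩ : ∃ w : E', w = (decompose 𝓔 u i : E') := ⟨_, rfl⟩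
  rw [← hw]
  have hwi : w ∈ 𝓔 i := by rw [hw]; exact (decompose 𝓔 u i).2
  have hwm : ∀ μ ∈ m.toIdeal, μ • w = 0 := by rw [hw]; exact hcomp i
  by_cases hw0 : w = 0
  · rw [hw0]; exact Submodule.zero_mem _
  · have hspan := span_singleton_homogeneous 𝒜 𝓔 hwi
    have hne : Submodule.span R {w} ≠ ⊥ := by
      intro hbot
      exact hw0 ((Submodule.eq_bot_iff _).mp hbot w (Submodule.mem_span_singleton_self w))
    have h3 := he.essential _ hspan hne
    obtain ⟨z, hz, hz0⟩ := Submodule.exists_mem_ne_zero_of_ne_bot h3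
    obtain ⟨hz1, hz2⟩ := Submodule.mem_inf.mp hz
    obtain ⟨r, rfl⟩ := Submodule.mem_span_singleton.mp hz1
    have hr : r ∉ m.toIdeal := fun hr => hz0 (hwm r hr)
    obtain ⟨s, μ, hμ, hs⟩ := hmax.exists_inv hr
    have h4 : w = s • (r • w) := by
      have : w = (s * r + μ) • w := by rw [hs, one_smul]
      rw [add_smul, hwm μ hμ, add_zero, mul_smul] at this
      exact this
    rw [h4]
    exact Submodule.smul_mem _ s hz2

include he hmax in
theorem main_S18637 : InjHull.IsInjectiveHull e := by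
  classical
  have htors := tors m 𝓔 e he
  refine { injective := he.injective, essential := ?_,
           isInjective := injective_of_tors 𝓔 he.starInj m htors }
  intro N hN
  obtain ⟨v, hvN, hv0⟩ := Submodule.exists_mem_ne_zero_of_ne_bot hN
  have hvt : ∃ k : ℕ, ∀ r ∈ m.toIdeal ^ k, r • v = 0 := by
    have : v ∈ GrLC.gam m.toIdeal E' := by rw [htors]; trivial
    exact this
  obtain ⟨k₀, hk₀⟩ : ∃ k₀, k₀ = Nat.find hvt := ⟨_, rfl⟩
  have hspec : ∀ r ∈ m.toIdeal ^ k₀, r • v = 0 := by rw [hk₀]; exact Nat.find_spec hvt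
  cases k₀ with
  | zero =>
    exfalso
    apply hv0
    have := hspec 1 (by rw [pow_zero, Ideal.one_eq_top]; trivial)
    rwa [one_smul] at this
  | succ j =>
    have hmin : ¬ ∀ r ∈ m.toIdeal ^ j, r • v = 0 :=
      Nat.find_min hvt (m := j) (by rw [← hk₀]; exact Nat.lt_succ_self j)
    push Not at hmin
    obtain ⟨s, hs, hsv⟩ := hmin
    have hu : ∀ μ ∈ m.toIdeal, μ • (s • v) = 0 := by
      intro μ hμ
      rw [← mul_smul]
      apply hspec
      rw [pow_succ']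
      exact Ideal.mul_mem_mul hμ hs
    have hmem := soc_le m 𝓔 e he (s • v) hu
    intro hbot
    have : s • v ∈ N ⊓ LinearMap.range e := ⟨N.smul_mem s hvN, hmem⟩
    rw [hbot, Submodule.mem_bot] at this
    exact hsv this

end Main

end Groth.Agent.H21.GrMaxHull
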