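import Mathlib
import Groth.Prelude.Def_GrLC
import Groth.Agent.H21.GrCone2
import Groth.Agent.H21.GrRes
import Groth.Agent.H21.GrLCH

set_option autoImplicit false
universe u
open DirectSum

namespace Groth.Agent.H21.GrQReg
open Groth.Agent.H21.StarInj Groth.Agent.H21.GrInfra Groth.Agent.H21.GrInfra2
  Groth.Agent.H21.GrExt Groth.Agent.H21.StarInj3 Groth.Agent.H21.GrComp Groth.Agent.H21.GrCone
  Groth.Agent.H21.GrCone2

section Third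
variable {ι : Type} [AddCommGroup ι] [DecidableEq ι]
  {R : Type u} [CommRing R] {𝒜 : ι → AddSubgroup R} [GradedRing 𝒜]
  {M : Type u} [AddCommGroup M] [Module R M] {ℳ : ι → AddSubgroup M} [DirectSum.Decomposition ℳ]
  [SetLike.GradedSMul 𝒜 ℳ]
  {N : Type u} [AddCommGroup N] [Module R N] {𝒩 : ι → AddSubgroup N} [DirectSum.Decomposition 𝒩]
  [SetLike.GradedSMul 𝒜 𝒩]
  {M' : Type u} [AddCommGroup M'] [Module R M'] {ℳ' : ι → AddSubgroup M'}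
  [DirectSum.Decomposition ℳ'] [SetLike.GradedSMul 𝒜 ℳ']
  (E : GrLC.StarInjRes 𝒜 ℳ) (F : GrLC.StarInjRes 𝒜 𝒩)
  (Pm : ∀ n, (E.X n).carrier →ₗ[R] (F.X n).carrier)
  (hPgr : ∀ n, GrLC.IsGrHom (E.X n).gr (F.X n).gr (Pm n))
  (hPd : ∀ n x, Pm (n + 1) (E.d n x) = F.d n (Pm n x))
  (π : M →ₗ[R] N) (hPε : ∀ μ, Pm 0 (E.ε μ) = F.ε (π μ)) (hπ : Function.Surjective π)
  (j : M' →ₗ[R] M) (hj : GrLC.IsGrHom ℳ' ℳ j) (hjinj : Function.Injective j)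
  (hker : ∀ μ, π μ = 0 ↔ ∃ μ', μ = j μ') (a : HomogeneousIdeal 𝒜)

theorem gam_lin (P Q : Type u) [AddCommGroup P] [Module R P] [AddCommGroup Q] [Module R Q]
    (φ : P →ₗ[R] Q) (p : P) (hp : p ∈ GrLC.gam a.toIdeal P) : φ p ∈ GrLC.gam a.toIdeal Q := by
  obtain ⟨N0, hN0⟩ := hp
  exact ⟨N0, fun r hr => by rw [← map_smul, hN0 r hr, map_zero]⟩

include hPgr hPd hPε hπ hj hjinj hker in
/-- exactness at the third term of the long exact sequence of the cone, degreewise -/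
theorem third_exact (i : ℕ) (n : ι)
    (hE : E.Hcomp a (i + 1) n = ⊥)
    (hK : (K' E F Pm hPgr hPd π hPε hπ j hj hjinj hker).Hcomp a (i + 2) n = ⊥) :
    F.Hcomp a (i + 1) n = ⊥ := by
  classical
  rw [Submodule.eq_bot_iff]
  rintro q ⟨z, hzn, rfl⟩
  obtain ⟨hz1, hz2⟩ := Submodule.mem_inf.mp z.2
  rw [LinearMap.mem_ker] at hz2
  let KK : GrLC.StarInjRes 𝒜 ℳ' := K' E F Pm hPgr hPd π hPε hπ j hj hjinj hker
  obtain ⟨κ, hκ⟩ : ∃ κ : (KK.X (i + 2)).carrier,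
      κ = (show (KK.X (i + 2)).carrier from
        ((0, (z : (F.X (i + 1)).carrier)) : (E.X (i + 2)).carrier × (F.X (i + 1)).carrier)) :=
    ⟨_, rfl⟩
  have hκd : KK.d (i + 2) κ = 0 := by
    rw [hκ]
    refine (Kd_succ_eq_zero_iff E F Pm (i + 1) 0 (z : (F.X (i + 1)).carrier)).mpr
      ⟨map_zero _, ?_⟩
    rw [map_zero, hz2, sub_zero]
  have hκn : κ ∈ (KK.X (i + 2)).gr n := by rw [hκ]; exact ⟨zero_mem _, hzn⟩
  have hκgam : κ ∈ GrLC.gam a.toIdeal (KK.X (i + 2)).carrier := by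
    obtain ⟨N0, hN0⟩ := hz1
    refine ⟨N0, fun r hr => ?_⟩
    rw [hκ]
    exact Prod.ext (smul_zero r) (hN0 r hr)
  have hκc : κ ∈ KK.cocyc a (i + 2) := Submodule.mem_inf.mpr ⟨hκgam, hκd⟩
  have h0 : KK.toH a (i + 2) ⟨κ, hκc⟩ = 0 := by
    have hmem : KK.toH a (i + 2) ⟨κ, hκc⟩ ∈ KK.Hcomp a (i + 2) n := ⟨⟨κ, hκc⟩, hκn, rfl⟩
    have hK' : KK.Hcomp a (i + 2) n = ⊥ := hK
    rw [hK'] at hmem
    exact (Submodule.mem_bot _).mp hmem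
  rw [Submodule.mkQ_apply, Submodule.Quotient.mk_eq_zero, Submodule.mem_comap] at h0
  obtain ⟨κ', hκ'gam, hκ'0⟩ := h0
  have hκ' : KK.d (i + 1) κ' = (show (KK.X (i + 2)).carrier from
        ((0, (z : (F.X (i + 1)).carrier)) : (E.X (i + 2)).carrier × (F.X (i + 1)).carrier)) := by
    rw [← hκ]; exact hκ'0
  clear hκ'0
  obtain ⟨p, hp⟩ : ∃ p : (E.X (i + 1)).carrier × (F.X i).carrier, p = κ' := ⟨_, rfl⟩
  have h1 : ((E.d (i + 1) p.1, Pm (i + 1) p.1 - F.d i p.2) :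
      (E.X (i + 2)).carrier × (F.X (i + 1)).carrier) = (0, (z : (F.X (i + 1)).carrier)) := by
    have := hκ'
    rw [← hp] at this
    exact this
  have hp1gam : p.1 ∈ GrLC.gam a.toIdeal (E.X (i + 1)).carrier := by
    obtain ⟨N0, hN0⟩ := hκ'gam
    refine ⟨N0, fun r hr => ?_⟩
    have := hN0 r hr
    rw [← hp] at this
    exact (Prod.ext_iff.mp this).1
  have hp2gam : p.2 ∈ GrLC.gam a.toIdeal (F.X i).carrier := by
    obtain ⟨N0, hN0⟩ := hκ'gam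
    refine ⟨N0, fun r hr => ?_⟩
    have := hN0 r hr
    rw [← hp] at this
    exact (Prod.ext_iff.mp this).2
  have hd1 : E.d (i + 1) p.1 = 0 := (Prod.ext_iff.mp h1).1
  have hd2 : Pm (i + 1) p.1 - F.d i p.2 = (z : (F.X (i + 1)).carrier) := (Prod.ext_iff.mp h1).2
  -- components of degree n
  obtain ⟨e, he⟩ : ∃ e, e = (decompose (E.X (i + 1)).gr p.1 n : (E.X (i + 1)).carrier) := ⟨_, rfl⟩
  obtain ⟨f, hf⟩ : ∃ f, f = (decompose (F.X i).gr p.2 n : (F.X i).carrier) := ⟨_, rfl⟩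
  have hegam : e ∈ GrLC.gam a.toIdeal (E.X (i + 1)).carrier := by
    rw [he]
    exact GrLCH.gam_homogeneous 𝒜 (E.X (i + 1)).gr a.toIdeal a.isHomogeneous n hp1gam
  have hfgam : f ∈ GrLC.gam a.toIdeal (F.X i).carrier := by
    rw [hf]
    exact GrLCH.gam_homogeneous 𝒜 (F.X i).gr a.toIdeal a.isHomogeneous n hp2gam
  have hen : e ∈ (E.X (i + 1)).gr n := by rw [he]; exact (decompose (E.X (i + 1)).gr p.1 n).2
  have hed : E.d (i + 1) e = 0 := by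
    rw [he, ← grHom_decompose (E.X (i + 1)).gr (E.X (i + 2)).gr (E.d (i + 1)) (E.d_grHom (i + 1))
      p.1 n, hd1, decompose_zero]
    rfl
  have hz_eq : Pm (i + 1) e - F.d i f = (z : (F.X (i + 1)).carrier) := by
    rw [he, hf, ← grHom_decompose (E.X (i + 1)).gr (F.X (i + 1)).gr (Pm (i + 1)) (hPgr (i + 1))
      p.1 n, ← grHom_decompose (F.X i).gr (F.X (i + 1)).gr (F.d i) (F.d_grHom i) p.2 n,
      ← AddSubgroup.coe_sub, ← DirectSum.sub_apply, ← decompose_sub, hd2,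
      decompose_of_mem_same _ hzn]
  have hec : e ∈ E.cocyc a (i + 1) := Submodule.mem_inf.mpr ⟨hegam, hed⟩
  have h0E : E.toH a (i + 1) ⟨e, hec⟩ = 0 := by
    have hmem : E.toH a (i + 1) ⟨e, hec⟩ ∈ E.Hcomp a (i + 1) n := ⟨⟨e, hec⟩, hen, rfl⟩
    rw [hE] at hmem
    exact (Submodule.mem_bot _).mp hmem
  rw [Submodule.mkQ_apply, Submodule.Quotient.mk_eq_zero, Submodule.mem_comap] at h0E
  obtain ⟨e'', he''gam, he''d⟩ := h0E
  have he''d' : E.d i e'' = e := he''d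
  rw [Submodule.mkQ_apply, Submodule.Quotient.mk_eq_zero, Submodule.mem_comap]
  refine ⟨Pm i e'' - f, Submodule.sub_mem _ (gam_lin a _ _ (Pm i) e'' he''gam) hfgam, ?_⟩
  rw [map_sub, ← hPd i e'', he''d']
  exact hz_eq

end Third

section Indep
variable {ι : Type} [AddCommGroup ι] [DecidableEq ι]
  {R : Type u} [CommRing R] {𝒜 : ι → AddSubgroup R} [GradedRing 𝒜]
  {M : Type u} [AddCommGroup M] [Module R M] {ℳ : ι → AddSubgroup M} [DirectSum.Decomposition ℳ]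
  [SetLike.GradedSMul 𝒜 ℳ]
  {M₂ : Type u} [AddCommGroup M₂] [Module R M₂]
  {ℳ₂ : ι → AddSubgroup M₂} [DirectSum.Decomposition ℳ₂] [SetLike.GradedSMul 𝒜 ℳ₂]
  (E : GrLC.StarInjRes 𝒜 ℳ) (T : GrLC.StarInjRes 𝒜 ℳ₂) (δ : ι)
  (ν : M →ₗ[R] M₂) (ν' : M₂ →ₗ[R] M)
  (h12 : GrLC.IsGrHomDeg ℳ ℳ₂ ν δ) (h21 : GrLC.IsGrHomDeg ℳ₂ ℳ ν' (-δ))
  (hνν' : ∀ μ, ν (ν' μ) = μ)
  (a : HomogeneousIdeal 𝒜)

include h12 h21 hνν' in
theorem indep (q : ℕ) (n : ι) (hE : E.Hcomp a (q + 1) n = ⊥) :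
    T.Hcomp a (q + 1) (n + δ) = ⊥ := by
  classical
  obtain ⟨Θ, hΘdeg, hΘε, hΘd⟩ := GrComp2.exists_lift T E ν' h21
  obtain ⟨Θ', hΘ'deg, hΘ'ε, hΘ'd⟩ := GrComp2.exists_lift E T ν h12
  obtain ⟨Ψ, hΨ⟩ : ∃ Ψ : ∀ n, (T.X n).carrier →ₗ[R] (T.X n).carrier,
      Ψ = fun n => Θ' n ∘ₗ Θ n - LinearMap.id := ⟨_, rfl⟩
  have hΨapp : ∀ n (e : (T.X n).carrier), Ψ n e = Θ' n (Θ n e) - e := by
    intro n e; rw [hΨ]; rfl
  have hΨgr : ∀ n, GrLC.IsGrHomDeg (T.X n).gr (T.X n).gr (Ψ n) 0 := by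
    intro n k e he
    rw [hΨapp, add_zero]
    refine AddSubgroup.sub_mem _ ?_ he
    have h1 := hΘ'deg n (k + -δ) _ (hΘdeg n k e he)
    have e1 : k + -δ + δ = k := by abel
    rw [e1] at h1
    exact h1
  have hΨd : ∀ n (e : (T.X n).carrier), Ψ (n + 1) (T.d n e) = T.d n (Ψ n e) := by
    intro n e
    rw [hΨapp, hΨapp, map_sub, hΘd, hΘ'd]
  have hΨε : ∀ μ : M₂, Ψ 0 (T.ε μ) = 0 := by
    intro μ
    rw [hΨapp, hΘε, hΘ'ε, hνν', sub_self]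
  obtain ⟨s, hsdeg, hs0, hssucc⟩ := GrComp2.exists_homotopy T T 0 Ψ hΨgr hΨd hΨε
  rw [Submodule.eq_bot_iff]
  rintro c ⟨κ, hκn, rfl⟩
  obtain ⟨hκ1, hκ2⟩ := Submodule.mem_inf.mp κ.2
  rw [LinearMap.mem_ker] at hκ2
  obtain ⟨θ, hθ⟩ : ∃ θ, θ = Θ (q + 1) (κ : (T.X (q + 1)).carrier) := ⟨_, rfl⟩
  have hθgam : θ ∈ GrLC.gam a.toIdeal (E.X (q + 1)).carrier := by
    rw [hθ]; exact gam_lin a _ _ (Θ (q + 1)) _ hκ1
  have hθd : E.d (q + 1) θ = 0 := by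
    rw [hθ, ← hΘd (q + 1), hκ2, map_zero]
  have hθn : θ ∈ (E.X (q + 1)).gr n := by
    rw [hθ]
    have h1 := hΘdeg (q + 1) (n + δ) _ hκn
    have e1 : n + δ + -δ = n := by abel
    rw [e1] at h1
    exact h1
  have hθc : θ ∈ E.cocyc a (q + 1) := Submodule.mem_inf.mpr ⟨hθgam, hθd⟩
  have h0E : E.toH a (q + 1) ⟨θ, hθc⟩ = 0 := by
    have hmem : E.toH a (q + 1) ⟨θ, hθc⟩ ∈ E.Hcomp a (q + 1) n := ⟨⟨θ, hθc⟩, hθn, rfl⟩
    rw [hE] at hmem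
    exact (Submodule.mem_bot _).mp hmem
  rw [Submodule.mkQ_apply, Submodule.Quotient.mk_eq_zero, Submodule.mem_comap] at h0E
  obtain ⟨e, hegam, hed⟩ := h0E
  have hed' : E.d q e = θ := hed
  have hs := hssucc q (κ : (T.X (q + 1)).carrier)
  rw [hκ2, map_zero, hΨapp, ← hθ] at hs
  have hκeq : (κ : (T.X (q + 1)).carrier) = T.d q (Θ' q e - s q (κ : (T.X (q + 1)).carrier)) := by
    rw [map_sub, ← hΘ'd q e, hed']
    have := hs
    rw [eq_comm, sub_eq_zero] at this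
    rw [← this]
    abel
  rw [Submodule.mkQ_apply, Submodule.Quotient.mk_eq_zero, Submodule.mem_comap]
  refine ⟨Θ' q e - s q (κ : (T.X (q + 1)).carrier),
    Submodule.sub_mem _ (gam_lin a _ _ (Θ' q) e hegam) (gam_lin a _ _ (s q) _ hκ1), ?_⟩
  exact hκeq.symm

end Indep

section Main
variable {ι : Type} [AddCommGroup ι] [DecidableEq ι]
  {R : Type u} [CommRing R] [IsNoetherianRing R] {𝒜 : ι → AddSubgroup R} [GradedRing 𝒜]
  {M : Type u} [AddCommGroup M] [Module R M] {ℳ : ι → AddSubgroup M} [DirectSum.Decomposition ℳ]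
  [SetLike.GradedSMul 𝒜 ℳ]
  {N : Type u} [AddCommGroup N] [Module R N] {𝒩 : ι → AddSubgroup N} [DirectSum.Decomposition 𝒩]
  [SetLike.GradedSMul 𝒜 𝒩]
  (a : HomogeneousIdeal 𝒜)
  (π : M →ₗ[R] N) (hπ : Function.Surjective π) (hπg : GrLC.IsGrHom ℳ 𝒩 π)
  (x : R) (g : ι) (hx : x ∈ 𝒜 g)
  (hker : ∀ μ, π μ = 0 ↔ ∃ μ', μ = x • μ')
  (htors : ∀ μ : M, x • μ = 0 → μ ∈ GrLC.gam a.toIdeal M)
  (E : GrLC.StarInjRes 𝒜 ℳ) (F : GrLC.StarInjRes 𝒜 𝒩)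

include hπ hπg hx hker htors in
theorem main (i : ℕ) (n : ι) (h1 : E.Hcomp a (i + 1) n = ⊥)
    (h2 : E.Hcomp a (i + 2) (n + -g) = ⊥) : F.Hcomp a (i + 1) n = ⊥ := by
  classical
  -- the lift of π
  have hπdeg : GrLC.IsGrHomDeg ℳ 𝒩 π 0 := by
    intro k μ hμ; rw [add_zero]; exact hπg k μ hμ
  obtain ⟨Pm, hPdeg, hPε, hPd⟩ := GrComp2.exists_lift E F π hπdeg
  have hPgr : ∀ m, GrLC.IsGrHom (E.X m).gr (F.X m).gr (Pm m) := by
    intro m k e he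
    have := hPdeg m k e he
    rw [add_zero] at this
    exact this
  -- multiplication by x as a graded map from the shift
  obtain ⟨φ, hφ⟩ : ∃ φ : (Ms 𝒜 ℳ g).carrier →ₗ[R] M, φ = x • (LinearMap.id : M →ₗ[R] M) := ⟨_, rfl⟩
  have hφapp : ∀ μ : M, φ μ = x • μ := by intro μ; rw [hφ]; rfl
  have hφgr : GrLC.IsGrHom (Ms 𝒜 ℳ g).gr ℳ φ := by
    intro k μ hμ
    have h4 : φ μ = x • (show M from μ) := hφapp μ
    rw [h4]
    have hμ' : (show M from μ) ∈ ℳ (k + -g) := hμ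
    have h3 := SetLike.GradedSMul.smul_mem (A := 𝒜) (B := ℳ) hx hμ'
    rw [vadd_eq_add] at h3
    have e1 : g + (k + -g) = k := by abel
    rw [e1] at h3
    exact h3
  -- the image xM as a graded module
  have hPhom : (LinearMap.range φ).IsHomogeneous ℳ :=
    range_homogeneous (Ms 𝒜 ℳ g).gr ℳ φ hφgr
  obtain ⟨M', jj, π₂, hjgr, hjinj, hjker, hjπ₂, hπ₂surj, hM'gr⟩ :
      ∃ (M' : GrLC.GMod.{u} 𝒜) (jj : M'.carrier →ₗ[R] M)
        (π₂ : (Ms 𝒜 ℳ g).carrier →ₗ[R] M'.carrier),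
        GrLC.IsGrHom M'.gr ℳ jj ∧ Function.Injective jj ∧
        (∀ μ, π μ = 0 ↔ ∃ μ', μ = jj μ') ∧ (∀ μ, jj (π₂ μ) = φ μ) ∧
        Function.Surjective π₂ ∧ (∀ k μ', jj μ' ∈ ℳ k → μ' ∈ M'.gr k) := by
    refine ⟨{ carrier := ↥(LinearMap.range φ), gr := subPiece ℳ (LinearMap.range φ),
              dec := subDecomp ℳ (LinearMap.range φ) hPhom,
              gsmul := subGSMul 𝒜 ℳ (LinearMap.range φ) },
      (LinearMap.range φ).subtype, φ.rangeRestrict, ?_, ?_, ?_, ?_, ?_, ?_⟩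
    · exact fun k μ' hμ' => hμ'
    · exact Subtype.val_injective
    · intro μ
      rw [hker μ]
      constructor
      · rintro ⟨μ', rfl⟩
        exact ⟨⟨x • μ', ⟨μ', hφapp μ'⟩⟩, rfl⟩
      · rintro ⟨⟨_, ⟨μ', rfl⟩⟩, rfl⟩
        exact ⟨μ', hφapp μ'⟩
    · intro μ
      rfl
    · exact LinearMap.surjective_rangeRestrict φ
    · exact fun k μ' hμ' => hμ'
  let KK : GrLC.StarInjRes 𝒜 M'.gr := K' E F Pm hPgr hPd π hPε hπ jj hjgr hjinj hjker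
  -- π₂ is graded from the shift
  have hπ₂gr : GrLC.IsGrHom (Ms 𝒜 ℳ g).gr M'.gr π₂ := by
    intro k μ hμ
    refine hM'gr k _ ?_
    rw [hjπ₂]
    exact hφgr k μ hμ
  -- the kernel of π₂
  have hP₂hom : (LinearMap.ker φ).IsHomogeneous (Ms 𝒜 ℳ g).gr :=
    ker_homogeneous (Ms 𝒜 ℳ g).gr ℳ φ hφgr
  obtain ⟨M'', j₂, hj₂gr, hj₂inj, hj₂ker, hM''tors⟩ :
      ∃ (M'' : GrLC.GMod.{u} 𝒜) (j₂ : M''.carrier →ₗ[R] (Ms 𝒜 ℳ g).carrier),
        GrLC.IsGrHom M''.gr (Ms 𝒜 ℳ g).gr j₂ ∧ Function.Injective j₂ ∧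
        (∀ μ, π₂ μ = 0 ↔ ∃ μ'', μ = j₂ μ'') ∧ GrLC.gam a.toIdeal M''.carrier = ⊤ := by
    refine ⟨{ carrier := ↥(LinearMap.ker φ), gr := subPiece (Ms 𝒜 ℳ g).gr (LinearMap.ker φ),
              dec := subDecomp (Ms 𝒜 ℳ g).gr (LinearMap.ker φ) hP₂hom,
              gsmul := subGSMul 𝒜 (Ms 𝒜 ℳ g).gr (LinearMap.ker φ) },
      (LinearMap.ker φ).subtype, ?_, ?_, ?_, ?_⟩
    · exact fun k μ' hμ' => hμ'
    · exact Subtype.val_injective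
    · intro μ
      constructor
      · intro h0
        have h3 : φ μ = 0 := by rw [← hjπ₂, h0, map_zero]
        exact ⟨⟨μ, LinearMap.mem_ker.mpr h3⟩, rfl⟩
      · rintro ⟨⟨μ', hμ'⟩, rfl⟩
        rw [LinearMap.mem_ker] at hμ'
        apply hjinj
        rw [hjπ₂, map_zero]
        exact hμ'
    · rw [eq_top_iff]
      rintro ⟨μ', hμ'⟩ -
      rw [LinearMap.mem_ker] at hμ'
      have hμ'' : x • (show M from μ') = 0 := by rw [← hφapp]; exact hμ'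
      obtain ⟨N0, hN0⟩ := htors μ' hμ''
      exact ⟨N0, fun r hr => Subtype.ext (hN0 r hr)⟩
  obtain ⟨E₂⟩ := GrRes.main 𝒜 (Ms 𝒜 ℳ g).gr
  have hπ₂deg : GrLC.IsGrHomDeg (Ms 𝒜 ℳ g).gr M'.gr π₂ 0 := by
    intro k μ hμ; rw [add_zero]; exact hπ₂gr k μ hμ
  obtain ⟨Pm₂, hP₂deg, hP₂ε, hP₂d⟩ := GrComp2.exists_lift E₂ KK π₂ hπ₂deg
  have hP₂gr : ∀ m, GrLC.IsGrHom (E₂.X m).gr (KK.X m).gr (Pm₂ m) := by
    intro m k e he
    have := hP₂deg m k e he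
    rw [add_zero] at this
    exact this
  let KK₂ : GrLC.StarInjRes 𝒜 M''.gr :=
    K' E₂ KK Pm₂ hP₂gr hP₂d π₂ hP₂ε hπ₂surj j₂ hj₂gr hj₂inj hj₂ker
  have hKK₂ : KK₂.Hcomp a (i + 3) n = ⊥ := by
    have : Subsingleton (KK₂.H a (i + 3)) := GrTors.tors_vanish KK₂ a hM''tors (i + 3) (by omega)
    rw [Submodule.eq_bot_iff]
    intro c _
    exact Subsingleton.elim _ _
  have hE₂ : E₂.Hcomp a (i + 2) n = ⊥ := by
    have h3 := indep E E₂ g (LinearMap.id : M →ₗ[R] M) (LinearMap.id : M →ₗ[R] M) ?_ ?_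
      (fun μ => rfl) a (i + 1) (n + -g) h2
    · have e1 : n + -g + g = n := by abel
      rw [e1] at h3
      exact h3
    · intro k μ hμ
      change μ ∈ ℳ (k + g + -g)
      have e1 : k + g + -g = k := by abel
      rw [e1]; exact hμ
    · intro k μ hμ
      exact hμ
  have hKK : KK.Hcomp a (i + 2) n = ⊥ :=
    third_exact E₂ KK Pm₂ hP₂gr hP₂d π₂ hP₂ε hπ₂surj j₂ hj₂gr hj₂inj hj₂ker a (i + 1) n hE₂ hKK₂
  exact third_exact E F Pm hPgr hPd π hPε hπ jj hjgr hjinj hjker a i n h1 hKK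

end Main

end Groth.Agent.H21.GrQReg
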