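import Mathlib
import Groth.Prelude.Def_GrLC
import Groth.Agent.H21.GrAss

set_option autoImplicit false
universe u
open DirectSum

namespace Groth.Agent.H21.GrQTors

section Tors
variable {R : Type u} [CommRing R] (𝒜 : ℤ → AddSubgroup R) [GradedRing 𝒜]
  (hpos : ∀ n : ℤ, n < 0 → 𝒜 n = ⊥)
  {M : Type u} [AddCommGroup M] [Module R M] (ℳ : ℤ → AddSubgroup M) [DirectSum.Decomposition ℳ]
  [SetLike.GradedSMul 𝒜 ℳ]

/-- the submodule generated by pieces of degree `≥ s` -/
def V (s : ℤ) : Submodule R M := Submodule.span R {w | ∃ d, s ≤ d ∧ w ∈ ℳ d}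

omit [GradedRing 𝒜] [DirectSum.Decomposition ℳ] [SetLike.GradedSMul 𝒜 ℳ] in
theorem V_anti {s s' : ℤ} (h : s ≤ s') : V ℳ s' ≤ (V ℳ s : Submodule R M) := by
  refine Submodule.span_mono ?_
  rintro w ⟨d, hd, hw⟩
  exact ⟨d, le_trans h hd, hw⟩

include hpos in
theorem V_comp {s : ℤ} {w : M} (hw : w ∈ (V ℳ s : Submodule R M)) (d : ℤ) (hd : d < s) :
    (decompose ℳ w d : M) = 0 := by
  classical
  induction hw using Submodule.closure_induction with
  | zero => rw [decompose_zero]; rfl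
  | add y z _ _ hy hz =>
    rw [decompose_add, DirectSum.add_apply, AddSubgroup.coe_add, hy, hz, add_zero]
  | smul_mem r y hy =>
    obtain ⟨e, he, hye⟩ := hy
    rw [GrAss.decompose_smul_of_mem 𝒜 ℳ hye r d]
    have h1 : (decompose 𝒜 r (d - e) : R) ∈ 𝒜 (d - e) := (decompose 𝒜 r (d - e)).2
    have h0 := hpos (d - e) (by omega)
    have h2 : (decompose 𝒜 r (d - e) : R) ∈ (⊥ : AddSubgroup R) := by rw [← h0]; exact h1
    rw [(AddSubgroup.mem_bot).mp h2, zero_smul]

omit [DirectSum.Decomposition ℳ] in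
theorem V_smul_homog {e : ℤ} {r : R} (hr : r ∈ 𝒜 e) {s : ℤ} {w : M}
    (hw : w ∈ (V ℳ s : Submodule R M)) : r • w ∈ (V ℳ (s + e) : Submodule R M) := by
  induction hw using Submodule.span_induction with
  | mem y hy =>
    obtain ⟨d, hd, hyd⟩ := hy
    refine Submodule.subset_span ⟨e + d, by omega, ?_⟩
    have := SetLike.GradedSMul.smul_mem (A := 𝒜) (B := ℳ) hr hyd
    rw [vadd_eq_add] at this
    exact this
  | zero => rw [smul_zero]; exact Submodule.zero_mem _
  | add y z _ _ hy hz => rw [smul_add]; exact Submodule.add_mem _ hy hz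
  | smul c y _ hy => rw [smul_comm]; exact Submodule.smul_mem _ c hy

omit [DirectSum.Decomposition ℳ] in
theorem V_smul_irrel (a : Ideal R) (ha : a = Ideal.span {r : R | ∃ n : ℤ, 0 < n ∧ r ∈ 𝒜 n})
    {r : R} (hr : r ∈ a) {s : ℤ} {w : M}
    (hw : w ∈ (V ℳ s : Submodule R M)) : r • w ∈ (V ℳ (s + 1) : Submodule R M) := by
  rw [ha] at hr
  induction hr using Submodule.span_induction with
  | mem y hy =>
    obtain ⟨e, he, hye⟩ := hy
    exact V_anti ℳ (by omega) (V_smul_homog 𝒜 ℳ hye hw)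
  | zero => rw [zero_smul]; exact Submodule.zero_mem _
  | add y z _ _ hy hz => rw [add_smul]; exact Submodule.add_mem _ hy hz
  | smul c y _ hy => rw [smul_eq_mul, mul_smul]; exact Submodule.smul_mem _ c hy

omit [DirectSum.Decomposition ℳ] in
theorem V_smul_pow (a : Ideal R) (ha : a = Ideal.span {r : R | ∃ n : ℤ, 0 < n ∧ r ∈ 𝒜 n})
    (t : ℕ) : ∀ {r : R}, r ∈ a ^ t → ∀ {s : ℤ} {w : M},
    w ∈ (V ℳ s : Submodule R M) → r • w ∈ (V ℳ (s + t) : Submodule R M) := by
  induction t with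
  | zero =>
    intro r _ s w hw
    rw [Nat.cast_zero, add_zero]
    exact Submodule.smul_mem _ r hw
  | succ t ih =>
    intro r hr s w hw
    rw [pow_succ] at hr
    refine Submodule.mul_induction_on hr ?_ ?_
    · intro p hp q hq
      rw [mul_smul]
      have h1 := V_smul_irrel 𝒜 ℳ a ha hq hw
      have h2 := ih hp h1
      have e : s + 1 + (t : ℤ) = s + ((t + 1 : ℕ) : ℤ) := by push_cast; ring
      rw [e] at h2
      exact h2
    · intro p q hp hq
      rw [add_smul]
      exact Submodule.add_mem _ hp hq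

omit [GradedRing 𝒜] [SetLike.GradedSMul 𝒜 ℳ] in
theorem exists_V (m : M) : ∃ s : ℤ, m ∈ (V ℳ s : Submodule R M) := by
  classical
  obtain ⟨b, hb⟩ := Finset.exists_le ((decompose ℳ m).support.image (fun d => -d))
  refine ⟨-b, ?_⟩
  rw [← DirectSum.sum_support_decompose ℳ m]
  refine Submodule.sum_mem _ (fun d hd => ?_)
  have h1 := hb (-d) (Finset.mem_image_of_mem _ hd)
  exact Submodule.subset_span ⟨d, by omega, (decompose ℳ m d).2⟩

include hpos ℳ in
/-- an Artinian `x`-torsion submodule of a graded module over a positively graded ring is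
torsion for the irrelevant ideal -/
theorem tors_of_artinian (a : Ideal R)
    (ha : a = Ideal.span {r : R | ∃ n : ℤ, 0 < n ∧ r ∈ 𝒜 n}) (x : R)
    [IsArtinian R ↥(Submodule.torsionBy R M x)] (m : M) (hm : x • m = 0) :
    m ∈ GrLC.gam a M := by
  classical
  obtain ⟨K, hK⟩ : ∃ K : Submodule R M, K = Submodule.torsionBy R M x := ⟨_, rfl⟩
  have : IsArtinian R ↥K := by rw [hK]; infer_instance
  let f : ℕ →o (Submodule R ↥K)ᵒᵈ :=
    ⟨fun t => OrderDual.toDual ((V ℳ (t : ℤ) : Submodule R M).comap K.subtype), by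
      intro t t' htt'
      change (V ℳ (t' : ℤ) : Submodule R M).comap K.subtype ≤
        (V ℳ (t : ℤ) : Submodule R M).comap K.subtype
      exact Submodule.comap_mono (V_anti ℳ (by exact_mod_cast htt'))⟩
  obtain ⟨t0, ht0⟩ := IsArtinian.monotone_stabilizes f
  have hzero : ∀ w : M, w ∈ K → w ∈ (V ℳ (t0 : ℤ) : Submodule R M) → w = 0 := by
    intro w hwK hwV
    have hall : ∀ t : ℕ, t0 ≤ t → w ∈ (V ℳ (t : ℤ) : Submodule R M) := by
      intro t ht
      have h1 := ht0 t ht
      have h2 : (⟨w, hwK⟩ : ↥K) ∈ (V ℳ (t0 : ℤ) : Submodule R M).comap K.subtype := hwV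
      have h3 : (V ℳ (t0 : ℤ) : Submodule R M).comap K.subtype =
          (V ℳ (t : ℤ) : Submodule R M).comap K.subtype := h1
      rw [h3] at h2
      exact h2
    rw [← DirectSum.sum_support_decompose ℳ w]
    refine Finset.sum_eq_zero (fun d _ => ?_)
    refine V_comp 𝒜 hpos ℳ (hall (t0 + (d + 1).toNat) (Nat.le_add_right _ _)) d ?_
    push_cast
    have := Int.self_le_toNat (d + 1)
    omega
  have hmK : m ∈ K := by rw [hK, Submodule.mem_torsionBy_iff]; exact hm
  obtain ⟨s, hs⟩ := exists_V (R := R) ℳ m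
  refine ⟨((t0 : ℤ) - s).toNat, fun r hr => ?_⟩
  refine hzero _ (Submodule.smul_mem _ r hmK) ?_
  have h1 := V_smul_pow 𝒜 ℳ a ha _ hr hs
  refine V_anti ℳ ?_ h1
  have := Int.self_le_toNat ((t0 : ℤ) - s)
  omega

end Tors

end Groth.Agent.H21.GrQTors
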