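import Mathlib
import Groth.Prelude.Def_GrLC
import Groth.Prelude.Def_GrSyz
import Groth.Agent.H21.GrQReg
import Groth.Agent.H21.GrQTors
import Groth.Agent.H21.GrConv

set_option autoImplicit false
universe u
open DirectSum

namespace Groth.Agent.H21.GrQFin

theorem stdGr_neg (k : Type u) [Field k] (σ : Type*) (n : ℤ) (hn : n < 0) :
    GrSyz.stdGr k σ n = ⊥ := by
  classical
  rw [eq_bot_iff]
  intro p hp
  rw [Submodule.mem_bot]
  by_contra hne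
  obtain ⟨d, hd⟩ := MvPolynomial.ne_zero_iff.mp hne
  have h1 : Finsupp.weight (fun _ : σ => (1 : ℤ)) d = n := hp hd
  have h2 : 0 ≤ Finsupp.weight (fun _ : σ => (1 : ℤ)) d := by
    rw [Finsupp.weight_apply]
    exact Finset.sum_nonneg (fun i _ => by positivity)
  omega


theorem main_S15419 (k : Type u) [Field k] (r : ℕ)
    (M : Type u) [AddCommGroup M] [Module k M] [Module (MvPolynomial (Fin (r + 1)) k) M]
    [IsScalarTower k (MvPolynomial (Fin (r + 1)) k) M] [Module.Finite (MvPolynomial (Fin (r + 1)) k) M]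
    (ℳ : ℤ → Submodule k M) [DirectSum.Decomposition ℳ] [SetLike.GradedSMul (GrSyz.stdGr k (Fin (r + 1))) ℳ]
    (x : MvPolynomial (Fin (r + 1)) k) (hx : x ∈ GrSyz.stdGr k (Fin (r + 1)) 1)
    (hq : IsFiniteLength (MvPolynomial (Fin (r + 1)) k) ↥(Submodule.torsionBy (MvPolynomial (Fin (r + 1)) k) M x))
    (N : Type u) [AddCommGroup N] [Module k N] [Module (MvPolynomial (Fin (r + 1)) k) N]
    [IsScalarTower k (MvPolynomial (Fin (r + 1)) k) N] [Module.Finite (MvPolynomial (Fin (r + 1)) k) N]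
    (𝒩 : ℤ → Submodule k N) [DirectSum.Decomposition 𝒩] [SetLike.GradedSMul (GrSyz.stdGr k (Fin (r + 1))) 𝒩]
    (π : M →ₗ[MvPolynomial (Fin (r + 1)) k] N) (hπ : Function.Surjective π) (hπg : GrLC.IsGrHom ℳ 𝒩 π)
    (hker : LinearMap.ker π = LinearMap.range (x • (LinearMap.id : M →ₗ[MvPolynomial (Fin (r + 1)) k] M)))
    (E : GrLC.StarInjRes (GrSyz.stdGr k (Fin (r + 1))) ℳ) (E' : GrLC.StarInjRes (GrSyz.stdGr k (Fin (r + 1))) 𝒩) (d : ℤ)
    (hM : ∀ i : ℕ, 0 < i → E.Hcomp (GrSyz.irrel (GrSyz.stdGr k (Fin (r + 1)))) i (d - (i : ℤ) + 1) = ⊥) (i : ℕ) (hi : 0 < i) :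
    E'.Hcomp (GrSyz.irrel (GrSyz.stdGr k (Fin (r + 1)))) i (d - (i : ℤ) + 1) = ⊥ := by
  classical
  obtain ⟨i', rfl⟩ : ∃ i', i = i' + 1 := ⟨i - 1, by omega⟩
  rw [GrConv.Hcomp_iff]
  haveI : IsArtinian (MvPolynomial (Fin (r + 1)) k)
      ↥(Submodule.torsionBy (MvPolynomial (Fin (r + 1)) k) M x) :=
    (isFiniteLength_iff_isNoetherian_isArtinian.mp hq).2
  have hpos : ∀ n : ℤ, n < 0 → GrConv.cv (GrSyz.stdGr k (Fin (r + 1))) n = ⊥ := by
    intro n hn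
    rw [eq_bot_iff]
    intro p hp
    have hp' : p ∈ GrSyz.stdGr k (Fin (r + 1)) n := hp
    rw [stdGr_neg k (Fin (r + 1)) n hn] at hp'
    rw [AddSubgroup.mem_bot]
    exact (Submodule.mem_bot _).mp hp'
  have hx' : x ∈ GrConv.cv (GrSyz.stdGr k (Fin (r + 1))) 1 := hx
  have hker' : ∀ μ, π μ = 0 ↔ ∃ μ', μ = x • μ' := by
    intro μ
    rw [← LinearMap.mem_ker, hker, LinearMap.mem_range]
    constructor
    · rintro ⟨μ', h⟩; exact ⟨μ', h.symm⟩
    · rintro ⟨μ', h⟩; exact ⟨μ', h.symm⟩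
  have hπg' : GrLC.IsGrHom (GrConv.cv ℳ) (GrConv.cv 𝒩) π := hπg
  have htors : ∀ μ : M, x • μ = 0 →
      μ ∈ GrLC.gam (GrConv.idA _ (GrSyz.irrel (GrSyz.stdGr k (Fin (r + 1))))).toIdeal M :=
    fun μ hμ => GrQTors.tors_of_artinian (GrConv.cv (GrSyz.stdGr k (Fin (r + 1)))) hpos
      (GrConv.cv ℳ) _ rfl x μ hμ
  refine GrQReg.main (GrConv.idA _ (GrSyz.irrel (GrSyz.stdGr k (Fin (r + 1))))) π hπ hπg' x 1 hx'
    hker' htors (GrConv.resA _ E) (GrConv.resA _ E') i' _ ?_ ?_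
  · rw [← GrConv.Hcomp_iff]
    exact hM (i' + 1) (by omega)
  · rw [← GrConv.Hcomp_iff]
    have h3 := hM (i' + 2) (by omega)
    have e : d - ((i' + 2 : ℕ) : ℤ) + 1 = d - ((i' + 1 : ℕ) : ℤ) + 1 + -1 := by
      push_cast; ring
    rw [e] at h3
    exact h3

end Groth.Agent.H21.GrQFin
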