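import Mathlib

/-!
Helper lemmas (helper21): graded modules generated in bounded degrees over a graded algebra
generated in degree one.
-/

namespace Groth.Agent.H21

open DirectSum

universe u
variable {R : Type u} [CommRing R] {A : Type u} [CommRing A] [Algebra R A]
  (𝒜 : ℕ → Submodule R A) [GradedAlgebra 𝒜]

include 𝒜 in
lemma graded_mul_le (a b : ℕ) : 𝒜 a * 𝒜 b ≤ 𝒜 (a + b) := by
  rw [Submodule.mul_le]
  intro x hx y hy
  exact SetLike.mul_mem_graded hx hy

lemma graded_add_eq_mul (hA : ∀ n : ℕ, 𝒜 (n + 1) = 𝒜 1 * 𝒜 n) (a b : ℕ) :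
    𝒜 (a + b) = 𝒜 a * 𝒜 b := by
  induction a with
  | zero =>
    apply le_antisymm
    · intro x hx
      rw [zero_add] at hx
      have : x = 1 * x := (one_mul x).symm
      rw [this]
      exact Submodule.mul_mem_mul (SetLike.one_mem_graded 𝒜) hx
    · exact graded_mul_le 𝒜 0 b
  | succ a ih =>
    have h1 : a + 1 + b = (a + b) + 1 := by omega
    rw [h1, hA (a + b), ih, hA a, mul_assoc]

variable {M : Type u} [AddCommGroup M] [Module R M] [Module A M] [IsScalarTower R A M]
  (ℳ : ℕ → Submodule R M) [DirectSum.Decomposition ℳ] [SetLike.GradedSMul 𝒜 ℳ]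

/-- The part of degree `m` generated by the pieces of degree `≤ n₀`. -/
def genPart (n₀ m : ℕ) : Submodule R M :=
  ⨆ (d : ℕ) (_ : d ≤ n₀ ∧ d ≤ m), 𝒜 (m - d) • ℳ d

lemma genPart_le (n₀ m : ℕ) : genPart 𝒜 ℳ n₀ m ≤ ℳ m := by
  unfold genPart
  refine iSup_le fun d => iSup_le fun hd => ?_
  rw [Submodule.smul_le]
  intro a ha y hy
  have := SetLike.GradedSMul.smul_mem ha hy
  have h2 : (m - d) +ᵥ d = m := by
    change m - d + d = m
    omega
  rwa [h2] at this

lemma smul_genPart_le (n₀ i j : ℕ) : 𝒜 i • genPart 𝒜 ℳ n₀ j ≤ genPart 𝒜 ℳ n₀ (i + j) := by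
  unfold genPart
  rw [Submodule.smul_iSup]
  refine iSup_le fun d => ?_
  rw [Submodule.smul_iSup]
  refine iSup_le fun hd => ?_
  have hd' : d ≤ n₀ ∧ d ≤ i + j := ⟨hd.1, by omega⟩
  refine le_trans ?_ (le_iSup₂ (f := fun d (_ : d ≤ n₀ ∧ d ≤ i + j) => 𝒜 (i + j - d) • ℳ d) d hd')
  rw [← Submodule.smul_assoc]
  apply Submodule.smul_mono_left
  have : i + j - d = i + (j - d) := by omega
  rw [this]
  exact graded_mul_le 𝒜 i (j - d)

lemma decompose_mem_genPart_of_mem (n₀ j : ℕ) {y : M} (hy : y ∈ genPart 𝒜 ℳ n₀ j) (m : ℕ) :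
    ((DirectSum.decompose ℳ y m : ℳ m) : M) ∈ genPart 𝒜 ℳ n₀ m := by
  have hy' : y ∈ ℳ j := genPart_le 𝒜 ℳ n₀ j hy
  by_cases h : j = m
  · subst h
    rw [DirectSum.decompose_of_mem_same ℳ hy']
    exact hy
  · rw [DirectSum.decompose_of_mem_ne ℳ hy' h]
    exact zero_mem _

/-- Every homogeneous component of an element of the `A`-span of homogeneous elements of
degree `≤ n₀` lies in the generated part. -/
lemma decompose_mem_genPart (s : Set M) (n₀ : ℕ) (hs : ∀ y ∈ s, ∃ d : ℕ, d ≤ n₀ ∧ y ∈ ℳ d)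
    (x : M) (hx : x ∈ Submodule.span A s) (m : ℕ) :
    ((DirectSum.decompose ℳ x m : ℳ m) : M) ∈ genPart 𝒜 ℳ n₀ m := by
  classical
  induction hx using Submodule.span_induction generalizing m with
  | mem y hy =>
    obtain ⟨d, hd, hyd⟩ := hs y hy
    apply decompose_mem_genPart_of_mem 𝒜 ℳ n₀ d
    unfold genPart
    refine Submodule.mem_iSup_of_mem d (Submodule.mem_iSup_of_mem ⟨hd, le_rfl⟩ ?_)
    have : y = (1 : A) • y := (one_smul A y).symm
    rw [this, Nat.sub_self]
    exact Submodule.smul_mem_smul (SetLike.one_mem_graded 𝒜) hyd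
  | zero =>
    rw [DirectSum.decompose_zero]
    simp
  | add y z _ _ ihy ihz =>
    rw [DirectSum.decompose_add]
    simp only [DirectSum.add_apply, Submodule.coe_add]
    exact add_mem (ihy m) (ihz m)
  | smul a y _ ihy =>
    -- induct on the homogeneous decomposition of `a`
    induction a using DirectSum.Decomposition.inductionOn 𝒜 generalizing m with
    | zero =>
      rw [zero_smul, DirectSum.decompose_zero]
      simp
    | homogeneous a' =>
      rename_i i
      -- y = ∑ y_j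
      have hsum := DirectSum.sum_support_decompose ℳ y
      rw [← hsum, Finset.smul_sum, DirectSum.decompose_sum]
      rw [DFinsupp.finsetSum_apply, AddSubmonoidClass.coe_finsetSum]
      refine Submodule.sum_mem _ fun j _ => ?_
      apply decompose_mem_genPart_of_mem 𝒜 ℳ n₀ (i + j)
      apply smul_genPart_le 𝒜 ℳ n₀ i j
      exact Submodule.smul_mem_smul a'.2 (ihy j)
    | add a b iha ihb =>
      rw [add_smul, DirectSum.decompose_add]
      simp only [DirectSum.add_apply, Submodule.coe_add]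
      exact add_mem (iha m) (ihb m)

lemma le_genPart (s : Set M) (n₀ : ℕ) (hs : ∀ y ∈ s, ∃ d : ℕ, d ≤ n₀ ∧ y ∈ ℳ d)
    (hspan : Submodule.span A s = ⊤) (m : ℕ) : ℳ m ≤ genPart 𝒜 ℳ n₀ m := by
  intro x hx
  have := decompose_mem_genPart 𝒜 ℳ s n₀ hs x (by rw [hspan]; trivial) m
  rwa [DirectSum.decompose_of_mem_same ℳ hx] at this

/-- Main statement. -/
lemma graded_eq_smul (hA : ∀ n : ℕ, 𝒜 (n + 1) = 𝒜 1 * 𝒜 n)
    (s : Set M) (n₀ : ℕ) (hs : ∀ y ∈ s, ∃ d : ℕ, d ≤ n₀ ∧ y ∈ ℳ d)
    (hspan : Submodule.span A s = ⊤) (n k : ℕ) (hn : n₀ ≤ n) :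
    ℳ (n + k) = 𝒜 k • ℳ n := by
  apply le_antisymm
  · refine le_trans (le_genPart 𝒜 ℳ s n₀ hs hspan (n + k)) ?_
    unfold genPart
    refine iSup_le fun d => iSup_le fun hd => ?_
    have h1 : n + k - d = k + (n - d) := by omega
    rw [h1, graded_add_eq_mul 𝒜 hA]
    change (𝒜 k • 𝒜 (n - d)) • ℳ d ≤ _
    rw [Submodule.smul_assoc]
    apply Submodule.smul_mono le_rfl
    rw [Submodule.smul_le]
    intro a ha y hy
    have := SetLike.GradedSMul.smul_mem ha hy
    have h2 : (n - d) +ᵥ d = n := by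
      change n - d + d = n
      omega
    rwa [h2] at this
  · rw [Submodule.smul_le]
    intro a ha y hy
    have := SetLike.GradedSMul.smul_mem ha hy
    have h2 : k +ᵥ n = n + k := by
      change k + n = n + k
      omega
    rwa [h2] at this

end Groth.Agent.H21
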