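import Mathlib

namespace Groth.Agent.H21.H1QR

open MvPolynomial

variable {R : Type*} [CommRing R] {c : ℕ} (f : Fin c → R)

/-- Koszul differential for the sequence `f` (base changed to the polynomial ring). -/
noncomputable def dd (q : Fin c → MvPolynomial (Fin c) R) : MvPolynomial (Fin c) R :=
  ∑ i, C (f i) * q i

/-- Koszul differential for the variables. -/
noncomputable def dX (q : Fin c → MvPolynomial (Fin c) R) : MvPolynomial (Fin c) R :=
  ∑ i, X i * q i

noncomputable def dd2 (ρ : Fin c → Fin c → MvPolynomial (Fin c) R) :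
    Fin c → MvPolynomial (Fin c) R :=
  fun i => ∑ j, C (f j) * (ρ i j - ρ j i)

noncomputable def dX2 (ρ : Fin c → Fin c → MvPolynomial (Fin c) R) :
    Fin c → MvPolynomial (Fin c) R :=
  fun i => ∑ j, X j * (ρ i j - ρ j i)

lemma anticomm (ρ : Fin c → Fin c → MvPolynomial (Fin c) R) :
    dd f (dX2 ρ) + dX (dd2 f ρ) = 0 := by
  unfold dd dX dd2 dX2
  simp only [Finset.mul_sum, ← Finset.sum_add_distrib]
  have h1 : ∀ i j : Fin c, C (f i) * (X j * (ρ i j - ρ j i)) + X i * (C (f j) * (ρ i j - ρ j i))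
      = ρ i j * (C (f i) * X j + X i * C (f j)) - ρ j i * (C (f j) * X i + X j * C (f i)) := by
    intro i j; ring
  simp only [h1, Finset.sum_sub_distrib]
  rw [sub_eq_zero]
  rw [Finset.sum_comm]

lemma dX_dX2 (ρ : Fin c → Fin c → MvPolynomial (Fin c) R) :
    dX (dX2 ρ) = 0 := by
  unfold dX dX2
  simp only [Finset.mul_sum]
  have h1 : ∀ i j : Fin c, X i * (X j * (ρ i j - ρ j i))
      = ρ i j * (X i * X j) - ρ j i * (X j * X i) := by
    intro i j; ring
  simp only [h1, Finset.sum_sub_distrib]
  rw [sub_eq_zero]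
  rw [Finset.sum_comm]

/-- the `H_1`-regularity hypothesis in the explicit form used in the frozen statement -/
def H1 : Prop := ∀ a : Fin c → R, ∑ i, a i * f i = 0 →
    a ∈ Submodule.span R {v : Fin c → R | ∃ i j : Fin c, v = Pi.single i (f j) - Pi.single j (f i)}

lemma exists_rho_of_mem_span (a : Fin c → R)
    (ha : a ∈ Submodule.span R
      {v : Fin c → R | ∃ i j : Fin c, v = Pi.single i (f j) - Pi.single j (f i)}) :
    ∃ ρ : Fin c → Fin c → R, ∀ l, a l = ∑ j, f j * (ρ l j - ρ j l) := by
  induction ha using Submodule.span_induction with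
  | mem v hv =>
    obtain ⟨i, j, rfl⟩ := hv
    refine ⟨fun a b => if a = i ∧ b = j then 1 else 0, ?_⟩
    intro l
    simp only [mul_sub, Finset.sum_sub_distrib, Pi.sub_apply, Pi.single_apply]
    congr 1
    · by_cases h : l = i
      · simp [h]
      · simp [h]
    · by_cases h : l = j
      · simp [h]
      · simp [h]
  | zero => exact ⟨0, by simp⟩
  | add x y _ _ hx hy =>
    obtain ⟨ρ, hρ⟩ := hx
    obtain ⟨ρ', hρ'⟩ := hy
    refine ⟨ρ + ρ', fun l => ?_⟩
    simp only [Pi.add_apply, hρ l, hρ' l, ← Finset.sum_add_distrib]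
    apply Finset.sum_congr rfl
    intro j _
    ring
  | smul r x _ hx =>
    obtain ⟨ρ, hρ⟩ := hx
    refine ⟨r • ρ, fun l => ?_⟩
    simp only [Pi.smul_apply, hρ l, smul_eq_mul, Finset.mul_sum]
    apply Finset.sum_congr rfl
    intro j _
    ring

variable {f}

/-- `H_1`-regularity passes to the polynomial ring. -/
lemma exists_rho (hf : H1 f) (q : Fin c → MvPolynomial (Fin c) R) (hq : dd f q = 0) :
    ∃ ρ : Fin c → Fin c → MvPolynomial (Fin c) R, q = dd2 f ρ := by
  classical
  have hrel : ∀ m : Fin c →₀ ℕ, ∑ i, coeff m (q i) * f i = 0 := by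
    intro m
    have := congrArg (coeff m) hq
    simp only [dd, coeff_sum, coeff_C_mul, coeff_zero] at this
    rw [← this]
    apply Finset.sum_congr rfl
    intro i _
    ring
  choose ρm hρm using fun m => exists_rho_of_mem_span f _ (hf _ (hrel m))
  obtain ⟨T, hT⟩ : ∃ T : Finset (Fin c →₀ ℕ), T = Finset.univ.biUnion (fun i => (q i).support) :=
    ⟨_, rfl⟩
  refine ⟨fun i j => ∑ m ∈ T, monomial m (ρm m i j), ?_⟩
  funext l
  ext m
  simp only [dd2, coeff_sum, coeff_C_mul, coeff_sub, coeff_monomial]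
  by_cases hm : m ∈ T
  · simp only [Finset.sum_ite_eq', hm, if_true]
    exact hρm m l
  · simp only [Finset.sum_ite_eq', hm, if_false, sub_zero, mul_zero, Finset.sum_const_zero]
    rw [hT] at hm
    simp only [Finset.mem_biUnion, Finset.mem_univ, true_and, not_exists, mem_support_iff,
      not_not] at hm
    exact hm l

variable (f)

def Rel (y y' : MvPolynomial (Fin c) R) : Prop :=
  ∃ r : Fin c → MvPolynomial (Fin c) R, dX r = y ∧ dd f r = y'

def Good (y : MvPolynomial (Fin c) R) : Prop :=
  ∃ w : Fin c → MvPolynomial (Fin c) R, dd f w = 0 ∧ dX w = y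

lemma dd_add (q q' : Fin c → MvPolynomial (Fin c) R) : dd f (q + q') = dd f q + dd f q' := by
  simp only [dd, Pi.add_apply, mul_add, Finset.sum_add_distrib]

lemma dX_add (q q' : Fin c → MvPolynomial (Fin c) R) : dX (q + q') = dX q + dX q' := by
  simp only [dX, Pi.add_apply, mul_add, Finset.sum_add_distrib]

lemma dd_smul (b : MvPolynomial (Fin c) R) (q : Fin c → MvPolynomial (Fin c) R) :
    dd f (b • q) = b * dd f q := by
  simp only [dd, Pi.smul_apply, smul_eq_mul, Finset.mul_sum]
  apply Finset.sum_congr rfl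
  intro i _
  ring

lemma dX_smul (b : MvPolynomial (Fin c) R) (q : Fin c → MvPolynomial (Fin c) R) :
    dX (b • q) = b * dX q := by
  simp only [dX, Pi.smul_apply, smul_eq_mul, Finset.mul_sum]
  apply Finset.sum_congr rfl
  intro i _
  ring

lemma good_zero : Good f 0 := ⟨0, by simp [dd], by simp [dX]⟩

variable {f}

lemma good_of_rel (hf : H1 f) {y y' : MvPolynomial (Fin c) R} (h : Rel f y y')
    (hg : Good f y') : Good f y := by
  obtain ⟨r, hr1, hr2⟩ := h
  obtain ⟨w, hw1, hw2⟩ := hg
  obtain ⟨ρ, rfl⟩ := exists_rho hf w hw1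
  refine ⟨r + dX2 ρ, ?_, ?_⟩
  · rw [dd_add, hr2, eq_neg_of_add_eq_zero_left (anticomm f ρ), hw2]
    ring
  · rw [dX_add, dX_dX2, add_zero, hr1]

lemma mem_of_good (hf : H1 f) {y : MvPolynomial (Fin c) R} (hg : Good f y) :
    y ∈ Ideal.map (C : R →+* MvPolynomial (Fin c) R) (Ideal.span (Set.range f)) := by
  obtain ⟨w, hw1, rfl⟩ := hg
  obtain ⟨ρ, rfl⟩ := exists_rho hf w hw1
  rw [eq_neg_of_add_eq_zero_right (anticomm f ρ)]
  rw [neg_mem_iff]
  unfold dd
  apply Ideal.sum_mem
  intro i _
  apply Ideal.mul_mem_right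
  exact Ideal.mem_map_of_mem _ (Ideal.subset_span ⟨i, rfl⟩)

variable (f)

def Reach : ℕ → MvPolynomial (Fin c) R → MvPolynomial (Fin c) R → Prop
  | 0, y, y' => y = y'
  | n + 1, y, y' => ∃ z, Rel f y z ∧ Reach n z y'

variable {f}

lemma good_of_reach (hf : H1 f) : ∀ (n : ℕ) (y y' : MvPolynomial (Fin c) R),
    Reach f n y y' → Good f y' → Good f y
  | 0, y, y', h, hg => by
    have : y = y' := h
    rw [this]; exact hg
  | n + 1, y, y', h, hg => by
    obtain ⟨z, hz, hr⟩ := h
    exact good_of_rel hf hz (good_of_reach hf n z y' hr hg)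

lemma rel_add {y y' z z' : MvPolynomial (Fin c) R} (h : Rel f y y') (h' : Rel f z z') :
    Rel f (y + z) (y' + z') := by
  obtain ⟨r, rfl, rfl⟩ := h
  obtain ⟨r', rfl, rfl⟩ := h'
  exact ⟨r + r', dX_add _ _, dd_add f _ _⟩

lemma rel_mul (b : MvPolynomial (Fin c) R) {y y' : MvPolynomial (Fin c) R} (h : Rel f y y') :
    Rel f (b * y) (b * y') := by
  obtain ⟨r, rfl, rfl⟩ := h
  exact ⟨b • r, dX_smul _ _, dd_smul f _ _⟩

lemma reach_add : ∀ (n : ℕ) {y y' z z' : MvPolynomial (Fin c) R}, Reach f n y y' →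
    Reach f n z z' → Reach f n (y + z) (y' + z')
  | 0, y, y', z, z', h, h' => by
    have h1 : y = y' := h
    have h2 : z = z' := h'
    rw [h1, h2]; rfl
  | n + 1, y, y', z, z', h, h' => by
    obtain ⟨u, hu, hr⟩ := h
    obtain ⟨u', hu', hr'⟩ := h'
    exact ⟨u + u', rel_add hu hu', reach_add n hr hr'⟩

lemma reach_mul (b : MvPolynomial (Fin c) R) : ∀ (n : ℕ) {y y' : MvPolynomial (Fin c) R},
    Reach f n y y' → Reach f n (b * y) (b * y')
  | 0, y, y', h => by
    have h1 : y = y' := h
    rw [h1]; rfl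
  | n + 1, y, y', h => by
    obtain ⟨u, hu, hr⟩ := h
    exact ⟨b * u, rel_mul b hu, reach_mul b n hr⟩

lemma reach_zero : ∀ n : ℕ, Reach f n 0 0
  | 0 => rfl
  | n + 1 => ⟨0, ⟨0, by simp [dX], by simp [dd]⟩, reach_zero n⟩

lemma reach_sum {ι : Type*} (s : Finset ι) (n : ℕ) (y y' : ι → MvPolynomial (Fin c) R)
    (h : ∀ i ∈ s, Reach f n (y i) (y' i)) : Reach f n (∑ i ∈ s, y i) (∑ i ∈ s, y' i) := by
  classical
  induction s using Finset.induction_on with
  | empty => simpa using reach_zero n
  | insert a s ha ih =>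
    rw [Finset.sum_insert ha, Finset.sum_insert ha]
    exact reach_add n (h a (Finset.mem_insert_self _ _))
      (ih fun i hi => h i (Finset.mem_insert_of_mem hi))

lemma reach_of_homog : ∀ (n : ℕ) (P : MvPolynomial (Fin c) R), P.IsHomogeneous n →
    Reach f n P (C (eval f P))
  | 0, P, hP => by
    have h0 : P.totalDegree = 0 := Nat.le_zero.1 hP.totalDegree_le
    rw [totalDegree_eq_zero_iff_eq_C] at h0
    change P = C (eval f P)
    rw [h0, eval_C]
  | n + 1, P, hP => by
    classical
    have key : ∀ m ∈ P.support, Reach f (n + 1) (monomial m (coeff m P))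
        (C (eval f (monomial m (coeff m P)))) := by
      intro m hm
      have hdeg : m.degree = n + 1 := by
        have := hP (mem_support_iff.1 hm)
        rw [← this, Finsupp.degree_eq_weight_one]
        rfl
      have hne : m ≠ 0 := by
        rintro rfl
        simp at hdeg
      obtain ⟨i, hi⟩ : ∃ i, m i ≠ 0 := by
        by_contra hcon
        push Not at hcon
        exact hne (Finsupp.ext hcon)
      obtain ⟨m', hm'⟩ : ∃ m', m = Finsupp.single i 1 + m' := by
        refine ⟨m - Finsupp.single i 1, ?_⟩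
        rw [add_tsub_cancel_of_le]
        intro j
        by_cases hj : j = i
        · subst hj
          rw [Finsupp.single_eq_same]
          exact Nat.one_le_iff_ne_zero.2 hi
        · rw [Finsupp.single_eq_of_ne hj]
          exact Nat.zero_le _
      have hdeg' : m'.degree = n := by
        rw [hm', map_add, Finsupp.degree_single] at hdeg
        omega
      have hmono : monomial m (coeff m P) = X i * monomial m' (coeff m P) := by
        rw [hm', monomial_single_add, pow_one]
      rw [hmono]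
      refine ⟨C (f i) * monomial m' (coeff m P), ?_, ?_⟩
      · refine ⟨Pi.single i (monomial m' (coeff m P)), ?_, ?_⟩
        · unfold dX
          rw [Finset.sum_eq_single i]
          · rw [Pi.single_eq_same]
          · intro j _ hj
            rw [Pi.single_eq_of_ne hj, mul_zero]
          · intro h; exact absurd (Finset.mem_univ i) h
        · unfold dd
          rw [Finset.sum_eq_single i]
          · rw [Pi.single_eq_same]
          · intro j _ hj
            rw [Pi.single_eq_of_ne hj, mul_zero]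
          · intro h; exact absurd (Finset.mem_univ i) h
      · have ih := reach_of_homog n (monomial m' (coeff m P))
          (isHomogeneous_monomial _ hdeg')
        have := reach_mul (C (f i)) n ih
        rw [map_mul, eval_X, map_mul]
        exact this
    have hsum := reach_sum P.support (n + 1) _ _ key
    rw [← map_sum, ← map_sum, support_sum_monomial_coeff] at hsum
    exact hsum

/-- elements of `J^(n+1)` are values of degree `n` forms with coefficients in `J` -/
lemma pow_succ_repr : ∀ (n : ℕ) (x : R), x ∈ Ideal.span (Set.range f) ^ (n + 1) →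
    ∃ Q : MvPolynomial (Fin c) R, Q.IsHomogeneous n ∧
      Q ∈ Ideal.map (C : R →+* MvPolynomial (Fin c) R) (Ideal.span (Set.range f)) ∧
      eval f Q = x
  | 0, x, hx => by
    rw [zero_add, pow_one] at hx
    exact ⟨C x, isHomogeneous_C _ _, Ideal.mem_map_of_mem _ hx, eval_C _⟩
  | n + 1, x, hx => by
    rw [pow_succ] at hx
    refine Submodule.mul_induction_on hx ?_ ?_
    · intro a ha b hb
      obtain ⟨Q, hQ1, hQ2, hQ3⟩ := pow_succ_repr n a ha
      obtain ⟨g, rfl⟩ := (Ideal.mem_span_range_iff_exists_fun).1 hb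
      refine ⟨Q * ∑ i, C (g i) * X i, ?_, Ideal.mul_mem_right _ _ hQ2, ?_⟩
      · apply hQ1.mul
        apply IsHomogeneous.sum
        intro i _
        exact isHomogeneous_C_mul_X _ _
      · rw [map_mul, hQ3, map_sum]
        congr 1
        apply Finset.sum_congr rfl
        intro i _
        rw [map_mul, eval_C, eval_X]
    · intro a b ha hb
      obtain ⟨Q, hQ1, hQ2, hQ3⟩ := ha
      obtain ⟨Q', hQ1', hQ2', hQ3'⟩ := hb
      exact ⟨Q + Q', hQ1.add hQ1', Ideal.add_mem _ hQ2 hQ2', by rw [map_add, hQ3, hQ3']⟩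

theorem quasiRegular_of_H1 (hf : H1 f) (n : ℕ) (P : MvPolynomial (Fin c) R)
    (hP : P.IsHomogeneous n) (hev : eval f P ∈ Ideal.span (Set.range f) ^ (n + 1))
    (d : Fin c →₀ ℕ) : P.coeff d ∈ Ideal.span (Set.range f) := by
  obtain ⟨Q, hQ1, hQ2, hQ3⟩ := pow_succ_repr n _ hev
  have hPQ : (P - Q).IsHomogeneous n := hP.sub hQ1
  have hr := reach_of_homog (f := f) n (P - Q) hPQ
  rw [map_sub, hQ3, sub_self, map_zero] at hr
  have hg := good_of_reach hf n _ _ hr (good_zero f)
  have hmem := mem_of_good hf hg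
  have : P ∈ Ideal.map (C : R →+* MvPolynomial (Fin c) R) (Ideal.span (Set.range f)) := by
    have := Ideal.add_mem _ hmem hQ2
    rwa [sub_add_cancel] at this
  exact (mem_map_C_iff.1 this) d

end Groth.Agent.H21.H1QR
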