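import Mathlib
import Groth.Agent.H21.GrQuot

namespace Groth.Agent.H21.Homogz

open MvPolynomial Groth.Agent.H21.GrQuot

universe u

attribute [local instance] MvPolynomial.gradedAlgebra

variable {R R' : Type u} [CommRing R] [CommRing R'] [Algebra R R']
variable {n : ℕ} (φ : MvPolynomial (Fin n) R →ₐ[R] R')

/-- dehomogenization: `X none ↦ 1`, `X (some i) ↦ φ (X i)` -/
noncomputable def δ₀ : MvPolynomial (Option (Fin n)) R →ₐ[R] R' :=
  aeval (fun o : Option (Fin n) => o.elim (1 : R') (fun i => φ (X i)))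

/-- generators of the ideal -/
def gens : Set (MvPolynomial (Option (Fin n)) R) :=
  {p | ∃ k : ℕ, 1 ≤ k ∧ p.IsHomogeneous k ∧ δ₀ φ p = 0}

/-- the ideal -/
noncomputable def J : Ideal (MvPolynomial (Option (Fin n)) R) := Ideal.span (gens φ)

lemma J_homog : (J φ).IsHomogeneous (homogeneousSubmodule (Option (Fin n)) R) := by
  apply Ideal.homogeneous_span
  rintro p ⟨k, _, hp, _⟩
  exact ⟨k, hp⟩

lemma J_le_ker : J φ ≤ RingHom.ker (δ₀ φ).toRingHom := by
  unfold J
  rw [Ideal.span_le]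
  rintro p ⟨k, _, _, hp⟩
  exact hp

lemma J_le_cc : J φ ≤ RingHom.ker (constantCoeff : MvPolynomial (Option (Fin n)) R →+* R) := by
  unfold J
  rw [Ideal.span_le]
  rintro p ⟨k, hk, hp, _⟩
  rw [SetLike.mem_coe, RingHom.mem_ker, constantCoeff_eq]
  apply hp.coeff_eq_zero
  simp
  omega

lemma mem_J_of_homog {p : MvPolynomial (Option (Fin n)) R} {k : ℕ} (hk : 1 ≤ k)
    (hp : p.IsHomogeneous k) (h0 : δ₀ φ p = 0) : p ∈ J φ :=
  Ideal.subset_span ⟨k, hk, hp, h0⟩

/-- the graded ring -/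
abbrev S := MvPolynomial (Option (Fin n)) R ⧸ J φ

/-- the grading -/
noncomputable abbrev ℬ : ℕ → Submodule R (S φ) :=
  quotGrading (homogeneousSubmodule (Option (Fin n)) R) (J φ)

noncomputable instance : GradedAlgebra (ℬ φ) := gradedAlgebra (J_homog φ)

/-- the element `f = X₀` -/
noncomputable def f : S φ := Ideal.Quotient.mk (J φ) (X none)

lemma f_mem : f φ ∈ ℬ φ 1 := mk_mem_quotGrading _ _ (isHomogeneous_X R none)

/-- dehomogenization on the quotient -/
noncomputable def δ : S φ →ₐ[R] R' :=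
  Ideal.Quotient.liftₐ (J φ) (δ₀ φ) (fun a ha => J_le_ker φ ha)

lemma δ_mk (p : MvPolynomial (Option (Fin n)) R) : δ φ (Ideal.Quotient.mk (J φ) p) = δ₀ φ p := rfl

lemma δ_f : δ φ (f φ) = 1 := by
  unfold f
  rw [δ_mk]
  simp [δ₀]

lemma isUnit_δ_f : IsUnit ((δ φ : S φ →+* R') (f φ)) := by
  rw [RingHom.coe_coe, δ_f]; exact isUnit_one

/-- the comparison map -/
noncomputable def e₀ : HomogeneousLocalization.Away (ℬ φ) (f φ) →+* R' :=
  (IsLocalization.Away.lift (S := Localization.Away (f φ)) (f φ) (isUnit_δ_f φ)).comp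
    (algebraMap (HomogeneousLocalization.Away (ℬ φ) (f φ)) (Localization.Away (f φ)))

lemma e₀_mk (k : ℕ) (a : S φ) (ha : a ∈ ℬ φ (k • 1)) :
    e₀ φ (HomogeneousLocalization.Away.mk (ℬ φ) (f_mem φ) k a ha) = δ φ a := by
  unfold e₀
  rw [RingHom.comp_apply, HomogeneousLocalization.algebraMap_apply,
    HomogeneousLocalization.Away.val_mk, Localization.mk_eq_mk', IsLocalization.Away.lift,
    IsLocalization.lift_mk'_spec]
  simp [δ_f]

lemma e₀_injective : Function.Injective (e₀ φ) := by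
  rw [injective_iff_map_eq_zero]
  intro z hz
  obtain ⟨k, a, ha, rfl⟩ := HomogeneousLocalization.Away.mk_surjective (ℬ φ) (f_mem φ) z
  rw [e₀_mk] at hz
  obtain ⟨p, hp, rfl⟩ := (mem_quotGrading _ _).1 ha
  rw [δ_mk] at hz
  have hfa : f φ * Ideal.Quotient.mk (J φ) p = 0 := by
    unfold f
    rw [← map_mul, Ideal.Quotient.eq_zero_iff_mem]
    refine mem_J_of_homog φ (k := 1 + k • 1) (by omega) ?_ ?_
    · exact (isHomogeneous_X R none).mul hp
    · rw [map_mul, hz, mul_zero]
  apply HomogeneousLocalization.val_injective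
  rw [HomogeneousLocalization.Away.val_mk, HomogeneousLocalization.val_zero,
    Localization.mk_eq_mk', IsLocalization.mk'_eq_zero_iff]
  exact ⟨⟨f φ, Submonoid.mem_powers _⟩, hfa⟩

lemma e₀_surjective (hφ : Function.Surjective φ) : Function.Surjective (e₀ φ) := by
  intro y
  obtain ⟨q, rfl⟩ := hφ y
  induction q using MvPolynomial.induction_on with
  | C r =>
    refine ⟨HomogeneousLocalization.Away.mk (ℬ φ) (f_mem φ) 0 (algebraMap R (S φ) r) ?_, ?_⟩
    · rw [zero_smul]
      exact (mem_quotGrading _ _).2 ⟨C r, isHomogeneous_C _ r, rfl⟩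
    · rw [e₀_mk, AlgHom.commutes, ← MvPolynomial.algebraMap_eq, AlgHom.commutes]
  | add p q hp hq =>
    obtain ⟨a, ha⟩ := hp
    obtain ⟨b, hb⟩ := hq
    exact ⟨a + b, by rw [map_add, map_add, ha, hb]⟩
  | mul_X p i hp =>
    obtain ⟨a, ha⟩ := hp
    refine ⟨a * HomogeneousLocalization.Away.mk (ℬ φ) (f_mem φ) 1
      (Ideal.Quotient.mk (J φ) (X (some i))) ?_, ?_⟩
    · rw [one_smul]
      exact mk_mem_quotGrading _ _ (isHomogeneous_X R (some i))
    · rw [map_mul, map_mul, ha, e₀_mk, δ_mk]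
      simp [δ₀]

/-- the isomorphism -/
noncomputable def e (hφ : Function.Surjective φ) :
    HomogeneousLocalization.Away (ℬ φ) (f φ) ≃+* R' :=
  RingEquiv.ofBijective (e₀ φ) ⟨e₀_injective φ, e₀_surjective φ hφ⟩

lemma e_symm_algebraMap (hφ : Function.Surjective φ) (r : R) :
    ((e φ hφ).symm (algebraMap R R' r)).val
      = algebraMap (S φ) (Localization.Away (f φ)) (algebraMap R (S φ) r) := by
  have hmem : algebraMap R (S φ) r ∈ ℬ φ (0 • 1) := by
    rw [zero_smul]
    exact (mem_quotGrading _ _).2 ⟨C r, isHomogeneous_C _ r, rfl⟩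
  have h1 : (e φ hφ).symm (algebraMap R R' r)
      = HomogeneousLocalization.Away.mk (ℬ φ) (f_mem φ) 0 (algebraMap R (S φ) r) hmem := by
    rw [RingEquiv.symm_apply_eq]
    change _ = e₀ φ _
    rw [e₀_mk, AlgHom.commutes]
  rw [h1, HomogeneousLocalization.Away.val_mk, ← Localization.mk_one_eq_algebraMap]
  congr 1

lemma algebraMap_injective : Function.Injective (algebraMap R (S φ)) := by
  rw [injective_iff_map_eq_zero]
  intro r hr
  have : (C r : MvPolynomial (Option (Fin n)) R) ∈ J φ := by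
    rw [← Ideal.Quotient.eq_zero_iff_mem]
    exact hr
  have := J_le_cc φ this
  rwa [RingHom.mem_ker, constantCoeff_C] at this

lemma deg_zero (x : S φ) (hx : x ∈ ℬ φ 0) : x ∈ Set.range (algebraMap R (S φ)) := by
  obtain ⟨p, hp, rfl⟩ := (mem_quotGrading _ _).1 hx
  rw [homogeneousSubmodule_zero, Submodule.mem_one] at hp
  obtain ⟨r, rfl⟩ := hp
  exact ⟨r, rfl⟩

open Classical in
/-- the generators -/
noncomputable def gensS : Finset (S φ) :=
  Finset.univ.image (fun o : Option (Fin n) => Ideal.Quotient.mk (J φ) (X o))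

open Classical in
lemma gensS_sub : (↑(gensS φ) : Set (S φ)) ⊆ (ℬ φ 1 : Set (S φ)) := by
  intro x hx
  rw [gensS, Finset.coe_image, Finset.coe_univ, Set.image_univ] at hx
  obtain ⟨o, rfl⟩ := hx
  exact mk_mem_quotGrading _ _ (isHomogeneous_X R o)

open Classical in
lemma adjoin_gensS : Algebra.adjoin R (↑(gensS φ) : Set (S φ)) = ⊤ := by
  rw [gensS, Finset.coe_image, Finset.coe_univ, Set.image_univ]
  have : Set.range (fun o : Option (Fin n) => Ideal.Quotient.mk (J φ) (X o))
      = (Ideal.Quotient.mkₐ R (J φ)) '' (Set.range (X : Option (Fin n) → _)) := by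
    rw [← Set.range_comp]; rfl
  rw [this, ← AlgHom.map_adjoin, MvPolynomial.adjoin_range_X, Algebra.map_top,
    AlgHom.range_eq_top]
  exact Ideal.Quotient.mkₐ_surjective R (J φ)

end Groth.Agent.H21.Homogz
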