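import Mathlib
import Groth.Prelude.Def_Wider
import Groth.Agent.Lib.Helper7.Matlis7

set_option autoImplicit false
universe u

open InjHull IsLocalRing Groth.Agent.Helper7.IH Groth.Agent.Helper7.Matlis

namespace H21.HullChar

variable {A : Type u} [CommRing A] [IsLocalRing A]

/-- The map `A ⧸ J → M`, `1 ↦ y`, for `y` killed by `J`. -/
noncomputable def homOfKilled {M : Type u} [AddCommGroup M] [Module A M] (J : Ideal A) (y : M)
    (hy : ∀ r ∈ J, r • y = 0) : (A ⧸ J) →ₗ[A] M :=
  Submodule.liftQ J (LinearMap.toSpanSingleton A M y) (fun r hr => by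
    rw [LinearMap.mem_ker, LinearMap.toSpanSingleton_apply]; exact hy r hr)

omit [IsLocalRing A] in
lemma homOfKilled_one {M : Type u} [AddCommGroup M] [Module A M] (J : Ideal A) (y : M)
    (hy : ∀ r ∈ J, r • y = 0) : homOfKilled J y hy 1 = y := by
  change homOfKilled J y hy (Submodule.Quotient.mk 1) = y
  rw [homOfKilled, Submodule.liftQ_apply, LinearMap.toSpanSingleton_apply, one_smul]

variable [IsNoetherianRing A] {I : Type u} [AddCommGroup I] [Module A I]

theorem main (ha : LocCoh.IsPowerTorsion (maximalIdeal A) I)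
    (hb : Nonempty ((ResidueField A →ₗ[A] I) ≃ₗ[A] ResidueField A))
    (a : ℕ → Ideal A) (hcof : ∀ n : ℕ, ∃ N : ℕ, maximalIdeal A ^ N ≤ a n)
    (hcof' : ∀ N : ℕ, ∃ n : ℕ, a n ≤ maximalIdeal A ^ N)
    (hlen : ∀ n : ℕ, Module.length A (A ⧸ a n) = Module.length A ((A ⧸ a n) →ₗ[A] I)) :
    ∃ f : ResidueField A →ₗ[A] I, IsInjectiveHull f := by
  obtain ⟨e⟩ := hb
  obtain ⟨f₀, hf₀⟩ : ∃ f₀, f₀ = e.symm 1 := ⟨_, rfl⟩
  have hef₀ : e f₀ = 1 := by rw [hf₀, LinearEquiv.apply_symm_apply]
  have hsmul1 : ∀ r : A, r • (1 : ResidueField A) = residue A r := by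
    intro r
    rw [Algebra.smul_def, mul_one, ResidueField.algebraMap_eq]
  have hspan : ∀ h : ResidueField A →ₗ[A] I, ∃ r : A, h = r • f₀ := by
    intro h
    obtain ⟨r, hr⟩ := residue_surjective (e h)
    refine ⟨r, e.injective ?_⟩
    rw [map_smul, hef₀, hsmul1, hr]
  have hf₀ne : f₀ ≠ 0 := by
    intro h0
    rw [h0, map_zero] at hef₀
    exact zero_ne_one hef₀
  have hsimple := isSimpleModule_residueField (R := A)
  have hf₀inj : Function.Injective f₀ := (LinearMap.injective_or_eq_zero f₀).resolve_right hf₀ne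
  have hess : IsEssentialInj f₀ := by
    rw [isEssentialInj_iff]
    refine ⟨hf₀inj, fun x hx => ?_⟩
    obtain ⟨r, hr, hr0⟩ := socle_essential (maximalIdeal A) ha x hx
    refine ⟨r, ?_, hr0⟩
    have hy : ∀ s ∈ maximalIdeal A, s • (r • x) = 0 := fun s hs =>
      (Submodule.mem_torsionBySet_iff _ _).1 hr ⟨s, hs⟩
    let h : ResidueField A →ₗ[A] I := homOfKilled (maximalIdeal A) (r • x) hy
    have h1 : h 1 = r • x := homOfKilled_one _ _ hy
    obtain ⟨s, hs⟩ := hspan h
    refine ⟨s • 1, ?_⟩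
    rw [map_smul, ← h1, hs, LinearMap.smul_apply]
  -- the hull of the residue field
  obtain ⟨E, _, _, g, hg⟩ := exists_hull (R := A) (ResidueField A)
  obtain ⟨ι, hι⟩ := exists_ext hg.isInjective f₀ hf₀inj g
  have hιinj : Function.Injective ι := injective_of_essential hess ι (by rw [hι]; exact hg.injective)
  have hEtors := hull_isPowerTorsion g hg
  have hιsurj : Function.Surjective ι := by
    intro x
    obtain ⟨N, hN⟩ := hEtors x
    obtain ⟨n, hn⟩ := hcof' N
    have hx : ∀ r ∈ a n, r • x = 0 := fun r hr => hN r (hn hr)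
    have hfin : IsFiniteLength A (A ⧸ a n) := by
      obtain ⟨N', hN'⟩ := hcof n
      exact (isFiniteLength_quot_pow (R := A) N').of_surjective
        (f := Submodule.factor hN') (Submodule.factor_surjective hN')
    let Ψ : ((A ⧸ a n) →ₗ[A] I) →ₗ[A] ((A ⧸ a n) →ₗ[A] E) := LinearMap.compRight A ι
    have hΨinj : Function.Injective Ψ := by
      intro φ ψ h
      apply LinearMap.ext
      intro t
      apply hιinj
      exact LinearMap.congr_fun h t
    have hl : Module.length A ((A ⧸ a n) →ₗ[A] I) = Module.length A ((A ⧸ a n) →ₗ[A] E) := by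
      rw [← hlen n, length_hom_eq g hg _ hfin]
    have hfin' : Module.length A ((A ⧸ a n) →ₗ[A] I) ≠ ⊤ := by
      rw [← hlen n]; exact Module.length_ne_top_iff.2 hfin
    obtain ⟨φ, hφ⟩ := surjective_of_injective_of_length_eq Ψ hΨinj hl hfin' (homOfKilled (a n) x hx)
    refine ⟨φ 1, ?_⟩
    have := LinearMap.congr_fun hφ 1
    rw [homOfKilled_one] at this
    exact this
  let eq : I ≃ₗ[A] E := LinearEquiv.ofBijective ι ⟨hιinj, hιsurj⟩
  exact ⟨f₀, ⟨hess, injective_of_linearEquiv eq.symm hg.isInjective⟩⟩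

end H21.HullChar
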