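import Mathlib

set_option autoImplicit false
universe u

open PrimeSpectrum

namespace H21.IrredComp

variable (A B : Type u) [CommRing A] [CommRing B] [Algebra A B]

lemma finite_minimalPrimes_iff (R : Type u) [CommRing R] :
    (irreducibleComponents (PrimeSpectrum R)).Finite ↔ (minimalPrimes R).Finite := by
  constructor
  · intro h
    rw [← vanishingIdeal_irreducibleComponents]
    exact h.image _
  · intro h
    rw [← zeroLocus_minimalPrimes]
    exact h.image _

/-- minimal primes lying over a given prime are finite in number when the fibre is Noetherian -/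
lemma finite_minimal_over (p : Ideal A) [p.IsPrime] [Algebra.FiniteType A B] :
    {q : Ideal B | q ∈ p.primesOver B ∧ ∀ q' ∈ p.primesOver B, q' ≤ q → q ≤ q'}.Finite := by
  have : IsNoetherianRing (p.Fiber B) := Algebra.FiniteType.isNoetherianRing p.ResidueField _
  have hfin := minimalPrimes.finite_of_isNoetherianRing (p.Fiber B)
  let e := PrimeSpectrum.primesOverOrderIsoFiber A B p
  -- map into minimal primes of the fibre
  have hsub : {q : Ideal B | q ∈ p.primesOver B ∧ ∀ q' ∈ p.primesOver B, q' ≤ q → q ≤ q'} ⊆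
      (fun Q : Ideal (p.Fiber B) => Q.comap Algebra.TensorProduct.includeRight.toRingHom) ''
        (minimalPrimes (p.Fiber B)) := by
    rintro q ⟨hq, hmin⟩
    refine ⟨(e ⟨q, hq⟩).asIdeal, ?_, ?_⟩
    · rw [minimalPrimes_eq_minimals]
      refine ⟨(e ⟨q, hq⟩).2, ?_⟩
      intro Q hQ hQle
      have hQ' : Q.IsPrime := hQ
      have h1 : (⟨Q, hQ'⟩ : PrimeSpectrum (p.Fiber B)) ≤ e ⟨q, hq⟩ := hQle
      have h2 : e.symm ⟨Q, hQ'⟩ ≤ ⟨q, hq⟩ := by
        rw [← e.symm_apply_apply ⟨q, hq⟩]
        exact e.symm.monotone h1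
      have h3 := hmin _ (e.symm ⟨Q, hQ'⟩).2 h2
      have h4 : (⟨q, hq⟩ : p.primesOver B) ≤ e.symm ⟨Q, hQ'⟩ := h3
      have h5 := e.monotone h4
      rw [e.apply_symm_apply] at h5
      exact h5
    · show ((e.symm (e ⟨q, hq⟩)) : p.primesOver B).1 = q
      rw [e.symm_apply_apply]
  exact (hfin.image _).subset hsub

end H21.IrredComp

namespace H21.IrredComp

variable (A B : Type u) [CommRing A] [CommRing B] [Algebra A B]

theorem s1148 [Module.Flat A B] [Algebra.FiniteType A B]
    (h : (irreducibleComponents (PrimeSpectrum A)).Finite) :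
    (irreducibleComponents (PrimeSpectrum B)).Finite := by
  rw [finite_minimalPrimes_iff] at h ⊢
  have hsub : minimalPrimes B ⊆ ⋃ p ∈ minimalPrimes A,
      {q : Ideal B | q ∈ p.primesOver B ∧ ∀ q' ∈ p.primesOver B, q' ≤ q → q ≤ q'} := by
    intro q hq
    rw [minimalPrimes_eq_minimals] at hq
    have hqp : q.IsPrime := hq.1
    have hpp : (q.under A).IsPrime := inferInstance
    have hover : q.LiesOver (q.under A) := ⟨rfl⟩
    have hmin : q.under A ∈ minimalPrimes A := by
      rw [minimalPrimes_eq_minimals]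
      refine ⟨hpp, ?_⟩
      intro p' hp' hle
      have hp'' : p'.IsPrime := hp'
      obtain ⟨P, hPq, hP, hPover⟩ := Ideal.exists_ideal_le_liesOver_of_le (p := p') (q := q.under A) q hle
      have : q ≤ P := hq.2 hP hPq
      have hPeq : P = q := le_antisymm hPq this
      rw [hPover.over, hPeq]
    refine Set.mem_biUnion hmin ⟨⟨hqp, hover⟩, ?_⟩
    intro q' hq' hle
    exact hq.2 hq'.1 hle
  refine Set.Finite.subset (Set.Finite.biUnion h ?_) hsub
  intro p hp
  haveI : p.IsPrime := hp.1.1
  exact finite_minimal_over A B p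

end H21.IrredComp
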