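import Groth.Prelude.Def_KZero
import Mathlib

set_option autoImplicit false
universe u
open CategoryTheory

namespace Groth.Agent.H21.K0Lib

variable (A : Type u) [CommRing A]

/-- finitely generated modules -/
abbrev PF : ObjectProperty (ModuleCat.{u} A) := fun M => Module.Finite A M

/-- the class of a f.g. module -/
noncomputable def kcl (M : Type u) [AddCommGroup M] [Module A M] : KZero.K0sub (PF A) :=
  KZero.clSub (PF A) (ModuleCat.of A M)

variable {A}

lemma kcl_eq (M : Type u) [AddCommGroup M] [Module A M] [h : Module.Finite A M] :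
    kcl A M = QuotientAddGroup.mk (FreeAbelianGroup.of ⟨ModuleCat.of A M, h⟩) := by
  unfold kcl KZero.clSub
  rw [dif_pos]

lemma kcl_exact {M₁ M₂ M₃ : Type u} [AddCommGroup M₁] [Module A M₁] [AddCommGroup M₂]
    [Module A M₂] [AddCommGroup M₃] [Module A M₃] [h₁ : Module.Finite A M₁]
    [h₂ : Module.Finite A M₂] [h₃ : Module.Finite A M₃]
    (f : M₁ →ₗ[A] M₂) (g : M₂ →ₗ[A] M₃) (hf : Function.Injective f) (hg : Function.Surjective g)
    (hfg : Function.Exact f g) : kcl A M₂ = kcl A M₁ + kcl A M₃ := by
  rw [kcl_eq, kcl_eq, kcl_eq, ← sub_eq_zero, ← sub_sub, ← QuotientAddGroup.mk_sub,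
    ← QuotientAddGroup.mk_sub, QuotientAddGroup.eq_zero_iff]
  apply AddSubgroup.subset_closure
  let S : ShortComplex (ModuleCat.{u} A) :=
    ShortComplex.mk (ModuleCat.ofHom f) (ModuleCat.ofHom g) (by
      ext x
      exact hfg.apply_apply_eq_zero x)
  refine ⟨S, h₁, h₂, h₃, ?_, rfl⟩
  refine ShortComplex.ShortExact.mk' ?_ ?_ ?_
  · rw [ShortComplex.moduleCat_exact_iff]
    intro x hx
    exact (hfg x).1 hx
  · exact (ModuleCat.mono_iff_injective _).2 hf
  · exact (ModuleCat.epi_iff_surjective _).2 hg

lemma kcl_zero (M : Type u) [AddCommGroup M] [Module A M] [Subsingleton M] : kcl A M = 0 := by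
  have h := kcl_exact (A := A) (0 : M →ₗ[A] M) (0 : M →ₗ[A] M)
    (fun a b _ => Subsingleton.elim a b) (fun b => ⟨b, Subsingleton.elim _ _⟩)
    (fun x => ⟨fun _ => ⟨x, Subsingleton.elim _ _⟩, fun _ => Subsingleton.elim _ _⟩)
  have h2 : kcl A M + 0 = kcl A M + kcl A M := by rw [add_zero]; exact h
  exact (add_left_cancel h2).symm

lemma kcl_iso {M N : Type u} [AddCommGroup M] [Module A M] [AddCommGroup N] [Module A N]
    [Module.Finite A M] [Module.Finite A N] (e : M ≃ₗ[A] N) : kcl A M = kcl A N := by
  have h := kcl_exact (A := A) (0 : PUnit.{u+1} →ₗ[A] M) e.toLinearMap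
    (fun a b _ => Subsingleton.elim a b) e.surjective
    (fun x => ⟨fun hx => ⟨0, by
      have : x = 0 := e.injective (by rw [map_zero]; exact hx)
      rw [this]; rfl⟩, fun ⟨_, hy⟩ => by
      rw [← hy]; simp⟩)
  rw [h, kcl_zero, zero_add]

lemma kcl_prod (M N : Type u) [AddCommGroup M] [Module A M] [AddCommGroup N] [Module A N]
    [Module.Finite A M] [Module.Finite A N] : kcl A (M × N) = kcl A M + kcl A N :=
  kcl_exact (LinearMap.inl A M N) (LinearMap.snd A M N) LinearMap.inl_injective
    LinearMap.snd_surjective (fun x => by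
      constructor
      · intro hx
        exact ⟨x.1, Prod.ext rfl (by simpa using hx.symm)⟩
      · rintro ⟨y, rfl⟩
        rfl)

lemma kcl_pi (M : Type u) [AddCommGroup M] [Module A M] [Module.Finite A M] (n : ℕ) :
    kcl A (Fin n → M) = n • kcl A M := by
  induction n with
  | zero => rw [zero_smul]; exact kcl_zero _
  | succ n ih =>
    have e : (Fin (n+1) → M) ≃ₗ[A] (M × (Fin n → M)) :=
      { toFun := fun f => (f 0, fun i => f i.succ)
        invFun := fun p => Fin.cons p.1 p.2
        left_inv := fun f => Fin.cons_self_tail f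
        right_inv := fun p => by simp
        map_add' := fun f g => rfl
        map_smul' := fun r f => rfl }
    rw [kcl_iso e, kcl_prod, ih, succ_nsmul, add_comm]

/-- generation by classes -/
lemma kcl_span (L : AddSubgroup (KZero.K0sub (PF A)))
    (h : ∀ (M : Type u) [AddCommGroup M] [Module A M] [Module.Finite A M], kcl A M ∈ L)
    (x : KZero.K0sub (PF A)) : x ∈ L := by
  induction x using QuotientAddGroup.induction_on with
  | H z =>
    induction z using FreeAbelianGroup.induction_on with
    | zero => exact L.zero_mem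
    | of X =>
      obtain ⟨X, hX⟩ := X
      haveI : Module.Finite A X := hX
      have := h X
      rw [kcl_eq] at this
      exact this
    | neg X hX => 
      rw [QuotientAddGroup.mk_neg]
      exact L.neg_mem hX
    | add x y hx hy =>
      rw [QuotientAddGroup.mk_add]
      exact L.add_mem hx hy

/-- additive functions induce homomorphisms -/
noncomputable def kLift (lam : ModuleCat.{u} A → ℤ)
    (hlam : ∀ S : ShortComplex (ModuleCat.{u} A), PF A S.X₁ → PF A S.X₂ → PF A S.X₃ →
      S.ShortExact → lam S.X₂ = lam S.X₁ + lam S.X₃) : KZero.K0sub (PF A) →+ ℤ :=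
  QuotientAddGroup.lift _ (FreeAbelianGroup.lift (fun X : Subtype (PF A) => lam X.1)) (by
    rw [KZero.relSub, AddSubgroup.closure_le]
    rintro _ ⟨S, h1, h2, h3, hS, rfl⟩
    simp only [SetLike.mem_coe, AddMonoidHom.mem_ker, map_sub, FreeAbelianGroup.lift_apply_of]
    rw [hlam S h1 h2 h3 hS]
    ring)

lemma kLift_kcl (lam : ModuleCat.{u} A → ℤ) (hlam) (M : Type u) [AddCommGroup M] [Module A M]
    [Module.Finite A M] : kLift lam hlam (kcl A M) = lam (ModuleCat.of A M) := by
  rw [kcl_eq]
  simp [kLift]

end Groth.Agent.H21.K0Lib
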