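import Groth.Statements.S19562
import Mathlib

set_option autoImplicit false
open Module TensorProduct

namespace Groth.Agent.H21.LG

variable {k : Type*} [Field k] {E : Type*} [AddCommGroup E] [Module k E] [FiniteDimensional k E]

theorem rank_nullity (F : E →ₗ[k] E) (V : Submodule k E) :
    finrank k (Submodule.map F V) + finrank k (LinearMap.ker F ⊓ V : Submodule k E) = finrank k V := by
  have h := LinearMap.finrank_range_add_finrank_ker (F.domRestrict V)
  rw [LinearMap.range_domRestrict, LinearMap.ker_domRestrict] at h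
  have h2 : finrank k ((LinearMap.ker F).comap V.subtype) =
      finrank k (LinearMap.ker F ⊓ V : Submodule k E) := by
    rw [← Submodule.finrank_map_subtype_eq V ((LinearMap.ker F).comap V.subtype),
      Submodule.map_comap_subtype, inf_comm]
  rw [h2] at h
  exact h

theorem core (F G : E →ₗ[k] E) (hGF : G.comp F = 0) (hFG : F.comp G = 0) (V W : Submodule k E)
    (r : ℕ) (hV : finrank k V = r) (hW : finrank k W = r)
    (hFV : Submodule.map F V ≤ W) (hGW : Submodule.map G W ≤ V) :
    (LinearMap.ker G ⊓ W ≤ Submodule.map F V ∧ LinearMap.ker F ⊓ V ≤ Submodule.map G W) ↔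
      finrank k (Submodule.map F V) + finrank k (Submodule.map G W) = r := by
  have h1 : Submodule.map F V ≤ LinearMap.ker G ⊓ W := by
    refine le_inf ?_ hFV
    rintro _ ⟨x, -, rfl⟩
    exact congrArg (fun φ : E →ₗ[k] E => φ x) hGF
  have h2 : Submodule.map G W ≤ LinearMap.ker F ⊓ V := by
    refine le_inf ?_ hGW
    rintro _ ⟨x, -, rfl⟩
    exact congrArg (fun φ : E →ₗ[k] E => φ x) hFG
  have rnF := rank_nullity F V
  have rnG := rank_nullity G W
  rw [hV] at rnF
  rw [hW] at rnG
  constructor
  · rintro ⟨e1, e2⟩
    have : Submodule.map F V = LinearMap.ker G ⊓ W := le_antisymm h1 e1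
    rw [this]
    omega
  · intro hsum
    constructor
    · have : Submodule.map F V = LinearMap.ker G ⊓ W :=
        Submodule.eq_of_le_of_finrank_eq h1 (by omega)
      exact this.ge
    · have : Submodule.map G W = LinearMap.ker F ⊓ V :=
        Submodule.eq_of_le_of_finrank_eq h2 (by omega)
      exact this.ge

theorem finrank_grass {k : Type*} [Field k] (d r : ℕ) (hrd : r < d)
    (V : Module.Grassmannian k (k ⊗[k] (Fin d → k)) (d - r)) :
    finrank k V.toSubmodule = r := by
  have h1 : finrank k ((k ⊗[k] (Fin d → k)) ⧸ V.toSubmodule) = d - r := by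
    have := V.rankAtStalk_eq ⟨⊥, Ideal.isPrime_bot⟩
    rw [Module.rankAtStalk_eq_finrank_of_free] at this
    simpa using this
  have h2 : finrank k (k ⊗[k] (Fin d → k)) = d := by simp
  have h3 := Submodule.finrank_quotient_add_finrank V.toSubmodule
  omega

theorem main (k : Type*) [Field k]
    (d r n : ℕ) (hrd : r < d) (f g : Fin n → ((Fin d → k) →ₗ[k] (Fin d → k)))
    (hI : ∀ i, (f i).comp (g i) = 0 ∧ (g i).comp (f i) = 0)
    (V : Fin (n + 1) → Module.Grassmannian k (k ⊗[k] (Fin d → k)) (d - r))
    (hV : V ∈ W4c1limliniiii.LGPoints k d r n f g k) :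
    W4c1limliniiii.IsExact k d r n f g k V ↔
      ∀ i : Fin n,
        Module.finrank k ↥(Submodule.map ((f i).baseChange k) (V i.castSucc).toSubmodule) +
          Module.finrank k ↥(Submodule.map ((g i).baseChange k) (V i.succ).toSubmodule) = r := by
  unfold W4c1limliniiii.IsExact
  refine forall_congr' fun i => ?_
  have hGF : ((g i).baseChange k).comp ((f i).baseChange k) = 0 := by
    rw [← LinearMap.baseChange_comp, (hI i).2, LinearMap.baseChange_zero]
  have hFG : ((f i).baseChange k).comp ((g i).baseChange k) = 0 := by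
    rw [← LinearMap.baseChange_comp, (hI i).1, LinearMap.baseChange_zero]
  exact core _ _ hGF hFG _ _ r (finrank_grass d r hrd _) (finrank_grass d r hrd _) (hV i).1 (hV i).2

end Groth.Agent.H21.LG
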