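import Mathlib

namespace Groth.Agent.H21.LatDist

section General
variable {A : Type*} [CommRing A] {V : Type*} [AddCommGroup V] [Module A V]

/-- additivity of length for `X ≤ Y ≤ Z` -/
lemma length_add (X Y Z : Submodule A V) (hXY : X ≤ Y) (hYZ : Y ≤ Z) :
    Module.length A (↥Z ⧸ X.submoduleOf Z)
      = Module.length A (↥Y ⧸ X.submoduleOf Y) + Module.length A (↥Z ⧸ Y.submoduleOf Z) := by
  have h1 : X.submoduleOf Y ≤ (X.submoduleOf Z).comap (Submodule.inclusion hYZ) := by
    intro y hy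
    exact hy
  have h2 : X.submoduleOf Z ≤ (Y.submoduleOf Z).comap LinearMap.id := by
    intro z hz
    exact hXY hz
  apply Module.length_eq_add_of_exact (Submodule.mapQ _ _ (Submodule.inclusion hYZ) h1)
    (Submodule.mapQ _ _ LinearMap.id h2)
  · rw [injective_iff_map_eq_zero]
    intro q hq
    obtain ⟨y, rfl⟩ := Submodule.Quotient.mk_surjective _ q
    rw [Submodule.mapQ_apply, Submodule.Quotient.mk_eq_zero] at hq
    rw [Submodule.Quotient.mk_eq_zero]
    exact hq
  · intro q
    obtain ⟨z, rfl⟩ := Submodule.Quotient.mk_surjective _ q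
    exact ⟨Submodule.Quotient.mk z, by rw [Submodule.mapQ_apply]; rfl⟩
  · intro q
    constructor
    · intro hq
      obtain ⟨z, rfl⟩ := Submodule.Quotient.mk_surjective _ q
      rw [Submodule.mapQ_apply, Submodule.Quotient.mk_eq_zero] at hq
      have hz : (z : V) ∈ Y := hq
      exact ⟨Submodule.Quotient.mk ⟨z, hz⟩, by rw [Submodule.mapQ_apply]; rfl⟩
    · rintro ⟨p, rfl⟩
      obtain ⟨y, rfl⟩ := Submodule.Quotient.mk_surjective _ p
      rw [Submodule.mapQ_apply, Submodule.mapQ_apply, Submodule.Quotient.mk_eq_zero]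
      exact y.2

end General

section Dim1

variable {A : Type*} [CommRing A] [IsDomain A] [IsNoetherianRing A]
  {V : Type*} [AddCommGroup V] [Module A V]

/-- `P` absorbs every vector after multiplying by a nonzero scalar -/
def Absorbing (P : Submodule A V) : Prop := ∀ v : V, ∃ a : A, a ≠ 0 ∧ a • v ∈ P

omit [IsNoetherianRing A] in
lemma Absorbing.inf {P P' : Submodule A V} (h : Absorbing P) (h' : Absorbing P') :
    Absorbing (P ⊓ P') := by
  intro v
  obtain ⟨a, ha, hav⟩ := h v
  obtain ⟨b, hb, hbv⟩ := h' v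
  refine ⟨a * b, mul_ne_zero ha hb, ?_, ?_⟩
  · rw [mul_comm, mul_smul]; exact P.smul_mem b hav
  · rw [mul_smul]; exact P'.smul_mem a hbv

omit [IsNoetherianRing A] in
lemma exists_smul_le {M P : Submodule A V} (hM : M.FG) (hP : Absorbing P) :
    ∃ a : A, a ≠ 0 ∧ ∀ x ∈ M, a • x ∈ P := by
  obtain ⟨s, rfl⟩ := hM
  classical
  induction s using Finset.induction_on with
  | empty =>
    refine ⟨1, one_ne_zero, ?_⟩
    intro x hx
    simp only [Finset.coe_empty, Submodule.span_empty, Submodule.mem_bot] at hx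
    rw [hx, smul_zero]; exact P.zero_mem
  | insert g s _ ih =>
    obtain ⟨a, ha, hax⟩ := ih
    obtain ⟨b, hb, hbg⟩ := hP g
    refine ⟨a * b, mul_ne_zero ha hb, ?_⟩
    intro x hx
    rw [Finset.coe_insert, Submodule.mem_span_insert] at hx
    obtain ⟨c, y, hy, rfl⟩ := hx
    rw [smul_add]
    apply P.add_mem
    · have : (a * b) • c • g = (a * c) • (b • g) := by
        simp only [smul_smul]
        congr 1
        ring
      rw [this]
      exact P.smul_mem _ hbg
    · rw [mul_comm, mul_smul]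
      exact P.smul_mem b (hax y hy)

omit [IsNoetherianRing A] in
lemma absorbing_of_isLattice {K : Type*} [Field K] [Algebra A K] [IsFractionRing A K]
    [Module K V] [IsScalarTower A K V] (P : Submodule A V) [Submodule.IsLattice K P] :
    Absorbing P := by
  intro v
  have hv : v ∈ Submodule.span K (P : Set V) := by
    rw [Submodule.IsLattice.span_eq_top]; trivial
  induction hv using Submodule.span_induction with
  | mem x hx => exact ⟨1, one_ne_zero, by rw [one_smul]; exact hx⟩
  | zero => exact ⟨1, one_ne_zero, by rw [smul_zero]; exact P.zero_mem⟩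
  | add x y _ _ hx hy =>
    obtain ⟨a, ha, hax⟩ := hx
    obtain ⟨b, hb, hby⟩ := hy
    refine ⟨a * b, mul_ne_zero ha hb, ?_⟩
    rw [smul_add]
    apply P.add_mem
    · rw [mul_comm, mul_smul]; exact P.smul_mem b hax
    · rw [mul_smul]; exact P.smul_mem a hby
  | smul c x _ hx =>
    obtain ⟨a, ha, hax⟩ := hx
    obtain ⟨r, t, ht, rfl⟩ := IsFractionRing.div_surjective (A := A) c
    have ht0 : t ≠ 0 := nonZeroDivisors.ne_zero ht
    refine ⟨a * t, mul_ne_zero ha ht0, ?_⟩
    have hK : algebraMap A K t ≠ 0 := by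
      rw [Ne, IsFractionRing.to_map_eq_zero_iff]; exact ht0
    have : (a * t) • ((algebraMap A K r / algebraMap A K t) • x) = r • (a • x) := by
      rw [← algebraMap_smul K (a * t), ← algebraMap_smul K r, ← algebraMap_smul K a, smul_smul,
        smul_smul, map_mul]
      congr 1
      field_simp
    rw [this]
    exact P.smul_mem r hax

variable [Ring.KrullDimLE 1 A]

lemma finite_length {M P : Submodule A V} (hM : M.FG) {a : A} (ha : a ≠ 0)
    (h : ∀ x ∈ M, a • x ∈ P) : Module.length A (↥M ⧸ P.submoduleOf M) ≠ ⊤ := by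
  have htor : Module.IsTorsionBy A (↥M ⧸ P.submoduleOf M) a := by
    rw [Module.isTorsionBy_quotient_iff]
    intro x
    exact h x x.2
  letI := htor.module
  haveI : IsScalarTower A (A ⧸ Ideal.span {a}) (↥M ⧸ P.submoduleOf M) := by
    constructor
    intro r q x
    obtain ⟨c, rfl⟩ := Ideal.Quotient.mk_surjective q
    change (Ideal.Quotient.mk _ (r * c)) • x = r • (Ideal.Quotient.mk _ c • x)
    rw [Module.IsTorsionBy.mk_smul htor, Module.IsTorsionBy.mk_smul htor, mul_smul]
  haveI : Module.Finite A ↥M := Module.Finite.iff_fg.2 hM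
  haveI : Module.Finite A (↥M ⧸ P.submoduleOf M) := inferInstance
  haveI : Module.Finite (A ⧸ Ideal.span {a}) (↥M ⧸ P.submoduleOf M) :=
    Module.Finite.of_restrictScalars_finite A _ _
  haveI : IsArtinianRing (A ⧸ Ideal.span {a}) := by
    have := isFiniteLength_quotient_span_singleton A (x := a) (mem_nonZeroDivisors_of_ne_zero ha)
    rw [isFiniteLength_iff_isNoetherian_isArtinian] at this
    rw [isArtinianRing_iff_krullDimLE_zero, Ring.KrullDimLE, Order.krullDimLE_iff,
      ← ENat.WithBot.add_le_add_one_right_iff, Nat.cast_zero, zero_add]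
    exact (ringKrullDim_quotient_succ_le_of_nonZeroDivisor
      (mem_nonZeroDivisors_of_ne_zero ha)).trans (Order.KrullDimLE.krullDim_le)
  haveI : IsArtinian A (↥M ⧸ P.submoduleOf M) :=
    isArtinian_of_surjective_algebraMap (R := A ⧸ Ideal.span {a})
      (Ideal.Quotient.mk_surjective (I := Ideal.span {a}))
  exact Module.length_ne_top

omit [IsDomain A] [IsNoetherianRing A] [Ring.KrullDimLE 1 A] in
/-- the distance can be computed with any common finite-colength submodule -/
lemma dist_eq (N M M' : Submodule A V) (hN : N ≤ M ⊓ M')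
    (h1 : Module.length A (↥M ⧸ N.submoduleOf M) ≠ ⊤)
    (h2 : Module.length A (↥M' ⧸ N.submoduleOf M') ≠ ⊤) :
    ((Module.length A (↥M ⧸ (M ⊓ M').submoduleOf M)).toNat : ℤ) -
        ((Module.length A (↥M' ⧸ (M ⊓ M').submoduleOf M')).toNat : ℤ) =
      ((Module.length A (↥M ⧸ N.submoduleOf M)).toNat : ℤ) -
        ((Module.length A (↥M' ⧸ N.submoduleOf M')).toNat : ℤ) := by
  have e1 := length_add N (M ⊓ M') M hN inf_le_left
  have e2 := length_add N (M ⊓ M') M' hN inf_le_right
  rw [e1] at h1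
  rw [e2] at h2
  rw [Ne, ENat.add_eq_top, not_or] at h1 h2
  rw [e1, e2, ENat.toNat_add h1.1 h1.2, ENat.toNat_add h2.1 h2.2]
  push_cast
  ring

end Dim1

section Main

theorem latticeDist_add (A : Type*) [CommRing A] [IsDomain A] [IsNoetherianRing A]
    (hA : ringKrullDim A = 1) (K : Type*) [Field K] [Algebra A K]
    [IsFractionRing A K] (V : Type*) [AddCommGroup V] [Module K V] [Module A V]
    [IsScalarTower A K V]
    (M₁ M₂ M₃ : Submodule A V) [Submodule.IsLattice K M₁] [Submodule.IsLattice K M₂]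
    [Submodule.IsLattice K M₃] :
    ((Module.length A (↥M₁ ⧸ (M₁ ⊓ M₃).submoduleOf M₁)).toNat : ℤ) -
        ((Module.length A (↥M₃ ⧸ (M₁ ⊓ M₃).submoduleOf M₃)).toNat : ℤ) =
      (((Module.length A (↥M₁ ⧸ (M₁ ⊓ M₂).submoduleOf M₁)).toNat : ℤ) -
        ((Module.length A (↥M₂ ⧸ (M₁ ⊓ M₂).submoduleOf M₂)).toNat : ℤ)) +
      (((Module.length A (↥M₂ ⧸ (M₂ ⊓ M₃).submoduleOf M₂)).toNat : ℤ) -
        ((Module.length A (↥M₃ ⧸ (M₂ ⊓ M₃).submoduleOf M₃)).toNat : ℤ)) := by
  haveI : Ring.KrullDimLE 1 A := by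
    rw [Ring.KrullDimLE, Order.krullDimLE_iff]
    exact hA.le
  have hN : Absorbing (M₁ ⊓ M₂ ⊓ M₃) :=
    ((absorbing_of_isLattice (K := K) M₁).inf (absorbing_of_isLattice (K := K) M₂)).inf
      (absorbing_of_isLattice (K := K) M₃)
  have f1 : M₁.FG := Submodule.IsLattice.fg (A := K)
  have f2 : M₂.FG := Submodule.IsLattice.fg (A := K)
  have f3 : M₃.FG := Submodule.IsLattice.fg (A := K)
  obtain ⟨a1, ha1, h1⟩ := exists_smul_le f1 hN
  obtain ⟨a2, ha2, h2⟩ := exists_smul_le f2 hN
  obtain ⟨a3, ha3, h3⟩ := exists_smul_le f3 hN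
  have l1 := finite_length f1 ha1 h1
  have l2 := finite_length f2 ha2 h2
  have l3 := finite_length f3 ha3 h3
  have le1 : M₁ ⊓ M₂ ⊓ M₃ ≤ M₁ := inf_le_left.trans inf_le_left
  have le2 : M₁ ⊓ M₂ ⊓ M₃ ≤ M₂ := inf_le_left.trans inf_le_right
  have le3 : M₁ ⊓ M₂ ⊓ M₃ ≤ M₃ := inf_le_right
  rw [dist_eq _ M₁ M₃ (le_inf le1 le3) l1 l3, dist_eq _ M₁ M₂ (le_inf le1 le2) l1 l2,
    dist_eq _ M₂ M₃ (le_inf le2 le3) l2 l3]
  ring

end Main

end Groth.Agent.H21.LatDist
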