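import Mathlib

set_option autoImplicit false
universe u

open LaurentPolynomial

namespace H21.LaurentDecomp

variable {A : Type u} [CommRing A] (n : ℕ)

/-- the substitution `T ↦ T^n` -/
noncomputable abbrev φ : A[T;T⁻¹] →+* A[T;T⁻¹] :=
  AddMonoidAlgebra.mapDomainRingHom A (AddMonoidHom.mulLeft (n : ℤ))

lemma mulLeft_inj (hn : 1 ≤ n) : Function.Injective (AddMonoidHom.mulLeft (n : ℤ)) := by
  intro a b h
  have h' : (n : ℤ) * a = (n : ℤ) * b := h
  have hn0 : (n : ℤ) ≠ 0 := by positivity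
  exact mul_left_cancel₀ hn0 h'

lemma coeff_φ_mul (hn : 1 ≤ n) (c : A[T;T⁻¹]) (m : ℤ) : (φ n c).coeff ((n : ℤ) * m) = c.coeff m := by
  change (Finsupp.mapDomain (AddMonoidHom.mulLeft (n : ℤ)) c.coeff) ((n : ℤ) * m) = _
  have : (n : ℤ) * m = AddMonoidHom.mulLeft (n : ℤ) m := rfl
  rw [this, Finsupp.mapDomain_apply (mulLeft_inj n hn)]

lemma coeff_φ_of_not_dvd (c : A[T;T⁻¹]) (k : ℤ) (hk : ¬ (n : ℤ) ∣ k) : (φ n c).coeff k = 0 := by
  change (Finsupp.mapDomain (AddMonoidHom.mulLeft (n : ℤ)) c.coeff) k = _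
  apply Finsupp.mapDomain_of_notMem_range
  rintro ⟨m, hm⟩
  exact hk ⟨m, hm.symm⟩

lemma coeff_mul_T (x : A[T;T⁻¹]) (i k : ℤ) : (x * T i).coeff k = x.coeff (k - i) := by
  rw [T, AddMonoidAlgebra.coeff_mul_single_apply, mul_one, sub_eq_add_neg]

lemma coeff_sum (hn : 1 ≤ n) (c : Fin n → A[T;T⁻¹]) (j : Fin n) (m : ℤ) :
    (∑ i : Fin n, φ n (c i) * T (i : ℤ)).coeff ((n : ℤ) * m + (j : ℤ)) = (c j).coeff m := by
  rw [AddMonoidAlgebra.coeff_sum, Finsupp.finsetSum_apply, Finset.sum_eq_single j]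
  · rw [coeff_mul_T, add_sub_cancel_right, coeff_φ_mul n hn]
  · intro i _ hij
    rw [coeff_mul_T]
    apply coeff_φ_of_not_dvd
    intro hdvd
    have h1 : (n : ℤ) ∣ ((j : ℤ) - (i : ℤ)) := by
      have : (n : ℤ) * m + (j : ℤ) - (i : ℤ) = (n : ℤ) * m + ((j : ℤ) - (i : ℤ)) := by ring
      rw [this] at hdvd
      exact (Int.dvd_add_right (Dvd.intro _ rfl)).mp hdvd
    have hi := i.2
    have hj := j.2
    have h2 : ((j : ℤ) - (i : ℤ)) = 0 := by
      apply Int.eq_zero_of_abs_lt_dvd h1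
      rw [abs_lt]
      constructor <;> omega
    apply hij
    apply Fin.ext
    omega
  · intro h; exact absurd (Finset.mem_univ j) h

theorem main (hn : 1 ≤ n) (q : A[T;T⁻¹]) :
    ∃! c : Fin n → A[T;T⁻¹], q = ∑ i : Fin n, φ n (c i) * T (i : ℤ) := by
  have hinj : ∀ j : Fin n, Function.Injective (fun m : ℤ => (n : ℤ) * m + (j : ℤ)) := by
    intro j a b h
    have hn0 : (n : ℤ) ≠ 0 := by positivity
    exact mul_left_cancel₀ hn0 (add_right_cancel h)
  refine ⟨fun j => AddMonoidAlgebra.ofCoeff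
    (Finsupp.comapDomain (fun m : ℤ => (n : ℤ) * m + (j : ℤ)) q.coeff ((hinj j).injOn)), ?_, ?_⟩
  · apply LaurentPolynomial.ext
    intro k
    have hn0 : (n : ℤ) ≠ 0 := by positivity
    have hk : k = (n : ℤ) * (k / n) + (k % n) := (Int.mul_ediv_add_emod k n).symm
    have h0 : 0 ≤ k % (n : ℤ) := Int.emod_nonneg k hn0
    have h1 : k % (n : ℤ) < n := Int.emod_lt_of_pos k (by positivity)
    obtain ⟨j, hj⟩ : ∃ j : Fin n, ((j : ℕ) : ℤ) = k % (n : ℤ) :=
      ⟨⟨(k % (n : ℤ)).toNat, by omega⟩, by simp [Int.toNat_of_nonneg h0]⟩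
    rw [← hj] at hk
    conv_rhs => rw [hk]
    rw [coeff_sum n hn]
    conv_lhs => rw [hk]
    rfl
  · intro c' hc'
    funext j
    apply LaurentPolynomial.ext
    intro m
    rw [← coeff_sum n hn c' j m, ← hc']
    rfl

end H21.LaurentDecomp
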