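import Mathlib
import Groth.Prelude.Def_LocRes

/-! Helper lemmas (helper21) on residues of Laurent series. -/

namespace Groth.Agent.H21

open LaurentSeries HahnSeries WithZero

theorem valuation_eq_exp_neg_order {F : Type*} [Field F] (g : F⸨X⸩) (hg : g ≠ 0) :
    Valued.v g = WithZero.exp (-g.order) := by
  have hv : Valued.v g ≠ 0 := (Valuation.ne_zero_iff _).mpr hg
  obtain ⟨a, ha⟩ : ∃ a : ℤ, Valued.v g = WithZero.exp a := ⟨WithZero.log (Valued.v g), (WithZero.exp_log hv).symm⟩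
  have h1 : Valued.v g ≤ WithZero.exp (-g.order) := by
    rw [LaurentSeries.valuation_le_iff_coeff_lt_eq_zero]
    intro n hn
    exact HahnSeries.coeff_eq_zero_of_lt_order hn
  have h2 : ¬ Valued.v g ≤ WithZero.exp (-(g.order + 1)) := by
    rw [LaurentSeries.valuation_le_iff_coeff_lt_eq_zero]
    intro h
    exact hg (HahnSeries.coeff_order_eq_zero.mp (h g.order (by omega)))
  rw [ha] at h1 h2 ⊢
  rw [WithZero.exp_le_exp] at h1 h2
  congr 1
  omega

theorem res_inv_mul_D {F : Type*} [Field F] (g : F⸨X⸩) (hg : g ≠ 0) :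
    LocRes.res F (g⁻¹ * LocRes.D F g) = ((g.order : ℤ) : F) := by
  set m := g.order with hm
  set G := g.powerSeriesPart with hGdef
  have hG : (single m (1 : F) : F⸨X⸩) * (G : F⸨X⸩) = g := g.single_order_mul_powerSeriesPart
  have hG0 : PowerSeries.constantCoeff G ≠ 0 := by
    rw [← PowerSeries.coeff_zero_eq_constantCoeff_apply, hGdef, LaurentSeries.powerSeriesPart_coeff]
    simp only [Nat.cast_zero, add_zero]
    intro h
    exact hg (HahnSeries.coeff_order_eq_zero.mp h)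
  have hGG : G * G⁻¹ = 1 := PowerSeries.mul_inv_cancel G hG0
  have hinv : g⁻¹ = (single (-m) (1 : F) : F⸨X⸩) * ((G⁻¹ : PowerSeries F) : F⸨X⸩) := by
    apply inv_eq_of_mul_eq_one_right
    rw [← hG]
    have : (single m (1 : F) : F⸨X⸩) * (G : F⸨X⸩) * ((single (-m) (1 : F) : F⸨X⸩) * ((G⁻¹ : PowerSeries F) : F⸨X⸩))
        = ((single m (1 : F) : F⸨X⸩) * (single (-m) (1 : F) : F⸨X⸩)) * ((G : F⸨X⸩) * ((G⁻¹ : PowerSeries F) : F⸨X⸩)) := by ring
    rw [this, ← PowerSeries.coe_mul, hGG, HahnSeries.single_mul_single]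
    simp
  have hD : LocRes.D F g = single m (1 : F) * ((PowerSeries.derivative F G : PowerSeries F) : F⸨X⸩)
      + single (m - 1) (m • (1 : F)) * (G : F⸨X⸩) := by
    conv_lhs => rw [← hG]
    rw [LocRes.D_apply, LocRes.derivative_single_mul, LocRes.derivative_coe]
  have key : g⁻¹ * LocRes.D F g = ((G⁻¹ * PowerSeries.derivative F G : PowerSeries F) : F⸨X⸩)
      + single (-1) (m • (1 : F)) := by
    rw [hinv, hD]
    have e1 : (single (-m) (1 : F) : F⸨X⸩) * ((G⁻¹ : PowerSeries F) : F⸨X⸩) *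
        (single m (1 : F) * ((PowerSeries.derivative F G : PowerSeries F) : F⸨X⸩)
          + single (m - 1) (m • (1 : F)) * (G : F⸨X⸩))
        = ((single (-m) (1 : F) : F⸨X⸩) * single m (1 : F)) *
            (((G⁻¹ : PowerSeries F) : F⸨X⸩) * ((PowerSeries.derivative F G : PowerSeries F) : F⸨X⸩))
          + ((single (-m) (1 : F) : F⸨X⸩) * single (m - 1) (m • (1 : F))) *
            ((G : F⸨X⸩) * ((G⁻¹ : PowerSeries F) : F⸨X⸩)) := by ring
    rw [e1, ← PowerSeries.coe_mul, ← PowerSeries.coe_mul, hGG, HahnSeries.single_mul_single,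
      HahnSeries.single_mul_single]
    have e2 : -m + (m - 1) = -1 := by ring
    rw [e2]
    simp
  rw [key, LocRes.res_apply, HahnSeries.coeff_add, PowerSeries.coeff_coe]
  simp


open PowerSeries in
/-- universal identity, torsion-free case -/
theorem coeff_pow_mul_derivative_aux {R : Type*} [CommRing R] [IsDomain R] [CharZero R]
    (H : PowerSeries R) (n k N : ℕ) (hn : 1 ≤ n) (hN : N + 1 = k * n) :
    coeff N (H ^ (n - 1) * d⁄dX R H) = k * coeff (N + 1) (H ^ n) := by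
  have h1 : coeff N (d⁄dX R (H ^ n)) = coeff (N + 1) (H ^ n) * (N + 1) := coeff_derivative _ _
  rw [derivative_pow, mul_assoc] at h1
  have h2 : coeff N ((n : PowerSeries R) * (H ^ (n - 1) * d⁄dX R H))
      = (n : R) * coeff N (H ^ (n - 1) * d⁄dX R H) := by
    have : (n : PowerSeries R) = C (n : R) := by simp
    rw [this, coeff_C_mul]
  rw [h2] at h1
  have h3 : ((N : R) + 1) = (k : R) * (n : R) := by exact_mod_cast congrArg (Nat.cast (R := R)) hN
  rw [h3] at h1
  have hn0 : (n : R) ≠ 0 := by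
    have : n ≠ 0 := by omega
    exact_mod_cast this
  apply mul_left_cancel₀ hn0
  rw [h1]; ring

open PowerSeries in
theorem map_derivative' {R S : Type*} [CommRing R] [CommRing S] (ψ : R →+* S) (H : PowerSeries R) :
    PowerSeries.map ψ (d⁄dX R H) = d⁄dX S (PowerSeries.map ψ H) := by
  ext i
  simp [coeff_derivative]

open PowerSeries in
theorem coeff_pow_mul_derivative {S : Type*} [CommRing S]
    (H : PowerSeries S) (n k N : ℕ) (hn : 1 ≤ n) (hN : N + 1 = k * n) :
    coeff N (H ^ (n - 1) * d⁄dX S H) = k * coeff (N + 1) (H ^ n) := by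
  let ψ : MvPolynomial ℕ ℤ →+* S := MvPolynomial.eval₂Hom (Int.castRingHom S) (fun i => coeff i H)
  let HH : PowerSeries (MvPolynomial ℕ ℤ) := PowerSeries.mk (fun i => MvPolynomial.X i)
  have hH : PowerSeries.map ψ HH = H := by
    ext i
    simp [HH, ψ]
  have key := congrArg ψ (coeff_pow_mul_derivative_aux HH n k N hn hN)
  have e1 : ψ (coeff N (HH ^ (n - 1) * d⁄dX _ HH)) = coeff N (H ^ (n - 1) * d⁄dX S H) := by
    rw [← coeff_map, (PowerSeries.map ψ).map_mul, (PowerSeries.map ψ).map_pow, map_derivative', hH]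
  have e2 : ψ ((k : MvPolynomial ℕ ℤ) * coeff (N + 1) (HH ^ n)) = k * coeff (N + 1) (H ^ n) := by
    rw [ψ.map_mul, ← coeff_map, (PowerSeries.map ψ).map_pow, hH, map_natCast]
  rw [e1, e2] at key
  exact key

theorem res_pow_mul_D {F : Type*} [Field F] (g : F⸨X⸩) (n : ℕ) (hn : 1 ≤ n) :
    LocRes.res F (g ^ (n - 1) * LocRes.D F g) = 0 := by
  by_cases hg : g = 0
  · subst hg
    simp
  set m := g.order with hm
  set G := g.powerSeriesPart with hGdef
  have hG : (single m (1 : F) : F⸨X⸩) * (G : F⸨X⸩) = g := g.single_order_mul_powerSeriesPart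
  have hD : LocRes.D F g = single m (1 : F) * ((PowerSeries.derivative F G : PowerSeries F) : F⸨X⸩)
      + single (m - 1) (m • (1 : F)) * (G : F⸨X⸩) := by
    conv_lhs => rw [← hG]
    rw [LocRes.D_apply, LocRes.derivative_single_mul, LocRes.derivative_coe]
  have hpow : g ^ (n - 1) = single ((n - 1 : ℕ) • m) (1 : F) * ((G ^ (n - 1) : PowerSeries F) : F⸨X⸩) := by
    conv_lhs => rw [← hG]
    rw [mul_pow, HahnSeries.single_pow, one_pow, PowerSeries.coe_pow]
  have key : g ^ (n - 1) * LocRes.D F g =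
      single (n • m) (1 : F) * ((G ^ (n - 1) * PowerSeries.derivative F G : PowerSeries F) : F⸨X⸩)
      + single (n • m - 1) (m • (1 : F)) * ((G ^ n : PowerSeries F) : F⸨X⸩) := by
    rw [hpow, hD]
    have e1 : (single ((n - 1 : ℕ) • m) (1 : F) : F⸨X⸩) * ((G ^ (n - 1) : PowerSeries F) : F⸨X⸩) *
        (single m (1 : F) * ((PowerSeries.derivative F G : PowerSeries F) : F⸨X⸩)
          + single (m - 1) (m • (1 : F)) * (G : F⸨X⸩))
        = ((single ((n - 1 : ℕ) • m) (1 : F) : F⸨X⸩) * single m (1 : F)) *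
            (((G ^ (n - 1) : PowerSeries F) : F⸨X⸩) * ((PowerSeries.derivative F G : PowerSeries F) : F⸨X⸩))
          + ((single ((n - 1 : ℕ) • m) (1 : F) : F⸨X⸩) * single (m - 1) (m • (1 : F))) *
            (((G ^ (n - 1) : PowerSeries F) : F⸨X⸩) * (G : F⸨X⸩)) := by ring
    rw [e1, ← PowerSeries.coe_mul, ← PowerSeries.coe_mul, HahnSeries.single_mul_single,
      HahnSeries.single_mul_single, ← pow_succ]
    have e2 : (n - 1 : ℕ) • m + m = n • m := by
      rw [← succ_nsmul]; congr 1; omega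
    have e3 : (n - 1 : ℕ) • m + (m - 1) = n • m - 1 := by
      rw [← e2]; ring
    have e4 : n - 1 + 1 = n := by omega
    rw [e2, e3, e4, one_mul, one_mul]
  rw [key, LocRes.res_apply, HahnSeries.coeff_add, HahnSeries.coeff_single_mul,
    HahnSeries.coeff_single_mul, PowerSeries.coeff_coe, PowerSeries.coeff_coe]
  simp only [one_mul, nsmul_eq_mul]
  rcases lt_trichotomy m 0 with hm0 | hm0 | hm0
  · -- m < 0
    obtain ⟨k, hk⟩ : ∃ k : ℕ, m = -(k : ℤ) := ⟨m.natAbs, by omega⟩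
    have hk1 : 1 ≤ k := by omega
    have hkn : 1 ≤ k * n := Nat.mul_pos hk1 hn
    have i1 : ¬ ((-1 : ℤ) - (n : ℤ) * m < 0) := by
      rw [hk, not_lt]
      have : (1 : ℤ) ≤ (k : ℤ) * n := by exact_mod_cast hkn
      nlinarith
    have i2 : ¬ ((-1 : ℤ) - ((n : ℤ) * m - 1) < 0) := by
      rw [hk, not_lt]
      have : (1 : ℤ) ≤ (k : ℤ) * n := by exact_mod_cast hkn
      nlinarith
    rw [if_neg i1, if_neg i2]
    have j1 : ((-1 : ℤ) - (n : ℤ) * m).natAbs = k * n - 1 := by
      rw [hk]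
      have : (-1 : ℤ) - (n : ℤ) * -(k : ℤ) = ((k * n - 1 : ℕ) : ℤ) := by
        rw [Nat.cast_sub hkn]; push_cast; ring
      rw [this, Int.natAbs_natCast]
    have j2 : ((-1 : ℤ) - ((n : ℤ) * m - 1)).natAbs = (k * n - 1) + 1 := by
      rw [hk]
      have : (-1 : ℤ) - ((n : ℤ) * -(k : ℤ) - 1) = ((k * n - 1 + 1 : ℕ) : ℤ) := by
        rw [Nat.sub_add_cancel hkn]; push_cast; ring
      rw [this, Int.natAbs_natCast]
    rw [j1, j2, coeff_pow_mul_derivative G n k (k * n - 1) hn (by omega), hk]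
    simp
  · -- m = 0
    rw [hm0]
    simp
  · -- m > 0
    have i1 : ((-1 : ℤ) - (n : ℤ) * m < 0) := by
      have : (0 : ℤ) ≤ (n : ℤ) * m := by positivity
      linarith
    have i2 : ((-1 : ℤ) - ((n : ℤ) * m - 1) < 0) := by
      have : (1 : ℤ) ≤ (n : ℤ) := by exact_mod_cast hn
      nlinarith
    rw [if_pos i1, if_pos i2]
    simp

theorem res_zpow_mul_D {F : Type*} [Field F] (g : F⸨X⸩) (n : ℤ) (hn : n ≠ 0) :
    LocRes.res F (g ^ (n - 1) * LocRes.D F g) = 0 := by
  rcases lt_or_gt_of_ne hn with hneg | hpos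
  · -- n < 0
    by_cases hg : g = 0
    · subst hg
      simp
    obtain ⟨n', hn'⟩ : ∃ n' : ℕ, n = -(n' : ℤ) := ⟨n.natAbs, by omega⟩
    have hn1 : 1 ≤ n' := by omega
    have hh : g⁻¹ ≠ 0 := inv_ne_zero hg
    have e1 : g ^ (n - 1) = (g⁻¹) ^ (n' + 1) := by
      rw [hn', inv_pow, ← zpow_natCast, ← zpow_neg]
      congr 1
      push_cast; ring
    have e2 : LocRes.D F g = -((g⁻¹)⁻¹ ^ 2 * LocRes.D F g⁻¹) := by
      conv_lhs => rw [← inv_inv g]
      rw [Derivation.leibniz_inv]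
      simp
    have e3 : g ^ (n - 1) * LocRes.D F g = -(g⁻¹ ^ (n' - 1) * LocRes.D F g⁻¹) := by
      rw [e1, e2]
      have : n' + 1 = (n' - 1) + 2 := by omega
      rw [this, _root_.pow_add, inv_inv]
      field_simp
    rw [e3, map_neg, res_pow_mul_D g⁻¹ n' hn1, neg_zero]
  · obtain ⟨n', hn'⟩ : ∃ n' : ℕ, n = (n' : ℤ) := ⟨n.natAbs, by omega⟩
    have hn1 : 1 ≤ n' := by omega
    have : n - 1 = ((n' - 1 : ℕ) : ℤ) := by
      rw [hn', Nat.cast_sub hn1]; simp
    rw [this, zpow_natCast]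
    exact res_pow_mul_D g n' hn1

end Groth.Agent.H21
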