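import Mathlib

set_option autoImplicit false

open Polynomial

universe u

namespace H21.LogConn

section general

variable {R : Type u} [CommRing R]

/-- If `χ_T(c)` is a unit then `T - c` is invertible (Cayley–Hamilton). -/
lemma exists_inverse_sub_smul {d : ℕ} (T : (Fin d → R) →ₗ[R] (Fin d → R)) (c : R)
    (hc : IsUnit (T.charpoly.eval c)) :
    ∃ S : (Fin d → R) →ₗ[R] (Fin d → R),
      (∀ x, S (T x - c • x) = x) ∧ (∀ x, T (S x) - c • S x = x) := by
  obtain ⟨u, hu⟩ := hc
  obtain ⟨q, hq⟩ : ∃ q : R[X], T.charpoly = C (u : R) + (X - C c) * q :=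
    ⟨T.charpoly /ₘ (X - C c), by rw [hu, ← modByMonic_X_sub_C_eq_C_eval, modByMonic_add_div]⟩
  have h0 : aeval T T.charpoly = 0 := LinearMap.aeval_self_charpoly T
  have h1 : ∀ x, (u : R) • x + (T (aeval T q x) - c • (aeval T q x)) = 0 := by
    intro x
    have := LinearMap.congr_fun h0 x
    rw [hq, map_add, aeval_C, map_mul, map_sub, aeval_X, aeval_C] at this
    simpa using this
  have h2 : ∀ x, (u : R) • x + aeval T q (T x - c • x) = 0 := by
    intro x
    have := LinearMap.congr_fun h0 x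
    rw [hq, mul_comm (X - C c) q, map_add, aeval_C, map_mul, map_sub, aeval_X, aeval_C] at this
    simpa using this
  refine ⟨-((u⁻¹ : Rˣ) : R) • aeval T q, fun x => ?_, fun x => ?_⟩
  · have := h2 x
    have h3 : aeval T q (T x - c • x) = -((u : R) • x) := eq_neg_of_add_eq_zero_right this
    rw [LinearMap.smul_apply, h3, smul_neg, neg_smul, neg_neg, smul_smul, Units.inv_mul, one_smul]
  · have := h1 x
    have h3 : T (aeval T q x) - c • (aeval T q x) = -((u : R) • x) :=
      eq_neg_of_add_eq_zero_right this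
    rw [LinearMap.smul_apply, map_smul, smul_comm c, ← smul_sub, h3, smul_neg, neg_smul, neg_neg,
      smul_smul, Units.inv_mul, one_smul]

variable {d : ℕ} (Θ : R[X])

/-- the embedding of polynomial vectors into the localized ones -/
noncomputable def emb (v : Fin d → R[X]) : Fin d → Localization.Away Θ :=
  fun j => algebraMap R[X] (Localization.Away Θ) (v j)

lemma emb_smul (p : R[X]) (v : Fin d → R[X]) : emb Θ (p • v) = p • emb Θ v := by
  funext j
  simp [emb, Algebra.smul_def]

lemma emb_add (v w : Fin d → R[X]) : emb Θ (v + w) = emb Θ v + emb Θ w := by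
  funext j
  simp [emb]

lemma emb_sub (v w : Fin d → R[X]) : emb Θ (v - w) = emb Θ v - emb Θ w := by
  funext j
  simp [emb]

lemma emb_injective [IsDomain R] (hΘ : Θ ≠ 0) : Function.Injective (emb Θ (d := d)) := by
  intro v w h
  funext j
  have := congrFun h j
  exact IsLocalization.injective (Localization.Away Θ)
    (powers_le_nonZeroDivisors_of_noZeroDivisors hΘ) this

lemma smul_cancel (f f' : Fin d → Localization.Away Θ) (h : Θ • f = Θ • f') : f = f' := by
  funext j
  have := congrFun h j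
  simp only [Pi.smul_apply, Algebra.smul_def] at this
  exact (IsLocalization.Away.algebraMap_isUnit (S := Localization.Away Θ) Θ).mul_left_cancel this

lemma exists_pow_smul_eq_emb (f : Fin d → Localization.Away Θ) :
    ∃ (n : ℕ) (g : Fin d → R[X]), (Θ ^ n) • f = emb Θ g := by
  obtain ⟨⟨b, n, rfl⟩, hb⟩ := IsLocalization.exist_integer_multiples (Submonoid.powers Θ)
    (Finset.univ : Finset (Fin d)) f
  choose g hg using fun j => hb j (Finset.mem_univ j)
  refine ⟨n, g, ?_⟩
  funext j
  exact (hg j).symm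

end general

section main

variable {R : Type u} [CommRing R] {d r : ℕ} (θ : Fin r → R)
  (hθ : ∀ i k, i ≠ k → IsUnit (θ i - θ k))
  (Θ : R[X]) (hΘ : Θ = ∏ i, (X - C (θ i)))
  (D₀ : (Fin d → R[X]) →+ (Fin d → R[X]))
  (hD₀ : ∀ (p : R[X]) (v : Fin d → R[X]),
    D₀ (p • v) = (Θ * derivative p) • v + p • D₀ v)
  (D : (Fin d → Localization.Away Θ) →+ (Fin d → Localization.Away Θ))
  (hD : ∀ (p : R[X]) (w : Fin d → Localization.Away Θ),
    D (p • w) = (Θ * derivative p) • w + p • D w)
  (hDD₀ : ∀ v : Fin d → R[X], D (emb Θ v) = emb Θ (D₀ v))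
  (Res : Fin r → ((Fin d → R) →ₗ[R] (Fin d → R)))
  (hRes : ∀ (i : Fin r) (m : Fin d → R) (j : Fin d),
    (D₀ (fun j => C (m j)) j).eval (θ i) =
      (∏ k ∈ Finset.univ.erase i, (θ i - θ k)) * Res i m j)

include hΘ in
lemma eval_Θ (i : Fin r) : Θ.eval (θ i) = 0 := by
  rw [hΘ, eval_prod]
  exact Finset.prod_eq_zero (Finset.mem_univ i) (by simp)

include hΘ in
lemma eval_derivative_Θ (i : Fin r) :
    (derivative Θ).eval (θ i) = ∏ k ∈ Finset.univ.erase i, (θ i - θ k) := by
  have h : Θ = Lagrange.nodal Finset.univ θ := hΘ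
  rw [h, Lagrange.eval_nodal_derivative_eval_node_eq (Finset.mem_univ i), Lagrange.eval_nodal]

include hθ in
lemma isUnit_u (i : Fin r) : IsUnit (∏ k ∈ Finset.univ.erase i, (θ i - θ k)) := by
  apply Finset.prod_induction _ IsUnit (fun a b => IsUnit.mul) isUnit_one
  intro k hk
  exact hθ i k (Finset.ne_of_mem_erase hk).symm

include hΘ hD₀ hRes in
lemma eval_D₀ (g : Fin d → R[X]) (i : Fin r) (j : Fin d) :
    (D₀ g j).eval (θ i) =
      (∏ k ∈ Finset.univ.erase i, (θ i - θ k)) * Res i (fun j => (g j).eval (θ i)) j := by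
  classical
  have hΘi := eval_Θ θ Θ hΘ i
  have hg : g = ∑ a, g a • (fun j => if a = j then (1 : R[X]) else 0) := pi_eq_sum_univ g
  have hg' : (fun j => (g j).eval (θ i)) =
      ∑ a, (g a).eval (θ i) • (fun j => if a = j then (1 : R) else 0) := pi_eq_sum_univ _
  have he : ∀ a : Fin d, (fun j => if a = j then (1 : R[X]) else 0) =
      fun j => C ((fun j => if a = j then (1 : R) else 0) j) := by
    intro a; funext j; by_cases h : a = j <;> simp [h]
  conv_lhs => rw [hg]
  rw [map_sum, Finset.sum_apply, eval_finsetSum, hg', map_sum, Finset.sum_apply, Finset.mul_sum]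
  refine Finset.sum_congr rfl (fun a _ => ?_)
  rw [hD₀, Pi.add_apply, Pi.smul_apply, Pi.smul_apply, eval_add, smul_eq_mul, smul_eq_mul,
    eval_mul, eval_mul, eval_mul, hΘi, zero_mul, zero_mul, zero_add, he a, hRes, map_smul,
    Pi.smul_apply, smul_eq_mul]
  ring

include hθ hΘ in
/-- vanishing at all nodes implies divisibility by `Θ` -/
lemma Θ_dvd (p : R[X]) (hp : ∀ i, p.eval (θ i) = 0) : Θ ∣ p := by
  rw [hΘ]
  apply Finset.prod_dvd_of_coprime
  · intro i _ k _ hik
    exact isCoprime_X_sub_C_of_isUnit_sub (hθ i k hik)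
  · intro i _
    exact dvd_iff_isRoot.mpr (hp i)

include hD hDD₀ in
lemma key (n : ℕ) (f : Fin d → Localization.Away Θ) (g : Fin d → R[X])
    (hfg : (Θ ^ (n + 1)) • f = emb Θ g) :
    (Θ ^ (n + 1)) • D f = emb Θ (D₀ g - (C ((n : R) + 1) * derivative Θ) • g) := by
  have h := hD (Θ ^ (n + 1)) f
  rw [hfg, hDD₀] at h
  have h2 : (Θ * derivative (Θ ^ (n + 1))) • f = (C ((n : R) + 1) * derivative Θ) • emb Θ g := by
    rw [← hfg, smul_smul, derivative_pow_succ]
    congr 1
    ring
  rw [h2] at h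
  rw [emb_sub, emb_smul, h]
  abel

include hθ hΘ hD₀ hD hDD₀ hRes in
theorem mem_poly_aux [IsDomain R]
    (hunit : ∀ (i : Fin r) (n : ℕ), IsUnit ((Res i).charpoly.eval ((n : R) + 1))) :
    ∀ (n : ℕ) (f : Fin d → Localization.Away Θ) (g v : Fin d → R[X]),
      (Θ ^ n) • f = emb Θ g → D f = emb Θ v → ∃ v', f = emb Θ v' := by
  intro n
  induction n with
  | zero =>
    intro f g v hfg _
    exact ⟨g, by rwa [pow_zero, one_smul] at hfg⟩
  | succ n ih =>
    intro f g v hfg hDf
    have hΘ0 : Θ ≠ 0 := by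
      rw [hΘ]
      exact (monic_prod_of_monic _ _ (fun i _ => monic_X_sub_C _)).ne_zero
    have hk := key Θ D₀ D hD hDD₀ n f g hfg
    rw [hDf, ← emb_smul] at hk
    have hk' := emb_injective Θ hΘ0 hk
    have hev : ∀ i, (fun j => (g j).eval (θ i)) = 0 := by
      intro i
      obtain ⟨S, hS, -⟩ := exists_inverse_sub_smul (Res i) ((n : R) + 1) (hunit i n)
      have hz : Res i (fun j => (g j).eval (θ i)) -
          ((n : R) + 1) • (fun j => (g j).eval (θ i)) = 0 := by
        funext j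
        have h1 := congrArg (fun p => p.eval (θ i)) (congrFun hk' j)
        simp only [Pi.smul_apply, Pi.sub_apply, smul_eq_mul, eval_mul, eval_pow, eval_sub, eval_C,
          eval_Θ θ Θ hΘ i, eval_derivative_Θ θ Θ hΘ i] at h1
        rw [eval_D₀ θ Θ hΘ D₀ hD₀ Res hRes g i j] at h1
        have hu := isUnit_u θ hθ i
        rw [zero_pow (Nat.succ_ne_zero n), zero_mul] at h1
        apply hu.mul_left_cancel
        simp only [Pi.sub_apply, Pi.smul_apply, smul_eq_mul, Pi.zero_apply, mul_zero]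
        linear_combination -h1
      have := hS (fun j => (g j).eval (θ i))
      rw [hz, map_zero] at this
      exact this.symm
    have hdvd : ∀ j, Θ ∣ g j := fun j => Θ_dvd θ hθ Θ hΘ (g j) (fun i => congrFun (hev i) j)
    choose g' hg' using hdvd
    have hgg : g = Θ • g' := by funext j; rw [hg' j]; rfl
    have h3 : (Θ ^ n) • f = emb Θ g' := by
      apply smul_cancel Θ
      rw [smul_smul, ← pow_succ', hfg, hgg, emb_smul]
    exact ih f g' v h3 hDf

include hθ hΘ hD₀ hD hDD₀ hRes in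
theorem mem_poly [IsDomain R]
    (hunit : ∀ (i : Fin r) (n : ℕ), IsUnit ((Res i).charpoly.eval ((n : R) + 1)))
    (f : Fin d → Localization.Away Θ) (hf : ∃ v, D f = emb Θ v) : ∃ v, f = emb Θ v := by
  obtain ⟨v, hv⟩ := hf
  obtain ⟨n, g, hg⟩ := exists_pow_smul_eq_emb Θ f
  exact mem_poly_aux θ hθ Θ hΘ D₀ hD₀ D hD hDD₀ Res hRes hunit n f g v hg hv

include hθ in
lemma interpolate (c : Fin r → Fin d → R) :
    ∃ h : Fin d → R[X], ∀ i j, (h j).eval (θ i) = c i j := by
  classical
  choose uinv huinv using fun i => (isUnit_u θ hθ i).exists_right_inv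
  refine ⟨fun j => ∑ i, C (c i j * uinv i) * ∏ k ∈ Finset.univ.erase i, (X - C (θ k)),
    fun i j => ?_⟩
  rw [eval_finsetSum, Finset.sum_eq_single i]
  · rw [eval_mul, eval_C, eval_prod]
    simp only [eval_sub, eval_X, eval_C]
    rw [mul_assoc, mul_comm (uinv i), huinv i, mul_one]
  · intro i' _ hne
    rw [eval_mul, eval_prod,
      Finset.prod_eq_zero (Finset.mem_erase.mpr ⟨hne.symm, Finset.mem_univ i⟩) (by simp), mul_zero]
  · intro h; exact absurd (Finset.mem_univ i) h

include hθ hΘ hD₀ hD hDD₀ hRes in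
theorem decomp_aux
    (hunit : ∀ (i : Fin r) (n : ℕ), IsUnit ((Res i).charpoly.eval ((n : R) + 1))) :
    ∀ (n : ℕ) (w : Fin d → Localization.Away Θ) (g : Fin d → R[X]),
      (Θ ^ n) • w = emb Θ g → ∃ (w' : Fin d → Localization.Away Θ) (v : Fin d → R[X]),
        w = D w' + emb Θ v := by
  intro n
  induction n with
  | zero =>
    intro w g hwg
    refine ⟨0, g, ?_⟩
    rw [map_zero, zero_add]
    rwa [pow_zero, one_smul] at hwg
  | succ n ih =>
    intro w g hwg
    choose S hS1 hS2 using fun i => exists_inverse_sub_smul (Res i) ((n : R) + 1) (hunit i n)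
    choose uinv huinv using fun i => (isUnit_u θ hθ i).exists_right_inv
    obtain ⟨h, hh⟩ := interpolate θ hθ (fun i => S i (uinv i • fun j => (g j).eval (θ i)))
    obtain ⟨t, ht⟩ := (IsLocalization.Away.algebraMap_pow_isUnit
      (S := Localization.Away Θ) Θ (n + 1)).exists_left_inv
    obtain ⟨w₁, hw₁def⟩ : ∃ w₁ : Fin d → Localization.Away Θ, w₁ = fun j => t * emb Θ h j :=
      ⟨_, rfl⟩
    have hw₁ : (Θ ^ (n + 1)) • w₁ = emb Θ h := by
      funext j
      rw [hw₁def, Pi.smul_apply, Algebra.smul_def, map_pow, ← mul_assoc,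
        mul_comm _ t, ht, one_mul]
    have hk := key Θ D₀ D hD hDD₀ n w₁ h hw₁
    have hev : ∀ j i, ((g - (D₀ h - (C ((n : R) + 1) * derivative Θ) • h)) j).eval (θ i) = 0 := by
      intro j i
      have hhi : (fun j => (h j).eval (θ i)) = S i (uinv i • fun j => (g j).eval (θ i)) := by
        funext j; exact hh i j
      have h2 := congrFun (hS2 i (uinv i • fun j => (g j).eval (θ i))) j
      rw [← hhi] at h2
      simp only [Pi.sub_apply, Pi.smul_apply, smul_eq_mul] at h2
      simp only [Pi.smul_apply, Pi.sub_apply, smul_eq_mul, eval_mul, eval_sub, eval_C,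
        eval_derivative_Θ θ Θ hΘ i]
      rw [eval_D₀ θ Θ hΘ D₀ hD₀ Res hRes h i j]
      linear_combination (-(∏ k ∈ Finset.univ.erase i, (θ i - θ k))) * h2 -
        (eval (θ i) (g j)) * huinv i
    choose g₃ hg₃ using fun j => Θ_dvd θ hθ Θ hΘ _ (fun i => hev j i)
    have h3 : (Θ ^ n) • (w - D w₁) = emb Θ g₃ := by
      apply smul_cancel Θ
      rw [smul_smul, ← pow_succ', smul_sub, hwg, hk, ← emb_sub, ← emb_smul]
      congr 1
      funext j
      rw [hg₃ j]
      rfl
    obtain ⟨w₂, v, hw₂⟩ := ih (w - D w₁) g₃ h3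
    refine ⟨w₁ + w₂, v, ?_⟩
    rw [map_add, add_assoc, ← hw₂]
    abel

include hθ hΘ hD₀ hD hDD₀ hRes in
theorem decomp
    (hunit : ∀ (i : Fin r) (n : ℕ), IsUnit ((Res i).charpoly.eval ((n : R) + 1)))
    (w : Fin d → Localization.Away Θ) :
    ∃ (w' : Fin d → Localization.Away Θ) (v : Fin d → R[X]), w = D w' + emb Θ v := by
  obtain ⟨n, g, hg⟩ := exists_pow_smul_eq_emb Θ w
  exact decomp_aux θ hθ Θ hΘ D₀ hD₀ D hD hDD₀ Res hRes hunit n w g hg

end main

end H21.LogConn
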