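import Mathlib

set_option autoImplicit false
open TensorProduct

namespace Groth.Agent.H21.MonQ

universe u
variable {A : Type u} [CommRing A] {r : ℕ} (F : Fin r → Polynomial A)

/-- the ideal -/
noncomputable abbrev I : Ideal (MvPolynomial (Fin r) A) :=
  Ideal.span (Set.range fun i => Polynomial.aeval (MvPolynomial.X i : MvPolynomial (Fin r) A) (F i))

/-- the tensor product of the `AdjoinRoot`s -/
abbrev T : Type u := ⨂[A] i : Fin r, AdjoinRoot (F i)

noncomputable def Ψ₀ : MvPolynomial (Fin r) A →ₐ[A] T F :=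
  MvPolynomial.aeval (fun i => PiTensorProduct.singleAlgHom (R := A) (A := fun i => AdjoinRoot (F i)) i
    (AdjoinRoot.root (F i)))

theorem Ψ₀_kills (x : MvPolynomial (Fin r) A) (hx : x ∈ I F) : Ψ₀ F x = 0 := by
  have : I F ≤ RingHom.ker (Ψ₀ F) := by
    rw [Ideal.span_le]
    rintro _ ⟨i, rfl⟩
    rw [SetLike.mem_coe, RingHom.mem_ker]
    show Ψ₀ F (Polynomial.aeval (MvPolynomial.X i) (F i)) = 0
    rw [← Polynomial.aeval_algHom_apply]
    have : Ψ₀ F (MvPolynomial.X i) = PiTensorProduct.singleAlgHom (R := A)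
        (A := fun i => AdjoinRoot (F i)) i (AdjoinRoot.root (F i)) := by
      simp [Ψ₀]
    rw [this, Polynomial.aeval_algHom_apply, AdjoinRoot.aeval_eq, AdjoinRoot.mk_self, map_zero]
  exact this hx

noncomputable def Ψ : (MvPolynomial (Fin r) A ⧸ I F) →ₐ[A] T F :=
  Ideal.Quotient.liftₐ (I F) (Ψ₀ F) (Ψ₀_kills F)

theorem aeval_mk_X (i : Fin r) :
    Polynomial.aeval (Ideal.Quotient.mk (I F) (MvPolynomial.X i)) (F i) = 0 := by
  have : Ideal.Quotient.mk (I F) (MvPolynomial.X i) =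
      Ideal.Quotient.mkₐ A (I F) (MvPolynomial.X i) := rfl
  rw [this, Polynomial.aeval_algHom_apply]
  exact Ideal.Quotient.eq_zero_iff_mem.mpr (Ideal.subset_span ⟨i, rfl⟩)

theorem θ_aux (i : Fin r) : (F i).eval₂
    ((Algebra.ofId A (MvPolynomial (Fin r) A ⧸ I F)) : A →+* (MvPolynomial (Fin r) A ⧸ I F))
    (Ideal.Quotient.mk (I F) (MvPolynomial.X i)) = 0 := by
  have := aeval_mk_X F i
  rw [Polynomial.aeval_def] at this
  exact this

noncomputable def θ (i : Fin r) : AdjoinRoot (F i) →ₐ[A] (MvPolynomial (Fin r) A ⧸ I F) :=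
  AdjoinRoot.liftAlgHom (F i) (Algebra.ofId A _) (Ideal.Quotient.mk (I F) (MvPolynomial.X i))
    (θ_aux F i)


theorem θ_root (i : Fin r) : θ F i (AdjoinRoot.root (F i)) =
    Ideal.Quotient.mk (I F) (MvPolynomial.X i) := by
  unfold θ
  exact AdjoinRoot.liftAlgHom_root _ _ _ _

/-- the multilinear product map -/
noncomputable def mm : MultilinearMap A (fun i : Fin r => AdjoinRoot (F i))
    (MvPolynomial (Fin r) A ⧸ I F) :=
  (MultilinearMap.mkPiAlgebra A (Fin r) (MvPolynomial (Fin r) A ⧸ I F)).compLinearMap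
    (fun i => (θ F i).toLinearMap)

theorem mm_apply (x : ∀ i, AdjoinRoot (F i)) : mm F x = ∏ i, θ F i (x i) := rfl

theorem mm_one : mm F 1 = 1 := by simp [mm_apply]

theorem mm_mul (x y : ∀ i, AdjoinRoot (F i)) : mm F (x * y) = mm F x * mm F y := by
  simp [mm_apply, Finset.prod_mul_distrib]

noncomputable def Φ : T F →ₐ[A] (MvPolynomial (Fin r) A ⧸ I F) :=
  PiTensorProduct.liftAlgHom (mm F) (mm_one F) (mm_mul F)

theorem Φ_single (i : Fin r) (a : AdjoinRoot (F i)) :
    Φ F (PiTensorProduct.singleAlgHom (R := A) (A := fun i => AdjoinRoot (F i)) i a) = θ F i a := by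
  rw [PiTensorProduct.singleAlgHom_apply]
  unfold Φ
  rw [PiTensorProduct.liftAlgHom_apply, PiTensorProduct.lift.tprod, mm_apply]
  rw [Finset.prod_eq_single i]
  · simp
  · intro j _ hj
    simp [MonoidHom.mulSingle_apply, Pi.mulSingle_eq_of_ne hj]
  · intro h; exact absurd (Finset.mem_univ i) h

theorem Φ_comp_Ψ : (Φ F).comp (Ψ F) = AlgHom.id A _ := by
  apply Ideal.Quotient.algHom_ext
  apply MvPolynomial.algHom_ext
  intro i
  show Φ F (Ψ F (Ideal.Quotient.mk (I F) (MvPolynomial.X i))) = Ideal.Quotient.mk (I F) (MvPolynomial.X i)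
  have h1 : Ψ F (Ideal.Quotient.mk (I F) (MvPolynomial.X i)) =
      PiTensorProduct.singleAlgHom (R := A) (A := fun i => AdjoinRoot (F i)) i
        (AdjoinRoot.root (F i)) := by
    show Ψ₀ F (MvPolynomial.X i) = _
    simp [Ψ₀]
  rw [h1, Φ_single, θ_root]

theorem Ψ_comp_Φ : (Ψ F).comp (Φ F) = AlgHom.id A _ := by
  apply PiTensorProduct.algHom_ext
  intro i
  apply AdjoinRoot.algHom_ext
  show Ψ F (Φ F (PiTensorProduct.singleAlgHom (R := A) (A := fun i => AdjoinRoot (F i)) i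
      (AdjoinRoot.root (F i)))) = PiTensorProduct.singleAlgHom (R := A)
      (A := fun i => AdjoinRoot (F i)) i (AdjoinRoot.root (F i))
  rw [Φ_single, θ_root]
  show Ψ₀ F (MvPolynomial.X i) = _
  simp [Ψ₀]

noncomputable def equiv : (MvPolynomial (Fin r) A ⧸ I F) ≃ₐ[A] T F :=
  AlgEquiv.ofAlgHom (Ψ F) (Φ F) (Ψ_comp_Φ F) (Φ_comp_Ψ F)

theorem main [Nontrivial A] (hF : ∀ i, (F i).Monic) :
    Module.Free A (MvPolynomial (Fin r) A ⧸ I F) ∧
      Module.finrank A (MvPolynomial (Fin r) A ⧸ I F) =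
        Finset.univ.prod fun i => (F i).natDegree := by
  let B := Basis.piTensorProduct (R := A)
    (fun i : Fin r => (AdjoinRoot.powerBasis' (hF i)).basis)
  have hfree : Module.Free A (T F) := Module.Free.of_basis B
  refine ⟨Module.Free.of_equiv (equiv F).symm.toLinearEquiv, ?_⟩
  rw [(equiv F).toLinearEquiv.finrank_eq, Module.finrank_eq_card_basis B, Fintype.card_pi]
  apply Finset.prod_congr rfl
  intro i _
  rw [Fintype.card_fin, AdjoinRoot.powerBasis'_dim]

end Groth.Agent.H21.MonQ
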