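import Mathlib

set_option autoImplicit false
universe u v

namespace H21.MonoSpan

open Polynomial

variable {R : Type u} [CommRing R] {A : Type v} [CommRing A] [Algebra R A]

/-- The spanning set in unified form. -/
def S' (x : A) (yu : Aˣ) (g : ℕ) : Submodule R A :=
  Submodule.span R {a | ∃ (i : ℕ) (n : ℤ), i ≤ 2 * g ∧ a = x ^ i * ((yu ^ n : Aˣ) : A)}

lemma gen_mem (x : A) (yu : Aˣ) (g : ℕ) (i : ℕ) (n : ℤ) (hi : i ≤ 2 * g) :
    x ^ i * ((yu ^ n : Aˣ) : A) ∈ S' (R := R) x yu g :=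
  Submodule.subset_span ⟨i, n, hi, rfl⟩

lemma closed_of_gen (x : A) (yu : Aˣ) (g : ℕ) (t : A)
    (h : ∀ (i : ℕ) (n : ℤ), i ≤ 2 * g → t * (x ^ i * ((yu ^ n : Aˣ) : A)) ∈ S' (R := R) x yu g)
    (a : A) (ha : a ∈ S' (R := R) x yu g) : t * a ∈ S' (R := R) x yu g := by
  have : S' (R := R) x yu g ≤ (S' (R := R) x yu g).comap (LinearMap.mulLeft R t) := by
    unfold S'
    rw [Submodule.span_le]
    rintro _ ⟨i, n, hi, rfl⟩
    exact h i n hi
  exact this ha

lemma y_closed (x : A) (yu : Aˣ) (g : ℕ) (a : A) (ha : a ∈ S' (R := R) x yu g) :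
    (yu : A) * a ∈ S' (R := R) x yu g := by
  refine closed_of_gen x yu g _ ?_ a ha
  intro i n hi
  have : (yu : A) * (x ^ i * ((yu ^ n : Aˣ) : A)) = x ^ i * ((yu ^ (n + 1) : Aˣ) : A) := by
    rw [zpow_add_one, Units.val_mul]; ring
  rw [this]
  exact gen_mem x yu g i _ hi

lemma z_closed (x : A) (yu : Aˣ) (g : ℕ) (a : A) (ha : a ∈ S' (R := R) x yu g) :
    ((yu⁻¹ : Aˣ) : A) * a ∈ S' (R := R) x yu g := by
  refine closed_of_gen x yu g _ ?_ a ha
  intro i n hi
  have : ((yu⁻¹ : Aˣ) : A) * (x ^ i * ((yu ^ n : Aˣ) : A)) = x ^ i * ((yu ^ (n - 1) : Aˣ) : A) := by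
    rw [zpow_sub_one, Units.val_mul]; ring
  rw [this]
  exact gen_mem x yu g i _ hi

lemma x_closed (x : A) (yu : Aˣ) (g : ℕ) (P : R[X]) (hP : P.Monic) (hdeg : P.natDegree = 2 * g + 1)
    (hy2 : (yu : A) ^ 2 = Polynomial.aeval x P)
    (a : A) (ha : a ∈ S' (R := R) x yu g) :
    x * a ∈ S' (R := R) x yu g := by
  refine closed_of_gen x yu g _ ?_ a ha
  intro i n hi
  rcases Nat.lt_or_ge i (2 * g) with h | h
  · have : x * (x ^ i * ((yu ^ n : Aˣ) : A)) = x ^ (i + 1) * ((yu ^ n : Aˣ) : A) := by ring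
    rw [this]
    exact gen_mem x yu g (i + 1) n h
  · have hi' : i = 2 * g := le_antisymm hi h
    subst hi'
    have hsum := hP.as_sum
    rw [hdeg] at hsum
    have h1 : Polynomial.aeval x P = x ^ (2 * g + 1) +
        ∑ j ∈ Finset.range (2 * g + 1), algebraMap R A (P.coeff j) * x ^ j := by
      conv_lhs => rw [hsum]
      simp [map_sum]
    have h2 : x * (x ^ (2 * g) * ((yu ^ n : Aˣ) : A)) =
        ((yu ^ (n + 2) : Aˣ) : A) -
          ∑ j ∈ Finset.range (2 * g + 1), P.coeff j • (x ^ j * ((yu ^ n : Aˣ) : A)) := by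
      have h3 : ((yu ^ (n + 2) : Aˣ) : A) = (yu : A) ^ 2 * ((yu ^ n : Aˣ) : A) := by
        rw [zpow_add, Units.val_mul, mul_comm]
        congr 1
      rw [h3, hy2, h1, add_mul, Finset.sum_mul]
      have : ∀ j ∈ Finset.range (2 * g + 1),
          algebraMap R A (P.coeff j) * x ^ j * ((yu ^ n : Aˣ) : A) =
            P.coeff j • (x ^ j * ((yu ^ n : Aˣ) : A)) := by
        intro j _
        rw [Algebra.smul_def]; ring
      rw [Finset.sum_congr rfl this]
      ring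
    rw [h2]
    refine Submodule.sub_mem _ ?_ ?_
    · have := gen_mem (R := R) x yu g 0 (n + 2) (Nat.zero_le _)
      simpa using this
    · refine Submodule.sum_mem _ ?_
      intro j hj
      refine Submodule.smul_mem _ _ ?_
      exact gen_mem x yu g j n (by have := Finset.mem_range.mp hj; omega)

lemma one_mem (x : A) (yu : Aˣ) (g : ℕ) : (1 : A) ∈ S' (R := R) x yu g := by
  have := gen_mem (R := R) x yu g 0 0 (Nat.zero_le _)
  simpa using this

end H21.MonoSpan
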