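import Mathlib

set_option autoImplicit false
universe u

namespace Groth.Agent.H21.MovChart
open Polynomial

section term
variable {Q : Type*} [CommRing Q] {d : ℕ}

lemma term_mem (τ : Q) (xs V : Fin d → Q) (I : Ideal Q) (m : Fin d → ℕ)
    (hV : ∀ i, m i ≠ 0 → V i ∈ I) (N : ℕ) (he : ∑ i, m i ≤ N) :
    τ ^ (N - ∑ i, m i) * ∏ i, (τ * xs i + V i) ^ m i - τ ^ N * ∏ i, xs i ^ m i ∈ I := by
  rw [← Ideal.Quotient.eq]
  simp only [map_mul, map_pow, map_prod, map_add]
  have : ∀ i, (Ideal.Quotient.mk I τ * Ideal.Quotient.mk I (xs i) + Ideal.Quotient.mk I (V i)) ^ m i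
      = Ideal.Quotient.mk I τ ^ m i * Ideal.Quotient.mk I (xs i) ^ m i := by
    intro i
    by_cases h : m i = 0
    · simp [h]
    · rw [Ideal.Quotient.eq_zero_iff_mem.mpr (hV i h), add_zero, mul_pow]
  simp only [this]
  rw [Finset.prod_mul_distrib, Finset.prod_pow_eq_pow_sum, ← mul_assoc, ← pow_add,
    Nat.sub_add_cancel he]

end term

variable {k : Type u} [CommRing k]

theorem main' (d n : ℕ) (U ζ : MvPolynomial (Fin d ⊕ Fin n) k) (v : Fin d → k)
    (N s : ℕ) (hs : N ≤ s)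
    {Λ : Type u} [Fintype Λ] (f : Λ → MvPolynomial (Fin d ⊕ Fin n) k)
    (hdeg : ∀ l, ∀ m ∈ (f l).support, ∑ i : Fin d, m (Sum.inl i) ≤ N)
    (c : ℕ → MvPolynomial (Fin d ⊕ Fin n) k)
    (hE : ζ ^ N + ∑ i ∈ Finset.Icc 1 N, c i * ζ ^ (N - i) * U ^ i ∈ Ideal.span (Set.range f)) :
    ∃ c' : ℕ → Polynomial (MvPolynomial (Fin d ⊕ Fin n) k),
      (Polynomial.X * Polynomial.C ζ) ^ N +
        ∑ i ∈ Finset.Icc 1 N, c' i * (Polynomial.X * Polynomial.C ζ) ^ (N - i) *
            Polynomial.C U ^ i ∈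
      Ideal.span (Set.range fun l : Λ =>
        ∑ m ∈ (f l).support,
          Polynomial.C (MvPolynomial.C (MvPolynomial.coeff m (f l))) *
            Polynomial.X ^ (N - ∑ i : Fin d, m (Sum.inl i)) *
            (∏ i : Fin d, (Polynomial.X * Polynomial.C (MvPolynomial.X (Sum.inl i)) +
                Polynomial.C (U ^ s * MvPolynomial.C (v i))) ^ m (Sum.inl i)) *
            ∏ j : Fin n, Polynomial.C (MvPolynomial.X (Sum.inr j)) ^ m (Sum.inr j)) := by
  classical
  obtain ⟨g, hg⟩ := (Ideal.mem_span_range_iff_exists_fun).mp hE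
  obtain ⟨φ, hφ⟩ : ∃ φ : Λ → Polynomial (MvPolynomial (Fin d ⊕ Fin n) k), φ = fun l : Λ =>
        ∑ m ∈ (f l).support,
          Polynomial.C (MvPolynomial.C (MvPolynomial.coeff m (f l))) *
            Polynomial.X ^ (N - ∑ i : Fin d, m (Sum.inl i)) *
            (∏ i : Fin d, (Polynomial.X * Polynomial.C (MvPolynomial.X (Sum.inl i)) +
                Polynomial.C (U ^ s * MvPolynomial.C (v i))) ^ m (Sum.inl i)) *
            ∏ j : Fin n, Polynomial.C (MvPolynomial.X (Sum.inr j)) ^ m (Sum.inr j) := ⟨_, rfl⟩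
  rw [← hφ]
  have hD : ∀ (I : Ideal (Polynomial (MvPolynomial (Fin d ⊕ Fin n) k))),
      (∀ l, ∀ m ∈ (f l).support, ∀ i : Fin d, m (Sum.inl i) ≠ 0 →
        Polynomial.C (U ^ s * MvPolynomial.C (v i)) ∈ I) →
      ∀ l, φ l - Polynomial.X ^ N * Polynomial.C (f l) ∈ I := by
    intro I hI l
    have hf : Polynomial.C (f l) = ∑ m ∈ (f l).support,
        Polynomial.C (MvPolynomial.C (MvPolynomial.coeff m (f l))) *
          (∏ i : Fin d, Polynomial.C (MvPolynomial.X (Sum.inl i)) ^ (m (Sum.inl i))) *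
          ∏ j : Fin n, Polynomial.C (MvPolynomial.X (Sum.inr j)) ^ (m (Sum.inr j)) := by
      conv_lhs => rw [MvPolynomial.as_sum (f l)]
      rw [map_sum]
      refine Finset.sum_congr rfl (fun m _ => ?_)
      rw [MvPolynomial.monomial_eq, Finsupp.prod_fintype _ _ (fun i => pow_zero _),
        Fintype.prod_sum_type]
      simp only [map_mul, map_prod, map_pow, mul_assoc]
    rw [hf, hφ, Finset.mul_sum, ← Finset.sum_sub_distrib]
    refine Ideal.sum_mem _ (fun m hm => ?_)
    have h1 := term_mem (Polynomial.X : Polynomial (MvPolynomial (Fin d ⊕ Fin n) k))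
      (fun i => Polynomial.C (MvPolynomial.X (Sum.inl i)))
      (fun i => Polynomial.C (U ^ s * MvPolynomial.C (v i))) I (fun i => m (Sum.inl i))
      (hI l m hm) N (hdeg l m hm)
    have e : ∀ (a t p q pw px : Polynomial (MvPolynomial (Fin d ⊕ Fin n) k)),
        a * t * p * pw - q * (a * px * pw) = (a * pw) * (t * p - q * px) := by
      intros; ring
    rw [e]
    exact Ideal.mul_mem_left _ _ h1
  have key : ∀ l, ∃ r, φ l = Polynomial.X ^ N * Polynomial.C (f l) + Polynomial.C U ^ N * r ∧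
      (N = 0 → r = 0) := by
    intro l
    rcases Nat.eq_zero_or_pos N with hN | hN
    · have h2 := hD ⊥ (fun l m hm i hi => by
        exfalso
        have h3 := hdeg l m hm
        have h4 := Finset.single_le_sum (f := fun i : Fin d => m (Sum.inl i))
          (fun _ _ => Nat.zero_le _) (Finset.mem_univ i)
        omega) l
      refine ⟨0, ?_, fun _ => rfl⟩
      rw [Ideal.mem_bot, sub_eq_zero] at h2
      rw [h2]; ring
    · have h2 := hD (Ideal.span {Polynomial.C U ^ N}) (fun l m hm i hi => by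
        rw [Ideal.mem_span_singleton']
        refine ⟨Polynomial.C U ^ (s - N) * Polynomial.C (MvPolynomial.C (v i)), ?_⟩
        rw [map_mul, map_pow, ← pow_sub_mul_pow (Polynomial.C U) hs]
        ring) l
      obtain ⟨r, hr⟩ := Ideal.mem_span_singleton'.mp h2
      refine ⟨r, ?_, fun h => absurd h hN.ne'⟩
      linear_combination -hr
  choose r hr hr0 using key
  obtain ⟨ρ, hρ⟩ : ∃ ρ, ρ = ∑ l, Polynomial.C (g l) * r l := ⟨_, rfl⟩
  refine ⟨fun i => Polynomial.C (c i) * Polynomial.X ^ i + if i = N then ρ else 0, ?_⟩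
  have heq : (Polynomial.X * Polynomial.C ζ) ^ N +
      ∑ i ∈ Finset.Icc 1 N, (Polynomial.C (c i) * Polynomial.X ^ i + if i = N then ρ else 0) *
        (Polynomial.X * Polynomial.C ζ) ^ (N - i) * Polynomial.C U ^ i
      = ∑ l, Polynomial.C (g l) * φ l := by
    have hR : ∑ l, Polynomial.C (g l) * φ l
        = Polynomial.X ^ N * Polynomial.C (ζ ^ N + ∑ i ∈ Finset.Icc 1 N, c i * ζ ^ (N - i) * U ^ i)
          + Polynomial.C U ^ N * ρ := by
      rw [← hg, hρ, map_sum, Finset.mul_sum, Finset.mul_sum, ← Finset.sum_add_distrib]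
      refine Finset.sum_congr rfl (fun l _ => ?_)
      rw [hr l, map_mul]; ring
    rw [hR]
    have hS1 : ∑ i ∈ Finset.Icc 1 N, (Polynomial.C (c i) * Polynomial.X ^ i + if i = N then ρ else 0) *
        (Polynomial.X * Polynomial.C ζ) ^ (N - i) * Polynomial.C U ^ i
        = Polynomial.X ^ N * ∑ i ∈ Finset.Icc 1 N, Polynomial.C (c i) * Polynomial.C ζ ^ (N - i) *
            Polynomial.C U ^ i
          + ∑ i ∈ Finset.Icc 1 N, (if i = N then ρ * (Polynomial.X * Polynomial.C ζ) ^ (N - i) *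
              Polynomial.C U ^ i else 0) := by
      rw [Finset.mul_sum, ← Finset.sum_add_distrib]
      refine Finset.sum_congr rfl (fun i hi => ?_)
      have hiN : i ≤ N := (Finset.mem_Icc.mp hi).2
      have hX : (Polynomial.X : Polynomial (MvPolynomial (Fin d ⊕ Fin n) k)) ^ N
          = Polynomial.X ^ i * Polynomial.X ^ (N - i) := by
        rw [← pow_add, Nat.add_sub_cancel' hiN]
      rw [hX]
      split_ifs with h
      · ring
      · ring
    rw [hS1, Finset.sum_ite_eq' (Finset.Icc 1 N) N]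
    have hlast : (if N ∈ Finset.Icc 1 N then ρ * (Polynomial.X * Polynomial.C ζ) ^ (N - N) *
        Polynomial.C U ^ N else 0) = Polynomial.C U ^ N * ρ := by
      rcases Nat.eq_zero_or_pos N with hN | hN
      · have hρ0 : ρ = 0 := by
          rw [hρ]
          refine Finset.sum_eq_zero (fun l _ => ?_)
          rw [hr0 l hN, mul_zero]
        rw [hρ0]; simp
      · rw [if_pos (Finset.mem_Icc.mpr ⟨hN, le_rfl⟩), Nat.sub_self, pow_zero]; ring
    rw [hlast]
    simp only [map_add, map_sum, map_mul, map_pow]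
    ring
  rw [heq]
  exact Ideal.sum_mem _ (fun l _ => Ideal.mul_mem_left _ _ (Ideal.subset_span ⟨l, rfl⟩))

theorem main (d n : ℕ) (u : MvPolynomial (Fin d) k) (v : Fin d → k)
    (J : Finset (Fin n)) (N s : ℕ) (hs : N ≤ s)
    {Λ : Type u} [Fintype Λ] (f : Λ → MvPolynomial (Fin d ⊕ Fin n) k)
    (hdeg : ∀ l, ∀ m ∈ (f l).support, ∑ i : Fin d, m (Sum.inl i) ≤ N)
    (c : ℕ → MvPolynomial (Fin d ⊕ Fin n) k)
    (hE : (∏ j ∈ J, MvPolynomial.X (Sum.inr j)) ^ N +
        ∑ i ∈ Finset.Icc 1 N, c i * (∏ j ∈ J, MvPolynomial.X (Sum.inr j)) ^ (N - i) *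
          MvPolynomial.rename Sum.inl u ^ i ∈ Ideal.span (Set.range f)) :
    ∃ c' : ℕ → Polynomial (MvPolynomial (Fin d ⊕ Fin n) k),
      (Polynomial.X * Polynomial.C (∏ j ∈ J, MvPolynomial.X (Sum.inr j))) ^ N +
        ∑ i ∈ Finset.Icc 1 N, c' i *
          (Polynomial.X * Polynomial.C (∏ j ∈ J, MvPolynomial.X (Sum.inr j))) ^ (N - i) *
            Polynomial.C (MvPolynomial.rename Sum.inl u) ^ i ∈
      Ideal.span (Set.range fun l : Λ =>
        ∑ m ∈ (f l).support,
          Polynomial.C (MvPolynomial.C (MvPolynomial.coeff m (f l))) *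
            Polynomial.X ^ (N - ∑ i : Fin d, m (Sum.inl i)) *
            (∏ i : Fin d, (Polynomial.X * Polynomial.C (MvPolynomial.X (Sum.inl i)) +
                Polynomial.C (MvPolynomial.rename Sum.inl u ^ s * MvPolynomial.C (v i))) ^ m (Sum.inl i)) *
            ∏ j : Fin n, Polynomial.C (MvPolynomial.X (Sum.inr j)) ^ m (Sum.inr j)) :=
  main' d n (MvPolynomial.rename Sum.inl u) (∏ j ∈ J, MvPolynomial.X (Sum.inr j)) v N s hs f hdeg c hE

end Groth.Agent.H21.MovChart
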