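import Mathlib
import Groth.Agent.Helper1.GradedMono

set_option autoImplicit false
universe u

namespace Groth.Agent.H21.Natural

open DirectSum Polynomial
open Groth.Agent.Helper1.GradedMono

variable {R A B : Type u} [CommRing R] [CommRing A] [Algebra R A]
    (𝒜 : ℕ → Submodule R A) [GradedAlgebra 𝒜] [CommRing B] [Algebra R B]
    (ℬ : ℕ → Submodule R B) [GradedAlgebra ℬ]
    (φ : B →ₐ[R] Polynomial A)

/-- `A_{≥ n}` -/
def geN (n : ℕ) : Submodule R A := ⨆ (m : ℕ) (_ : n ≤ m), 𝒜 m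

variable {𝒜}

lemma mem_geN_of_mem {m n : ℕ} (h : n ≤ m) {a : A} (ha : a ∈ 𝒜 m) : a ∈ geN 𝒜 n :=
  Submodule.mem_iSup_of_mem m (Submodule.mem_iSup_of_mem h ha)

lemma geN_induction {n : ℕ} {P : A → Prop} (h0 : P 0) (hadd : ∀ x y, P x → P y → P (x + y))
    (hmem : ∀ m, n ≤ m → ∀ a ∈ 𝒜 m, P a) : ∀ a ∈ geN 𝒜 n, P a := by
  intro a ha
  unfold geN at ha
  refine Submodule.iSup_induction (motive := P) _ ha (fun m x hx => ?_) h0 hadd
  exact Submodule.iSup_induction (motive := P) _ hx (fun h y hy => hmem m h y hy) h0 hadd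

lemma geN_zero : geN 𝒜 0 = ⊤ := by
  classical
  rw [eq_top_iff]
  intro a _
  rw [← DirectSum.sum_support_decompose 𝒜 a]
  exact Submodule.sum_mem _ fun m _ => mem_geN_of_mem (Nat.zero_le m) (decompose 𝒜 a m).2

lemma geN_anti {n n' : ℕ} (h : n ≤ n') : geN 𝒜 n' ≤ geN 𝒜 n := by
  intro a ha
  exact geN_induction (Submodule.zero_mem _) (fun x y hx hy => Submodule.add_mem _ hx hy)
    (fun m hm a ha => mem_geN_of_mem (h.trans hm) ha) a ha

lemma mem_irrelevant_iff_mem_geN_one (a : A) :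
    a ∈ (HomogeneousIdeal.irrelevant 𝒜).toIdeal ↔ a ∈ geN 𝒜 1 := by
  classical
  constructor
  · intro ha
    have h0 : GradedRing.proj 𝒜 0 a = 0 := (HomogeneousIdeal.mem_irrelevant_iff 𝒜 a).1 ha
    rw [← DirectSum.sum_support_decompose 𝒜 a]
    refine Submodule.sum_mem _ fun m _ => ?_
    rcases Nat.eq_zero_or_pos m with rfl | hm
    · rw [GradedRing.proj_apply] at h0
      rw [h0]
      exact Submodule.zero_mem _
    · exact mem_geN_of_mem hm (decompose 𝒜 a m).2
  · intro ha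
    refine geN_induction (P := fun a => a ∈ (HomogeneousIdeal.irrelevant 𝒜).toIdeal)
      (Submodule.zero_mem _) (fun x y hx hy => Submodule.add_mem _ hx hy) ?_ a ha
    intro m hm a ha
    exact HomogeneousIdeal.mem_irrelevant_of_mem 𝒜 hm ha

variable {ℬ} {φ}

section
variable (hdeg : ∀ n : ℕ, Submodule.map φ.toLinearMap (ℬ n) =
      Submodule.map ((Polynomial.monomial n : A →ₗ[A] Polynomial A).restrictScalars R)
        (⨆ (m : ℕ) (_ : n ≤ m), 𝒜 m))
include hdeg

lemma exists_of_mem {n : ℕ} {b : B} (hb : b ∈ ℬ n) : ∃ a ∈ geN 𝒜 n, φ b = monomial n a := by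
  have : φ b ∈ Submodule.map φ.toLinearMap (ℬ n) := ⟨b, hb, rfl⟩
  rw [hdeg n] at this
  obtain ⟨a, ha, hab⟩ := this
  exact ⟨a, ha, hab.symm⟩

lemma exists_of_mem_geN {n : ℕ} {a : A} (ha : a ∈ geN 𝒜 n) : ∃ b ∈ ℬ n, φ b = monomial n a := by
  have : monomial n a ∈ Submodule.map ((Polynomial.monomial n : A →ₗ[A] Polynomial A).restrictScalars R)
        (⨆ (m : ℕ) (_ : n ≤ m), 𝒜 m) := ⟨a, ha, rfl⟩
  rw [← hdeg n] at this
  obtain ⟨b, hb, hab⟩ := this
  exact ⟨b, hb, hab⟩

end

/-- evaluation at `X = 1` -/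
noncomputable def q (φ : B →ₐ[R] Polynomial A) : B →+* A :=
  (Polynomial.evalRingHom 1).comp φ.toRingHom

lemma q_apply (b : B) : q φ b = (φ b).eval 1 := rfl

lemma q_of_eq {b : B} {n : ℕ} {a : A} (h : φ b = monomial n a) : q φ b = a := by
  rw [q_apply, h]; simp

section
variable (hdeg : ∀ n : ℕ, Submodule.map φ.toLinearMap (ℬ n) =
      Submodule.map ((Polynomial.monomial n : A →ₗ[A] Polynomial A).restrictScalars R)
        (⨆ (m : ℕ) (_ : n ≤ m), 𝒜 m))
include hdeg

lemma q_surjective : Function.Surjective (q φ) := by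
  intro a
  obtain ⟨b, -, hb⟩ := exists_of_mem_geN hdeg (n := 0) (a := a) (by rw [geN_zero]; trivial)
  exact ⟨b, q_of_eq hb⟩

lemma map_q_irrelevant :
    Ideal.map (q φ) (HomogeneousIdeal.irrelevant ℬ).toIdeal =
      (HomogeneousIdeal.irrelevant 𝒜).toIdeal := by
  classical
  apply le_antisymm
  · rw [Ideal.map_le_iff_le_comap]
    intro b hb
    rw [Ideal.mem_comap]
    have h0 : GradedRing.proj ℬ 0 b = 0 := (HomogeneousIdeal.mem_irrelevant_iff ℬ b).1 hb
    rw [← DirectSum.sum_support_decompose ℬ b, map_sum]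
    refine Ideal.sum_mem _ fun n _ => ?_
    rcases Nat.eq_zero_or_pos n with rfl | hn
    · rw [GradedRing.proj_apply] at h0
      rw [h0, map_zero]
      exact Submodule.zero_mem _
    · obtain ⟨a, ha, hab⟩ := exists_of_mem hdeg (decompose ℬ b n).2
      rw [q_of_eq hab, mem_irrelevant_iff_mem_geN_one]
      exact geN_anti hn ha
  · intro a ha
    rw [mem_irrelevant_iff_mem_geN_one] at ha
    obtain ⟨b, hb, hab⟩ := exists_of_mem_geN hdeg ha
    rw [← q_of_eq hab]
    exact Ideal.mem_map_of_mem _ (HomogeneousIdeal.mem_irrelevant_of_mem ℬ Nat.one_pos hb)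

end

section Main
variable (hφ : Function.Injective φ)
variable (hdeg : ∀ n : ℕ, Submodule.map φ.toLinearMap (ℬ n) =
      Submodule.map ((Polynomial.monomial n : A →ₗ[A] Polynomial A).restrictScalars R)
        (⨆ (m : ℕ) (_ : n ≤ m), 𝒜 m))
include hφ hdeg

/-- if `A` is of finite type over `𝒜 0` then `B` is of finite type over `ℬ 0` -/
theorem finiteType_natural [Algebra.FiniteType (𝒜 0) A] : Algebra.FiniteType (ℬ 0) B := by
  classical
  obtain ⟨s, hs, hs'⟩ := GradedAlgebra.exists_finset_adjoin_eq_top_and_homogeneous_ne_zero 𝒜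
  -- index the generators
  obtain ⟨f, hf⟩ : ∃ f : s → A, f = Subtype.val := ⟨_, rfl⟩
  have hrange : Set.range f = (s : Set A) := by rw [hf]; exact Subtype.range_coe
  have hex : ∀ i : s, ∃ n, n ≠ 0 ∧ f i ∈ 𝒜 n := fun i => by
    rw [hf]; exact hs' i.1 i.2
  choose d hd0 hfd using hex
  have hadj : Algebra.adjoin (𝒜 0) (Set.range f) = ⊤ := by rw [hrange]; exact hs
  -- the generators of `B`
  have hgex : ∀ p : (Σ i : s, Fin (d i + 1)), ∃ b ∈ ℬ (p.2 : ℕ), φ b = monomial (p.2 : ℕ) (f p.1) :=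
    fun p => exists_of_mem_geN hdeg (mem_geN_of_mem (Nat.lt_succ_iff.mp p.2.isLt) (hfd p.1))
  choose g hgmem hg using hgex
  have hT : (Set.range g).Finite := Set.finite_range g
  obtain ⟨D, hD⟩ : ∃ D : Subalgebra (ℬ 0) B, D = Algebra.adjoin (ℬ 0) (Set.range g) := ⟨_, rfl⟩
  have hgD : ∀ p, g p ∈ D := fun p => by rw [hD]; exact Algebra.subset_adjoin ⟨p, rfl⟩
  have hzeroD : ∀ b ∈ ℬ 0, b ∈ D := by
    intro b hb
    exact Subalgebra.algebraMap_mem D (⟨b, hb⟩ : ℬ 0)
  -- Step 1a: single generator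
  have hsingle1 : ∀ (i : s) (j : ℕ), j ≤ d i → ∃ b ∈ D, φ b = monomial j (f i) := by
    intro i j hj
    exact ⟨g ⟨i, ⟨j, Nat.lt_succ_of_le hj⟩⟩, hgD _, hg ⟨i, ⟨j, Nat.lt_succ_of_le hj⟩⟩⟩
  have hsingle : ∀ (i : s) (k n : ℕ), n ≤ k * d i → ∃ b ∈ D, φ b = monomial n (f i ^ k) := by
    intro i k
    induction k with
    | zero =>
      intro n hn
      have : n = 0 := by omega
      subst this
      exact ⟨1, Subalgebra.one_mem D, by simp⟩
    | succ k ih =>
      intro n hn
      obtain ⟨b1, hb1, h1⟩ := ih (min n (k * d i)) (min_le_right _ _)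
      have hj : n - min n (k * d i) ≤ d i := by
        rw [Nat.succ_mul] at hn
        rcases le_total n (k * d i) with h | h
        · rw [min_eq_left h]; omega
        · rw [min_eq_right h]; omega
      obtain ⟨b2, hb2, h2⟩ := hsingle1 i (n - min n (k * d i)) hj
      refine ⟨b1 * b2, Subalgebra.mul_mem D hb1 hb2, ?_⟩
      rw [map_mul, h1, h2, Polynomial.monomial_mul_monomial, pow_succ]
      have hnn : min n (k * d i) + (n - min n (k * d i)) = n := by
        have := min_le_left n (k * d i)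
        omega
      rw [hnn]
  -- Step 1: monomials
  have hmon : ∀ α : s →₀ ℕ, ∀ n, n ≤ wdeg d α → ∃ b ∈ D, φ b = monomial n (mon f α) := by
    intro α
    induction α using Finsupp.induction_linear with
    | zero =>
      intro n hn
      have : n = 0 := by simpa [wdeg] using hn
      subst this
      exact ⟨1, Subalgebra.one_mem D, by simp [mon]⟩
    | add α β hα hβ =>
      intro n hn
      rw [wdeg_add] at hn
      obtain ⟨b1, hb1, h1⟩ := hα (min n (wdeg d α)) (min_le_right _ _)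
      obtain ⟨b2, hb2, h2⟩ := hβ (n - min n (wdeg d α)) (by
        rcases le_total n (wdeg d α) with h | h
        · rw [min_eq_left h]; omega
        · rw [min_eq_right h]; omega)
      refine ⟨b1 * b2, Subalgebra.mul_mem D hb1 hb2, ?_⟩
      rw [map_mul, h1, h2, Polynomial.monomial_mul_monomial, mon_add]
      have hnn : min n (wdeg d α) + (n - min n (wdeg d α)) = n := by
        have := min_le_left n (wdeg d α)
        omega
      rw [hnn]
    | single i k =>
      intro n hn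
      rw [wdeg_single] at hn
      rw [mon_single]
      exact hsingle i k n hn
  -- Step 2: homogeneous elements
  have hhom : ∀ n m, n ≤ m → ∀ a ∈ 𝒜 m, ∃ b ∈ D, φ b = monomial n a := by
    intro n m hnm
    refine homogeneous_induction 𝒜 hfd hadj m ⟨0, Subalgebra.zero_mem D, by simp⟩ ?_ ?_
    · rintro x y ⟨b1, hb1, h1⟩ ⟨b2, hb2, h2⟩
      exact ⟨b1 + b2, Subalgebra.add_mem D hb1 hb2, by rw [map_add, h1, h2, map_add]⟩
    · intro c hc α hα
      obtain ⟨b0, hb0, h0⟩ := exists_of_mem_geN hdeg (n := 0) (mem_geN_of_mem le_rfl hc)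
      obtain ⟨b1, hb1, h1⟩ := hmon α n (by rw [hα]; exact hnm)
      refine ⟨b0 * b1, Subalgebra.mul_mem D (hzeroD b0 hb0) hb1, ?_⟩
      rw [map_mul, h0, h1, Polynomial.monomial_mul_monomial, zero_add]
  -- Step 3
  have hge : ∀ n, ∀ a ∈ geN 𝒜 n, ∃ b ∈ D, φ b = monomial n a := by
    intro n
    refine geN_induction ⟨0, Subalgebra.zero_mem D, by simp⟩ ?_ (fun m hm a ha => hhom n m hm a ha)
    rintro x y ⟨b1, hb1, h1⟩ ⟨b2, hb2, h2⟩
    exact ⟨b1 + b2, Subalgebra.add_mem D hb1 hb2, by rw [map_add, h1, h2, map_add]⟩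
  -- Step 4
  have hall : ∀ n, ∀ b ∈ ℬ n, b ∈ D := by
    intro n b hb
    obtain ⟨a, ha, hab⟩ := exists_of_mem hdeg hb
    obtain ⟨b', hb', hab'⟩ := hge n a ha
    have : b' = b := hφ (by rw [hab, hab'])
    rw [← this]; exact hb'
  -- Step 5
  have htop : D = ⊤ := by
    rw [eq_top_iff]
    intro b _
    rw [← DirectSum.sum_support_decompose ℬ b]
    exact Subalgebra.sum_mem D fun n _ => hall n _ (decompose ℬ b n).2
  refine ⟨⟨hT.toFinset, ?_⟩⟩
  rw [Set.Finite.coe_toFinset, ← hD, htop]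

omit hφ hdeg in
lemma algebraMap_gradeZero (x : ℬ 0) : algebraMap (ℬ 0) B x = (x : B) := rfl

lemma gradeZero_bijective : Function.Bijective ((q φ).comp (algebraMap (ℬ 0) B)) := by
  constructor
  · intro x y hxy
    obtain ⟨a, -, ha⟩ := exists_of_mem hdeg x.2
    obtain ⟨a', -, ha'⟩ := exists_of_mem hdeg y.2
    simp only [RingHom.comp_apply, algebraMap_gradeZero] at hxy
    rw [q_of_eq ha, q_of_eq ha'] at hxy
    apply Subtype.ext
    apply hφ
    rw [ha, ha', hxy]
  · intro a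
    obtain ⟨b, hb, hab⟩ := exists_of_mem_geN hdeg (n := 0) (a := a) (by rw [geN_zero]; trivial)
    exact ⟨⟨b, hb⟩, q_of_eq hab⟩

/-- if `A` is noetherian then so is `B` -/
theorem isNoetherianRing_natural [IsNoetherianRing A] : IsNoetherianRing B := by
  have hfg : (HomogeneousIdeal.irrelevant 𝒜).toIdeal.FG :=
    (isNoetherianRing_iff_ideal_fg A).mp inferInstance _
  haveI := Groth.Agent.Helper1.Graded.finiteType_of_irrelevant_fg 𝒜 hfg
  haveI : Algebra.FiniteType (ℬ 0) B := finiteType_natural hφ hdeg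
  haveI : IsNoetherianRing (ℬ 0) :=
    isNoetherianRing_of_ringEquiv A (RingEquiv.ofBijective _ (gradeZero_bijective hφ hdeg)).symm
  exact Algebra.FiniteType.isNoetherianRing (ℬ 0) B

end Main

end Groth.Agent.H21.Natural
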