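import Mathlib
import Groth.Agent.H21.Natural

set_option autoImplicit false
universe u

namespace Groth.Agent.H21.Natural

open DirectSum Polynomial

variable {R A B : Type u} [CommRing R] [CommRing A] [Algebra R A]
    {𝒜 : ℕ → Submodule R A} [GradedAlgebra 𝒜] [CommRing B] [Algebra R B]
    {ℬ : ℕ → Submodule R B} [GradedAlgebra ℬ]
    {φ : B →ₐ[R] Polynomial A}

/-- the `R`-linear monomial map -/
noncomputable abbrev monoR (R : Type u) {A : Type u} [CommRing R] [CommRing A] [Algebra R A] (n : ℕ) :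
    A →ₗ[R] Polynomial A :=
  (Polynomial.monomial n : A →ₗ[A] Polynomial A).restrictScalars R

omit [GradedAlgebra 𝒜] in
lemma map_monoR_mul (i j : ℕ) (M N : Submodule R A) :
    Submodule.map (monoR R i) M * Submodule.map (monoR R j) N =
      Submodule.map (monoR R (i + j)) (M * N) := by
  apply le_antisymm
  · rw [Submodule.mul_le]
    rintro _ ⟨a, ha, rfl⟩ _ ⟨b, hb, rfl⟩
    refine ⟨a * b, Submodule.mul_mem_mul ha hb, ?_⟩
    simp [monoR, Polynomial.monomial_mul_monomial]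
  · rw [Submodule.map_le_iff_le_comap, Submodule.mul_le]
    intro a ha b hb
    rw [Submodule.mem_comap]
    have : monoR R (i + j) (a * b) = monoR R i a * monoR R j b := by
      simp [monoR, Polynomial.monomial_mul_monomial]
    rw [this]
    exact Submodule.mul_mem_mul ⟨a, ha, rfl⟩ ⟨b, hb, rfl⟩

omit [GradedAlgebra 𝒜] in
lemma map_monoR_pow (M : Submodule R A) (n : ℕ) :
    (Submodule.map (monoR R 1) M) ^ n = Submodule.map (monoR R n) (M ^ n) := by
  induction n with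
  | zero =>
    rw [pow_zero, pow_zero, Submodule.one_eq_span, Submodule.one_eq_span, Submodule.map_span,
      Set.image_singleton]
    simp [monoR]
  | succ n ih =>
    rw [pow_succ, pow_succ, ih, map_monoR_mul]

omit [GradedAlgebra 𝒜] in
lemma map_monoR_injective (n : ℕ) : Function.Injective (Submodule.map (monoR R (A := A) n)) := by
  apply Submodule.map_injective_of_injective
  intro a b hab
  exact Polynomial.monomial_injective n hab

/-- lowest-degree part of a product -/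
lemma proj_mul_of_mem_geN {i j : ℕ} {y z : A} (hy : y ∈ geN 𝒜 i) (hz : z ∈ geN 𝒜 j) :
    GradedRing.proj 𝒜 (i + j) (y * z) = GradedRing.proj 𝒜 i y * GradedRing.proj 𝒜 j z := by
  classical
  have hhom : ∀ m, i ≤ m → ∀ a ∈ 𝒜 m, ∀ m', j ≤ m' → ∀ b ∈ 𝒜 m',
      GradedRing.proj 𝒜 (i + j) (a * b) = GradedRing.proj 𝒜 i a * GradedRing.proj 𝒜 j b := by
    intro m hm a ha m' hm' b hb
    have hab : a * b ∈ 𝒜 (m + m') := SetLike.mul_mem_graded ha hb
    simp only [GradedRing.proj_apply]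
    by_cases h1 : m = i
    · by_cases h2 : m' = j
      · subst h1 h2
        rw [decompose_of_mem_same 𝒜 hab, decompose_of_mem_same 𝒜 ha, decompose_of_mem_same 𝒜 hb]
      · rw [decompose_of_mem_ne 𝒜 hab (by omega), decompose_of_mem_ne 𝒜 hb h2, mul_zero]
    · rw [decompose_of_mem_ne 𝒜 hab (by omega), decompose_of_mem_ne 𝒜 ha h1, zero_mul]
  have h1 : ∀ m, i ≤ m → ∀ a ∈ 𝒜 m, ∀ b ∈ geN 𝒜 j,
      GradedRing.proj 𝒜 (i + j) (a * b) = GradedRing.proj 𝒜 i a * GradedRing.proj 𝒜 j b := by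
    intro m hm a ha
    refine geN_induction (P := fun b => GradedRing.proj 𝒜 (i + j) (a * b) =
      GradedRing.proj 𝒜 i a * GradedRing.proj 𝒜 j b) (by simp) ?_ ?_
    · intro b b' hb hb'
      rw [mul_add, map_add, map_add, hb, hb', mul_add]
    · intro m' hm' b hb
      exact hhom m hm a ha m' hm' b hb
  have h2 : ∀ a ∈ geN 𝒜 i, ∀ b ∈ geN 𝒜 j,
      GradedRing.proj 𝒜 (i + j) (a * b) = GradedRing.proj 𝒜 i a * GradedRing.proj 𝒜 j b := by
    refine geN_induction (P := fun a => ∀ b ∈ geN 𝒜 j, GradedRing.proj 𝒜 (i + j) (a * b) =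
      GradedRing.proj 𝒜 i a * GradedRing.proj 𝒜 j b) (by intro b _; simp) ?_ ?_
    · intro a a' ha ha' b hb
      rw [add_mul, map_add, map_add, ha b hb, ha' b hb, add_mul]
    · intro m hm a ha b hb
      exact h1 m hm a ha b hb
  exact h2 y hy z hz

lemma proj_mem_of_mem {n : ℕ} {x : A} (hx : x ∈ 𝒜 n) : GradedRing.proj 𝒜 n x = x := by
  classical
  rw [GradedRing.proj_apply, decompose_of_mem_same 𝒜 hx]

lemma proj_mem_graded (n : ℕ) (x : A) : GradedRing.proj 𝒜 n x ∈ 𝒜 n := by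
  classical
  rw [GradedRing.proj_apply]; exact (decompose 𝒜 x n).2

lemma geN_mul_le (i j : ℕ) : geN 𝒜 i * geN 𝒜 j ≤ geN 𝒜 (i + j) := by
  rw [Submodule.mul_le]
  have h1 : ∀ m, i ≤ m → ∀ a ∈ 𝒜 m, ∀ b ∈ geN 𝒜 j, a * b ∈ geN 𝒜 (i + j) := by
    intro m hm a ha
    refine geN_induction (P := fun b => a * b ∈ geN 𝒜 (i + j)) (by simp) ?_ ?_
    · intro b b' hb hb'
      rw [mul_add]; exact Submodule.add_mem _ hb hb'
    · intro m' hm' b hb
      exact mem_geN_of_mem (by omega) (SetLike.mul_mem_graded ha hb)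
  refine geN_induction (P := fun a => ∀ b ∈ geN 𝒜 j, a * b ∈ geN 𝒜 (i + j))
    (by intro b _; simp) ?_ ?_
  · intro a a' ha ha' b hb
    rw [add_mul]; exact Submodule.add_mem _ (ha b hb) (ha' b hb)
  · intro m hm a ha b hb
    exact h1 m hm a ha b hb

lemma grade_le_geN (n : ℕ) : 𝒜 n ≤ geN 𝒜 n := fun _ ha => mem_geN_of_mem le_rfl ha

/-- `geN (n+1) = geN 1 * geN n` for `n ≥ n₀` iff `𝒜 (n+1) = 𝒜 1 * 𝒜 n` for `n ≥ n₀` -/
lemma geN_succ_iff (n₀ : ℕ) :
    (∀ n, n₀ ≤ n → geN 𝒜 (n + 1) = geN 𝒜 1 * geN 𝒜 n) ↔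
      (∀ n, n₀ ≤ n → 𝒜 (n + 1) = 𝒜 1 * 𝒜 n) := by
  constructor
  · intro h n hn
    apply le_antisymm
    · intro x hx
      have hx' : x ∈ geN 𝒜 1 * geN 𝒜 n := by
        rw [← h n hn]; exact grade_le_geN _ hx
      have key : ∀ w ∈ geN 𝒜 1 * geN 𝒜 n, GradedRing.proj 𝒜 (1 + n) w ∈ 𝒜 1 * 𝒜 n := by
        intro w hw
        refine Submodule.mul_induction_on hw ?_ ?_
        · intro y hy z hz
          rw [proj_mul_of_mem_geN hy hz]
          exact Submodule.mul_mem_mul (proj_mem_graded _ _) (proj_mem_graded _ _)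
        · intro a b ha hb
          rw [map_add]; exact Submodule.add_mem _ ha hb
      have := key x hx'
      rw [add_comm 1 n, proj_mem_of_mem hx] at this
      exact this
    · rw [Submodule.mul_le]
      intro y hy z hz
      rw [add_comm]
      exact SetLike.mul_mem_graded hy hz
  · intro h n hn
    apply le_antisymm
    · intro x hx
      revert x
      refine geN_induction (Submodule.zero_mem _) (fun x y hx hy => Submodule.add_mem _ hx hy) ?_
      intro m hm x hx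
      obtain ⟨m', rfl⟩ : ∃ m', m = m' + 1 := ⟨m - 1, by omega⟩
      rw [h m' (by omega)] at hx
      have : 𝒜 1 * 𝒜 m' ≤ geN 𝒜 1 * geN 𝒜 n :=
        mul_le_mul' (grade_le_geN 1) (fun a ha => mem_geN_of_mem (by omega) ha)
      exact this hx
    · rw [add_comm]; exact geN_mul_le 1 n

lemma grade_one_pow_le (n : ℕ) : (𝒜 1) ^ n ≤ 𝒜 n := by
  induction n with
  | zero =>
    rw [pow_zero, Submodule.one_eq_span, Submodule.span_le]
    rintro _ rfl
    exact SetLike.GradedOne.one_mem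
  | succ n ih =>
    rw [pow_succ, Submodule.mul_le]
    intro y hy z hz
    exact SetLike.mul_mem_graded (ih hy) hz

lemma geN_one_pow_le (n : ℕ) : (geN 𝒜 1) ^ n ≤ geN 𝒜 n := by
  induction n with
  | zero =>
    rw [geN_zero]; exact le_top
  | succ n ih =>
    rw [pow_succ]
    exact (mul_le_mul' ih le_rfl).trans (geN_mul_le n 1)

lemma proj_pow_mem (n : ℕ) : ∀ x ∈ (geN 𝒜 1) ^ n, GradedRing.proj 𝒜 n x ∈ (𝒜 1) ^ n := by
  induction n with
  | zero =>
    intro x hx
    rw [pow_zero, Submodule.one_eq_span] at hx ⊢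
    obtain ⟨r, rfl⟩ := Submodule.mem_span_singleton.mp hx
    have h1 : (1 : A) ∈ 𝒜 0 := SetLike.GradedOne.one_mem
    rw [proj_mem_of_mem (Submodule.smul_mem _ r h1)]
    exact Submodule.mem_span_singleton.mpr ⟨r, rfl⟩
  | succ n ih =>
    intro x hx
    rw [pow_succ] at hx ⊢
    refine Submodule.mul_induction_on hx ?_ ?_
    · intro y hy z hz
      rw [proj_mul_of_mem_geN (geN_one_pow_le n hy) hz]
      exact Submodule.mul_mem_mul (ih y hy) (proj_mem_graded _ _)
    · intro a b ha hb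
      rw [map_add]; exact Submodule.add_mem _ ha hb

lemma geN_pow_iff (n₀ : ℕ) (hn₀ : 1 ≤ n₀) :
    (∀ n, n₀ ≤ n → geN 𝒜 n = (geN 𝒜 1) ^ n) ↔ (∀ n, n₀ ≤ n → 𝒜 n = (𝒜 1) ^ n) := by
  constructor
  · intro h n hn
    apply le_antisymm
    · intro x hx
      have hx' : x ∈ (geN 𝒜 1) ^ n := by rw [← h n hn]; exact grade_le_geN _ hx
      have := proj_pow_mem n x hx'
      rwa [proj_mem_of_mem hx] at this
    · exact grade_one_pow_le n
  · intro h n hn
    apply le_antisymm
    · intro x hx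
      revert x
      refine geN_induction (Submodule.zero_mem _) (fun x y hx hy => Submodule.add_mem _ hx hy) ?_
      intro m hm x hx
      rw [h m (by omega)] at hx
      obtain ⟨n', rfl⟩ : ∃ n', n = n' + 1 := ⟨n - 1, by omega⟩
      have hsplit : m = n' + (m - n') := by omega
      rw [hsplit, pow_add] at hx
      have h1 : (𝒜 1) ^ n' ≤ (geN 𝒜 1) ^ n' := pow_le_pow_left' (grade_le_geN 1) n'
      have h2 : (𝒜 1) ^ (m - n') ≤ geN 𝒜 1 :=
        (grade_one_pow_le (m - n')).trans (fun a ha => mem_geN_of_mem (by omega) ha)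
      rw [pow_succ]
      exact mul_le_mul' h1 h2 hx
    · exact geN_one_pow_le n

section
variable (hφ : Function.Injective φ)
variable (hdeg : ∀ n : ℕ, Submodule.map φ.toLinearMap (ℬ n) =
      Submodule.map ((Polynomial.monomial n : A →ₗ[A] Polynomial A).restrictScalars R)
        (⨆ (m : ℕ) (_ : n ≤ m), 𝒜 m))
include hφ hdeg

omit [GradedAlgebra 𝒜] [GradedAlgebra ℬ] in
lemma hdeg' (n : ℕ) : Submodule.map φ.toLinearMap (ℬ n) = Submodule.map (monoR R n) (geN 𝒜 n) :=
  hdeg n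

omit [GradedAlgebra 𝒜] [GradedAlgebra ℬ] in
lemma grade_succ_eq_iff (n : ℕ) :
    ℬ (n + 1) = ℬ 1 * ℬ n ↔ geN 𝒜 (n + 1) = geN 𝒜 1 * geN 𝒜 n := by
  rw [← (Submodule.map_injective_of_injective (f := φ.toLinearMap) hφ).eq_iff,
    Submodule.map_mul, hdeg' hφ hdeg, hdeg' hφ hdeg, hdeg' hφ hdeg, map_monoR_mul, add_comm 1 n,
    (map_monoR_injective (n + 1)).eq_iff]

omit [GradedAlgebra 𝒜] [GradedAlgebra ℬ] in
lemma grade_eq_pow_iff (n : ℕ) :
    ℬ n = (ℬ 1) ^ n ↔ geN 𝒜 n = (geN 𝒜 1) ^ n := by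
  rw [← (Submodule.map_injective_of_injective (f := φ.toLinearMap) hφ).eq_iff,
    Submodule.map_pow, hdeg' hφ hdeg, hdeg' hφ hdeg, map_monoR_pow,
    (map_monoR_injective n).eq_iff]

end

end Groth.Agent.H21.Natural
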