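import Groth.Agent.H21.K0Lib

set_option autoImplicit false
universe u
open CategoryTheory

namespace Groth.Agent.H21.Node

variable (k : Type u) [Field k]

/-- the polynomial ring -/
abbrev P2 := MvPolynomial (Fin 2) k
/-- the node -/
abbrev A := P2 k ⧸ Ideal.span {(MvPolynomial.X 0 * MvPolynomial.X 1 : P2 k)}
/-- coordinate functions -/
noncomputable abbrev xb (i : Fin 2) : A k := Ideal.Quotient.mk _ (MvPolynomial.X i)
/-- the branches -/
abbrev D (i : Fin 2) := A k ⧸ Ideal.span {xb k i}

/-- the other index -/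
def oth (i : Fin 2) : Fin 2 := 1 - i

lemma oth_ne (i : Fin 2) : oth i ≠ i := by
  fin_cases i <;> decide

lemma eq_or_eq_oth (i l : Fin 2) : l = i ∨ l = oth i := by
  fin_cases i <;> fin_cases l <;> simp [oth]

lemma xb_mul : xb k 0 * xb k 1 = 0 := by
  rw [← map_mul, Ideal.Quotient.eq_zero_iff_mem]
  exact Ideal.subset_span rfl

lemma xb_mul_oth (i : Fin 2) : xb k i * xb k (oth i) = 0 := by
  fin_cases i
  · exact xb_mul k
  · change xb k 1 * xb k 0 = 0
    rw [mul_comm]; exact xb_mul k

/-- evaluation killing the `i`-th coordinate -/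
noncomputable def ev0 (i : Fin 2) : P2 k →ₐ[k] Polynomial k :=
  MvPolynomial.aeval (fun l => if l = i then 0 else Polynomial.X)

lemma ev0_X (i l : Fin 2) : ev0 k i (MvPolynomial.X l) = if l = i then 0 else Polynomial.X := by
  simp [ev0]

/-- evaluation on the node -/
noncomputable def ev1 (i : Fin 2) : A k →ₐ[k] Polynomial k :=
  Ideal.Quotient.liftₐ _ (ev0 k i) (by
    intro a ha
    rw [Ideal.mem_span_singleton] at ha
    obtain ⟨c, rfl⟩ := ha
    rw [map_mul, map_mul, ev0_X, ev0_X]
    fin_cases i <;> simp)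

lemma ev1_xb (i l : Fin 2) : ev1 k i (xb k l) = if l = i then 0 else Polynomial.X := by
  change ev0 k i (MvPolynomial.X l) = _
  exact ev0_X k i l

/-- evaluation on the branch -/
noncomputable def ev (i : Fin 2) : D k i →ₐ[k] Polynomial k :=
  Ideal.Quotient.liftₐ _ (ev1 k i) (by
    intro a ha
    rw [Ideal.mem_span_singleton] at ha
    obtain ⟨c, rfl⟩ := ha
    rw [map_mul, ev1_xb, if_pos rfl, zero_mul])

/-- parametrisation of the branch -/
noncomputable def psi (i : Fin 2) : Polynomial k →ₐ[k] D k i :=
  Polynomial.aeval (Ideal.Quotient.mk _ (xb k (oth i)))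

lemma ev_psi (i : Fin 2) : (ev k i).comp (psi k i) = AlgHom.id k _ := by
  apply Polynomial.algHom_ext
  simp only [AlgHom.coe_comp, Function.comp_apply, AlgHom.coe_id, id_eq, psi, Polynomial.aeval_X]
  change ev1 k i (xb k (oth i)) = _
  rw [ev1_xb, if_neg (oth_ne i)]

lemma psi_surjective (i : Fin 2) : Function.Surjective (psi k i) := by
  intro d
  obtain ⟨a, rfl⟩ := Ideal.Quotient.mk_surjective d
  obtain ⟨f, rfl⟩ := Ideal.Quotient.mk_surjective a
  induction f using MvPolynomial.induction_on with
  | C c =>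
    refine ⟨Polynomial.C c, ?_⟩
    rw [← Polynomial.algebraMap_eq, AlgHom.commutes]
    rfl
  | add p q hp hq =>
    obtain ⟨p', hp'⟩ := hp
    obtain ⟨q', hq'⟩ := hq
    exact ⟨p' + q', by rw [map_add, hp', hq', map_add, map_add]⟩
  | mul_X p l hp =>
    obtain ⟨p', hp'⟩ := hp
    rcases eq_or_eq_oth i l with h | h
    · refine ⟨0, ?_⟩
      rw [map_zero, map_mul, map_mul]
      have : (Ideal.Quotient.mk (Ideal.span {xb k i})) (xb k l) = 0 := by
        rw [Ideal.Quotient.eq_zero_iff_mem, h]
        exact Ideal.subset_span rfl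
      change _ = _ * (Ideal.Quotient.mk (Ideal.span {xb k i})) (xb k l)
      rw [this]
      exact (mul_zero (M₀ := D k i) _).symm
    · refine ⟨p' * Polynomial.X, ?_⟩
      rw [map_mul, hp', map_mul, map_mul, h]
      congr 1
      simp [psi]

lemma psi_injective (i : Fin 2) : Function.Injective (psi k i) := by
  intro a b hab
  have := congrArg (ev k i) hab
  have h := ev_psi k i
  have ha : ev k i (psi k i a) = a := congrArg (fun f => f a) h
  have hb : ev k i (psi k i b) = b := congrArg (fun f => f b) h
  rw [ha, hb] at this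
  exact this

/-- the branch is a polynomial ring -/
noncomputable def branchEquiv (i : Fin 2) : Polynomial k ≃+* D k i :=
  RingEquiv.ofBijective (psi k i).toRingHom ⟨psi_injective k i, psi_surjective k i⟩

instance (i : Fin 2) : IsDomain (D k i) := (branchEquiv k i).symm.toMulEquiv.isDomain _

instance (i : Fin 2) : IsPrincipalIdealRing (D k i) :=
  IsPrincipalIdealRing.of_surjective (branchEquiv k i).toRingHom (branchEquiv k i).surjective

end Groth.Agent.H21.Node
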