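import Groth.Agent.H21.Node

set_option autoImplicit false
universe u
open CategoryTheory

namespace Groth.Agent.H21.Node

open Groth.Agent.H21.K0Lib

/-- generic: a f.g. module over a PID quotient has class a multiple of the class of the PID -/
lemma kcl_pid {R S : Type u} [CommRing R] [CommRing S] [Algebra R S] [IsDomain S]
    [IsPrincipalIdealRing S] [Module.Finite R S]
    (N : Type u) [AddCommGroup N] [Module R N] [Module S N] [IsScalarTower R S N]
    [Module.Finite R N] [Module.Finite S N] :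
    kcl R N ∈ AddSubgroup.zmultiples (kcl R S) := by
  obtain ⟨b, g, hg⟩ := Module.Finite.exists_fin' S N
  obtain ⟨n, ⟨bas⟩⟩ := Submodule.nonempty_basis_of_pid (Pi.basisFun S (Fin b)) (LinearMap.ker g)
  let e : (LinearMap.ker g) ≃ₗ[R] (Fin n → S) := (bas.equivFun).restrictScalars R
  haveI : Module.Finite R (LinearMap.ker g) := Module.Finite.equiv e.symm
  have h1 := kcl_exact (A := R) ((LinearMap.ker g).subtype.restrictScalars R)
    (g.restrictScalars R) (Submodule.subtype_injective _) hg
    (LinearMap.exact_subtype_ker_map g)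
  rw [kcl_pi, kcl_iso e, kcl_pi] at h1
  rw [AddSubgroup.mem_zmultiples_iff]
  refine ⟨(b : ℤ) - n, ?_⟩
  rw [sub_smul, natCast_zsmul, natCast_zsmul, h1]
  abel

variable (k : Type u) [Field k]

/-- a f.g. module killed by `x_i` has class a multiple of `[D i]` -/
lemma kcl_torsion (i : Fin 2) (N : Type u) [AddCommGroup N] [Module (A k) N]
    [Module.Finite (A k) N] (hN : Module.IsTorsionBy (A k) N (xb k i)) :
    kcl (A k) N ∈ AddSubgroup.zmultiples (kcl (A k) (D k i)) := by
  have hN' : Module.IsTorsionBySet (A k) N (Ideal.span {xb k i} : Ideal (A k)) :=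
    (Module.isTorsionBySet_span_singleton_iff _).2 hN
  letI : Module (D k i) N := hN'.module
  haveI : IsScalarTower (A k) (D k i) N := Module.IsTorsionBySet.isScalarTower hN'
  haveI : Module.Finite (D k i) N := Module.Finite.of_restrictScalars_finite (A k) (D k i) N
  exact kcl_pid (R := A k) (S := D k i) N

/-- the subgroup generated by the two branch classes -/
noncomputable def LL : AddSubgroup (KZero.K0sub (PF (A k))) :=
  AddSubgroup.closure {kcl (A k) (D k 0), kcl (A k) (D k 1)}

lemma zmult_le (i : Fin 2) : AddSubgroup.zmultiples (kcl (A k) (D k i)) ≤ LL k := by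
  rw [AddSubgroup.zmultiples_le]
  apply AddSubgroup.subset_closure
  fin_cases i
  · left; rfl
  · right; rfl

lemma kcl_mem (M : Type u) [AddCommGroup M] [Module (A k) M] [Module.Finite (A k) M] :
    kcl (A k) M ∈ LL k := by
  obtain ⟨f, hf⟩ : ∃ f : M →ₗ[A k] M, f = LinearMap.lsmul (A k) M (xb k 0) := ⟨_, rfl⟩
  obtain ⟨K, hK⟩ : ∃ K : Submodule (A k) M, K = LinearMap.range f := ⟨_, rfl⟩
  haveI : Module.Finite (A k) K := by rw [hK]; infer_instance
  have h1 := kcl_exact K.subtype K.mkQ (Submodule.subtype_injective _)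
    (Submodule.mkQ_surjective _) (LinearMap.exact_subtype_mkQ K)
  have hK1 : Module.IsTorsionBy (A k) K (xb k 1) := by
    rintro ⟨x, hx⟩
    rw [hK] at hx
    obtain ⟨m, rfl⟩ := hx
    ext
    have : f m = xb k 0 • m := by rw [hf]; rfl
    change xb k 1 • f m = 0
    have h0 : xb k 1 * xb k 0 = 0 := (mul_comm _ _).trans (xb_mul k)
    rw [this, smul_smul, h0]
    exact zero_smul (A k) m
  have hQ : Module.IsTorsionBy (A k) (M ⧸ K) (xb k 0) := by
    intro q
    obtain ⟨m, rfl⟩ := Submodule.mkQ_surjective K q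
    rw [← map_smul]
    refine (Submodule.Quotient.mk_eq_zero _).2 ?_
    rw [hK]
    exact ⟨m, by rw [hf]; rfl⟩
  rw [h1]
  exact (LL k).add_mem (zmult_le k 1 (kcl_torsion k 1 K hK1))
    (zmult_le k 0 (kcl_torsion k 0 _ hQ))

lemma surj (x : KZero.K0sub (PF (A k))) :
    ∃ p : ℤ × ℤ, p.1 • kcl (A k) (D k 0) + p.2 • kcl (A k) (D k 1) = x := by
  have hx : x ∈ LL k := kcl_span (LL k) (fun M _ _ _ => kcl_mem k M) x
  rw [LL, AddSubgroup.mem_closure_pair] at hx
  obtain ⟨a, b, h⟩ := hx
  exact ⟨(a, b), h⟩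

end Groth.Agent.H21.Node
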