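import Groth.Agent.H21.Node2

set_option autoImplicit false
universe u
open CategoryTheory

namespace Groth.Agent.H21.Node

open Groth.Agent.H21.K0Lib

variable (k : Type u) [Field k] (i : Fin 2)

/-- the prime of the branch -/
noncomputable abbrev pp : Ideal (A k) := Ideal.span {xb k i}

instance pp_prime : (pp k i).IsPrime := (Ideal.Quotient.isDomain_iff_prime _).1 inferInstance

lemma oth_notMem : xb k (oth i) ∉ pp k i := by
  intro h
  rw [Ideal.mem_span_singleton] at h
  obtain ⟨c, hc⟩ := h
  have := congrArg (ev1 k i) hc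
  rw [map_mul, ev1_xb, ev1_xb, if_neg (oth_ne i), if_pos rfl, zero_mul] at this
  exact Polynomial.X_ne_zero this

/-- the local ring at the generic point of the branch -/
abbrev Ap := Localization.AtPrime (pp k i)

lemma isField_Ap : IsField (Ap k i) := by
  rw [IsLocalRing.isField_iff_maximalIdeal_eq, ← Localization.AtPrime.map_eq_maximalIdeal,
    Ideal.map_span, Set.image_singleton, Ideal.span_singleton_eq_bot,
    IsLocalization.map_eq_zero_iff (pp k i).primeCompl]
  exact ⟨⟨xb k (oth i), oth_notMem k i⟩, (mul_comm _ _).trans (xb_mul_oth k i)⟩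

/-- the localized module -/
abbrev LM (M : Type u) [AddCommGroup M] [Module (A k) M] := LocalizedModule (pp k i).primeCompl M

lemma finLen (M : Type u) [AddCommGroup M] [Module (A k) M] [Module.Finite (A k) M] :
    Module.length (Ap k i) (LM k i M) ≠ ⊤ := by
  letI : Field (Ap k i) := (isField_Ap k i).toField
  haveI : Module.Finite (Ap k i) (LM k i M) := inferInstance
  haveI : IsNoetherian (Ap k i) (LM k i M) := inferInstance
  haveI : IsArtinian (Ap k i) (LM k i M) := inferInstance
  exact Module.length_ne_top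

/-- length at the generic point of branch `i` -/
noncomputable def lam (M : ModuleCat.{u} (A k)) : ℤ :=
  ((Module.length (Ap k i) (LM k i M)).toNat : ℤ)

lemma lam_add (S : ShortComplex (ModuleCat.{u} (A k))) (h1 : PF (A k) S.X₁) (h2 : PF (A k) S.X₂)
    (h3 : PF (A k) S.X₃) (hS : S.ShortExact) : lam k i S.X₂ = lam k i S.X₁ + lam k i S.X₃ := by
  haveI : Module.Finite (A k) S.X₁ := h1
  haveI : Module.Finite (A k) S.X₂ := h2
  haveI : Module.Finite (A k) S.X₃ := h3
  have hex : Function.Exact S.f.hom S.g.hom :=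
    (ShortComplex.ShortExact.moduleCat_exact_iff_function_exact _).1 hS.exact
  have hinj : Function.Injective S.f.hom := (ModuleCat.mono_iff_injective _).1 hS.mono_f
  have hsurj : Function.Surjective S.g.hom := (ModuleCat.epi_iff_surjective _).1 hS.epi_g
  have := Module.length_eq_add_of_exact
    (LocalizedModule.map (pp k i).primeCompl S.f.hom)
    (LocalizedModule.map (pp k i).primeCompl S.g.hom)
    (LocalizedModule.map_injective _ _ hinj) (LocalizedModule.map_surjective _ _ hsurj)
    (LocalizedModule.map_exact _ _ _ hex)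
  unfold lam
  rw [this, ENat.toNat_add (finLen k i _) (finLen k i _)]
  push_cast
  rfl

/-- the length homomorphism -/
noncomputable def Lam : KZero.K0sub (PF (A k)) →+ ℤ := kLift (lam k i) (lam_add k i)

lemma Lam_kcl (M : Type u) [AddCommGroup M] [Module (A k) M] [Module.Finite (A k) M] :
    Lam k i (kcl (A k) M) = ((Module.length (Ap k i) (LM k i M)).toNat : ℤ) :=
  kLift_kcl _ _ M

lemma Lam_oth : Lam k i (kcl (A k) (D k (oth i))) = 0 := by
  rw [Lam_kcl]
  haveI : Subsingleton (LM k i (D k (oth i))) := by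
    rw [LocalizedModule.subsingleton_iff]
    intro m
    refine ⟨xb k (oth i), oth_notMem k i, ?_⟩
    obtain ⟨a, rfl⟩ := Ideal.Quotient.mk_surjective m
    change Ideal.Quotient.mk _ (xb k (oth i) * a) = 0
    rw [Ideal.Quotient.eq_zero_iff_mem]
    exact Ideal.mul_mem_right _ _ (Ideal.subset_span rfl)
  rw [Module.length_eq_zero]
  rfl

lemma Lam_self : Lam k i (kcl (A k) (D k i)) ≠ 0 := by
  rw [Lam_kcl]
  have h0 : Module.length (Ap k i) (LM k i (D k i)) ≠ 0 := by
    rw [Ne, Module.length_eq_zero_iff, LocalizedModule.subsingleton_iff]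
    intro h
    obtain ⟨r, hr, hr0⟩ := h (1 : D k i)
    apply hr
    change r ∈ pp k i
    rw [← Ideal.Quotient.eq_zero_iff_mem, ← hr0]
    change _ = Ideal.Quotient.mk _ (r * 1)
    rw [mul_one]
  intro h
  rw [Int.natCast_eq_zero, ENat.toNat_eq_zero] at h
  rcases h with h | h
  · exact h0 h
  · exact finLen k i _ h

end Groth.Agent.H21.Node

namespace Groth.Agent.H21.Node

open Groth.Agent.H21.K0Lib

variable (k : Type u) [Field k]

theorem main : Function.Bijective (fun p : ℤ × ℤ =>
    p.1 • kcl (A k) (D k 0) + p.2 • kcl (A k) (D k 1)) := by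
  refine ⟨?_, fun x => surj k x⟩
  rintro ⟨a, b⟩ ⟨a', b'⟩ h
  simp only at h
  have h0 := congrArg (Lam k 0) h
  have h1 := congrArg (Lam k 1) h
  simp only [map_add, map_zsmul, smul_eq_mul] at h0 h1
  have e01 : Lam k 0 (kcl (A k) (D k 1)) = 0 := Lam_oth k 0
  have e10 : Lam k 1 (kcl (A k) (D k 0)) = 0 := Lam_oth k 1
  rw [e01, mul_zero, mul_zero, add_zero, add_zero] at h0
  rw [e10, mul_zero, mul_zero, zero_add, zero_add] at h1
  have ha : a = a' := mul_right_cancel₀ (Lam_self k 0) h0
  have hb : b = b' := mul_right_cancel₀ (Lam_self k 1) h1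
  rw [ha, hb]

end Groth.Agent.H21.Node
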