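import Mathlib
import Groth.Prelude.Def_W4c5spincurvestfNode

set_option autoImplicit false
universe u
open MvPolynomial

namespace Groth.Agent.H21.NodeFree

variable {R : Type u} [CommRing R] (π : R)

noncomputable def val (m : Fin 2 →₀ ℕ) : ℤ →₀ R :=
  Finsupp.single ((m 0 : ℤ) - (m 1 : ℤ)) (π ^ min (m 0) (m 1))

noncomputable def Psi0 : MvPolynomial (Fin 2) R →ₗ[R] (ℤ →₀ R) :=
  (MvPolynomial.basisMonomials (Fin 2) R).constr R (val π)

theorem Psi0_monomial (m : Fin 2 →₀ ℕ) (r : R) : Psi0 π (monomial m r) = r • val π m := by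
  have h1 : monomial m r = r • (MvPolynomial.basisMonomials (Fin 2) R m) := by
    rw [MvPolynomial.coe_basisMonomials, smul_monomial, smul_eq_mul, mul_one]
  rw [h1, map_smul, Psi0, Module.Basis.constr_basis]

theorem Psi0_kill (g : MvPolynomial (Fin 2) R) : Psi0 π ((X 0 * X 1 - C π) * g) = 0 := by
  induction g using MvPolynomial.induction_on' with
  | monomial m r =>
    have e1 : (X 0 * X 1 - C π : MvPolynomial (Fin 2) R) * monomial m r =
        monomial (Finsupp.single 0 1 + Finsupp.single 1 1 + m) r - monomial m (π * r) := by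
      rw [sub_mul, C_mul_monomial]
      congr 1
      rw [X, X, monomial_mul, monomial_mul, one_mul, one_mul]
    rw [e1, map_sub, Psi0_monomial, Psi0_monomial]
    unfold val
    have h0 : (Finsupp.single (0 : Fin 2) 1 + Finsupp.single 1 1 + m : Fin 2 →₀ ℕ) 0
        = m 0 + 1 := by
      simp [add_comm]
    have h1 : (Finsupp.single (0 : Fin 2) 1 + Finsupp.single 1 1 + m : Fin 2 →₀ ℕ) 1
        = m 1 + 1 := by
      simp [add_comm]
    rw [h0, h1, Finsupp.smul_single, Finsupp.smul_single, smul_eq_mul, smul_eq_mul,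
      Nat.add_min_add_right, pow_succ]
    have e2 : ((m 0 + 1 : ℕ) : ℤ) - ((m 1 + 1 : ℕ) : ℤ) = (m 0 : ℤ) - (m 1 : ℤ) := by
      push_cast; ring
    rw [e2, sub_eq_zero]
    congr 1
    ring
  | add p q hp hq => rw [mul_add, map_add, hp, hq, add_zero]

/-- the defining ideal -/
noncomputable abbrev Iπ : Ideal (MvPolynomial (Fin 2) R) :=
  Ideal.span {(X 0 * X 1 - C π : MvPolynomial (Fin 2) R)}

theorem Psi0_le : (Iπ π).restrictScalars R ≤ LinearMap.ker (Psi0 π) := by
  intro f hf
  obtain ⟨g, rfl⟩ := Ideal.mem_span_singleton'.mp hf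
  rw [LinearMap.mem_ker, mul_comm]
  exact Psi0_kill π g

noncomputable def Psi : SpinCurv.PolyNodeRing R π →ₗ[R] (ℤ →₀ R) :=
  (((Iπ π).restrictScalars R).liftQ (Psi0 π) (Psi0_le π)) ∘ₗ
    (Submodule.Quotient.restrictScalarsEquiv R (Iπ π)).symm.toLinearMap

theorem Psi_mk (f : MvPolynomial (Fin 2) R) :
    Psi π (Ideal.Quotient.mk (Iπ π) f) = Psi0 π f := by
  unfold Psi
  rw [LinearMap.comp_apply]
  change ((Iπ π).restrictScalars R).liftQ (Psi0 π) (Psi0_le π)
    ((Submodule.Quotient.restrictScalarsEquiv R (Iπ π)).symm (Submodule.Quotient.mk f)) = _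
  rw [Submodule.Quotient.restrictScalarsEquiv_symm_mk]
  rfl

local notation "xx" => SpinCurv.PolyNodeRing.x R π
local notation "yy" => SpinCurv.PolyNodeRing.y R π

theorem xy_eq : (xx * yy : SpinCurv.PolyNodeRing R π) = algebraMap R _ π := by
  change Ideal.Quotient.mk (Iπ π) (X 0) * Ideal.Quotient.mk (Iπ π) (X 1) = _
  rw [← map_mul, IsScalarTower.algebraMap_apply R (MvPolynomial (Fin 2) R)
    (SpinCurv.PolyNodeRing R π), Ideal.Quotient.algebraMap_eq, ← sub_eq_zero, ← map_sub,
    Ideal.Quotient.eq_zero_iff_mem]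
  exact Ideal.subset_span rfl

theorem xy_pow (c a b : ℕ) :
    (xx ^ (a + c) * yy ^ (b + c) : SpinCurv.PolyNodeRing R π) = π ^ c • (xx ^ a * yy ^ b) := by
  induction c with
  | zero => simp
  | succ c ih =>
    have e : (xx ^ (a + (c + 1)) * yy ^ (b + (c + 1)) : SpinCurv.PolyNodeRing R π) =
        (xx * yy) * (xx ^ (a + c) * yy ^ (b + c)) := by
      rw [← add_assoc, ← add_assoc, pow_succ, pow_succ]; ring
    rw [e, ih, xy_eq, pow_succ, mul_smul, ← Algebra.smul_def, smul_comm]

/-- the monomial basis elements -/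
noncomputable def gen (k : ℤ) : SpinCurv.PolyNodeRing R π :=
  if 0 ≤ k then xx ^ k.toNat else yy ^ (-k).toNat

theorem mk_monomial (m : Fin 2 →₀ ℕ) (r : R) :
    Ideal.Quotient.mk (Iπ π) (monomial m r) = r • (xx ^ m 0 * yy ^ m 1) := by
  have h1 : (monomial m r : MvPolynomial (Fin 2) R) = r • (X 0 ^ m 0 * X 1 ^ m 1) := by
    rw [monomial_eq, Finsupp.prod_fintype _ _ (fun i => pow_zero _), Fin.prod_univ_two,
      MvPolynomial.smul_eq_C_mul]
  rw [h1]
  rfl

theorem xy_gen (a b : ℕ) :
    (xx ^ a * yy ^ b : SpinCurv.PolyNodeRing R π) = π ^ min a b • gen π ((a : ℤ) - (b : ℤ)) := by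
  rcases le_total a b with h | h
  · obtain ⟨d, rfl⟩ := Nat.exists_eq_add_of_le h
    have e := xy_pow π a 0 d
    rw [zero_add, pow_zero, one_mul] at e
    rw [add_comm a d, e, min_eq_left (Nat.le_add_left a d)]
    congr 1
    unfold gen
    by_cases hd : d = 0
    · subst hd
      simp
    · have hneg : ¬ (0 : ℤ) ≤ (a : ℤ) - ((d + a : ℕ) : ℤ) := by push_cast; omega
      rw [if_neg hneg]
      congr 1
      push_cast; omega
  · obtain ⟨d, rfl⟩ := Nat.exists_eq_add_of_le h
    have e := xy_pow π b d 0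
    rw [zero_add, pow_zero, mul_one] at e
    rw [add_comm b d, e, min_eq_right (Nat.le_add_left b d)]
    congr 1
    unfold gen
    have hpos : (0 : ℤ) ≤ ((d + b : ℕ) : ℤ) - (b : ℤ) := by push_cast; omega
    rw [if_pos hpos]
    congr 1
    push_cast; omega

noncomputable def Phi : (ℤ →₀ R) →ₗ[R] SpinCurv.PolyNodeRing R π :=
  Finsupp.linearCombination R (gen π)

theorem Phi_single (k : ℤ) (r : R) : Phi π (Finsupp.single k r) = r • gen π k :=
  Finsupp.linearCombination_single R r k

theorem Psi_gen (k : ℤ) : Psi π (gen π k) = Finsupp.single k 1 := by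
  unfold gen
  by_cases hk : 0 ≤ k
  · rw [if_pos hk]
    change Psi π (Ideal.Quotient.mk (Iπ π) (X 0) ^ k.toNat) = _
    rw [← map_pow, Psi_mk, X_pow_eq_monomial, Psi0_monomial, one_smul]
    unfold val
    simp only [Finsupp.single_eq_same]
    have h1 : (Finsupp.single (0 : Fin 2) k.toNat : Fin 2 →₀ ℕ) 1 = 0 := by simp
    rw [h1, Nat.min_zero, pow_zero]
    congr 1
    push_cast; omega
  · rw [if_neg hk]
    change Psi π (Ideal.Quotient.mk (Iπ π) (X 1) ^ (-k).toNat) = _
    rw [← map_pow, Psi_mk, X_pow_eq_monomial, Psi0_monomial, one_smul]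
    unfold val
    simp only [Finsupp.single_eq_same]
    have h1 : (Finsupp.single (1 : Fin 2) (-k).toNat : Fin 2 →₀ ℕ) 0 = 0 := by simp
    rw [h1, Nat.zero_min, pow_zero]
    congr 1
    push_cast; omega

theorem Psi_Phi (l : ℤ →₀ R) : Psi π (Phi π l) = l := by
  induction l using Finsupp.induction_linear with
  | zero => simp
  | add f g hf hg => rw [map_add, map_add, hf, hg]
  | single k r =>
    rw [Phi_single, map_smul, Psi_gen, Finsupp.smul_single, smul_eq_mul, mul_one]

theorem Phi_Psi (q : SpinCurv.PolyNodeRing R π) : Phi π (Psi π q) = q := by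
  obtain ⟨f, rfl⟩ := Ideal.Quotient.mk_surjective q
  induction f using MvPolynomial.induction_on' with
  | monomial m r =>
    rw [Psi_mk, Psi0_monomial]
    unfold val
    rw [Finsupp.smul_single, Phi_single, mk_monomial, xy_gen, smul_eq_mul, mul_smul]
  | add p q hp hq => rw [map_add, map_add, map_add, hp, hq]

/-- `R[x,y]/(xy - π)` is free on the monomials `x^k`, `y^k`. -/
noncomputable def equiv : SpinCurv.PolyNodeRing R π ≃ₗ[R] (ℤ →₀ R) :=
  LinearEquiv.ofLinearMap (Psi π) (Phi π) (LinearMap.ext (Psi_Phi π)) (LinearMap.ext (Phi_Psi π))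

end Groth.Agent.H21.NodeFree
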