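import Mathlib
import Groth.Prelude.Def_W4c5spincurvestfNode

set_option autoImplicit false
universe u
open MvPowerSeries

namespace Groth.Agent.H21.NodeMF

variable (R : Type u) [CommRing R]

/-- the exponent (1,1) -/
noncomputable def e11 : Fin 2 →₀ ℕ := Finsupp.single 0 1 + Finsupp.single 1 1

theorem X0X1 : (X 0 * X 1 : MvPowerSeries (Fin 2) R) = monomial e11 1 := by
  rw [X_def, X_def, monomial_mul_monomial, one_mul]; rfl

theorem nzd [IsNoetherianRing R] [IsLocalRing R] (π : R) (hπ : π ∈ IsLocalRing.maximalIdeal R)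
    (g : MvPowerSeries (Fin 2) R) (hg : g * (X 0 * X 1 - C π) = 0) : g = 0 := by
  have h1 : ∀ m, coeff m g = coeff (m + e11) g * π := by
    intro m
    have := congrArg (coeff (m + e11)) hg
    rw [mul_sub, map_sub, X0X1, coeff_add_mul_monomial, mul_one, coeff_mul_C, map_zero,
      sub_eq_zero] at this
    exact this
  have h2 : ∀ n m, coeff m g = coeff (m + n • e11) g * π ^ n := by
    intro n
    induction n with
    | zero => intro m; simp
    | succ n ih =>
      intro m
      rw [ih m, h1 (m + n • e11), succ_nsmul, pow_succ, ← add_assoc]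
      ring
  ext m
  rw [map_zero]
  have h3 : coeff m g ∈ ⨅ i, (Ideal.span {π}) ^ i := by
    rw [Ideal.mem_iInf]
    intro n
    rw [Ideal.span_singleton_pow, Ideal.mem_span_singleton']
    exact ⟨coeff (m + n • e11) g, (h2 n m).symm⟩
  rw [Ideal.iInf_pow_eq_bot_of_isLocalRing _ ?_] at h3
  · exact h3
  · intro htop
    have h4 : Ideal.span {π} ≤ IsLocalRing.maximalIdeal R :=
      (Ideal.span_singleton_le_iff_mem _).mpr hπ
    rw [htop] at h4
    exact (IsLocalRing.maximalIdeal.isMaximal R).ne_top (top_le_iff.mp h4)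

theorem main [IsNoetherianRing R] [IsLocalRing R]
    (p q : R) (hp : p ∈ IsLocalRing.maximalIdeal R) (hq : q ∈ IsLocalRing.maximalIdeal R) :
    LinearMap.ker (Matrix.mulVecLin (SpinCurv.nodeAlpha R p q)) =
      Submodule.span (SpinCurv.NodeRing R (p * q))
        {![algebraMap R (SpinCurv.NodeRing R (p * q)) p, -SpinCurv.NodeRing.x R (p * q)],
         ![SpinCurv.NodeRing.y R (p * q), -algebraMap R (SpinCurv.NodeRing R (p * q)) q]} := by
  classical
  have hpq : p * q ∈ IsLocalRing.maximalIdeal R := Ideal.mul_mem_right _ _ hp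
  obtain ⟨f, hf⟩ : ∃ f : MvPowerSeries (Fin 2) R, f = X 0 * X 1 - C (p * q) := ⟨_, rfl⟩
  have hfI : Ideal.Quotient.mk (Ideal.span {(X 0 * X 1 - C (p * q) : MvPowerSeries (Fin 2) R)})
      (X 0 * X 1 - C (p * q)) = 0 :=
    Ideal.Quotient.eq_zero_iff_mem.mpr (Ideal.subset_span rfl)
  have hCp : algebraMap R (SpinCurv.NodeRing R (p * q)) p =
      Ideal.Quotient.mk _ (C p : MvPowerSeries (Fin 2) R) := rfl
  have hCq : algebraMap R (SpinCurv.NodeRing R (p * q)) q =
      Ideal.Quotient.mk _ (C q : MvPowerSeries (Fin 2) R) := rfl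
  have hxy : SpinCurv.NodeRing.x R (p * q) * SpinCurv.NodeRing.y R (p * q) =
      algebraMap R (SpinCurv.NodeRing R (p * q)) p * algebraMap R (SpinCurv.NodeRing R (p * q)) q := by
    rw [hCp, hCq, ← map_mul, ← map_mul, ← sub_eq_zero, ← map_sub, ← map_mul]
    exact hfI
  apply le_antisymm
  · intro v hv
    rw [LinearMap.mem_ker, Matrix.mulVecLin_apply] at hv
    have hv0 := congrFun hv 0
    have hv1 := congrFun hv 1
    simp only [SpinCurv.nodeAlpha, Matrix.mulVec, dotProduct, Fin.sum_univ_two, Matrix.of_apply,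
      Matrix.cons_val_zero, Matrix.cons_val_one, Pi.zero_apply, Matrix.cons_val', Matrix.cons_val_fin_one] at hv0 hv1
    obtain ⟨a, ha⟩ := Ideal.Quotient.mk_surjective (v 0)
    obtain ⟨b, hb⟩ := Ideal.Quotient.mk_surjective (v 1)
    rw [hCp, ← ha, ← hb, ← map_mul, ← map_mul, ← map_add, Ideal.Quotient.eq_zero_iff_mem,
      Ideal.mem_span_singleton'] at hv0
    rw [hCq, ← ha, ← hb, ← map_mul, ← map_mul, ← map_add, Ideal.Quotient.eq_zero_iff_mem,
      Ideal.mem_span_singleton'] at hv1
    obtain ⟨c1, hc1⟩ := hv0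
    obtain ⟨c2, hc2⟩ := hv1
    have ha' : a = X 1 * c1 - C p * c2 := by
      have h0 : (a - (X 1 * c1 - C p * c2)) * (X 0 * X 1 - C (p * q)) = 0 := by
        have e1 : (a - (X 1 * c1 - C p * c2)) * (X 0 * X 1 - C (p * q)) =
            a * (X 0 * X 1 - C (p * q)) - X 1 * (c1 * (X 0 * X 1 - C (p * q))) +
              C p * (c2 * (X 0 * X 1 - C (p * q))) := by ring
        rw [e1, hc1, hc2, map_mul]
        ring
      exact sub_eq_zero.mp (nzd R (p * q) hpq _ h0)
    have hb' : b = - (C q * c1) + X 0 * c2 := by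
      have h0 : (b - (- (C q * c1) + X 0 * c2)) * (X 0 * X 1 - C (p * q)) = 0 := by
        have e1 : (b - (- (C q * c1) + X 0 * c2)) * (X 0 * X 1 - C (p * q)) =
            b * (X 0 * X 1 - C (p * q)) + C q * (c1 * (X 0 * X 1 - C (p * q))) -
              X 0 * (c2 * (X 0 * X 1 - C (p * q))) := by ring
        rw [e1, hc1, hc2, map_mul]
        ring
      exact sub_eq_zero.mp (nzd R (p * q) hpq _ h0)
    have hv_eq : v = (Ideal.Quotient.mk _ c1 : SpinCurv.NodeRing R (p * q)) •
          ![SpinCurv.NodeRing.y R (p * q), -algebraMap R (SpinCurv.NodeRing R (p * q)) q] +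
        (-(Ideal.Quotient.mk _ c2 : SpinCurv.NodeRing R (p * q))) •
          ![algebraMap R (SpinCurv.NodeRing R (p * q)) p, -SpinCurv.NodeRing.x R (p * q)] := by
      refine funext (Fin.forall_fin_two.mpr ⟨?_, ?_⟩)
      · rw [← ha, ha', hCp]
        simp only [Pi.add_apply, Pi.smul_apply, Matrix.cons_val_zero, smul_eq_mul, map_sub, map_mul]
        ring
      · rw [← hb, hb', hCq]
        simp only [Pi.add_apply, Pi.smul_apply, Matrix.cons_val_one, Matrix.cons_val_zero,
          smul_eq_mul, map_add, map_neg, map_mul]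
        ring
    rw [hv_eq]
    refine Submodule.add_mem _ (Submodule.smul_mem _ _ (Submodule.subset_span ?_))
      (Submodule.smul_mem _ _ (Submodule.subset_span ?_))
    · exact Set.mem_insert_of_mem _ rfl
    · exact Set.mem_insert _ _
  · rw [Submodule.span_le]
    rintro v (rfl | rfl)
    · rw [SetLike.mem_coe, LinearMap.mem_ker, Matrix.mulVecLin_apply]
      ext i
      fin_cases i
      · simp only [SpinCurv.nodeAlpha, Matrix.mulVec, dotProduct, Fin.sum_univ_two, Matrix.of_apply,
          Matrix.cons_val_zero, Matrix.cons_val_one, Pi.zero_apply, Matrix.cons_val', Matrix.cons_val_fin_one, Fin.zero_eta, Fin.mk_one]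
        ring
      · simp only [SpinCurv.nodeAlpha, Matrix.mulVec, dotProduct, Fin.sum_univ_two, Matrix.of_apply,
          Matrix.cons_val_zero, Matrix.cons_val_one, Pi.zero_apply, Matrix.cons_val', Matrix.cons_val_fin_one, Fin.zero_eta, Fin.mk_one]
        linear_combination (-1 : SpinCurv.NodeRing R (p * q)) * hxy
    · rw [SetLike.mem_coe, LinearMap.mem_ker, Matrix.mulVecLin_apply]
      ext i
      fin_cases i
      · simp only [SpinCurv.nodeAlpha, Matrix.mulVec, dotProduct, Fin.sum_univ_two, Matrix.of_apply,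
          Matrix.cons_val_zero, Matrix.cons_val_one, Pi.zero_apply, Matrix.cons_val', Matrix.cons_val_fin_one, Fin.zero_eta, Fin.mk_one]
        linear_combination hxy
      · simp only [SpinCurv.nodeAlpha, Matrix.mulVec, dotProduct, Fin.sum_univ_two, Matrix.of_apply,
          Matrix.cons_val_zero, Matrix.cons_val_one, Pi.zero_apply, Matrix.cons_val', Matrix.cons_val_fin_one, Fin.zero_eta, Fin.mk_one]
        ring

end Groth.Agent.H21.NodeMF
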