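import Mathlib
import Groth.Prelude.Def_W4c5spincurvestfNode
import Groth.Agent.H21.NodeMF

set_option autoImplicit false
universe u
open MvPowerSeries

namespace Groth.Agent.H21.NodeNF
open Groth.Agent.H21.NodeMF

section Adic
variable {R : Type u} [CommRing R] (I : Ideal R) [IsAdicComplete I R]

/-- solving `w i j = u i j + π * w (i+1) (j+1)` in an adically complete ring -/
theorem solve (π : R) (hπ : π ∈ I) (u : ℕ → ℕ → R) :
    ∃ w : ℕ → ℕ → R, ∀ i j, w i j = u i j + π * w (i + 1) (j + 1) := by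
  classical
  obtain ⟨s, hs⟩ : ∃ s : ℕ → ℕ → ℕ → R,
      s = fun n i j => ∑ k ∈ Finset.range n, π ^ k * u (i + k) (j + k) := ⟨_, rfl⟩
  have hsucc : ∀ n i j, s (n + 1) i j = u i j + π * s n (i + 1) (j + 1) := by
    intro n i j
    rw [hs]
    simp only
    rw [Finset.sum_range_succ', Finset.mul_sum]
    simp only [pow_zero, one_mul, add_zero]
    rw [add_comm]
    congr 1
    refine Finset.sum_congr rfl (fun k _ => ?_)
    rw [pow_succ]
    have e1 : i + (k + 1) = i + 1 + k := by ring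
    have e2 : j + (k + 1) = j + 1 + k := by ring
    rw [e1, e2]
    ring
  have hcauchy : ∀ i j {m n : ℕ}, m ≤ n →
      s m i j ≡ s n i j [SMOD (I ^ m • ⊤ : Submodule R R)] := by
    intro i j m n hmn
    rw [SModEq.sub_mem, smul_eq_mul, Ideal.mul_top]
    have e : s m i j - s n i j = - ∑ k ∈ Finset.Ico m n, π ^ k * u (i + k) (j + k) := by
      rw [hs]
      simp only
      rw [Finset.sum_Ico_eq_sub _ hmn]
      ring
    rw [e]
    refine (Submodule.neg_mem_iff _).mpr (Ideal.sum_mem _ (fun k hk => ?_))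
    refine Ideal.mul_mem_right _ _ ?_
    exact Ideal.pow_le_pow_right (Finset.mem_Ico.mp hk).1 (Ideal.pow_mem_pow hπ k)
  have hlim : ∀ i j, ∃ L : R, ∀ n, s n i j ≡ L [SMOD (I ^ n • ⊤ : Submodule R R)] :=
    fun i j => IsPrecomplete.prec' (I := I) (fun n => s n i j) (fun {m n} hmn => hcauchy i j hmn)
  choose w hw using hlim
  refine ⟨w, fun i j => ?_⟩
  rw [← sub_eq_zero]
  refine IsHausdorff.haus' (I := I) _ (fun n => ?_)
  rw [SModEq.zero, smul_eq_mul, Ideal.mul_top]
  have h1 := hw i j (n + 1)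
  have h2 := hw (i + 1) (j + 1) n
  rw [SModEq.sub_mem, smul_eq_mul, Ideal.mul_top] at h1 h2
  have e : w i j - (u i j + π * w (i + 1) (j + 1)) =
      - (s (n + 1) i j - w i j) + π * (s n (i + 1) (j + 1) - w (i + 1) (j + 1)) := by
    rw [hsucc]; ring
  rw [e]
  refine Ideal.add_mem _ ((Submodule.neg_mem_iff _).mpr ?_) (Ideal.mul_mem_left _ _ h2)
  exact Ideal.pow_le_pow_right (Nat.le_succ n) h1

end Adic

section Coeff
variable {R : Type u} [CommRing R]

/-- the exponent `(i, j)` -/
noncomputable def mk2 (i j : ℕ) : Fin 2 →₀ ℕ := Finsupp.single 0 i + Finsupp.single 1 j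

theorem mk2_zero (i j : ℕ) : mk2 i j 0 = i := by simp [mk2]
theorem mk2_one (i j : ℕ) : mk2 i j 1 = j := by simp [mk2]

theorem eq_mk2 (m : Fin 2 →₀ ℕ) : m = mk2 (m 0) (m 1) := by
  ext k
  fin_cases k
  · exact (mk2_zero _ _).symm
  · exact (mk2_one _ _).symm

theorem mk2_succ_right (i j : ℕ) : mk2 i (j + 1) = Finsupp.single 1 1 + mk2 i j := by
  rw [mk2, mk2, add_comm j 1, Finsupp.single_add]; abel

theorem mk2_succ_left (i j : ℕ) : mk2 (i + 1) j = Finsupp.single 0 1 + mk2 i j := by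
  rw [mk2, mk2, add_comm i 1, Finsupp.single_add]; abel

theorem mk2_add_e11 (i j : ℕ) : mk2 i j + e11 = mk2 (i + 1) (j + 1) := by
  rw [mk2, mk2, e11, Finsupp.single_add, Finsupp.single_add]; abel

/-- a power series from its coefficient function -/
def ofFn (w : ℕ → ℕ → R) : MvPowerSeries (Fin 2) R := fun m => w (m 0) (m 1)

theorem coeff_ofFn (w : ℕ → ℕ → R) (i j : ℕ) : coeff (mk2 i j) (ofFn w) = w i j := by
  change w (mk2 i j 0) (mk2 i j 1) = _
  rw [mk2_zero, mk2_one]

theorem coeff_X1_mul_succ (c : MvPowerSeries (Fin 2) R) (i j : ℕ) :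
    coeff (mk2 i (j + 1)) (X 1 * c) = coeff (mk2 i j) c := by
  rw [mk2_succ_right, X_def, coeff_add_monomial_mul, one_mul]

theorem coeff_X1_mul_zero (c : MvPowerSeries (Fin 2) R) (i : ℕ) :
    coeff (mk2 i 0) (X 1 * c) = 0 := by
  classical
  rw [X_def, coeff_monomial_mul, if_neg]
  intro h
  have := h 1
  rw [mk2_one] at this
  simp at this

theorem coeff_X0_mul_succ (c : MvPowerSeries (Fin 2) R) (i j : ℕ) :
    coeff (mk2 (i + 1) j) (X 0 * c) = coeff (mk2 i j) c := by
  rw [mk2_succ_left, X_def, coeff_add_monomial_mul, one_mul]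

theorem coeff_X0_mul_zero (c : MvPowerSeries (Fin 2) R) (j : ℕ) :
    coeff (mk2 0 j) (X 0 * c) = 0 := by
  classical
  rw [X_def, coeff_monomial_mul, if_neg]
  intro h
  have := h 0
  rw [mk2_zero] at this
  simp at this

theorem coeff_toMv0_zero (F : PowerSeries R) (i : ℕ) :
    coeff (mk2 i 0) (PowerSeries.toMvPowerSeries (σ := Fin 2) 0 F) = PowerSeries.coeff i F := by
  have e : mk2 i 0 = Finsupp.embDomain (Function.Embedding.punit (0 : Fin 2))
      (Finsupp.single () i) := by
    rw [Finsupp.embDomain_single, mk2, Finsupp.single_zero, add_zero]; rfl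
  rw [e, PowerSeries.toMvPowerSeries_apply]
  exact coeff_embDomain_rename (Function.Embedding.punit (0 : Fin 2)) F (Finsupp.single () i)

theorem coeff_toMv1_zero (G : PowerSeries R) (j : ℕ) :
    coeff (mk2 0 j) (PowerSeries.toMvPowerSeries (σ := Fin 2) 1 G) = PowerSeries.coeff j G := by
  have e : mk2 0 j = Finsupp.embDomain (Function.Embedding.punit (1 : Fin 2))
      (Finsupp.single () j) := by
    rw [Finsupp.embDomain_single, mk2, Finsupp.single_zero, zero_add]; rfl
  rw [e, PowerSeries.toMvPowerSeries_apply]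
  exact coeff_embDomain_rename (Function.Embedding.punit (1 : Fin 2)) G (Finsupp.single () j)

theorem coeff_toMv0_succ (F : PowerSeries R) (i j : ℕ) :
    coeff (mk2 i (j + 1)) (PowerSeries.toMvPowerSeries (σ := Fin 2) 0 F) = 0 := by
  rw [PowerSeries.toMvPowerSeries_apply]
  refine coeff_rename_eq_zero _ F ?_
  rintro ⟨z, hz⟩
  have h1 := DFunLike.congr_fun hz 1
  rw [mk2_one, Finsupp.mapDomain_of_notMem_range] at h1
  · omega
  · rintro ⟨_, h⟩; simp at h

theorem coeff_toMv1_succ (G : PowerSeries R) (i j : ℕ) :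
    coeff (mk2 (i + 1) j) (PowerSeries.toMvPowerSeries (σ := Fin 2) 1 G) = 0 := by
  rw [PowerSeries.toMvPowerSeries_apply]
  refine coeff_rename_eq_zero _ G ?_
  rintro ⟨z, hz⟩
  have h1 := DFunLike.congr_fun hz 0
  rw [mk2_zero, Finsupp.mapDomain_of_notMem_range] at h1
  · omega
  · rintro ⟨_, h⟩; simp at h

end Coeff

section Main
variable (R : Type u) [CommRing R] [IsNoetherianRing R] [IsLocalRing R]

theorem krull_zero (π : R) (hπ : π ∈ IsLocalRing.maximalIdeal R)
    (g : MvPowerSeries (Fin 2) R) (h1 : ∀ m, coeff m g = coeff (m + e11) g * π) : g = 0 := by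
  have h2 : ∀ n m, coeff m g = coeff (m + n • e11) g * π ^ n := by
    intro n
    induction n with
    | zero => intro m; simp
    | succ n ih =>
      intro m
      rw [ih m, h1 (m + n • e11), succ_nsmul, pow_succ, ← add_assoc]
      ring
  ext m
  rw [map_zero]
  have h3 : coeff m g ∈ ⨅ i, (Ideal.span {π}) ^ i := by
    rw [Ideal.mem_iInf]
    intro n
    rw [Ideal.span_singleton_pow, Ideal.mem_span_singleton']
    exact ⟨coeff (m + n • e11) g, (h2 n m).symm⟩
  rw [Ideal.iInf_pow_eq_bot_of_isLocalRing _ ?_] at h3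
  · exact h3
  · intro htop
    have h4 : Ideal.span {π} ≤ IsLocalRing.maximalIdeal R :=
      (Ideal.span_singleton_le_iff_mem _).mpr hπ
    rw [htop] at h4
    exact (IsLocalRing.maximalIdeal.isMaximal R).ne_top (top_le_iff.mp h4)

variable [IsAdicComplete (IsLocalRing.maximalIdeal R) R]

/-- the normal form: every pair is a pair of one-variable series modulo the image of `β` -/
theorem exists_nf (p q : R) (hp : p ∈ IsLocalRing.maximalIdeal R)
    (a b : MvPowerSeries (Fin 2) R) :
    ∃ (c1 c2 : MvPowerSeries (Fin 2) R) (F G : PowerSeries R),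
      a = X 1 * c1 - C p * c2 + PowerSeries.toMvPowerSeries (σ := Fin 2) 0 F ∧
      b = -(C q * c1) + X 0 * c2 + PowerSeries.toMvPowerSeries (σ := Fin 2) 1 G := by
  have hpq : p * q ∈ IsLocalRing.maximalIdeal R := Ideal.mul_mem_right _ _ hp
  obtain ⟨w, hw⟩ := solve (IsLocalRing.maximalIdeal R) (p * q) hpq
    (fun i j => coeff (mk2 i (j + 1)) a + p * coeff (mk2 (i + 1) (j + 1)) b)
  obtain ⟨w2, hw2⟩ : ∃ w2 : ℕ → ℕ → R, w2 = fun i j => coeff (mk2 (i + 1) j) b + q * w (i + 1) j :=
    ⟨_, rfl⟩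
  have hw1 : ∀ i j, w i j = coeff (mk2 i (j + 1)) a + p * w2 i (j + 1) := by
    intro i j
    rw [hw i j, hw2]
    ring
  refine ⟨ofFn w, ofFn w2, PowerSeries.mk (fun i => coeff (mk2 i 0) a + p * w2 i 0),
    PowerSeries.mk (fun j => coeff (mk2 0 j) b + q * w 0 j), ?_, ?_⟩
  · ext m
    rw [eq_mk2 m]
    generalize m 0 = i
    generalize m 1 = j
    rw [map_add, map_sub, coeff_C_mul, coeff_ofFn]
    cases j with
    | zero =>
      rw [coeff_X1_mul_zero, coeff_toMv0_zero, PowerSeries.coeff_mk]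
      ring
    | succ j =>
      rw [coeff_X1_mul_succ, coeff_toMv0_succ, coeff_ofFn, hw1 i j]
      ring
  · ext m
    rw [eq_mk2 m]
    generalize m 0 = i
    generalize m 1 = j
    rw [map_add, map_add, map_neg, coeff_C_mul, coeff_ofFn]
    cases i with
    | zero =>
      rw [coeff_X0_mul_zero, coeff_toMv1_zero, PowerSeries.coeff_mk]
      ring
    | succ i =>
      rw [coeff_X0_mul_succ, coeff_toMv1_succ, coeff_ofFn, hw2]
      ring

omit [IsAdicComplete (IsLocalRing.maximalIdeal R) R] in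
/-- uniqueness of the normal form -/
theorem nf_unique (p q : R) (hp : p ∈ IsLocalRing.maximalIdeal R)
    (c1 c2 : MvPowerSeries (Fin 2) R) (F G : PowerSeries R)
    (h1 : PowerSeries.toMvPowerSeries (σ := Fin 2) 0 F = X 1 * c1 + C p * c2)
    (h2 : PowerSeries.toMvPowerSeries (σ := Fin 2) 1 G = -(C q * c1) - X 0 * c2) :
    F = 0 ∧ G = 0 := by
  have hpq : p * q ∈ IsLocalRing.maximalIdeal R := Ideal.mul_mem_right _ _ hp
  have e1 : ∀ i j, coeff (mk2 i j) c1 = - (p * coeff (mk2 i (j + 1)) c2) := by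
    intro i j
    have := congrArg (coeff (mk2 i (j + 1))) h1
    rw [coeff_toMv0_succ, map_add, coeff_X1_mul_succ, coeff_C_mul] at this
    rw [eq_neg_iff_add_eq_zero]
    exact this.symm
  have e2 : ∀ i j, coeff (mk2 i j) c2 = - (q * coeff (mk2 (i + 1) j) c1) := by
    intro i j
    have := congrArg (coeff (mk2 (i + 1) j)) h2
    rw [coeff_toMv1_succ, map_sub, map_neg, coeff_X0_mul_succ, coeff_C_mul] at this
    rw [eq_comm, sub_eq_zero] at this
    rw [← this]
  have hc1 : c1 = 0 := by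
    refine krull_zero R (p * q) hpq c1 (fun m => ?_)
    rw [eq_mk2 m, mk2_add_e11, e1, e2]
    ring
  have hc2 : c2 = 0 := by
    ext m
    rw [eq_mk2 m, e2, hc1, map_zero, map_zero, mul_zero, neg_zero]
  rw [hc1, hc2, mul_zero, mul_zero, add_zero] at h1
  rw [hc1, hc2, mul_zero, mul_zero, neg_zero, sub_zero] at h2
  constructor
  · apply PowerSeries.toMvPowerSeries_injective (σ := Fin 2) 0
    rw [h1, map_zero]
  · apply PowerSeries.toMvPowerSeries_injective (σ := Fin 2) 1
    rw [h2, map_zero]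


theorem main_S18433 (p q : R) (hp : p ∈ IsLocalRing.maximalIdeal R)
    (hq : q ∈ IsLocalRing.maximalIdeal R) :
    Function.Injective (fun fg : PowerSeries R × PowerSeries R =>
        Matrix.mulVec (SpinCurv.nodeAlpha R p q)
          ![SpinCurv.NodeRing.ofX R (p * q) fg.1, SpinCurv.NodeRing.ofY R (p * q) fg.2]) ∧
    Set.range (fun fg : PowerSeries R × PowerSeries R =>
        Matrix.mulVec (SpinCurv.nodeAlpha R p q)
          ![SpinCurv.NodeRing.ofX R (p * q) fg.1, SpinCurv.NodeRing.ofY R (p * q) fg.2]) =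
      Set.range (Matrix.mulVec (SpinCurv.nodeAlpha R p q)) := by
  classical
  have hfI : Ideal.Quotient.mk (Ideal.span {(X 0 * X 1 - C (p * q) : MvPowerSeries (Fin 2) R)})
      (X 0 * X 1 - C (p * q)) = 0 :=
    Ideal.Quotient.eq_zero_iff_mem.mpr (Ideal.subset_span rfl)
  have hCp : algebraMap R (SpinCurv.NodeRing R (p * q)) p =
      Ideal.Quotient.mk _ (C p : MvPowerSeries (Fin 2) R) := rfl
  have hCq : algebraMap R (SpinCurv.NodeRing R (p * q)) q =
      Ideal.Quotient.mk _ (C q : MvPowerSeries (Fin 2) R) := rfl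
  have hxy : SpinCurv.NodeRing.x R (p * q) * SpinCurv.NodeRing.y R (p * q) =
      algebraMap R (SpinCurv.NodeRing R (p * q)) p * algebraMap R (SpinCurv.NodeRing R (p * q)) q := by
    rw [hCp, hCq, ← map_mul, ← map_mul, ← sub_eq_zero, ← map_sub, ← map_mul]
    exact hfI
  constructor
  · intro fg fg' h
    obtain ⟨F, hF⟩ : ∃ F, F = fg.1 - fg'.1 := ⟨_, rfl⟩
    obtain ⟨G, hG⟩ : ∃ G, G = fg.2 - fg'.2 := ⟨_, rfl⟩
    have hvec : ![SpinCurv.NodeRing.ofX R (p * q) F, SpinCurv.NodeRing.ofY R (p * q) G] =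
        ![SpinCurv.NodeRing.ofX R (p * q) fg.1, SpinCurv.NodeRing.ofY R (p * q) fg.2] -
        ![SpinCurv.NodeRing.ofX R (p * q) fg'.1, SpinCurv.NodeRing.ofY R (p * q) fg'.2] := by
      refine funext (Fin.forall_fin_two.mpr ⟨?_, ?_⟩)
      · simp only [Pi.sub_apply, Matrix.cons_val_zero]
        rw [hF]
        change Ideal.Quotient.mk _ (PowerSeries.toMvPowerSeries (σ := Fin 2) 0 (fg.1 - fg'.1)) =
          Ideal.Quotient.mk _ (PowerSeries.toMvPowerSeries (σ := Fin 2) 0 fg.1) -
          Ideal.Quotient.mk _ (PowerSeries.toMvPowerSeries (σ := Fin 2) 0 fg'.1)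
        rw [map_sub, map_sub]
      · simp only [Pi.sub_apply, Matrix.cons_val_one, Matrix.cons_val_zero]
        rw [hG]
        change Ideal.Quotient.mk _ (PowerSeries.toMvPowerSeries (σ := Fin 2) 1 (fg.2 - fg'.2)) =
          Ideal.Quotient.mk _ (PowerSeries.toMvPowerSeries (σ := Fin 2) 1 fg.2) -
          Ideal.Quotient.mk _ (PowerSeries.toMvPowerSeries (σ := Fin 2) 1 fg'.2)
        rw [map_sub, map_sub]
    have hker : ![SpinCurv.NodeRing.ofX R (p * q) F, SpinCurv.NodeRing.ofY R (p * q) G] ∈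
        LinearMap.ker (Matrix.mulVecLin (SpinCurv.nodeAlpha R p q)) := by
      rw [LinearMap.mem_ker, Matrix.mulVecLin_apply, hvec, Matrix.mulVec_sub]
      exact sub_eq_zero.mpr h
    rw [NodeMF.main R p q hp hq, Submodule.mem_span_pair] at hker
    obtain ⟨s, t, hst⟩ := hker
    have h0 := congrFun hst 0
    have h1 := congrFun hst 1
    simp only [Pi.add_apply, Pi.smul_apply, Matrix.cons_val_zero, Matrix.cons_val_one,
      smul_eq_mul] at h0 h1
    obtain ⟨c2', rfl⟩ := Ideal.Quotient.mk_surjective s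
    obtain ⟨c1', rfl⟩ := Ideal.Quotient.mk_surjective t
    rw [hCp, ← map_mul, ← map_mul, ← map_add, eq_comm, Ideal.Quotient.eq,
      Ideal.mem_span_singleton'] at h0
    rw [hCq, ← map_neg, ← map_neg, ← map_mul, ← map_mul, ← map_add, eq_comm, Ideal.Quotient.eq,
      Ideal.mem_span_singleton'] at h1
    obtain ⟨d1, hd1⟩ := h0
    obtain ⟨d2, hd2⟩ := h1
    have hFG := nf_unique R p q hp (c1' + X 0 * d1 + C p * d2) (c2' - C q * d1 - X 1 * d2) F G
      (by
        have := hd1
        rw [map_mul] at this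
        linear_combination (-1 : MvPowerSeries (Fin 2) R) * this)
      (by
        have := hd2
        rw [map_mul] at this
        linear_combination (-1 : MvPowerSeries (Fin 2) R) * this)
    obtain ⟨hF0, hG0⟩ := hFG
    rw [hF] at hF0
    rw [hG] at hG0
    exact Prod.ext (sub_eq_zero.mp hF0) (sub_eq_zero.mp hG0)
  · apply Set.Subset.antisymm
    · rintro _ ⟨fg, rfl⟩
      exact ⟨_, rfl⟩
    · rintro _ ⟨v, rfl⟩
      obtain ⟨a, ha⟩ := Ideal.Quotient.mk_surjective (v 0)
      obtain ⟨b, hb⟩ := Ideal.Quotient.mk_surjective (v 1)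
      obtain ⟨c1, c2, F, G, hab1, hab2⟩ := exists_nf R p q hp a b
      refine ⟨(F, G), ?_⟩
      have hv0 : v 0 = SpinCurv.NodeRing.y R (p * q) * Ideal.Quotient.mk _ c1 -
          algebraMap R (SpinCurv.NodeRing R (p * q)) p * Ideal.Quotient.mk _ c2 +
          SpinCurv.NodeRing.ofX R (p * q) F := by
        rw [← ha, hab1, hCp]
        simp only [map_add, map_sub, map_mul]
      have hv1 : v 1 = -(algebraMap R (SpinCurv.NodeRing R (p * q)) q * Ideal.Quotient.mk _ c1) +
          SpinCurv.NodeRing.x R (p * q) * Ideal.Quotient.mk _ c2 +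
          SpinCurv.NodeRing.ofY R (p * q) G := by
        rw [← hb, hab2, hCq]
        simp only [map_add, map_neg, map_mul]
      refine funext (Fin.forall_fin_two.mpr ⟨?_, ?_⟩)
      · simp only [SpinCurv.nodeAlpha, Matrix.mulVec, dotProduct, Fin.sum_univ_two, Matrix.of_apply,
          Matrix.cons_val_zero, Matrix.cons_val_one, Matrix.cons_val', Matrix.cons_val_fin_one]
        rw [hv0, hv1]
        linear_combination (-(Ideal.Quotient.mk _ c1 : SpinCurv.NodeRing R (p * q))) * hxy
      · simp only [SpinCurv.nodeAlpha, Matrix.mulVec, dotProduct, Fin.sum_univ_two, Matrix.of_apply,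
          Matrix.cons_val_zero, Matrix.cons_val_one, Matrix.cons_val', Matrix.cons_val_fin_one]
        rw [hv0, hv1]
        linear_combination (-(Ideal.Quotient.mk _ c2 : SpinCurv.NodeRing R (p * q))) * hxy

end Main

end Groth.Agent.H21.NodeNF
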