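import Mathlib
import Groth.Agent.H21.NodeNF

set_option autoImplicit false
universe u
open MvPowerSeries

namespace Groth.Agent.H21.NodeIdl
open Groth.Agent.H21.NodeMF Groth.Agent.H21.NodeNF

variable {k : Type u} [Field k]

theorem single0_le (a i j : ℕ) : (Finsupp.single (0 : Fin 2) a ≤ mk2 i j) ↔ a ≤ i := by
  constructor
  · intro h
    have := h 0
    rw [mk2_zero] at this
    simpa using this
  · intro h t
    fin_cases t
    · change (Finsupp.single (0 : Fin 2) a) 0 ≤ mk2 i j 0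
      rw [mk2_zero]; simpa using h
    · change (Finsupp.single (0 : Fin 2) a) 1 ≤ mk2 i j 1
      rw [mk2_one]; simp

theorem single1_le (b i j : ℕ) : (Finsupp.single (1 : Fin 2) b ≤ mk2 i j) ↔ b ≤ j := by
  constructor
  · intro h
    have := h 1
    rw [mk2_one] at this
    simpa using this
  · intro h t
    fin_cases t
    · change (Finsupp.single (1 : Fin 2) b) 0 ≤ mk2 i j 0
      rw [mk2_zero]; simp
    · change (Finsupp.single (1 : Fin 2) b) 1 ≤ mk2 i j 1
      rw [mk2_one]; simpa using h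

theorem mk2_sub0 (a i j : ℕ) (h : a ≤ i) : mk2 i j - Finsupp.single (0 : Fin 2) a = mk2 (i - a) j := by
  ext t
  fin_cases t
  · change mk2 i j 0 - (Finsupp.single (0 : Fin 2) a) 0 = mk2 (i - a) j 0
    rw [mk2_zero, mk2_zero]; simp
  · change mk2 i j 1 - (Finsupp.single (0 : Fin 2) a) 1 = mk2 (i - a) j 1
    rw [mk2_one, mk2_one]; simp

theorem mk2_sub1 (b i j : ℕ) (h : b ≤ j) : mk2 i j - Finsupp.single (1 : Fin 2) b = mk2 i (j - b) := by
  ext t
  fin_cases t
  · change mk2 i j 0 - (Finsupp.single (1 : Fin 2) b) 0 = mk2 i (j - b) 0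
    rw [mk2_zero, mk2_zero]; simp
  · change mk2 i j 1 - (Finsupp.single (1 : Fin 2) b) 1 = mk2 i (j - b) 1
    rw [mk2_one, mk2_one]; simp

theorem coeff_X0pow_mul (a i j : ℕ) (h : MvPowerSeries (Fin 2) k) :
    coeff (mk2 i j) (X 0 ^ a * h) = if a ≤ i then coeff (mk2 (i - a) j) h else 0 := by
  classical
  rw [X_pow_eq, coeff_monomial_mul]
  by_cases ha : a ≤ i
  · rw [if_pos ((single0_le a i j).mpr ha), if_pos ha, one_mul, mk2_sub0 a i j ha]
  · rw [if_neg (fun hh => ha ((single0_le a i j).mp hh)), if_neg ha]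

theorem coeff_X1pow_mul (b i j : ℕ) (h : MvPowerSeries (Fin 2) k) :
    coeff (mk2 i j) (X 1 ^ b * h) = if b ≤ j then coeff (mk2 i (j - b)) h else 0 := by
  classical
  rw [X_pow_eq, coeff_monomial_mul]
  by_cases hb : b ≤ j
  · rw [if_pos ((single1_le b i j).mpr hb), if_pos hb, one_mul, mk2_sub1 b i j hb]
  · rw [if_neg (fun hh => hb ((single1_le b i j).mp hh)), if_neg hb]

theorem coeff_XY_mul (i j : ℕ) (h : MvPowerSeries (Fin 2) k) :
    coeff (mk2 i j) (X 0 * X 1 * h) =
      if 1 ≤ i ∧ 1 ≤ j then coeff (mk2 (i - 1) (j - 1)) h else 0 := by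
  have e : (X 0 * X 1 * h : MvPowerSeries (Fin 2) k) = X 0 ^ 1 * (X 1 ^ 1 * h) := by ring
  rw [e, coeff_X0pow_mul]
  by_cases hi : 1 ≤ i
  · rw [if_pos hi, coeff_X1pow_mul]
    by_cases hj : 1 ≤ j
    · rw [if_pos hj, if_pos ⟨hi, hj⟩]
    · rw [if_neg hj, if_neg (fun hh => hj hh.2)]
  · rw [if_neg hi, if_neg (fun hh => hi hh.1)]

/-- the coordinate map -/
noncomputable def Phi (a b : ℕ) :
    MvPowerSeries (Fin 2) k →ₗ[k] (Fin a → k) × (Fin (b - 1) → k) :=
  LinearMap.prod (LinearMap.pi (fun i : Fin a => coeff (mk2 (i : ℕ) 0)))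
    (LinearMap.pi (fun j : Fin (b - 1) => coeff (mk2 0 ((j : ℕ) + 1))))

theorem Phi_fst (a b : ℕ) (f : MvPowerSeries (Fin 2) k) (i : Fin a) :
    (Phi a b f).1 i = coeff (mk2 (i : ℕ) 0) f := rfl

theorem Phi_snd (a b : ℕ) (f : MvPowerSeries (Fin 2) k) (j : Fin (b - 1)) :
    (Phi a b f).2 j = coeff (mk2 0 ((j : ℕ) + 1)) f := rfl

theorem Phi_eq_zero_iff (a b : ℕ) (f : MvPowerSeries (Fin 2) k) :
    Phi a b f = 0 ↔ (∀ i, i < a → coeff (mk2 i 0) f = 0) ∧
      (∀ j, 1 ≤ j → j < b → coeff (mk2 0 j) f = 0) := by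
  constructor
  · intro h
    constructor
    · intro i hi
      have := congrFun (congrArg Prod.fst h) ⟨i, hi⟩
      exact this
    · intro j hj hjb
      have := congrFun (congrArg Prod.snd h) ⟨j - 1, by omega⟩
      rw [Phi_snd] at this
      have e : (j - 1) + 1 = j := by omega
      simp only [e] at this
      exact this
  · rintro ⟨h1, h2⟩
    refine Prod.ext ?_ ?_
    · funext i
      exact h1 i i.2
    · funext j
      exact h2 _ (by omega) (by have := j.2; omega)

/-- the monomial ideal -/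
noncomputable def J0 (a b : ℕ) : Ideal (MvPowerSeries (Fin 2) k) :=
  Ideal.span {X 0 * X 1, X 0 ^ a, X 1 ^ b}

theorem mem_J0_of_Phi (a b : ℕ) (ha : 1 ≤ a) (hb : 1 ≤ b) (f : MvPowerSeries (Fin 2) k)
    (hf : Phi a b f = 0) : f ∈ J0 (k := k) a b := by
  obtain ⟨h1, h2⟩ := (Phi_eq_zero_iff a b f).mp hf
  have e : f = X 0 * X 1 * ofFn (fun i j => coeff (mk2 (i + 1) (j + 1)) f) +
      X 0 ^ a * ofFn (fun i j => if j = 0 then coeff (mk2 (i + a) 0) f else 0) +
      X 1 ^ b * ofFn (fun i j => if i = 0 then coeff (mk2 0 (j + b)) f else 0) := by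
    ext m
    rw [eq_mk2 m]
    generalize m 0 = i
    generalize m 1 = j
    rw [map_add, map_add, coeff_XY_mul, coeff_X0pow_mul, coeff_X1pow_mul]
    rcases Nat.eq_zero_or_pos j with hj | hj
    · subst hj
      have h3 : ¬ (1 ≤ i ∧ 1 ≤ 0) := by omega
      have h4 : ¬ (b ≤ 0) := by omega
      rw [if_neg h3, if_neg h4]
      by_cases hia : a ≤ i
      · rw [if_pos hia, coeff_ofFn, if_pos rfl]
        have e1 : i - a + a = i := by omega
        rw [e1]; ring
      · rw [if_neg hia, h1 i (by omega)]; ring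
    · rcases Nat.eq_zero_or_pos i with hi | hi
      · subst hi
        have h3 : ¬ (1 ≤ 0 ∧ 1 ≤ j) := by omega
        have h4 : ¬ (a ≤ 0) := by omega
        rw [if_neg h3, if_neg h4]
        by_cases hjb : b ≤ j
        · rw [if_pos hjb, coeff_ofFn, if_pos rfl]
          have e1 : j - b + b = j := by omega
          rw [e1]; ring
        · rw [if_neg hjb, h2 j hj (by omega)]; ring
      · rw [if_pos ⟨hi, hj⟩, coeff_ofFn]
        have e1 : i - 1 + 1 = i := by omega
        have e2 : j - 1 + 1 = j := by omega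
        rw [e1, e2]
        have h5 : (if a ≤ i then coeff (mk2 (i - a) j)
            (ofFn (fun i j => if j = 0 then coeff (mk2 (i + a) 0) f else 0)) else 0) = 0 := by
          split_ifs
          · rw [coeff_ofFn, if_neg (by omega)]
          · rfl
        have h6 : (if b ≤ j then coeff (mk2 i (j - b))
            (ofFn (fun i j => if i = 0 then coeff (mk2 0 (j + b)) f else 0)) else 0) = 0 := by
          split_ifs
          · rw [coeff_ofFn, if_neg (by omega)]
          · rfl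
        rw [h5, h6]; ring
  rw [e]
  unfold J0
  refine Ideal.add_mem _ (Ideal.add_mem _ ?_ ?_) ?_
  · exact Ideal.mul_mem_right _ _ (Ideal.subset_span (by simp))
  · exact Ideal.mul_mem_right _ _ (Ideal.subset_span (by simp))
  · exact Ideal.mul_mem_right _ _ (Ideal.subset_span (by simp))

theorem Phi_of_mem_J0 (a b : ℕ) (ha : 1 ≤ a) (hb : 1 ≤ b) (f : MvPowerSeries (Fin 2) k)
    (hf : f ∈ J0 (k := k) a b) : Phi a b f = 0 := by
  unfold J0 at hf
  rw [Ideal.mem_span_insert] at hf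
  obtain ⟨p, z, hz, rfl⟩ := hf
  rw [Ideal.mem_span_pair] at hz
  obtain ⟨q, r, rfl⟩ := hz
  rw [Phi_eq_zero_iff]
  constructor
  · intro i hi
    rw [map_add, map_add, mul_comm p, mul_comm q, mul_comm r, coeff_XY_mul, coeff_X0pow_mul,
      coeff_X1pow_mul, if_neg (by omega), if_neg (by omega), if_neg (by omega)]
    ring
  · intro j hj hjb
    rw [map_add, map_add, mul_comm p, mul_comm q, mul_comm r, coeff_XY_mul, coeff_X0pow_mul,
      coeff_X1pow_mul, if_neg (by omega), if_neg (by omega), if_neg (by omega)]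
    ring

theorem Phi_surjective (a b : ℕ) : Function.Surjective (Phi (k := k) a b) := by
  rintro ⟨α, β⟩
  refine ⟨ofFn (fun i j => if h : j = 0 ∧ i < a then α ⟨i, h.2⟩
    else if h' : i = 0 ∧ 1 ≤ j ∧ j < b then β ⟨j - 1, by omega⟩ else 0), ?_⟩
  refine Prod.ext ?_ ?_
  · funext i
    rw [Phi_fst, coeff_ofFn, dif_pos ⟨rfl, i.2⟩]
  · funext j
    have hj := j.2
    rw [Phi_snd, coeff_ofFn, dif_neg (by omega), dif_pos ⟨rfl, by omega, by omega⟩]
    congr 1

section Main
variable (J : Ideal (MvPowerSeries (Fin 2) k))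

theorem exists_pow_mem [Module.Finite k (MvPowerSeries (Fin 2) k ⧸ J)] (s : Fin 2) :
    ∃ N : ℕ, (X s : MvPowerSeries (Fin 2) k) ^ N ∈ J := by
  haveI : IsArtinianRing (MvPowerSeries (Fin 2) k ⧸ J) := IsArtinianRing.of_finite k _
  obtain ⟨N, c, hc⟩ := IsArtinian.exists_pow_succ_smul_dvd
    (Ideal.Quotient.mk J (X s)) (1 : MvPowerSeries (Fin 2) k ⧸ J)
  obtain ⟨g, rfl⟩ := Ideal.Quotient.mk_surjective c
  refine ⟨N, ?_⟩
  rw [smul_eq_mul, smul_eq_mul, mul_one, ← map_pow, ← map_pow, ← map_mul, Ideal.Quotient.eq] at hc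
  have hu : IsUnit (1 - X s * g : MvPowerSeries (Fin 2) k) := by
    rw [MvPowerSeries.isUnit_iff_constantCoeff]
    simp
  have e : (X s : MvPowerSeries (Fin 2) k) ^ N * (1 - X s * g) = - (X s ^ N.succ * g - X s ^ N) := by
    rw [Nat.succ_eq_add_one, pow_succ]; ring
  have h1 : (X s : MvPowerSeries (Fin 2) k) ^ N * (1 - X s * g) ∈ J := by
    rw [e]; exact J.neg_mem hc
  exact (Ideal.mul_unit_mem_iff_mem J hu).mp h1

theorem coeff_zero_of_mem (hJ : J ≠ ⊤) (f : MvPowerSeries (Fin 2) k) (hf : f ∈ J) :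
    coeff (mk2 0 0) f = 0 := by
  by_contra hne
  apply hJ
  have hu : IsUnit f := by
    rw [MvPowerSeries.isUnit_iff_constantCoeff, isUnit_iff_ne_zero]
    have e : mk2 0 0 = 0 := by simp [mk2]
    rw [e] at hne
    exact hne
  exact Ideal.eq_top_of_isUnit_mem J hf hu

theorem C_mul_mem (c : k) (hc : c ≠ 0) (g : MvPowerSeries (Fin 2) k) (h : C c * g ∈ J) : g ∈ J := by
  have hu : IsUnit (C c : MvPowerSeries (Fin 2) k) := (isUnit_iff_ne_zero.mpr hc).map C
  exact (Ideal.unit_mul_mem_iff_mem J hu).mp h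

theorem coeff_one' (i j : ℕ) : coeff (mk2 i j) (1 : MvPowerSeries (Fin 2) k) =
    if i = 0 ∧ j = 0 then 1 else 0 := by
  classical
  rw [MvPowerSeries.coeff_one]
  by_cases h : i = 0 ∧ j = 0
  · obtain ⟨rfl, rfl⟩ := h
    have e : mk2 0 0 = 0 := by simp [mk2]
    rw [if_pos e, if_pos ⟨rfl, rfl⟩]
  · rw [if_neg h, if_neg]
    intro e
    apply h
    constructor
    · have := DFunLike.congr_fun e 0
      rw [mk2_zero] at this; simpa using this
    · have := DFunLike.congr_fun e 1
      rw [mk2_one] at this; simpa using this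

theorem coeff_X0pow (a i j : ℕ) : coeff (mk2 i j) (X 0 ^ a : MvPowerSeries (Fin 2) k) =
    if i = a ∧ j = 0 then 1 else 0 := by
  have e : (X 0 ^ a : MvPowerSeries (Fin 2) k) = X 0 ^ a * 1 := by rw [mul_one]
  rw [e, coeff_X0pow_mul, coeff_one']
  by_cases h : a ≤ i
  · rw [if_pos h]
    by_cases h' : i = a ∧ j = 0
    · rw [if_pos h', if_pos ⟨by omega, h'.2⟩]
    · rw [if_neg h', if_neg]
      intro hh; apply h'; exact ⟨by omega, hh.2⟩
  · rw [if_neg h, if_neg]
    intro hh; omega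

theorem coeff_X1pow (b i j : ℕ) : coeff (mk2 i j) (X 1 ^ b : MvPowerSeries (Fin 2) k) =
    if i = 0 ∧ j = b then 1 else 0 := by
  have e : (X 1 ^ b : MvPowerSeries (Fin 2) k) = X 1 ^ b * 1 := by rw [mul_one]
  rw [e, coeff_X1pow_mul, coeff_one']
  by_cases h : b ≤ j
  · rw [if_pos h]
    by_cases h' : i = 0 ∧ j = b
    · rw [if_pos h', if_pos ⟨h'.1, by omega⟩]
    · rw [if_neg h', if_neg]
      intro hh; apply h'; exact ⟨hh.1, by omega⟩
  · rw [if_neg h, if_neg]
    intro hh; omega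

/-- vanishing of low `x`-coefficients of members of `J` -/
theorem low_x (a b : ℕ) (ha : 1 ≤ a) (hb : 1 ≤ b) (hJ0 : J0 a b ≤ J)
    (hamin : ∀ i, i < a → (X 0 : MvPowerSeries (Fin 2) k) ^ i ∉ J)
    (f : MvPowerSeries (Fin 2) k) (hf : f ∈ J) :
    ∀ i, i + 1 < a → coeff (mk2 i 0) f = 0 := by
  intro i
  induction i using Nat.strong_induction_on with
  | _ i ih =>
    intro hi
    by_contra hne
    obtain ⟨c, hc⟩ : ∃ c, c = coeff (mk2 i 0) f := ⟨_, rfl⟩
    obtain ⟨m, hm⟩ : ∃ m, m = a - 1 - i := ⟨_, rfl⟩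
    have hm1 : 1 ≤ m := by omega
    have hPhi : Phi a b (X 0 ^ m * f - C c * X 0 ^ (a - 1)) = 0 := by
      rw [Phi_eq_zero_iff]
      constructor
      · intro i' hi'
        rw [map_sub, coeff_X0pow_mul, coeff_C_mul, coeff_X0pow]
        by_cases h1 : i' = a - 1
        · have h2 : m ≤ i' := by omega
          have h3 : i' - m = i := by omega
          rw [if_pos h2, h3, if_pos ⟨h1, rfl⟩, ← hc]; ring
        · have h1' : ¬ (i' = a - 1 ∧ (0:ℕ) = 0) := fun hh => h1 hh.1
          rw [if_neg h1', mul_zero, sub_zero]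
          by_cases h2 : m ≤ i'
          · rw [if_pos h2]
            exact ih (i' - m) (by omega) (by omega)
          · rw [if_neg h2]
      · intro j hj hjb
        rw [map_sub, coeff_X0pow_mul, coeff_C_mul, coeff_X0pow, if_neg (by omega),
          if_neg (by omega), mul_zero, sub_zero]
    have h4 : X 0 ^ m * f - C c * X 0 ^ (a - 1) ∈ J :=
      hJ0 (mem_J0_of_Phi a b ha hb _ hPhi)
    have h5 : C c * X 0 ^ (a - 1) ∈ J := by
      have := J.sub_mem (J.mul_mem_left (X 0 ^ m) hf) h4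
      rwa [sub_sub_cancel] at this
    exact hamin (a - 1) (by omega) (C_mul_mem J c (by rw [hc]; exact hne) _ h5)

/-- vanishing of low `y`-coefficients of members of `J` -/
theorem low_y (a b : ℕ) (ha : 1 ≤ a) (hb : 1 ≤ b) (hJ0 : J0 a b ≤ J)
    (hbmin : ∀ j, j < b → (X 1 : MvPowerSeries (Fin 2) k) ^ j ∉ J)
    (f : MvPowerSeries (Fin 2) k) (hf : f ∈ J) :
    ∀ j, j + 1 < b → coeff (mk2 0 j) f = 0 := by
  intro j
  induction j using Nat.strong_induction_on with
  | _ j ih =>
    intro hj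
    by_contra hne
    obtain ⟨c, hc⟩ : ∃ c, c = coeff (mk2 0 j) f := ⟨_, rfl⟩
    obtain ⟨m, hm⟩ : ∃ m, m = b - 1 - j := ⟨_, rfl⟩
    have hm1 : 1 ≤ m := by omega
    have hPhi : Phi a b (X 1 ^ m * f - C c * X 1 ^ (b - 1)) = 0 := by
      rw [Phi_eq_zero_iff]
      constructor
      · intro i' hi'
        rw [map_sub, coeff_X1pow_mul, coeff_C_mul, coeff_X1pow, if_neg (by omega),
          if_neg (by omega), mul_zero, sub_zero]
      · intro j' hj' hj'b
        rw [map_sub, coeff_X1pow_mul, coeff_C_mul, coeff_X1pow]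
        by_cases h1 : j' = b - 1
        · have h2 : m ≤ j' := by omega
          have h3 : j' - m = j := by omega
          rw [if_pos h2, h3, if_pos ⟨rfl, h1⟩, ← hc]; ring
        · have h1' : ¬ ((0:ℕ) = 0 ∧ j' = b - 1) := fun hh => h1 hh.2
          rw [if_neg h1', mul_zero, sub_zero]
          by_cases h2 : m ≤ j'
          · rw [if_pos h2]
            exact ih (j' - m) (by omega) (by omega)
          · rw [if_neg h2]
    have h4 : X 1 ^ m * f - C c * X 1 ^ (b - 1) ∈ J :=
      hJ0 (mem_J0_of_Phi a b ha hb _ hPhi)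
    have h5 : C c * X 1 ^ (b - 1) ∈ J := by
      have := J.sub_mem (J.mul_mem_left (X 1 ^ m) hf) h4
      rwa [sub_sub_cancel] at this
    exact hbmin (b - 1) (by omega) (C_mul_mem J c (by rw [hc]; exact hne) _ h5)

/-- the unified coefficient computation -/
theorem U (a b : ℕ) (ha : 1 ≤ a) (hb : 1 ≤ b) (f : MvPowerSeries (Fin 2) k) (p q : k)
    (F1 : ∀ i, i + 1 < a → coeff (mk2 i 0) f = 0)
    (F2 : ∀ j, j + 1 < b → coeff (mk2 0 j) f = 0)
    (hp : coeff (mk2 (a - 1) 0) f = p) (hq0 : q = 0 ∨ 2 ≤ b)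
    (hq : b = 1 ∨ coeff (mk2 0 (b - 1)) f = q) :
    Phi a b (f - C p * X 0 ^ (a - 1) - C q * X 1 ^ (b - 1)) = 0 := by
  rw [Phi_eq_zero_iff]
  constructor
  · intro i hi
    rw [map_sub, map_sub, coeff_C_mul, coeff_C_mul, coeff_X0pow, coeff_X1pow]
    have e2 : q * (if i = 0 ∧ 0 = b - 1 then (1:k) else 0) = 0 := by
      rcases hq0 with rfl | h
      · rw [zero_mul]
      · rw [if_neg (by omega), mul_zero]
    rw [e2, sub_zero]
    by_cases h1 : i = a - 1
    · rw [if_pos ⟨h1, rfl⟩, h1, hp]; ring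
    · have h1' : ¬ (i = a - 1 ∧ (0:ℕ) = 0) := fun hh => h1 hh.1
      rw [if_neg h1', mul_zero, sub_zero]
      exact F1 i (by omega)
  · intro j hj hjb
    rw [map_sub, map_sub, coeff_C_mul, coeff_C_mul, coeff_X0pow, coeff_X1pow]
    have h0 : ¬ ((0:ℕ) = a - 1 ∧ j = 0) := by omega
    rw [if_neg h0, mul_zero, sub_zero]
    by_cases h1 : j = b - 1
    · rcases hq with hq | hq
      · omega
      · rw [if_pos ⟨rfl, h1⟩, h1, hq]; ring
    · have h1' : ¬ ((0:ℕ) = 0 ∧ j = b - 1) := fun hh => h1 hh.2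
      rw [if_neg h1', mul_zero, sub_zero]
      exact F2 j (by omega)

theorem finrank_quot (a b : ℕ) [Module.Finite k (MvPowerSeries (Fin 2) k ⧸ J)]
    (hker : ∀ f, Phi a b f = 0 → f ∈ J) :
    Module.finrank k (MvPowerSeries (Fin 2) k ⧸ J) +
      Module.finrank k (Submodule.map (Phi (k := k) a b) (J.restrictScalars k)) = a + (b - 1) := by
  set W := Submodule.map (Phi (k := k) a b) (J.restrictScalars k) with hW
  let ψ : MvPowerSeries (Fin 2) k →ₗ[k] (((Fin a → k) × (Fin (b - 1) → k)) ⧸ W) :=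
    W.mkQ ∘ₗ Phi a b
  have hsurj : Function.Surjective ψ := by
    intro v
    obtain ⟨w, rfl⟩ := W.mkQ_surjective v
    obtain ⟨f, rfl⟩ := Phi_surjective a b w
    exact ⟨f, rfl⟩
  have hk : LinearMap.ker ψ = J.restrictScalars k := by
    ext f
    rw [LinearMap.mem_ker]
    change W.mkQ (Phi a b f) = 0 ↔ _
    rw [Submodule.mkQ_apply, Submodule.Quotient.mk_eq_zero, hW, Submodule.mem_map]
    constructor
    · rintro ⟨h, hh, e⟩
      have h1 : Phi a b (f - h) = 0 := by rw [map_sub, e, sub_self]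
      have h2 := hker _ h1
      have e' : f = (f - h) + h := by ring
      rw [Submodule.restrictScalars_mem, e']
      exact J.add_mem h2 hh
    · intro hf
      exact ⟨f, hf, rfl⟩
  have e1 := ψ.quotKerEquivOfSurjective hsurj
  have e2 : (MvPowerSeries (Fin 2) k ⧸ J.restrictScalars k) ≃ₗ[k] (MvPowerSeries (Fin 2) k ⧸ J) :=
    Submodule.Quotient.restrictScalarsEquiv k J
  have e3 := Submodule.quotEquivOfEq _ _ hk
  have h3 : Module.finrank k (MvPowerSeries (Fin 2) k ⧸ J) =
      Module.finrank k (((Fin a → k) × (Fin (b - 1) → k)) ⧸ W) := by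
    rw [← e2.finrank_eq, ← e3.finrank_eq, e1.finrank_eq]
  rw [h3, Submodule.finrank_quotient_add_finrank, Module.finrank_prod, Module.finrank_fin_fun,
    Module.finrank_fin_fun]

end Main

theorem main (J : Ideal (MvPowerSeries (Fin 2) k))
    (hxy : (X 0 * X 1 : MvPowerSeries (Fin 2) k) ∈ J)
    [Module.Finite k (MvPowerSeries (Fin 2) k ⧸ J)] (n : ℕ)
    (hn : Module.finrank k (MvPowerSeries (Fin 2) k ⧸ J) = n) (h2 : 2 ≤ n) :
    ∃ a b : ℕ, 1 ≤ a ∧ 1 ≤ b ∧
      ((a + b = n + 1 ∧ J = Ideal.span {X 0 * X 1, X 0 ^ a, X 1 ^ b}) ∨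
       (a + b = n ∧ ∃ α : k, α ≠ 0 ∧
        J = Ideal.span {X 0 * X 1, X 0 ^ a + C α * X 1 ^ b})) := by
  classical
  have hJ : J ≠ ⊤ := by
    rintro rfl
    haveI : Subsingleton (MvPowerSeries (Fin 2) k ⧸ (⊤ : Ideal (MvPowerSeries (Fin 2) k))) :=
      Ideal.Quotient.subsingleton_iff.mpr rfl
    have := Module.finrank_zero_of_subsingleton (R := k)
      (M := MvPowerSeries (Fin 2) k ⧸ (⊤ : Ideal (MvPowerSeries (Fin 2) k)))
    omega
  obtain ⟨a, haJ, hamin⟩ : ∃ a, (X 0 : MvPowerSeries (Fin 2) k) ^ a ∈ J ∧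
      ∀ i, i < a → (X 0 : MvPowerSeries (Fin 2) k) ^ i ∉ J :=
    ⟨Nat.find (exists_pow_mem J 0), Nat.find_spec (exists_pow_mem J 0),
      fun i hi => Nat.find_min (exists_pow_mem J 0) hi⟩
  obtain ⟨b, hbJ, hbmin⟩ : ∃ b, (X 1 : MvPowerSeries (Fin 2) k) ^ b ∈ J ∧
      ∀ j, j < b → (X 1 : MvPowerSeries (Fin 2) k) ^ j ∉ J :=
    ⟨Nat.find (exists_pow_mem J 1), Nat.find_spec (exists_pow_mem J 1),
      fun j hj => Nat.find_min (exists_pow_mem J 1) hj⟩
  have ha : 1 ≤ a := by
    by_contra h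
    have h0 : a = 0 := by omega
    rw [h0, pow_zero] at haJ
    exact hJ ((Ideal.eq_top_iff_one J).mpr haJ)
  have hb : 1 ≤ b := by
    by_contra h
    have h0 : b = 0 := by omega
    rw [h0, pow_zero] at hbJ
    exact hJ ((Ideal.eq_top_iff_one J).mpr hbJ)
  have hJ0 : J0 a b ≤ J := by
    unfold J0
    rw [Ideal.span_le]
    intro z hz
    simp only [Set.mem_insert_iff, Set.mem_singleton_iff] at hz
    rcases hz with rfl | rfl | rfl
    · exact hxy
    · exact haJ
    · exact hbJ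
  have hker : ∀ f, Phi a b f = 0 → f ∈ J := fun f hf => hJ0 (mem_J0_of_Phi a b ha hb f hf)
  have F1 : ∀ f ∈ J, ∀ i, i + 1 < a → coeff (mk2 i 0) f = 0 :=
    fun f hf => low_x J a b ha hb hJ0 hamin f hf
  have F2 : ∀ f ∈ J, ∀ j, j + 1 < b → coeff (mk2 0 j) f = 0 :=
    fun f hf => low_y J a b ha hb hJ0 hbmin f hf
  have K2 : ∀ f ∈ J, (b = 1 ∨ coeff (mk2 0 (b - 1)) f = 0) → coeff (mk2 (a - 1) 0) f = 0 := by
    intro f hf hq
    by_contra hne
    have h1 := U a b ha hb f (coeff (mk2 (a - 1) 0) f) 0 (F1 f hf) (F2 f hf) rfl (Or.inl rfl) hq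
    rw [map_zero, zero_mul, sub_zero] at h1
    have h4 := hker _ h1
    have h5 : C (coeff (mk2 (a - 1) 0) f) * X 0 ^ (a - 1) ∈ J := by
      have := J.sub_mem hf h4
      rwa [sub_sub_cancel] at this
    exact hamin (a - 1) (by omega) (C_mul_mem J _ hne _ h5)
  have K3 : ∀ f ∈ J, 2 ≤ b → coeff (mk2 (a - 1) 0) f = 0 → coeff (mk2 0 (b - 1)) f = 0 := by
    intro f hf hb2 hp
    by_contra hne
    have h1 := U a b ha hb f 0 (coeff (mk2 0 (b - 1)) f) (F1 f hf) (F2 f hf) hp (Or.inr hb2)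
      (Or.inr rfl)
    rw [map_zero, zero_mul, sub_zero] at h1
    have h4 := hker _ h1
    have h5 : C (coeff (mk2 0 (b - 1)) f) * X 1 ^ (b - 1) ∈ J := by
      have := J.sub_mem hf h4
      rwa [sub_sub_cancel] at this
    exact hbmin (b - 1) (by omega) (C_mul_mem J _ hne _ h5)
  have K1 : ∀ f ∈ J, coeff (mk2 (a - 1) 0) f = 0 → Phi a b f = 0 := by
    intro f hf hp
    have hq : b = 1 ∨ coeff (mk2 0 (b - 1)) f = 0 := by
      rcases Nat.lt_or_ge b 2 with h | h
      · left; omega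
      · right; exact K3 f hf h hp
    have h1 := U a b ha hb f 0 0 (F1 f hf) (F2 f hf) hp (Or.inl rfl) hq
    rwa [map_zero, zero_mul, sub_zero, zero_mul, sub_zero] at h1
  have hfr := finrank_quot J a b hker
  rw [hn] at hfr
  by_cases hA : ∀ f ∈ J, Phi a b f = 0
  · -- case A
    refine ⟨a, b, ha, hb, Or.inl ⟨?_, ?_⟩⟩
    · have hW : Submodule.map (Phi (k := k) a b) (J.restrictScalars k) = ⊥ := by
        rw [eq_bot_iff]
        rintro _ ⟨f, hf, rfl⟩
        rw [Submodule.mem_bot]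
        exact hA f hf
      rw [hW, finrank_bot] at hfr
      omega
    · apply le_antisymm
      · intro f hf
        exact mem_J0_of_Phi a b ha hb f (hA f hf)
      · exact hJ0
  · -- case B
    push_neg at hA
    obtain ⟨f, hf, hfne⟩ := hA
    have hl : coeff (mk2 (a - 1) 0) f ≠ 0 := fun h => hfne (K1 f hf h)
    have hbm : 2 ≤ b ∧ coeff (mk2 0 (b - 1)) f ≠ 0 := by
      by_contra h
      apply hl
      apply K2 f hf
      rcases Nat.lt_or_ge b 2 with h' | h'
      · left; omega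
      · right
        by_contra h''
        exact h ⟨h', h''⟩
    obtain ⟨hb2, hm⟩ := hbm
    have ha2 : 2 ≤ a := by
      by_contra h
      have h1 : a = 1 := by omega
      apply hl
      rw [h1]
      exact coeff_zero_of_mem J hJ f hf
    obtain ⟨l, hldef⟩ : ∃ l, l = coeff (mk2 (a - 1) 0) f := ⟨_, rfl⟩
    obtain ⟨m, hmdef⟩ : ∃ m, m = coeff (mk2 0 (b - 1)) f := ⟨_, rfl⟩
    rw [← hldef] at hl
    rw [← hmdef] at hm
    obtain ⟨g, hg⟩ : ∃ g : MvPowerSeries (Fin 2) k,
      g = X 0 ^ (a - 1) + C (m / l) * X 1 ^ (b - 1) := ⟨_, rfl⟩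
    have hgJ : g ∈ J := by
      have h1 := U a b ha hb f l m (F1 f hf) (F2 f hf) hldef.symm (Or.inr hb2)
        (Or.inr hmdef.symm)
      have h4 := hker _ h1
      have e : C l * g = f - (f - C l * X 0 ^ (a - 1) - C m * X 1 ^ (b - 1)) := by
        have e1 : (C m : MvPowerSeries (Fin 2) k) = C l * C (m / l) := by
          rw [← map_mul, mul_div_cancel₀ _ hl]
        rw [hg, e1]; ring
      have h5 : C l * g ∈ J := by rw [e]; exact J.sub_mem hf h4
      exact C_mul_mem J l hl g h5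
    have hg1 : coeff (mk2 (a - 1) 0) g = 1 := by
      rw [hg, map_add, coeff_C_mul, coeff_X0pow, coeff_X1pow, if_pos ⟨rfl, rfl⟩,
        if_neg (by omega)]
      ring
    have hred : ∀ h ∈ J, Phi a b (h - C (coeff (mk2 (a - 1) 0) h) * g) = 0 := by
      intro h hh
      apply K1 _ (J.sub_mem hh (J.mul_mem_left _ hgJ))
      rw [map_sub, coeff_C_mul, hg1]; ring
    have hα : m / l ≠ 0 := div_ne_zero hm hl
    refine ⟨a - 1, b - 1, by omega, by omega, Or.inr ⟨?_, m / l, hα, ?_⟩⟩
    · have hW : Submodule.map (Phi (k := k) a b) (J.restrictScalars k) = k ∙ (Phi a b g) := by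
        apply le_antisymm
        · rintro _ ⟨h, hh, rfl⟩
          rw [Submodule.mem_span_singleton]
          refine ⟨coeff (mk2 (a - 1) 0) h, ?_⟩
          have := hred h hh
          rw [map_sub, sub_eq_zero] at this
          rw [this, ← MvPowerSeries.smul_eq_C_mul, map_smul]
        · rw [Submodule.span_singleton_le_iff_mem]
          exact ⟨g, hgJ, rfl⟩
      have hne : Phi a b g ≠ 0 := by
        intro h0
        have := ((Phi_eq_zero_iff a b g).mp h0).1 (a - 1) (by omega)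
        rw [hg1] at this
        exact one_ne_zero this
      rw [hW, finrank_span_singleton hne] at hfr
      omega
    · rw [← hg]
      apply le_antisymm
      · intro h hh
        have h1 := mem_J0_of_Phi a b ha hb _ (hred h hh)
        have hJ0g : J0 (k := k) a b ≤ Ideal.span {X 0 * X 1, g} := by
          unfold J0
          rw [Ideal.span_le]
          intro z hz
          simp only [Set.mem_insert_iff, Set.mem_singleton_iff] at hz
          rcases hz with rfl | rfl | rfl
          · exact Ideal.subset_span (by simp)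
          · have e : (X 0 ^ a : MvPowerSeries (Fin 2) k) =
                X 0 * g - C (m / l) * X 1 ^ (b - 2) * (X 0 * X 1) := by
              have ea : a = (a - 1) + 1 := by omega
              have eb : b - 1 = (b - 2) + 1 := by omega
              rw [hg, eb]
              conv_lhs => rw [ea]
              ring
            rw [e, SetLike.mem_coe]
            exact Ideal.sub_mem _ (Ideal.mul_mem_left _ _ (Ideal.subset_span (by simp)))
              (Ideal.mul_mem_left _ _ (Ideal.subset_span (by simp)))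
          · have e : (X 1 ^ b : MvPowerSeries (Fin 2) k) =
                C (m / l)⁻¹ * (X 1 * g - X 0 ^ (a - 2) * (X 0 * X 1)) := by
              have ea : a - 1 = (a - 2) + 1 := by omega
              have eb : b = (b - 1) + 1 := by omega
              have e1 : (C (m / l)⁻¹ : MvPowerSeries (Fin 2) k) * C (m / l) = 1 := by
                rw [← map_mul, inv_mul_cancel₀ hα, map_one]
              rw [hg, ea]
              conv_lhs => rw [eb]
              have e2 : (X 1 * (X 0 ^ (a - 2 + 1) + C (m / l) * X 1 ^ (b - 1)) -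
                  X 0 ^ (a - 2) * (X 0 * X 1) : MvPowerSeries (Fin 2) k) =
                  C (m / l) * X 1 ^ (b - 1 + 1) := by ring
              rw [e2, ← mul_assoc, e1, one_mul]
            rw [e, SetLike.mem_coe]
            exact Ideal.mul_mem_left _ _ (Ideal.sub_mem _
              (Ideal.mul_mem_left _ _ (Ideal.subset_span (by simp)))
              (Ideal.mul_mem_left _ _ (Ideal.subset_span (by simp))))
        have e : h = (h - C (coeff (mk2 (a - 1) 0) h) * g) +
            C (coeff (mk2 (a - 1) 0) h) * g := by ring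
        rw [e]
        exact Ideal.add_mem _ (hJ0g h1) (Ideal.mul_mem_left _ _ (Ideal.subset_span (by simp)))
      · rw [Ideal.span_le]
        intro z hz
        simp only [Set.mem_insert_iff, Set.mem_singleton_iff] at hz
        rcases hz with rfl | rfl
        · exact hxy
        · exact hgJ

end Groth.Agent.H21.NodeIdl
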