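import Mathlib
import Groth.Prelude.Def_W4c5spincurvestfNode
import Groth.Agent.H21.NodeFree

set_option autoImplicit false
universe u
open LaurentPolynomial

namespace Groth.Agent.H21.NodeKer
open Groth.Agent.H21.NodeFree

variable {R : Type u} [CommRing R] (p q : R)
  (gU : SpinCurv.PolyNodeRing R q →ₐ[R] LaurentPolynomial R)
  (hgUs : gU (SpinCurv.PolyNodeRing.x R q) = T 1)
  (hgUy : gU (SpinCurv.PolyNodeRing.y R q) = C q * T (-1))
  (gV : SpinCurv.PolyNodeRing R p →ₐ[R] LaurentPolynomial R)
  (hgVt : gV (SpinCurv.PolyNodeRing.x R p) = T (-1))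
  (hgVx : gV (SpinCurv.PolyNodeRing.y R p) = C p * T 1)
  (n : ℤ) (hn : -1 ≤ n)

/-- coefficient factor -/
def wt (π : R) (k : ℤ) : R := if 0 ≤ k then 1 else π ^ (-k).toNat

theorem wt_nonneg (π : R) {k : ℤ} (hk : 0 ≤ k) : wt π k = 1 := if_pos hk

include hgUs hgUy in
theorem gU_gen (k : ℤ) : gU (gen q k) = wt q k • T k := by
  unfold gen wt
  by_cases hk : 0 ≤ k
  · rw [if_pos hk, if_pos hk, map_pow, hgUs, T_pow, one_smul]
    congr 1; omega
  · rw [if_neg hk, if_neg hk, map_pow, hgUy, mul_pow, ← map_pow, T_pow, smul_eq_C_mul]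
    congr 2; omega

include hgVt hgVx in
theorem gV_gen (j : ℤ) : T n * gV (gen p j) = wt p j • T (n - j) := by
  unfold gen wt
  by_cases hj : 0 ≤ j
  · rw [if_pos hj, if_pos hj, map_pow, hgVt, T_pow, one_smul, ← T_add]
    congr 1; omega
  · rw [if_neg hj, if_neg hj, map_pow, hgVx, mul_pow, ← map_pow, T_pow, smul_eq_C_mul,
      mul_left_comm, ← T_add]
    congr 2; omega

/-- the difference map of the statement -/
noncomputable def D : (SpinCurv.PolyNodeRing R q × SpinCurv.PolyNodeRing R p) →ₗ[R]
    LaurentPolynomial R :=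
  gU.toLinearMap.comp (LinearMap.fst R (SpinCurv.PolyNodeRing R q) (SpinCurv.PolyNodeRing R p)) -
    (LinearMap.mulLeft R (LaurentPolynomial.T n)).comp
      (gV.toLinearMap.comp (LinearMap.snd R (SpinCurv.PolyNodeRing R q) (SpinCurv.PolyNodeRing R p)))

theorem D_apply (g : SpinCurv.PolyNodeRing R q) (f : SpinCurv.PolyNodeRing R p) :
    D p q gU gV n (g, f) = gU g - T n * gV f := rfl

include hgUs hgUy in
theorem coeff_gU (l : ℤ →₀ R) (k : ℤ) : (gU (Phi q l)).coeff k = wt q k * l k := by
  induction l using Finsupp.induction_linear with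
  | zero => simp
  | add f g hf hg =>
    rw [map_add, map_add, AddMonoidAlgebra.coeff_add, Finsupp.add_apply, hf, hg, Finsupp.add_apply,
      mul_add]
  | single j r =>
    rw [Phi_single, map_smul, gU_gen q gU hgUs hgUy, AddMonoidAlgebra.coeff_smul_apply,
      AddMonoidAlgebra.coeff_smul_apply, T_apply, Finsupp.single_apply]
    by_cases hjk : j = k
    · subst hjk; simp [mul_comm]
    · simp [hjk]

include hgVt hgVx in
theorem coeff_gV (l : ℤ →₀ R) (k : ℤ) :
    (T n * gV (Phi p l)).coeff k = wt p (n - k) * l (n - k) := by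
  induction l using Finsupp.induction_linear with
  | zero => simp
  | add f g hf hg =>
    rw [map_add, map_add, mul_add, AddMonoidAlgebra.coeff_add, Finsupp.add_apply, hf, hg,
      Finsupp.add_apply, mul_add]
  | single j r =>
    rw [Phi_single, map_smul, mul_smul_comm, gV_gen p gV hgVt hgVx n,
      AddMonoidAlgebra.coeff_smul_apply, AddMonoidAlgebra.coeff_smul_apply, T_apply,
      Finsupp.single_apply]
    by_cases hjk : j = n - k
    · subst hjk
      have : n - (n - k) = k := by ring
      simp [this, mul_comm]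
    · have : ¬ n - j = k := fun h => hjk (by omega)
      simp [hjk, this]

/-- coefficients of the basis vectors -/
def c1 (k : ℤ) : R := if 0 ≤ k then wt p (n - k) else 1
def c2 (k : ℤ) : R := if 0 ≤ k then 1 else wt q k

/-- the basis vectors of the kernel -/
noncomputable def bvec (k : ℤ) : SpinCurv.PolyNodeRing R q × SpinCurv.PolyNodeRing R p :=
  (c1 p n k • gen q k, c2 q k • gen p (n - k))

noncomputable def iota : (ℤ →₀ R) →ₗ[R] SpinCurv.PolyNodeRing R q × SpinCurv.PolyNodeRing R p :=
  Finsupp.linearCombination R (bvec p q n)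

theorem iota_single (k : ℤ) (r : R) : iota p q n (Finsupp.single k r) = r • bvec p q n k :=
  Finsupp.linearCombination_single R r k

theorem coord1 (h : ℤ →₀ R) (k : ℤ) : Psi q (iota p q n h).1 k = c1 p n k * h k := by
  induction h using Finsupp.induction_linear with
  | zero => simp
  | add f g hf hg =>
    rw [map_add, Prod.fst_add, map_add, Finsupp.add_apply, hf, hg, Finsupp.add_apply, mul_add]
  | single j r =>
    rw [iota_single]
    change Psi q (r • (c1 p n j • gen q j)) k = _
    rw [map_smul, map_smul, Psi_gen, Finsupp.smul_apply, Finsupp.smul_apply, Finsupp.single_apply,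
      Finsupp.single_apply]
    by_cases hjk : j = k
    · subst hjk; simp [mul_comm]
    · simp [hjk]

theorem coord2 (h : ℤ →₀ R) (k : ℤ) : Psi p (iota p q n h).2 (n - k) = c2 q k * h k := by
  induction h using Finsupp.induction_linear with
  | zero => simp
  | add f g hf hg =>
    rw [map_add, Prod.snd_add, map_add, Finsupp.add_apply, hf, hg, Finsupp.add_apply, mul_add]
  | single j r =>
    rw [iota_single]
    change Psi p (r • (c2 q j • gen p (n - j))) (n - k) = _
    rw [map_smul, map_smul, Psi_gen, Finsupp.smul_apply, Finsupp.smul_apply, Finsupp.single_apply,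
      Finsupp.single_apply]
    by_cases hjk : j = k
    · subst hjk; simp [mul_comm]
    · have : ¬ n - j = n - k := fun h => hjk (by omega)
      simp [hjk, this]

include hgUs hgUy hgVt hgVx hn in
theorem D_bvec (k : ℤ) : D p q gU gV n (bvec p q n k) = 0 := by
  unfold bvec
  rw [D_apply, map_smul, map_smul, gU_gen q gU hgUs hgUy, mul_smul_comm,
    gV_gen p gV hgVt hgVx n]
  have e : n - (n - k) = k := by ring
  rw [e, smul_smul, smul_smul, sub_eq_zero]
  congr 1
  unfold c1 c2
  by_cases hk : 0 ≤ k
  · rw [if_pos hk, if_pos hk, wt_nonneg q hk, mul_one, one_mul]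
  · rw [if_neg hk, if_neg hk, one_mul, wt_nonneg p (by omega : 0 ≤ n - k), mul_one]

include hgUs hgUy hgVt hgVx hn in
theorem D_iota (h : ℤ →₀ R) : D p q gU gV n (iota p q n h) = 0 := by
  induction h using Finsupp.induction_linear with
  | zero => simp
  | add f g hf hg => rw [map_add, map_add, hf, hg, add_zero]
  | single j r => rw [iota_single, map_smul, D_bvec p q gU hgUs hgUy gV hgVt hgVx n hn, smul_zero]

include hn in
theorem iota_injective : Function.Injective (iota p q n) := by
  rw [injective_iff_map_eq_zero]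
  intro h hh
  ext k
  have h1 := coord1 p q n h k
  have h2 := coord2 p q n h k
  rw [hh] at h1 h2
  simp only [Prod.fst_zero, Prod.snd_zero, map_zero, Finsupp.zero_apply] at h1 h2
  unfold c1 at h1
  unfold c2 at h2
  by_cases hk : 0 ≤ k
  · rw [if_pos hk, one_mul] at h2
    rw [← h2]; rfl
  · rw [if_neg hk, one_mul] at h1
    rw [← h1]; rfl

include hgUs hgUy hgVt hgVx hn in
theorem range_iota : LinearMap.range (iota p q n) = LinearMap.ker (D p q gU gV n) := by
  classical
  apply le_antisymm
  · rintro _ ⟨h, rfl⟩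
    exact D_iota p q gU hgUs hgUy gV hgVt hgVx n hn h
  · rintro ⟨g, f⟩ hgf
    rw [LinearMap.mem_ker, D_apply, sub_eq_zero] at hgf
    obtain ⟨G, hG⟩ : ∃ G : ℤ →₀ R, G = Psi q g := ⟨_, rfl⟩
    obtain ⟨F, hF⟩ : ∃ F : ℤ →₀ R, F = Psi p f := ⟨_, rfl⟩
    have hg : g = Phi q G := by rw [hG, Phi_Psi]
    have hf : f = Phi p F := by rw [hF, Phi_Psi]
    have hcond : ∀ k, wt q k * G k = wt p (n - k) * F (n - k) := by
      intro k
      rw [← coeff_gU q gU hgUs hgUy G k, ← coeff_gV p gV hgVt hgVx n F k, ← hg, ← hf, hgf]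
    obtain ⟨h, hh⟩ : ∃ h : ℤ →₀ R, ∀ k, h k = if 0 ≤ k then F (n - k) else G k := by
      refine ⟨(F.equivMapDomain (Equiv.subLeft n)).filter (fun k => 0 ≤ k) +
        G.filter (fun k => ¬ 0 ≤ k), fun k => ?_⟩
      rw [Finsupp.add_apply, Finsupp.filter_apply, Finsupp.filter_apply,
        Finsupp.equivMapDomain_apply]
      have e : (Equiv.subLeft n).symm k = n - k := by
        simp [Equiv.subLeft, sub_eq_add_neg, add_comm]
      rw [e]
      by_cases hk : 0 ≤ k
      · simp [hk]
      · simp [hk]
    refine ⟨h, ?_⟩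
    refine Prod.ext ?_ ?_
    · apply (equiv q).injective
      change Psi q (iota p q n h).1 = Psi q g
      ext k
      rw [coord1, ← hG, hh]
      unfold c1
      by_cases hk : 0 ≤ k
      · rw [if_pos hk, if_pos hk, ← hcond, wt_nonneg q hk, one_mul]
      · rw [if_neg hk, if_neg hk, one_mul]
    · apply (equiv p).injective
      change Psi p (iota p q n h).2 = Psi p f
      ext j
      have e : j = n - (n - j) := by ring
      rw [e, coord2, ← hF, hh]
      unfold c2
      by_cases hk : 0 ≤ n - j
      · rw [if_pos hk, if_pos hk, one_mul]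
      · rw [if_neg hk, if_neg hk, hcond, wt_nonneg p (by omega : 0 ≤ n - (n - j)), one_mul]

include hgUs hgUy hgVt hgVx hn in
theorem main : Module.Free R (LinearMap.ker (D p q gU gV n)) := by
  have e1 : (ℤ →₀ R) ≃ₗ[R] LinearMap.range (iota p q n) :=
    LinearEquiv.ofInjective (iota p q n) (iota_injective p q n hn)
  have e2 : LinearMap.range (iota p q n) ≃ₗ[R] LinearMap.ker (D p q gU gV n) :=
    LinearEquiv.ofEq _ _ (range_iota p q gU hgUs hgUy gV hgVt hgVx n hn)
  exact Module.Free.of_equiv (e1.trans e2)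

end Groth.Agent.H21.NodeKer
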