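import Mathlib
import Groth.Prelude.Def_W4c5spincurvestfNode

set_option autoImplicit false
universe u

open MvPowerSeries Finsupp

namespace H21.NodeQuot

variable (k : Type u) [Field k]

local notation "P" => MvPowerSeries (Fin 2) k

/-- exponent vectors -/
noncomputable def n1 : Fin 2 →₀ ℕ := single 0 1 + single 1 1

lemma n1_le (m : Fin 2 →₀ ℕ) : n1 ≤ m ↔ 1 ≤ m 0 ∧ 1 ≤ m 1 := by
  rw [Finsupp.le_def, Fin.forall_fin_two]
  simp [n1]

lemma single0_le (u : ℕ) (m : Fin 2 →₀ ℕ) : single 0 u ≤ m ↔ u ≤ m 0 := by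
  rw [Finsupp.le_def, Fin.forall_fin_two]
  simp

lemma single1_le (v : ℕ) (m : Fin 2 →₀ ℕ) : single 1 v ≤ m ↔ v ≤ m 1 := by
  rw [Finsupp.le_def, Fin.forall_fin_two]
  simp

lemma eq_single0 (m : Fin 2 →₀ ℕ) (h : m 1 = 0) : m = single 0 (m 0) := by
  ext i
  fin_cases i
  · simp
  · simp [h]

lemma eq_single1 (m : Fin 2 →₀ ℕ) (h : m 0 = 0) : m = single 1 (m 1) := by
  ext i
  fin_cases i
  · simp [h]
  · simp

variable (u v : ℕ)

/-- the coefficient map to `k^u × k^(v-1)` -/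
noncomputable def Φ : P →ₗ[k] (Fin u → k) × (Fin (v - 1) → k) :=
  LinearMap.prod
    (LinearMap.pi (fun i : Fin u => MvPowerSeries.coeff (R := k) (single (0 : Fin 2) (i : ℕ))))
    (LinearMap.pi (fun j : Fin (v - 1) =>
      MvPowerSeries.coeff (R := k) (single (1 : Fin 2) ((j : ℕ) + 1))))

lemma Φ_fst (f : P) (i : Fin u) :
    (Φ k u v f).1 i = MvPowerSeries.coeff (single (0 : Fin 2) (i : ℕ)) f := rfl

lemma Φ_snd (f : P) (j : Fin (v - 1)) :
    (Φ k u v f).2 j = MvPowerSeries.coeff (single (1 : Fin 2) ((j : ℕ) + 1)) f := rfl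

lemma mem_ker_Φ (f : P) : f ∈ LinearMap.ker (Φ k u v) ↔
    (∀ i : ℕ, i < u → MvPowerSeries.coeff (single (0 : Fin 2) i) f = 0) ∧
    (∀ j : ℕ, 1 ≤ j → j < v → MvPowerSeries.coeff (single (1 : Fin 2) j) f = 0) := by
  rw [LinearMap.mem_ker, Prod.ext_iff]
  constructor
  · rintro ⟨h1, h2⟩
    refine ⟨fun i hi => ?_, fun j hj1 hj => ?_⟩
    · have := congrFun h1 ⟨i, hi⟩
      rwa [Φ_fst] at this
    · have := congrFun h2 ⟨j - 1, by omega⟩
      rw [Φ_snd] at this
      simp only [Prod.snd_zero, Pi.zero_apply] at this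
      rwa [Nat.sub_add_cancel hj1] at this
  · rintro ⟨h1, h2⟩
    refine ⟨funext fun i => ?_, funext fun j => ?_⟩
    · rw [Φ_fst]
      exact h1 i i.2
    · rw [Φ_snd]
      exact h2 _ (by omega) (by omega)

lemma Φ_surjective : Function.Surjective (Φ k u v) := by
  classical
  rintro ⟨α, β⟩
  refine ⟨∑ i : Fin u, MvPowerSeries.monomial (single (0 : Fin 2) (i : ℕ)) (α i) +
    ∑ j : Fin (v - 1), MvPowerSeries.monomial (single (1 : Fin 2) ((j : ℕ) + 1)) (β j), ?_⟩
  refine Prod.ext (funext fun i => ?_) (funext fun j => ?_)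
  · rw [Φ_fst]
    simp only [map_add, map_sum, MvPowerSeries.coeff_monomial]
    rw [Finset.sum_eq_single i, if_pos rfl, Finset.sum_eq_zero, add_zero]
    · intro j _
      rw [if_neg]
      intro h
      have := DFunLike.congr_fun h (1 : Fin 2)
      simp at this
    · intro i' _ hi'
      rw [if_neg]
      intro h
      apply hi'
      have := DFunLike.congr_fun h (0 : Fin 2)
      simp only [single_eq_same] at this
      exact (Fin.ext this).symm
    · intro h
      exact absurd (Finset.mem_univ _) h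
  · rw [Φ_snd]
    simp only [map_add, map_sum, MvPowerSeries.coeff_monomial]
    rw [Finset.sum_eq_zero, zero_add, Finset.sum_eq_single j, if_pos rfl]
    · intro j' _ hj'
      rw [if_neg]
      intro h
      apply hj'
      have := DFunLike.congr_fun h (1 : Fin 2)
      simp only [single_eq_same] at this
      exact (Fin.ext (by omega)).symm
    · intro h
      exact absurd (Finset.mem_univ _) h
    · intro i _
      rw [if_neg]
      intro h
      have := DFunLike.congr_fun h (1 : Fin 2)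
      simp at this

variable (w : k)

lemma g1_eq : (MvPowerSeries.X 0 * MvPowerSeries.X 1 - MvPowerSeries.C (0 : k) : P) =
    MvPowerSeries.monomial n1 1 := by
  rw [map_zero, sub_zero, MvPowerSeries.X_def, MvPowerSeries.X_def,
    MvPowerSeries.monomial_mul_monomial, mul_one]
  rfl

lemma g2_eq : (MvPowerSeries.X 0 ^ u : P) = MvPowerSeries.monomial (single 0 u) 1 :=
  MvPowerSeries.X_pow_eq 0 u

lemma g3_eq : (MvPowerSeries.C w * MvPowerSeries.X 1 ^ v : P) =
    MvPowerSeries.monomial (single 1 v) w := by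
  rw [MvPowerSeries.X_pow_eq, ← MvPowerSeries.monomial_zero_eq_C_apply,
    MvPowerSeries.monomial_mul_monomial, mul_one, zero_add]

/-- the ideal `(xy, x^u, w y^v)` -/
noncomputable def K : Ideal P :=
  Ideal.span {MvPowerSeries.X 0 * MvPowerSeries.X 1 - MvPowerSeries.C (0 : k)} ⊔
    Ideal.span {MvPowerSeries.X 0 ^ u, MvPowerSeries.C w * MvPowerSeries.X 1 ^ v}

lemma mem_K (f : P) : f ∈ K k u v w ↔ ∃ a b c : P,
    f = a * MvPowerSeries.monomial n1 1 + (b * MvPowerSeries.monomial (single 0 u) 1 +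
      c * MvPowerSeries.monomial (single 1 v) w) := by
  unfold K
  rw [g1_eq, g2_eq, g3_eq, ← Ideal.span_union, Set.singleton_union, Ideal.mem_span_insert]
  constructor
  · rintro ⟨a, z, hz, rfl⟩
    obtain ⟨b, c, rfl⟩ := Ideal.mem_span_pair.mp hz
    exact ⟨a, b, c, rfl⟩
  · rintro ⟨a, b, c, rfl⟩
    exact ⟨a, _, Ideal.mem_span_pair.mpr ⟨b, c, rfl⟩, rfl⟩

/-- a power series from its coefficient function -/
def mkP (g : (Fin 2 →₀ ℕ) → k) : P := g

lemma coeff_mkP (g : (Fin 2 →₀ ℕ) → k) (d : Fin 2 →₀ ℕ) :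
    MvPowerSeries.coeff d (mkP k g) = g d := rfl

lemma coeff_t1 (f : P) (m : Fin 2 →₀ ℕ) :
    MvPowerSeries.coeff m (mkP k (fun d => MvPowerSeries.coeff (d + n1) f) *
      MvPowerSeries.monomial n1 1) = if 1 ≤ m 0 ∧ 1 ≤ m 1 then MvPowerSeries.coeff m f else 0 := by
  classical
  rw [MvPowerSeries.coeff_mul_monomial, coeff_mkP, mul_one]
  by_cases h : n1 ≤ m
  · rw [if_pos h, if_pos ((n1_le m).mp h), tsub_add_cancel_of_le h]
  · rw [if_neg h, if_neg (fun h' => h ((n1_le m).mpr h'))]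

lemma coeff_t2 (f : P) (m : Fin 2 →₀ ℕ) :
    MvPowerSeries.coeff m (mkP k (fun d => if d 1 = 0 then
        MvPowerSeries.coeff (d + single 0 u) f else 0) *
      MvPowerSeries.monomial (single 0 u) 1) =
      if u ≤ m 0 ∧ m 1 = 0 then MvPowerSeries.coeff m f else 0 := by
  classical
  rw [MvPowerSeries.coeff_mul_monomial, coeff_mkP, mul_one]
  have hm : (m - single (0 : Fin 2) u) 1 = m 1 := by simp
  rw [hm]
  by_cases h : single 0 u ≤ m
  · rw [if_pos h, tsub_add_cancel_of_le h]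
    have h' := (single0_le u m).mp h
    by_cases h1 : m 1 = 0
    · rw [if_pos h1, if_pos ⟨h', h1⟩]
    · rw [if_neg h1, if_neg (fun hh => h1 hh.2)]
  · rw [if_neg h, if_neg (fun hh => h ((single0_le u m).mpr hh.1))]

lemma coeff_t3 (hw : w ≠ 0) (f : P) (m : Fin 2 →₀ ℕ) :
    MvPowerSeries.coeff m (mkP k (fun d => if d 0 = 0 then
        MvPowerSeries.coeff (d + single 1 v) f * w⁻¹ else 0) *
      MvPowerSeries.monomial (single 1 v) w) =
      if v ≤ m 1 ∧ m 0 = 0 then MvPowerSeries.coeff m f else 0 := by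
  classical
  rw [MvPowerSeries.coeff_mul_monomial, coeff_mkP]
  have hm : (m - single (1 : Fin 2) v) 0 = m 0 := by simp
  rw [hm]
  by_cases h : single 1 v ≤ m
  · rw [if_pos h, tsub_add_cancel_of_le h]
    have h' := (single1_le v m).mp h
    by_cases h1 : m 0 = 0
    · rw [if_pos h1, if_pos ⟨h', h1⟩, mul_assoc, inv_mul_cancel₀ hw, mul_one]
    · rw [if_neg h1, if_neg (fun hh => h1 hh.2), zero_mul]
  · rw [if_neg h, if_neg (fun hh => h ((single1_le v m).mpr hh.1))]

lemma K_eq_ker (hu : 1 ≤ u) (hv : 1 ≤ v) (hw : w ≠ 0) (f : P) :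
    f ∈ K k u v w ↔ f ∈ LinearMap.ker (Φ k u v) := by
  classical
  rw [mem_K, mem_ker_Φ]
  constructor
  · rintro ⟨a, b, c, rfl⟩
    refine ⟨fun i hi => ?_, fun j hj1 hj => ?_⟩
    · simp only [map_add, MvPowerSeries.coeff_mul_monomial, n1_le, single0_le, single1_le]
      simp only [single_eq_same]
      have e1 : ¬ (1 ≤ i ∧ 1 ≤ (single (0 : Fin 2) i) 1) := by simp
      have e2 : ¬ u ≤ i := by omega
      have e3 : ¬ v ≤ (single (0 : Fin 2) i) 1 := by simp; omega
      rw [if_neg e1, if_neg e2, if_neg e3, add_zero, add_zero]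
    · simp only [map_add, MvPowerSeries.coeff_mul_monomial, n1_le, single0_le, single1_le]
      simp only [single_eq_same]
      have e1 : ¬ (1 ≤ (single (1 : Fin 2) j) 0 ∧ 1 ≤ j) := by simp
      have e2 : ¬ u ≤ (single (1 : Fin 2) j) 0 := by simp; omega
      have e3 : ¬ v ≤ j := by omega
      rw [if_neg e1, if_neg e2, if_neg e3, add_zero, add_zero]
  · rintro ⟨h1, h2⟩
    refine ⟨mkP k (fun d => MvPowerSeries.coeff (d + n1) f),
      mkP k (fun d => if d 1 = 0 then MvPowerSeries.coeff (d + single 0 u) f else 0),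
      mkP k (fun d => if d 0 = 0 then MvPowerSeries.coeff (d + single 1 v) f * w⁻¹ else 0), ?_⟩
    ext m
    rw [map_add, map_add, coeff_t1, coeff_t2, coeff_t3 k v w hw]
    by_cases hm1 : m 1 = 0
    · have hm := eq_single0 m hm1
      rw [if_neg (show ¬ (1 ≤ m 0 ∧ 1 ≤ m 1) by omega),
        if_neg (show ¬ (v ≤ m 1 ∧ m 0 = 0) by omega), zero_add, add_zero]
      by_cases hu' : u ≤ m 0
      · rw [if_pos ⟨hu', hm1⟩]
      · rw [if_neg (fun hh => hu' hh.1), hm]
        exact h1 _ (by omega)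
    · by_cases hm0 : m 0 = 0
      · have hm := eq_single1 m hm0
        rw [if_neg (show ¬ (1 ≤ m 0 ∧ 1 ≤ m 1) by omega),
          if_neg (show ¬ (u ≤ m 0 ∧ m 1 = 0) by omega), zero_add, zero_add]
        by_cases hv' : v ≤ m 1
        · rw [if_pos ⟨hv', hm0⟩]
        · rw [if_neg (fun hh => hv' hh.1), hm]
          exact h2 _ (by omega) (by omega)
      · rw [if_pos (show 1 ≤ m 0 ∧ 1 ≤ m 1 from ⟨by omega, by omega⟩),
          if_neg (show ¬ (u ≤ m 0 ∧ m 1 = 0) from fun hh => hm1 hh.2),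
          if_neg (show ¬ (v ≤ m 1 ∧ m 0 = 0) from fun hh => hm0 hh.2), add_zero, add_zero]

theorem finrank_quot (hu : 1 ≤ u) (hv : 1 ≤ v) (hw : w ≠ 0) :
    Module.finrank k (SpinCurv.NodeRing k 0 ⧸
      Ideal.span {SpinCurv.NodeRing.x k 0 ^ u,
        algebraMap k (SpinCurv.NodeRing k 0) w * SpinCurv.NodeRing.y k 0 ^ v}) = u + v - 1 := by
  obtain ⟨I, hI⟩ : ∃ I : Ideal P, I = Ideal.span
    {MvPowerSeries.X 0 * MvPowerSeries.X 1 - MvPowerSeries.C (0 : k)} := ⟨_, rfl⟩
  obtain ⟨J, hJ⟩ : ∃ J : Ideal P, J = Ideal.span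
    {MvPowerSeries.X 0 ^ u, MvPowerSeries.C w * MvPowerSeries.X 1 ^ v} := ⟨_, rfl⟩
  have hJ' : Ideal.span {SpinCurv.NodeRing.x k 0 ^ u,
      algebraMap k (SpinCurv.NodeRing k 0) w * SpinCurv.NodeRing.y k 0 ^ v} =
      J.map (Ideal.Quotient.mkₐ k (Ideal.span
        {MvPowerSeries.X 0 * MvPowerSeries.X 1 - MvPowerSeries.C (0 : k)})) := by
    rw [hJ, Ideal.map_span, Set.image_pair]
    rfl
  rw [hJ']
  have hK : K k u v w = Ideal.span
      {MvPowerSeries.X 0 * MvPowerSeries.X 1 - MvPowerSeries.C (0 : k)} ⊔ J := by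
    rw [hJ]
    rfl
  let e1 := DoubleQuot.quotQuotEquivQuotSupₐ k (Ideal.span
    {MvPowerSeries.X 0 * MvPowerSeries.X 1 - MvPowerSeries.C (0 : k)}) J
  rw [e1.toLinearEquiv.finrank_eq, ← hK]
  let e2 := Submodule.Quotient.restrictScalarsEquiv k (K k u v w)
  have hker : (K k u v w).restrictScalars k = LinearMap.ker (Φ k u v) := by
    ext f
    exact K_eq_ker k u v w hu hv hw f
  let e3 := Submodule.quotEquivOfEq _ _ hker
  let e4 := (Φ k u v).quotKerEquivOfSurjective (Φ_surjective k u v)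
  rw [← e2.finrank_eq, e3.finrank_eq, e4.finrank_eq, Module.finrank_prod, Module.finrank_fin_fun,
    Module.finrank_fin_fun]
  omega

end H21.NodeQuot
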