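import Mathlib
import Groth.Prelude.Def_W4c5spincurvestfNode
import Groth.Agent.H21.NodeFree
import Groth.Agent.H21.NodeKer

set_option autoImplicit false
universe u
open LaurentPolynomial

namespace Groth.Agent.H21.NodeSec
open Groth.Agent.H21.NodeFree Groth.Agent.H21.NodeKer

variable {R : Type u} [CommRing R] (p q : R)
    (rU : SpinCurv.PolyNodeRing R (p * q) →ₐ[R] SpinCurv.PolyNodeRing R q)
    (hrUx : rU (SpinCurv.PolyNodeRing.x R (p * q)) = algebraMap R _ p * SpinCurv.PolyNodeRing.x R q)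
    (hrUy : rU (SpinCurv.PolyNodeRing.y R (p * q)) = SpinCurv.PolyNodeRing.y R q)
    (rV : SpinCurv.PolyNodeRing R (p * q) →ₐ[R] SpinCurv.PolyNodeRing R p)
    (hrVx : rV (SpinCurv.PolyNodeRing.x R (p * q)) = SpinCurv.PolyNodeRing.y R p)
    (hrVy : rV (SpinCurv.PolyNodeRing.y R (p * q)) = algebraMap R _ q * SpinCurv.PolyNodeRing.x R p)
    (n : ℕ)

local notation "AA" => SpinCurv.PolyNodeRing R (p * q)
local notation "xA" => SpinCurv.PolyNodeRing.x R (p * q)
local notation "yA" => SpinCurv.PolyNodeRing.y R (p * q)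
local notation "sU" => SpinCurv.PolyNodeRing.x R q
local notation "yU" => SpinCurv.PolyNodeRing.y R q
local notation "tV" => SpinCurv.PolyNodeRing.x R p
local notation "xV" => SpinCurv.PolyNodeRing.y R p

/-- the section map -/
noncomputable def Sig (F : Fin (n + 1) → AA) :
    SpinCurv.PolyNodeRing R q × SpinCurv.PolyNodeRing R p :=
  (∑ i : Fin (n + 1), rU (F i) * sU ^ (n - (i : ℕ)), ∑ i : Fin (n + 1), rV (F i) * tV ^ (i : ℕ))

theorem Sig_add (F G : Fin (n + 1) → AA) :
    Sig p q rU rV n (F + G) = Sig p q rU rV n F + Sig p q rU rV n G := by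
  unfold Sig
  refine Prod.ext ?_ ?_
  · simp only [Pi.add_apply, map_add, add_mul, Finset.sum_add_distrib, Prod.fst_add]
  · simp only [Pi.add_apply, map_add, add_mul, Finset.sum_add_distrib, Prod.snd_add]

theorem Sig_smulA (a : AA) (F : Fin (n + 1) → AA) :
    Sig p q rU rV n (a • F) = (rU a * (Sig p q rU rV n F).1, rV a * (Sig p q rU rV n F).2) := by
  unfold Sig
  refine Prod.ext ?_ ?_
  · simp only [Pi.smul_apply, smul_eq_mul, map_mul, Finset.mul_sum, mul_assoc]
  · simp only [Pi.smul_apply, smul_eq_mul, map_mul, Finset.mul_sum, mul_assoc]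

theorem Sig_smulR (r : R) (F : Fin (n + 1) → AA) :
    Sig p q rU rV n (r • F) = r • Sig p q rU rV n F := by
  unfold Sig
  refine Prod.ext ?_ ?_
  · simp only [Pi.smul_apply, map_smul, smul_mul_assoc, Finset.smul_sum, Prod.smul_fst]
  · simp only [Pi.smul_apply, map_smul, smul_mul_assoc, Finset.smul_sum, Prod.smul_snd]

theorem Sig_zero : Sig p q rU rV n 0 = 0 := by
  unfold Sig
  simp

theorem Sig_neg (F : Fin (n + 1) → AA) : Sig p q rU rV n (-F) = - Sig p q rU rV n F := by
  have := Sig_smulR p q rU rV n (-1 : R) F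
  rwa [neg_one_smul, neg_one_smul] at this

theorem Sig_sub (F G : Fin (n + 1) → AA) :
    Sig p q rU rV n (F - G) = Sig p q rU rV n F - Sig p q rU rV n G := by
  rw [sub_eq_add_neg, Sig_add, Sig_neg]
  exact (sub_eq_add_neg _ _).symm

theorem Sig_single (i : Fin (n + 1)) (a : AA) :
    Sig p q rU rV n (Pi.single i a) = (rU a * sU ^ (n - (i : ℕ)), rV a * tV ^ (i : ℕ)) := by
  classical
  unfold Sig
  refine Prod.ext ?_ ?_
  · simp only
    rw [Finset.sum_eq_single i]
    · rw [Pi.single_eq_same]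
    · intro j _ hj
      rw [Pi.single_eq_of_ne hj, map_zero, zero_mul]
    · intro h; exact absurd (Finset.mem_univ i) h
  · simp only
    rw [Finset.sum_eq_single i]
    · rw [Pi.single_eq_same]
    · intro j _ hj
      rw [Pi.single_eq_of_ne hj, map_zero, zero_mul]
    · intro h; exact absurd (Finset.mem_univ i) h

/-- the relations -/
noncomputable def relP (i : Fin n) : Fin (n + 1) → AA :=
  Pi.single (Fin.castSucc i) (algebraMap R AA p) - Pi.single (Fin.succ i) xA

noncomputable def relQ (i : Fin n) : Fin (n + 1) → AA :=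
  Pi.single (Fin.castSucc i) yA - Pi.single (Fin.succ i) (algebraMap R AA q)

include hrUx hrVx in
theorem Sig_relP (i : Fin n) : Sig p q rU rV n (relP p q n i) = 0 := by
  unfold relP
  rw [Sig_sub, Sig_single, Sig_single, hrUx, hrVx, AlgHom.commutes, AlgHom.commutes]
  refine Prod.ext ?_ ?_
  · simp only [Prod.fst_sub, Prod.fst_zero, Fin.val_castSucc, Fin.val_succ]
    have e : n - (i : ℕ) = (n - ((i : ℕ) + 1)) + 1 := by have := i.2; omega
    rw [e, pow_succ]
    ring
  · simp only [Prod.snd_sub, Prod.snd_zero, Fin.val_castSucc, Fin.val_succ]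
    rw [pow_succ]
    have h := xy_eq (R := R) p
    have h' : tV * xV = algebraMap R (SpinCurv.PolyNodeRing R p) p := h
    linear_combination (-(tV ^ (i : ℕ))) * h'

include hrUy hrVy in
theorem Sig_relQ (i : Fin n) : Sig p q rU rV n (relQ p q n i) = 0 := by
  unfold relQ
  rw [Sig_sub, Sig_single, Sig_single, hrUy, hrVy, AlgHom.commutes, AlgHom.commutes]
  refine Prod.ext ?_ ?_
  · simp only [Prod.fst_sub, Prod.fst_zero, Fin.val_castSucc, Fin.val_succ]
    have e : n - (i : ℕ) = (n - ((i : ℕ) + 1)) + 1 := by have := i.2; omega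
    rw [e, pow_succ]
    have h := xy_eq (R := R) q
    have h' : sU * yU = algebraMap R (SpinCurv.PolyNodeRing R q) q := h
    linear_combination (sU ^ (n - ((i : ℕ) + 1))) * h'
  · simp only [Prod.snd_sub, Prod.snd_zero, Fin.val_castSucc, Fin.val_succ]
    rw [pow_succ]
    ring

/-- normal forms -/
noncomputable def nf (k : ℤ) : Fin (n + 1) → AA :=
  if k < 0 then Pi.single (Fin.last n) (yA ^ (-k).toNat)
  else if k ≤ n then Pi.single (Fin.ofNat (n + 1) ((n : ℤ) - k).toNat) 1
  else Pi.single 0 (xA ^ (k - n).toNat)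

theorem nfA (m : ℕ) : Pi.single (Fin.last n) (yA ^ m) = nf p q n (-(m : ℤ)) := by
  unfold nf
  by_cases hm : m = 0
  · subst hm
    have h1 : ¬ (-((0 : ℕ) : ℤ) < 0) := by simp
    have h2 : (-((0 : ℕ) : ℤ)) ≤ n := by simp
    rw [if_neg h1, if_pos h2, pow_zero]
    congr 1
    apply Fin.ext
    rw [Fin.val_ofNat, Nat.mod_eq_of_lt (by omega)]
    simp
  · have h1 : (-(m : ℤ) < 0) := by omega
    rw [if_pos h1]
    congr 2
    omega

theorem nfB (i : Fin (n + 1)) : Pi.single i (1 : AA) = nf p q n ((n : ℤ) - (i : ℕ)) := by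
  unfold nf
  have hi := i.2
  have h1 : ¬ ((n : ℤ) - (i : ℕ) < 0) := by omega
  have h2 : ((n : ℤ) - (i : ℕ)) ≤ n := by omega
  rw [if_neg h1, if_pos h2]
  congr 1
  apply Fin.ext
  rw [Fin.val_ofNat, Nat.mod_eq_of_lt (by omega)]
  omega

theorem nfC (k : ℕ) : Pi.single (0 : Fin (n + 1)) (xA ^ k) = nf p q n ((n : ℤ) + k) := by
  unfold nf
  have h1 : ¬ ((n : ℤ) + k < 0) := by omega
  rw [if_neg h1]
  by_cases hk : k = 0
  · subst hk
    have h2 : ((n : ℤ) + ((0 : ℕ) : ℤ)) ≤ n := by simp
    rw [if_pos h2, pow_zero]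
    congr 1
    apply Fin.ext
    rw [Fin.val_ofNat, Nat.mod_eq_of_lt (by omega)]
    simp
  · have h2 : ¬ ((n : ℤ) + k ≤ n) := by omega
    rw [if_neg h2]
    congr 2
    omega

include hrUx hrUy hrVx hrVy in
theorem Sig_nf (k : ℤ) : Sig p q rU rV n (nf p q n k) = bvec p q (n : ℤ) k := by
  unfold nf bvec c1 c2 wt gen
  by_cases hk : k < 0
  · have h0 : ¬ (0 ≤ k) := by omega
    have h3 : (0 : ℤ) ≤ (n : ℤ) - k := by omega
    rw [if_pos hk, Sig_single, if_neg h0, if_neg h0, if_neg h0, if_neg h0, if_pos h3, map_pow, map_pow,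
      hrUy, hrVy]
    refine Prod.ext ?_ ?_
    · simp only [Fin.val_last, Nat.sub_self, pow_zero, mul_one, one_smul]
    · simp only [Fin.val_last]
      rw [mul_pow, ← map_pow, ← Algebra.smul_def, smul_mul_assoc, ← pow_add]
      congr 2
      omega
  · have h0 : (0 ≤ k) := by omega
    rw [if_neg hk]
    by_cases hkn : k ≤ n
    · have h3 : (0 : ℤ) ≤ (n : ℤ) - k := by omega
      have hval : ((Fin.ofNat (n + 1) ((n : ℤ) - k).toNat : Fin (n + 1)) : ℕ) =
          ((n : ℤ) - k).toNat := by
        rw [Fin.val_ofNat, Nat.mod_eq_of_lt (by omega)]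
      rw [if_pos hkn, Sig_single, if_pos h0, if_pos h0, if_pos h0, if_pos h3, if_pos h3, map_one,
        map_one, hval]
      refine Prod.ext ?_ ?_
      · simp only [one_mul, one_smul]
        congr 1
        omega
      · simp only [one_mul, one_smul]
    · have h3 : ¬ (0 : ℤ) ≤ (n : ℤ) - k := by omega
      rw [if_neg hkn, Sig_single, if_pos h0, if_pos h0, if_pos h0, if_neg h3, if_neg h3, map_pow,
        map_pow, hrUx, hrVx]
      refine Prod.ext ?_ ?_
      · simp only [Fin.val_zero, Nat.sub_zero]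
        rw [mul_pow, ← map_pow, ← Algebra.smul_def, smul_mul_assoc, ← pow_add]
        congr 2
        · congr 1; omega
        · omega
      · simp only [Fin.val_zero, pow_zero, mul_one, one_smul]
        congr 1
        omega

/-- the normal-form map -/
noncomputable def Nm : (ℤ →₀ R) →ₗ[R] (Fin (n + 1) → AA) :=
  Finsupp.linearCombination R (nf p q n)

theorem Nm_single (k : ℤ) (r : R) : Nm p q n (Finsupp.single k r) = r • nf p q n k :=
  Finsupp.linearCombination_single R r k

include hrUx hrUy hrVx hrVy in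
theorem Sig_Nm (h : ℤ →₀ R) : Sig p q rU rV n (Nm p q n h) = iota p q (n : ℤ) h := by
  induction h using Finsupp.induction_linear with
  | zero => rw [map_zero, map_zero, Sig_zero]
  | add f g hf hg => rw [map_add, map_add, Sig_add, hf, hg]
  | single k r =>
    rw [Nm_single, iota_single, Sig_smulR, Sig_nf p q rU hrUx hrUy rV hrVx hrVy]

/-- the submodule of relations -/
noncomputable def Qr : Submodule AA (Fin (n + 1) → AA) :=
  Submodule.span AA (Set.range (relP p q n) ∪ Set.range (relQ p q n))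

include hrUx hrUy hrVx hrVy in
theorem Sig_Qr (F : Fin (n + 1) → AA) (hF : F ∈ Qr p q n) : Sig p q rU rV n F = 0 := by
  unfold Qr at hF
  induction hF using Submodule.span_induction with
  | mem x hx =>
    rcases hx with ⟨i, rfl⟩ | ⟨i, rfl⟩
    · exact Sig_relP p q rU hrUx rV hrVx n i
    · exact Sig_relQ p q rU hrUy rV hrVy n i
  | zero => exact Sig_zero p q rU rV n
  | add x y _ _ hx hy => rw [Sig_add, hx, hy, add_zero]
  | smul a x _ hx =>
    rw [Sig_smulA, hx]
    simp

/-- reducible modulo relations to a normal form -/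
def Pr (F : Fin (n + 1) → AA) : Prop := ∃ h : ℤ →₀ R, F - Nm p q n h ∈ Qr p q n

theorem Pr_zero : Pr p q n 0 := ⟨0, by rw [map_zero, sub_zero]; exact Submodule.zero_mem _⟩

theorem Pr_add (F G : Fin (n + 1) → AA) (hF : Pr p q n F) (hG : Pr p q n G) :
    Pr p q n (F + G) := by
  obtain ⟨h, hh⟩ := hF
  obtain ⟨h', hh'⟩ := hG
  refine ⟨h + h', ?_⟩
  have e : F + G - Nm p q n (h + h') = (F - Nm p q n h) + (G - Nm p q n h') := by
    rw [map_add]; abel
  rw [e]
  exact Submodule.add_mem _ hh hh'

theorem Pr_smul (r : R) (F : Fin (n + 1) → AA) (hF : Pr p q n F) : Pr p q n (r • F) := by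
  obtain ⟨h, hh⟩ := hF
  refine ⟨r • h, ?_⟩
  have e : r • F - Nm p q n (r • h) = (algebraMap R AA r) • (F - Nm p q n h) := by
    rw [map_smul, ← smul_sub, algebraMap_smul]
  rw [e]
  exact Submodule.smul_mem _ _ hh

theorem Pr_of_sub (F G : Fin (n + 1) → AA) (hFG : F - G ∈ Qr p q n) (hG : Pr p q n G) :
    Pr p q n F := by
  obtain ⟨h, hh⟩ := hG
  refine ⟨h, ?_⟩
  have e : F - Nm p q n h = (F - G) + (G - Nm p q n h) := by abel
  rw [e]
  exact Submodule.add_mem _ hFG hh

theorem Pr_nf (k : ℤ) : Pr p q n (nf p q n k) := by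
  refine ⟨Finsupp.single k 1, ?_⟩
  rw [Nm_single, one_smul, sub_self]
  exact Submodule.zero_mem _

theorem relP_mem (i : Fin n) : relP p q n i ∈ Qr p q n :=
  Submodule.subset_span (Or.inl ⟨i, rfl⟩)

theorem relQ_mem (i : Fin n) : relQ p q n i ∈ Qr p q n :=
  Submodule.subset_span (Or.inr ⟨i, rfl⟩)

theorem single_smul' (i : Fin (n + 1)) (a b : AA) :
    (Pi.single i (a * b) : Fin (n + 1) → AA) = a • (Pi.single i b : Fin (n + 1) → AA) := by
  classical
  ext j
  by_cases hj : j = i
  · subst hj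
    rw [Pi.smul_apply, Pi.single_eq_same, Pi.single_eq_same, smul_eq_mul]
  · rw [Pi.smul_apply, Pi.single_eq_of_ne hj, Pi.single_eq_of_ne hj, smul_zero]

theorem Px (i : Fin (n + 1)) : ∀ k : ℕ, Pr p q n (Pi.single i (xA ^ k)) := by
  induction i using Fin.induction with
  | zero =>
    intro k
    rw [nfC]
    exact Pr_nf p q n _
  | succ i ih =>
    intro k
    cases k with
    | zero =>
      rw [pow_zero, nfB]
      exact Pr_nf p q n _
    | succ k =>
      refine Pr_of_sub p q n _ (p • (Pi.single (Fin.castSucc i) (xA ^ k) : Fin (n + 1) → AA)) ?_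
        (Pr_smul p q n p _ (ih k))
      have e : (Pi.single (Fin.succ i) (xA ^ (k + 1)) : Fin (n + 1) → AA) -
          p • (Pi.single (Fin.castSucc i) (xA ^ k) : Fin (n + 1) → AA) =
          (-(xA ^ k)) • relP p q n i := by
        unfold relP
        rw [smul_sub, ← single_smul', ← single_smul']
        have h1 : (Pi.single (Fin.castSucc i) (-xA ^ k * algebraMap R AA p) : Fin (n + 1) → AA) =
            -(p • (Pi.single (Fin.castSucc i) (xA ^ k) : Fin (n + 1) → AA)) := by
          rw [← Pi.single_smul, ← Pi.single_neg]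
          congr 1
          have h3 : p • (xA ^ k : AA) = algebraMap R AA p * xA ^ k := Algebra.smul_def p (xA ^ k)
          rw [h3]
          ring
        have h2 : (Pi.single (Fin.succ i) (-xA ^ k * xA) : Fin (n + 1) → AA) =
            -(Pi.single (Fin.succ i) (xA ^ (k + 1)) : Fin (n + 1) → AA) := by
          rw [← Pi.single_neg]
          congr 1
          rw [pow_succ]
          ring
        rw [h1, h2]
        abel
      rw [e]
      exact Submodule.smul_mem _ _ (relP_mem p q n i)

theorem Py (i : Fin (n + 1)) : ∀ m : ℕ, Pr p q n (Pi.single i (yA ^ m)) := by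
  induction i using Fin.reverseInduction with
  | last =>
    intro m
    rw [nfA]
    exact Pr_nf p q n _
  | cast i ih =>
    intro m
    cases m with
    | zero =>
      rw [pow_zero, nfB]
      exact Pr_nf p q n _
    | succ m =>
      refine Pr_of_sub p q n _ (q • (Pi.single (Fin.succ i) (yA ^ m) : Fin (n + 1) → AA)) ?_
        (Pr_smul p q n q _ (ih m))
      have e : (Pi.single (Fin.castSucc i) (yA ^ (m + 1)) : Fin (n + 1) → AA) -
          q • (Pi.single (Fin.succ i) (yA ^ m) : Fin (n + 1) → AA) = (yA ^ m) • relQ p q n i := by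
        unfold relQ
        rw [smul_sub, ← single_smul', ← single_smul', ← pow_succ, ← Pi.single_smul]
        congr 2
        exact (Algebra.smul_def q (yA ^ m)).trans (mul_comm _ _)
      rw [e]
      exact Submodule.smul_mem _ _ (relQ_mem p q n i)

theorem Pr_single (i : Fin (n + 1)) (a : AA) : Pr p q n (Pi.single i a) := by
  rw [← Phi_Psi (p * q) a]
  induction (Psi (p * q) a) using Finsupp.induction_linear with
  | zero => rw [map_zero, Pi.single_zero]; exact Pr_zero p q n
  | add f g hf hg => rw [map_add, Pi.single_add]; exact Pr_add p q n _ _ hf hg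
  | single k r =>
    rw [Phi_single, Pi.single_smul]
    refine Pr_smul p q n r _ ?_
    unfold gen
    by_cases hk : 0 ≤ k
    · rw [if_pos hk]; exact Px p q n i _
    · rw [if_neg hk]; exact Py p q n i _

theorem Pr_all (F : Fin (n + 1) → AA) : Pr p q n F := by
  classical
  rw [← Finset.univ_sum_single F]
  refine Finset.sum_induction _ (Pr p q n) (Pr_add p q n) (Pr_zero p q n) ?_
  intro i _
  exact Pr_single p q n i (F i)


include hrUx hrUy hrVx hrVy in
theorem main_S18437
    (gU : SpinCurv.PolyNodeRing R q →ₐ[R] LaurentPolynomial R)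
    (hgUs : gU (SpinCurv.PolyNodeRing.x R q) = LaurentPolynomial.T 1)
    (hgUy : gU (SpinCurv.PolyNodeRing.y R q) = LaurentPolynomial.C q * LaurentPolynomial.T (-1))
    (gV : SpinCurv.PolyNodeRing R p →ₐ[R] LaurentPolynomial R)
    (hgVt : gV (SpinCurv.PolyNodeRing.x R p) = LaurentPolynomial.T (-1))
    (hgVx : gV (SpinCurv.PolyNodeRing.y R p) = LaurentPolynomial.C p * LaurentPolynomial.T 1) :
    Set.range (fun F : Fin (n + 1) → SpinCurv.PolyNodeRing R (p * q) =>
        (∑ i : Fin (n + 1), rU (F i) * SpinCurv.PolyNodeRing.x R q ^ (n - (i : ℕ)),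
         ∑ i : Fin (n + 1), rV (F i) * SpinCurv.PolyNodeRing.x R p ^ (i : ℕ))) =
      {gf : SpinCurv.PolyNodeRing R q × SpinCurv.PolyNodeRing R p |
        gU gf.1 = LaurentPolynomial.T (n : ℤ) * gV gf.2} ∧
    {F : Fin (n + 1) → SpinCurv.PolyNodeRing R (p * q) |
        (∑ i : Fin (n + 1), rU (F i) * SpinCurv.PolyNodeRing.x R q ^ (n - (i : ℕ)),
         ∑ i : Fin (n + 1), rV (F i) * SpinCurv.PolyNodeRing.x R p ^ (i : ℕ)) = 0} =
      (Submodule.span (SpinCurv.PolyNodeRing R (p * q))
        (Set.range (fun i : Fin n =>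
            (Pi.single (Fin.castSucc i) (algebraMap R (SpinCurv.PolyNodeRing R (p * q)) p) -
              Pi.single (Fin.succ i) (SpinCurv.PolyNodeRing.x R (p * q)) : Fin (n + 1) → SpinCurv.PolyNodeRing R (p * q))) ∪
         Set.range (fun i : Fin n =>
            (Pi.single (Fin.castSucc i) (SpinCurv.PolyNodeRing.y R (p * q)) -
              Pi.single (Fin.succ i) (algebraMap R (SpinCurv.PolyNodeRing R (p * q)) q) : Fin (n + 1) → SpinCurv.PolyNodeRing R (p * q)))) :
        Set (Fin (n + 1) → SpinCurv.PolyNodeRing R (p * q))) := by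
  have hn : (-1 : ℤ) ≤ (n : ℤ) := by omega
  have hSigQ := Sig_Qr p q rU hrUx hrUy rV hrVx hrVy n
  have hSigN := Sig_Nm p q rU hrUx hrUy rV hrVx hrVy n
  constructor
  · apply Set.Subset.antisymm
    · rintro _ ⟨F, rfl⟩
      obtain ⟨h, hh⟩ := Pr_all p q n F
      have h1 := hSigQ _ hh
      rw [Sig_sub, hSigN, sub_eq_zero] at h1
      have h2 : Sig p q rU rV n F ∈ LinearMap.ker (D p q gU gV (n : ℤ)) := by
        rw [h1]
        exact D_iota p q gU hgUs hgUy gV hgVt hgVx (n : ℤ) hn h
      rw [LinearMap.mem_ker, D_apply, sub_eq_zero] at h2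
      exact h2
    · rintro ⟨g, f⟩ hgf
      have h2 : (g, f) ∈ LinearMap.ker (D p q gU gV (n : ℤ)) := by
        rw [LinearMap.mem_ker, D_apply, sub_eq_zero]
        exact hgf
      rw [← range_iota p q gU hgUs hgUy gV hgVt hgVx (n : ℤ) hn] at h2
      obtain ⟨h, hh⟩ := h2
      exact ⟨Nm p q n h, (hSigN h).trans hh⟩
  · apply Set.Subset.antisymm
    · intro F hF
      have hF0 : Sig p q rU rV n F = 0 := hF
      obtain ⟨h, hh⟩ := Pr_all p q n F
      have h1 := hSigQ _ hh
      rw [Sig_sub, hSigN, hF0, zero_sub, neg_eq_zero] at h1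
      have h0 : h = 0 := iota_injective p q (n : ℤ) hn (by rw [h1, map_zero])
      rw [h0, map_zero, sub_zero] at hh
      exact hh
    · intro F hF
      exact hSigQ F hF

end Groth.Agent.H21.NodeSec
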