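import Mathlib

set_option autoImplicit false

namespace Groth.Agent.H21.NormPt

universe u v w

/-- determinant of a diagonal endomorphism of a dependent finite product -/
theorem det_pi_dep {R : Type u} [CommRing R] (ι : Type v) [Fintype ι] :
    ∀ (M : ι → Type w) [∀ i, AddCommGroup (M i)] [∀ i, Module R (M i)]
      [∀ i, Module.Free R (M i)] [∀ i, Module.Finite R (M i)] (f : ∀ i, M i →ₗ[R] M i),
      LinearMap.det (LinearMap.pi fun i => f i ∘ₗ LinearMap.proj i) = ∏ i, LinearMap.det (f i) := by
  refine Fintype.induction_empty_option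
    (P := fun (ι : Type v) [Fintype ι] => ∀ (M : ι → Type w) [∀ i, AddCommGroup (M i)]
      [∀ i, Module R (M i)]
      [∀ i, Module.Free R (M i)] [∀ i, Module.Finite R (M i)] (f : ∀ i, M i →ₗ[R] M i),
      LinearMap.det (LinearMap.pi fun i => f i ∘ₗ LinearMap.proj i) = ∏ i, LinearMap.det (f i))
    ?_ ?_ ?_ ι
  · -- of_equiv
    intro α β _ e h M _ _ _ _ f
    letI : Fintype α := Fintype.ofEquiv β e.symm
    have h1 := h (fun a => M (e a)) (fun a => f (e a))
    have h2 : (LinearMap.pi fun i => f i ∘ₗ LinearMap.proj i : (∀ i, M i) →ₗ[R] (∀ i, M i)) =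
        ((LinearEquiv.piCongrLeft R M e : _ →ₗ[R] _) ∘ₗ
          (LinearMap.pi fun a => f (e a) ∘ₗ LinearMap.proj a) ∘ₗ
          ((LinearEquiv.piCongrLeft R M e).symm : _ →ₗ[R] _)) := by
      apply LinearMap.ext
      intro x
      apply (LinearEquiv.piCongrLeft R M e).symm.injective
      simp only [LinearMap.coe_comp, LinearEquiv.coe_coe, Function.comp_apply,
        LinearEquiv.symm_apply_apply]
      funext a
      simp [LinearEquiv.piCongrLeft]
    rw [h2, LinearMap.det_conj, h1]
    exact Fintype.prod_equiv e _ _ (fun _ => rfl)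
  · intro M _ _ _ _ f
    rw [LinearMap.det_eq_one_of_subsingleton]
    simp
  · intro α _ h M _ _ _ _ f
    have h1 := h (fun a => M (some a)) (fun a => f (some a))
    have h2 : (LinearMap.pi fun i => f i ∘ₗ LinearMap.proj i : (∀ i, M i) →ₗ[R] (∀ i, M i)) =
        (((LinearEquiv.piOptionEquivProd R (M := M)).symm : _ →ₗ[R] _) ∘ₗ
          (LinearMap.prodMap (f none) (LinearMap.pi fun a => f (some a) ∘ₗ LinearMap.proj a)) ∘ₗ
          ((LinearEquiv.piOptionEquivProd R (M := M)) : _ →ₗ[R] _)) := by
      apply LinearMap.ext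
      intro x
      apply (LinearEquiv.piOptionEquivProd R (M := M)).injective
      simp only [LinearMap.coe_comp, LinearEquiv.coe_coe, Function.comp_apply,
        LinearEquiv.apply_symm_apply]
      rfl
    rw [h2]
    have := LinearMap.det_conj (LinearMap.prodMap (f none)
      (LinearMap.pi fun a => f (some a) ∘ₗ LinearMap.proj a))
      (LinearEquiv.piOptionEquivProd R (M := M)).symm
    rw [LinearEquiv.symm_symm] at this
    rw [this, LinearMap.det_prodMap, h1, Fintype.prod_option]

theorem norm_pi_dep {R : Type u} [CommRing R] (ι : Type v) [Fintype ι] (B : ι → Type w)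
    [∀ i, CommRing (B i)] [∀ i, Algebra R (B i)] [∀ i, Module.Free R (B i)]
    [∀ i, Module.Finite R (B i)] (x : ∀ i, B i) :
    Algebra.norm R x = ∏ i, Algebra.norm R (x i) := by
  rw [Algebra.norm_apply]
  have : (Algebra.lmul R (∀ i, B i)) x =
      LinearMap.pi fun i => (Algebra.lmul R (B i) (x i)) ∘ₗ LinearMap.proj i := by
    apply LinearMap.ext
    intro y
    funext i
    rfl
  rw [this, det_pi_dep]
  rfl

/-- local computation: `c + nilpotent` has norm `c ^ finrank`. -/
theorem norm_add_nilpotent {k : Type u} [Field k] (B : Type w) [CommRing B] [Algebra k B]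
    [Module.Finite k B] (c : k) (n : B) (hn : IsNilpotent n) :
    Algebra.norm k (algebraMap k B c + n) = c ^ Module.finrank k B := by
  rw [Algebra.norm_apply]
  have h1 : (Algebra.lmul k B) (algebraMap k B c + n) =
      algebraMap k (Module.End k B) c - (- Algebra.lmul k B n) := by
    rw [sub_neg_eq_add, map_add]
    congr 1
    apply LinearMap.ext
    intro y
    simp [Algebra.smul_def]
  rw [h1, ← LinearMap.eval_charpoly]
  have hnil : IsNilpotent (- Algebra.lmul k B n) := (hn.map (Algebra.lmul k B)).neg
  rw [IsNilpotent.charpoly_eq_X_pow_finrank hnil]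
  simp

variable (k A : Type u) [Field k] [CommRing A] [Algebra k A] [Module.Finite k A]

theorem finite_loc (m : Ideal A) [m.IsPrime] : Module.Finite k (Localization.AtPrime m) := by
  haveI : IsArtinianRing A := isArtinian_of_tower k inferInstance
  have hs : Function.Surjective (algebraMap A (Localization.AtPrime m)) :=
    IsArtinianRing.localization_surjective m.primeCompl _
  haveI : Module.Finite A (Localization.AtPrime m) :=
    Module.Finite.of_surjective (Algebra.linearMap A (Localization.AtPrime m)) hs
  exact Module.Finite.trans A _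

theorem norm_local (m : Ideal A) [m.IsPrime] (φ : A →ₐ[k] k) (hφ : Ideal.comap φ ⊥ = m) (f : A) :
    Algebra.norm k (algebraMap A (Localization.AtPrime m) f) =
      φ f ^ Module.finrank k (Localization.AtPrime m) := by
  haveI : IsArtinianRing A := isArtinian_of_tower k inferInstance
  haveI := finite_loc k A m
  obtain ⟨g, hg⟩ : ∃ g, g = f - algebraMap k A (φ f) := ⟨_, rfl⟩
  have hgm : g ∈ m := by
    rw [← hφ, Ideal.mem_comap, Ideal.mem_bot, hg, map_sub, AlgHom.commutes]
    simp
  have hnil : IsNilpotent (algebraMap A (Localization.AtPrime m) g) := by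
    have h1 : algebraMap A (Localization.AtPrime m) g ∈
        IsLocalRing.maximalIdeal (Localization.AtPrime m) :=
      (IsLocalization.AtPrime.to_map_mem_maximal_iff _ m g).mpr hgm
    have h2 : IsNilpotent (Ideal.jacobson (⊥ : Ideal (Localization.AtPrime m))) :=
      IsArtinianRing.isNilpotent_jacobson_bot
    rw [IsLocalRing.jacobson_eq_maximalIdeal ⊥ bot_ne_top] at h2
    obtain ⟨n, hn⟩ := h2
    refine ⟨n, ?_⟩
    have := Ideal.pow_mem_pow h1 n
    rw [hn] at this
    exact this
  have hf : algebraMap A (Localization.AtPrime m) f =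
      algebraMap k (Localization.AtPrime m) (φ f) + algebraMap A (Localization.AtPrime m) g := by
    rw [hg, map_sub, ← IsScalarTower.algebraMap_apply]
    ring
  rw [hf, norm_add_nilpotent _ _ _ hnil]

omit [Module.Finite k A] in
theorem comap_isMaximal (φ : A →ₐ[k] k) : (Ideal.comap φ (⊥ : Ideal k)).IsMaximal := by
  have hs : Function.Surjective φ := fun c => ⟨algebraMap k A c, by simp⟩
  exact Ideal.comap_isMaximal_of_surjective φ hs

theorem main [IsAlgClosed k] (f : A) :
    Algebra.norm k f =
      ∏ᶠ φ : A →ₐ[k] k, φ f ^ Module.finrank k (Localization.AtPrime (Ideal.comap φ ⊥)) := by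
  haveI : IsArtinianRing A := isArtinian_of_tower k inferInstance
  letI : Fintype (MaximalSpectrum A) := Fintype.ofFinite _
  let E : A ≃ₐ[k] (Π m : MaximalSpectrum A, Localization.AtPrime m.asIdeal) :=
    (MaximalSpectrum.toPiLocalizationEquiv A).restrictScalars k
  have h1 : Algebra.norm k f = Algebra.norm k (E f) := (Algebra.norm_eq_of_algEquiv E f).symm
  haveI hfin : ∀ m : MaximalSpectrum A, Module.Finite k (Localization.AtPrime m.asIdeal) :=
    fun m => finite_loc k A m.asIdeal
  rw [h1, norm_pi_dep]
  rw [← finprod_eq_prod_of_fintype]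
  symm
  let e : (A →ₐ[k] k) → MaximalSpectrum A := fun φ => ⟨Ideal.comap φ ⊥, comap_isMaximal k A φ⟩
  apply finprod_eq_of_bijective e
  · constructor
    · intro φ ψ h
      have hker : Ideal.comap φ (⊥ : Ideal k) = Ideal.comap ψ ⊥ := congrArg MaximalSpectrum.asIdeal h
      apply AlgHom.ext
      intro a
      have : a - algebraMap k A (φ a) ∈ Ideal.comap φ (⊥ : Ideal k) := by
        rw [Ideal.mem_comap, Ideal.mem_bot, map_sub, AlgHom.commutes]
        simp
      rw [hker, Ideal.mem_comap, Ideal.mem_bot, map_sub, AlgHom.commutes] at this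
      have h2 : ψ a = φ a := by
        have := sub_eq_zero.mp this
        simpa using this
      exact h2.symm
    · intro m
      haveI := m.isMaximal
      letI : Field (A ⧸ m.asIdeal) := Ideal.Quotient.field m.asIdeal
      have hb : Function.Bijective (algebraMap k (A ⧸ m.asIdeal)) :=
        IsAlgClosed.algebraMap_bijective_of_isIntegral
      let ψ : (A ⧸ m.asIdeal) ≃ₐ[k] k := (AlgEquiv.ofBijective (Algebra.ofId k _) hb).symm
      refine ⟨(ψ : (A ⧸ m.asIdeal) →ₐ[k] k).comp (Ideal.Quotient.mkₐ k m.asIdeal), ?_⟩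
      apply MaximalSpectrum.ext
      ext a
      show ψ (Ideal.Quotient.mk _ a) ∈ (⊥ : Ideal k) ↔ a ∈ m.asIdeal
      rw [Ideal.mem_bot, map_eq_zero_iff _ ψ.injective, Ideal.Quotient.eq_zero_iff_mem]
  · intro φ
    haveI : (Ideal.comap φ (⊥ : Ideal k)).IsMaximal := comap_isMaximal k A φ
    exact (norm_local k A (Ideal.comap φ ⊥) φ rfl f).symm

end Groth.Agent.H21.NormPt
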