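import Mathlib
import Groth.Prelude.Def_FlatCA

set_option autoImplicit false

namespace Groth.Agent.H21.NzdLoc
open Submodule

section loc
variable {S : Type*} [CommRing S] (P : Set (Ideal S)) (hPfin : P.Finite)
  (hPprime : ∀ p ∈ P, p.IsPrime) (W : Submonoid S)
  (hW : (W : Set S) = (⋃ p ∈ P, (p : Set S))ᶜ)

include hPfin hPprime hW

theorem disjoint_iff (q : Ideal S) :
    Disjoint (q : Set S) (W : Set S) ↔ ∃ q' ∈ P, q ≤ q' := by
  rw [hW, Set.disjoint_compl_right_iff_subset]
  have h1 : (⋃ p ∈ P, (p : Set S)) = ⋃ p ∈ (↑hPfin.toFinset : Set (Ideal S)), ((id p : Ideal S) : Set S) := by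
    simp
  rw [h1, Ideal.subset_union_prime (f := id) ⊥ ⊥ (fun i hi _ _ => hPprime i (by simpa using hi))]
  simp

theorem disjoint_of_mem {q : Ideal S} (hq : q ∈ P) : Disjoint (W : Set S) (q : Set S) := by
  rw [disjoint_comm, disjoint_iff P hPfin hPprime W hW]
  exact ⟨q, hq, le_rfl⟩

variable (L : Type*) [CommRing L] [Algebra S L] [IsLocalization W L]

theorem under_mem_of_isMaximal (Q : Ideal L) (hQ : Q.IsMaximal) :
    Maximal (fun r => r ∈ P) (Q.comap (algebraMap S L)) := by
  have hQp : Q.IsPrime := hQ.isPrime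
  obtain ⟨hqp, hqd⟩ := (IsLocalization.isPrime_iff_isPrime_disjoint W L Q).mp hQp
  have key : ∀ q'' ∈ P, Q.comap (algebraMap S L) ≤ q'' → Q.comap (algebraMap S L) = q'' := by
    intro q'' hq'' hle
    have hd := disjoint_of_mem P hPfin hPprime W hW hq''
    have hpr := IsLocalization.isPrime_of_isPrime_disjoint W L q'' (hPprime _ hq'') hd
    have hle2 : Q ≤ Ideal.map (algebraMap S L) q'' := by
      rw [← IsLocalization.map_under W L Q]
      exact Ideal.map_mono hle
    have heq : Q = Ideal.map (algebraMap S L) q'' := hQ.eq_of_le hpr.ne_top hle2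
    have := IsLocalization.under_map_of_isPrime_disjoint W L (hPprime _ hq'') hd
    rw [← heq] at this
    exact this
  obtain ⟨q', hq', hle⟩ := (disjoint_iff P hPfin hPprime W hW _).mp hqd.symm
  have h1 := key q' hq' hle
  refine ⟨?_, ?_⟩
  · change Q.comap (algebraMap S L) ∈ P
    rw [h1]; exact hq'
  · intro y hy hle'
    exact (key y hy hle').ge

theorem isMaximal_iff (Q : Ideal L) :
    Q.IsMaximal ↔ (Q.IsPrime ∧ Maximal (fun r => r ∈ P) (Q.comap (algebraMap S L))) := by
  constructor
  · intro hQ
    exact ⟨hQ.isPrime, under_mem_of_isMaximal P hPfin hPprime W hW L Q hQ⟩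
  · rintro ⟨hQp, hmax⟩
    obtain ⟨M, hM, hQM⟩ := Ideal.exists_le_maximal Q hQp.ne_top
    have hM' := under_mem_of_isMaximal P hPfin hPprime W hW L M hM
    have hle : Q.comap (algebraMap S L) ≤ M.comap (algebraMap S L) := Ideal.comap_mono hQM
    have hge := hmax.2 hM'.1 hle
    have heq : Q.comap (algebraMap S L) = M.comap (algebraMap S L) := le_antisymm hle hge
    have : Q = M := by
      rw [← IsLocalization.map_under W L Q, ← IsLocalization.map_under W L M]
      exact congrArg _ heq
    rw [this]; exact hM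

theorem finite_maximal : {Q : Ideal L | Q.IsMaximal}.Finite := by
  apply Set.Finite.of_injOn (f := fun Q : Ideal L => Q.comap (algebraMap S L)) (t := P) ?_ ?_ hPfin
  · intro Q hQ
    exact (under_mem_of_isMaximal P hPfin hPprime W hW L Q hQ).1
  · intro Q _ Q' _ h
    have h' : Q.comap (algebraMap S L) = Q'.comap (algebraMap S L) := h
    rw [← IsLocalization.map_under W L Q, ← IsLocalization.map_under W L Q']
    exact congrArg _ h'

end loc

section ass
variable {S T : Type*} [CommRing S] [CommRing T] [Algebra S T]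
  (hsurj : Function.Surjective (algebraMap S T))
  (F : Type*) [AddCommGroup F] [Module S F] [Module T F] [IsScalarTower S T F]

theorem colon_eq (x : F) : ((⊥ : Submodule S F).colon {x}) =
    Ideal.comap (algebraMap S T) ((⊥ : Submodule T F).colon {x}) := by
  ext s
  simp only [mem_colon_singleton, Ideal.mem_comap, mem_bot, algebraMap_smul]

include hsurj in
theorem ass_eq : associatedPrimes S F = Ideal.comap (algebraMap S T) '' associatedPrimes T F := by
  ext I
  constructor
  · rintro ⟨hI, x, hx⟩
    rw [colon_eq (T := T), ← Ideal.comap_radical] at hx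
    refine ⟨((⊥ : Submodule T F).colon {x}).radical, ⟨?_, x, rfl⟩, hx.symm⟩
    have h1 : Ideal.map (algebraMap S T) I = ((⊥ : Submodule T F).colon {x}).radical := by
      rw [hx, Ideal.map_comap_of_surjective _ hsurj]
    rw [← h1]
    apply Ideal.map_isPrime_of_surjective hsurj
    rw [hx]
    exact Ideal.comap_mono bot_le
  · rintro ⟨J, ⟨hJ, x, hx⟩, rfl⟩
    refine ⟨Ideal.comap_isPrime _ _, x, ?_⟩
    rw [colon_eq (T := T), ← Ideal.comap_radical, hx]

include hsurj in
theorem nzsd_eq [IsNoetherianRing T] :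
    ((nonZeroSMulDivisors S F : Submonoid S) : Set S) =
      (⋃ p ∈ associatedPrimes S F, (p : Set S))ᶜ := by
  ext s
  rw [ass_eq hsurj F]
  simp only [SetLike.mem_coe, mem_nonZeroSMulDivisors_iff, Set.mem_compl_iff, Set.mem_iUnion,
    Set.mem_image, exists_prop, not_exists, not_and]
  constructor
  · intro h p hp hsp
    obtain ⟨J, hJ, rfl⟩ := hp
    have : algebraMap S T s ∈ ⋃ p ∈ associatedPrimes T F, (p : Set T) :=
      Set.mem_biUnion hJ hsp
    rw [biUnion_associatedPrimes_eq_zero_divisors] at this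
    obtain ⟨x, hx0, hx⟩ := this
    rw [algebraMap_smul] at hx
    exact hx0 (h x hx)
  · intro h x hx
    by_contra hx0
    have : algebraMap S T s ∈ ⋃ p ∈ associatedPrimes T F, (p : Set T) := by
      rw [biUnion_associatedPrimes_eq_zero_divisors]
      exact ⟨x, hx0, by rw [algebraMap_smul]; exact hx⟩
    simp only [Set.mem_iUnion, exists_prop] at this
    obtain ⟨J, hJ, hsJ⟩ := this
    exact h (Ideal.comap (algebraMap S T) J) ⟨J, hJ, rfl⟩ hsJ

include hsurj in
theorem ass_finite [IsNoetherianRing T] [Module.Finite T F] : (associatedPrimes S F).Finite := by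
  rw [ass_eq hsurj F]
  exact (associatedPrimes.finite T F).image _

end ass

section main
universe u
open IsLocalRing TensorProduct

attribute [local instance] Algebra.TensorProduct.rightAlgebra

variable {R S : Type u} [CommRing R] [IsLocalRing R] [CommRing S] [Algebra R S]
    (N : Type u) [AddCommGroup N] [Module S N] [Module R N] [IsScalarTower R S N]

theorem surj_fiber : Function.Surjective (algebraMap S ((maximalIdeal R).Fiber S)) := by
  intro z
  induction z using TensorProduct.induction_on with
  | zero => exact ⟨0, map_zero _⟩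
  | tmul c s =>
    obtain ⟨r, rfl⟩ := (maximalIdeal R).algebraMap_residueField_surjective c
    refine ⟨r • s, ?_⟩
    change (1 : (maximalIdeal R).ResidueField) ⊗ₜ[R] (r • s) = _
    rw [TensorProduct.tmul_smul, TensorProduct.smul_tmul', Algebra.smul_def, mul_one]
  | add z w hz hw =>
    obtain ⟨z', rfl⟩ := hz
    obtain ⟨w', rfl⟩ := hw
    exact ⟨z' + w', map_add _ _ _⟩

instance : IsScalarTower S ((maximalIdeal R).Fiber S) (FlatCA.fiberMod (maximalIdeal R) S N) :=
  inferInstanceAs (IsScalarTower S ((maximalIdeal R).Fiber S) (((maximalIdeal R).Fiber S) ⊗[S] N))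

theorem main [IsNoetherianRing ((maximalIdeal R).Fiber S)]
    [Module.Finite ((maximalIdeal R).Fiber S) (FlatCA.fiberMod (maximalIdeal R) S N)] :
    (∀ (q : Ideal S) [q.IsPrime], Disjoint (q : Set S) (FlatCA.nzdFiber R S N) ↔
        ∃ q' ∈ associatedPrimes S (FlatCA.fiberMod (maximalIdeal R) S N), q ≤ q') ∧
    {Q : Ideal (Localization (FlatCA.nzdFiber R S N)) | Q.IsMaximal}.Finite ∧
    (∀ Q : Ideal (Localization (FlatCA.nzdFiber R S N)), Q.IsMaximal ↔ (Q.IsPrime ∧
        Maximal (fun r => r ∈ associatedPrimes S (FlatCA.fiberMod (maximalIdeal R) S N))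
          (Q.comap (algebraMap S (Localization (FlatCA.nzdFiber R S N)))))) := by
  have hsurj := surj_fiber (R := R) (S := S)
  have hfin := ass_finite hsurj (FlatCA.fiberMod (maximalIdeal R) S N)
  have hW := nzsd_eq hsurj (FlatCA.fiberMod (maximalIdeal R) S N)
  have hpr : ∀ p ∈ associatedPrimes S (FlatCA.fiberMod (maximalIdeal R) S N), p.IsPrime :=
    fun p hp => hp.isPrime
  refine ⟨?_, ?_, ?_⟩
  · intro q _
    exact disjoint_iff _ hfin hpr _ hW q
  · exact finite_maximal _ hfin hpr _ hW _
  · intro Q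
    exact isMaximal_iff _ hfin hpr _ hW _ Q

end main

end Groth.Agent.H21.NzdLoc
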