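import Mathlib

set_option autoImplicit false
universe u

namespace Groth.Agent.H21.PPow

open TensorProduct

/-- global Nakayama: a submodule of a finite module that is everything modulo every maximal ideal
is everything -/
theorem eq_top_of_forall_maximal {C M : Type*} [CommRing C] [AddCommGroup M] [Module C M]
    [Module.Finite C M] (N : Submodule C M)
    (h : ∀ m : Ideal C, m.IsMaximal → N ⊔ m • (⊤ : Submodule C M) = ⊤) : N = ⊤ := by
  by_contra hN
  have hnt : Nontrivial (M ⧸ N) := Submodule.Quotient.nontrivial_iff.mpr hN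
  have hann : Module.annihilator C (M ⧸ N) ≠ ⊤ := by
    intro htop
    have h1 : (1 : C) ∈ Module.annihilator C (M ⧸ N) := by rw [htop]; trivial
    rw [Module.mem_annihilator] at h1
    obtain ⟨x, y, hxy⟩ := hnt
    exact hxy (by rw [← one_smul C x, ← one_smul C y, h1 x, h1 y])
  obtain ⟨m, hm, hle⟩ := Ideal.exists_le_maximal _ hann
  have htop : (⊤ : Submodule C (M ⧸ N)) ≤ m • (⊤ : Submodule C (M ⧸ N)) := by
    have e1 : (⊤ : Submodule C (M ⧸ N)) = Submodule.map N.mkQ ⊤ := by
      rw [Submodule.map_top, Submodule.range_mkQ]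
    have e2 : Submodule.map N.mkQ (N ⊔ m • (⊤ : Submodule C M)) =
        m • (⊤ : Submodule C (M ⧸ N)) := by
      rw [Submodule.map_sup, Submodule.map_smul'', Submodule.map_top, Submodule.range_mkQ,
        Submodule.mkQ_map_self, bot_sup_eq]
    rw [← e2, h m hm, ← e1]
  obtain ⟨r, hr1, hr2⟩ := Submodule.exists_sub_one_mem_and_smul_eq_zero_of_fg_of_le_smul m
    (⊤ : Submodule C (M ⧸ N)) (Module.Finite.fg_top) htop
  have hrann : r ∈ Module.annihilator C (M ⧸ N) := by
    rw [Module.mem_annihilator]
    intro q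
    exact hr2 q trivial
  have : (1 : C) ∈ m := by
    have := m.sub_mem (hle hrann) hr1
    simpa using this
  exact hm.ne_top ((Ideal.eq_top_iff_one m).mpr this)

/-- an element of an unramified algebra over a field whose `p`-th power is a scalar is a scalar -/
theorem mem_range_of_pow_mem {K L : Type u} [Field K] [CommRing L] [Algebra K L]
    [Algebra.FormallyUnramified K L] [Algebra.EssFiniteType K L] (p : ℕ) (hp : p.Prime)
    (hpL : (p : L) = 0) (x : L) (hx : x ^ p ∈ Set.range (algebraMap K L)) :
    x ∈ Set.range (algebraMap K L) := by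
  classical
  by_cases hL : Subsingleton L
  · exact ⟨0, Subsingleton.elim _ _⟩
  rw [not_subsingleton_iff_nontrivial] at hL
  haveI : Algebra.FormallyUnramified K (L ⊗[K] L) := Algebra.FormallyUnramified.comp K L (L ⊗[K] L)
  haveI : Algebra.EssFiniteType K (L ⊗[K] L) := Algebra.EssFiniteType.comp K L (L ⊗[K] L)
  have hred : IsReduced (L ⊗[K] L) := Algebra.FormallyUnramified.isReduced_of_field K (L ⊗[K] L)
  have H : (1 ⊗ₜ x : L ⊗[K] L) = x ⊗ₜ 1 := by
    by_cases hLL : Subsingleton (L ⊗[K] L)
    · exact Subsingleton.elim _ _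
    rw [not_subsingleton_iff_nontrivial] at hLL
    have hp0 : ((p : ℕ) : L ⊗[K] L) = 0 := by
      have : ((p : ℕ) : L ⊗[K] L) = algebraMap L (L ⊗[K] L) (p : L) := by simp
      rw [this, hpL, map_zero]
    haveI : CharP (L ⊗[K] L) p := (CharP.charP_iff_prime_eq_zero hp).mpr hp0
    haveI : Fact p.Prime := ⟨hp⟩
    have hnil : (1 ⊗ₜ x - x ⊗ₜ 1 : L ⊗[K] L) ^ p = 0 := by
      rw [sub_pow_char, Algebra.TensorProduct.tmul_pow, one_pow, Algebra.TensorProduct.tmul_pow, one_pow]
      obtain ⟨r, hr⟩ := hx
      rw [← hr, Algebra.algebraMap_eq_smul_one, TensorProduct.smul_tmul, sub_self]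
    exact sub_eq_zero.mp (IsNilpotent.eq_zero ⟨_, hnil⟩)
  by_cases h' : LinearIndependent K ![1, x]
  · exfalso
    have h := h'.linearIndepOn_id
    let S := h.extend (Set.subset_univ _)
    let a : S := ⟨1, h.subset_extend _ (by simp)⟩
    have ha : Module.Basis.extend h a = 1 := by simp [a]
    let b : S := ⟨x, h.subset_extend _ (by simp)⟩
    have hb : Module.Basis.extend h b = x := by simp [b]
    have e : a ≠ b := by
      intro e
      have h1x : (1 : L) = x := congr_arg Subtype.val e
      have := (LinearIndependent.pair_iff.mp h') 1 (-1) (by rw [← h1x]; simp)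
      exact one_ne_zero this.1
    have := DFunLike.congr_fun
      (DFunLike.congr_arg ((Module.Basis.extend h).tensorProduct (Module.Basis.extend h)).repr H) (a, b)
    simp only [Module.Basis.tensorProduct_repr_tmul_apply, ← ha, ← hb, Module.Basis.repr_self,
      smul_eq_mul, Finsupp.single_apply, e, Ne.symm e, ↓reduceIte, mul_one, mul_zero,
      one_ne_zero] at this
  · rw [LinearIndependent.pair_iff] at h'
    simp only [not_forall, not_and, exists_prop] at h'
    obtain ⟨a, b, e, hab⟩ := h'
    have hb : IsUnit b := by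
      rw [isUnit_iff_ne_zero]
      rintro rfl
      rw [zero_smul, ← Algebra.algebraMap_eq_smul_one, add_zero,
        (injective_iff_map_eq_zero' _).mp (algebraMap K L).injective] at e
      exact hab e rfl
    refine ⟨-hb.unit⁻¹ * a, ?_⟩
    rw [map_mul, ← Algebra.smul_def, Algebra.algebraMap_eq_smul_one, eq_neg_iff_add_eq_zero.mpr e,
      smul_neg, neg_smul, neg_neg, smul_smul, hb.val_inv_mul, one_smul]

/-- Step 1: a finite type formally unramified algebra of characteristic `p` is generated by
its `p`-th powers -/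
theorem adjoin_pow_eq_top (p : ℕ) [hpf : Fact p.Prime] {A B : Type u} [CommRing A] [CommRing B]
    [Algebra A B] [CharP B p] [Algebra.FiniteType A B] [Algebra.FormallyUnramified A B] :
    Algebra.adjoin A (Set.range fun b : B => b ^ p) = ⊤ := by
  obtain ⟨C, hC⟩ : ∃ C : Subalgebra A B, C = Algebra.adjoin A (Set.range fun b : B => b ^ p) :=
    ⟨_, rfl⟩
  rw [← hC]
  have hpowC : ∀ b : B, b ^ p ∈ C := fun b => by
    rw [hC]; exact Algebra.subset_adjoin ⟨b, rfl⟩
  haveI : Algebra.FormallyUnramified C B := Algebra.FormallyUnramified.of_restrictScalars A C B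
  haveI : Algebra.FiniteType C B := Algebra.FiniteType.of_restrictScalars_finiteType A C B
  haveI : Algebra.IsIntegral C B := by
    refine ⟨fun b => ⟨Polynomial.X ^ p - Polynomial.C (⟨b ^ p, hpowC b⟩ : C), ?_, ?_⟩⟩
    · exact Polynomial.monic_X_pow_sub_C _ hpf.out.ne_zero
    · simp [Polynomial.eval₂_sub, Polynomial.eval₂_pow]
  haveI : Module.Finite C B := Algebra.IsIntegral.finite
  have key : LinearMap.range (Algebra.linearMap C B) = ⊤ := by
    apply eq_top_of_forall_maximal
    intro m hm
    rw [eq_top_iff]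
    intro b _
    letI : Field (C ⧸ m) := Ideal.Quotient.field m
    have hpL : ((p : ℕ) : B ⧸ m.map (algebraMap C B)) = 0 := by
      have : ((p : ℕ) : B ⧸ m.map (algebraMap C B)) = Ideal.Quotient.mk _ ((p : ℕ) : B) :=
        (map_natCast (Ideal.Quotient.mk (m.map (algebraMap C B))) p).symm
      rw [this, CharP.cast_eq_zero, map_zero]
    have hmem := mem_range_of_pow_mem (K := C ⧸ m) (L := B ⧸ m.map (algebraMap C B)) p hpf.out hpL
      (Ideal.Quotient.mk _ b) ⟨Ideal.Quotient.mk m ⟨b ^ p, hpowC b⟩, by
        rw [← map_pow]; rfl⟩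
    obtain ⟨c', hc'⟩ := hmem
    obtain ⟨c, rfl⟩ := Ideal.Quotient.mk_surjective c'
    have hsub : b - algebraMap C B c ∈ m.map (algebraMap C B) := by
      rw [← Ideal.Quotient.eq_zero_iff_mem, map_sub, ← hc']
      exact sub_self _
    have hb : b = algebraMap C B c + (b - algebraMap C B c) := by ring
    rw [hb]
    refine Submodule.add_mem _ (Submodule.mem_sup_left ⟨c, rfl⟩) (Submodule.mem_sup_right ?_)
    rw [Ideal.smul_top_eq_map]
    exact hsub
  rw [eq_top_iff]
  intro b _
  have hb : b ∈ LinearMap.range (Algebra.linearMap C B) := by rw [key]; trivial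
  obtain ⟨c, hc⟩ := hb
  rw [← hc]
  exact c.2

/-- Step 2: iterate -/
theorem adjoin_pow_pow_eq_top (p : ℕ) [hpf : Fact p.Prime] {A B : Type u} [CommRing A] [CommRing B]
    [Algebra A B] [CharP B p] [Algebra.FiniteType A B] [Algebra.FormallyUnramified A B] (s : ℕ) :
    Algebra.adjoin A (Set.range fun b : B => b ^ p ^ s) = ⊤ := by
  induction s with
  | zero =>
    rw [eq_top_iff]
    intro b _
    exact Algebra.subset_adjoin ⟨b, by simp⟩
  | succ s ih =>
    rw [eq_top_iff, ← ih, Algebra.adjoin_le_iff]
    rintro _ ⟨b, rfl⟩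
    have hb : b ∈ Algebra.adjoin A (Set.range fun b : B => b ^ p) := by
      rw [adjoin_pow_eq_top p]; trivial
    show b ^ p ^ s ∈ Algebra.adjoin A (Set.range fun b : B => b ^ p ^ (s + 1))
    induction hb using Algebra.adjoin_induction with
    | mem x hx =>
      obtain ⟨c, rfl⟩ := hx
      apply Algebra.subset_adjoin
      exact ⟨c, by simp only; rw [← pow_mul, pow_succ']⟩
    | algebraMap a =>
      rw [← map_pow]
      exact Subalgebra.algebraMap_mem _ _
    | add x y _ _ hx hy =>
      rw [add_pow_char_pow]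
      exact Subalgebra.add_mem _ hx hy
    | mul x y _ _ hx hy =>
      rw [mul_pow]
      exact Subalgebra.mul_mem _ hx hy

end Groth.Agent.H21.PPow
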