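import Mathlib
import Groth.Prelude.Def_EGA41
import Groth.Agent.H21.PPow

set_option autoImplicit false
universe u

namespace Groth.Agent.H21.PBasis

open EGA41

variable (p : ℕ) [hpf : Fact p.Prime] {A B : Type u} [CommRing A] [CommRing B] [Algebra A B]
  [CharP B p] {ι : Type u} (x : ι → B)

omit hpf [CharP B p] in
lemma pow_mem_pPower (b : B) : b ^ p ∈ pPowerSubalgebra p A B :=
  Algebra.subset_adjoin ⟨b, rfl⟩

omit hpf [CharP B p] in
lemma pMonomial_zero : pMonomial x (0 : ι →₀ ℕ) = 1 := by
  simp [pMonomial]

omit hpf [CharP B p] in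
lemma pMonomial_add (e e' : ι →₀ ℕ) : pMonomial x (e + e') = pMonomial x e * pMonomial x e' := by
  unfold pMonomial
  exact Finsupp.prod_add_index' (fun i => pow_zero _) (fun i m n => pow_add _ _ _)

omit hpf [CharP B p] in
lemma pMonomial_single (i : ι) (n : ℕ) : pMonomial x (Finsupp.single i n) = x i ^ n := by
  unfold pMonomial
  rw [Finsupp.prod_single_index]
  exact pow_zero _

omit hpf [CharP B p] in
/-- div-mod decomposition of a monomial -/
lemma pMonomial_divmod (f : ι →₀ ℕ) :
    pMonomial x f = pMonomial x (f.mapRange (· / p) (Nat.zero_div p)) ^ p *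
      pMonomial x (f.mapRange (· % p) (Nat.zero_mod p)) := by
  classical
  unfold pMonomial
  rw [Finsupp.prod_of_support_subset (f.mapRange (· / p) (Nat.zero_div p))
      (Finsupp.support_mapRange) _ (fun i _ => pow_zero _),
    Finsupp.prod_of_support_subset (f.mapRange (· % p) (Nat.zero_mod p))
      (Finsupp.support_mapRange) _ (fun i _ => pow_zero _),
    Finsupp.prod, ← Finset.prod_pow, ← Finset.prod_mul_distrib]
  refine Finset.prod_congr rfl fun i _ => ?_
  simp only [Finsupp.mapRange_apply]
  rw [← pow_mul, ← pow_add, mul_comm, Nat.div_add_mod]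

omit hpf [CharP B p] in
lemma mapRange_mod_lt (hp : 0 < p) (f : ι →₀ ℕ) (i : ι) :
    (f.mapRange (· % p) (Nat.zero_mod p)) i < p := by
  simp only [Finsupp.mapRange_apply]
  exact Nat.mod_lt _ hp

/-- the span of the reduced monomials -/
def redSpan : Submodule (pPowerSubalgebra p A B) B :=
  Submodule.span (pPowerSubalgebra p A B)
    (Set.range fun e : {e : ι →₀ ℕ // ∀ i, e i < p} => pMonomial x e.1)

omit [CharP B p] in
/-- every monomial is in the span of the reduced monomials -/
lemma pMonomial_mem_redSpan (f : ι →₀ ℕ) : pMonomial x f ∈ redSpan (A := A) p x := by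
  rw [pMonomial_divmod p x f]
  have h1 : pMonomial x (f.mapRange (· / p) (Nat.zero_div p)) ^ p ∈ pPowerSubalgebra p A B :=
    pow_mem_pPower p _
  have h2 : pMonomial x (f.mapRange (· % p) (Nat.zero_mod p)) ∈ redSpan (A := A) p x :=
    Submodule.subset_span ⟨⟨_, mapRange_mod_lt p hpf.out.pos f⟩, rfl⟩
  have := Submodule.smul_mem (redSpan (A := A) p x)
    (⟨_, h1⟩ : pPowerSubalgebra p A B) h2
  exact this

omit [CharP B p] in
/-- the span of reduced monomials is closed under multiplication -/
lemma redSpan_mul_mem {a b : B} (ha : a ∈ redSpan (A := A) p x) (hb : b ∈ redSpan (A := A) p x) :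
    a * b ∈ redSpan (A := A) p x := by
  unfold redSpan at ha hb
  induction ha using Submodule.span_induction with
  | mem a ha =>
    obtain ⟨e, rfl⟩ := ha
    induction hb using Submodule.span_induction with
    | mem b hb =>
      obtain ⟨e', rfl⟩ := hb
      simp only
      rw [← pMonomial_add]
      exact pMonomial_mem_redSpan p x _
    | zero => rw [mul_zero]; exact Submodule.zero_mem _
    | add b b' _ _ hb hb' => rw [mul_add]; exact Submodule.add_mem _ hb hb'
    | smul c b _ hb =>
      rw [mul_smul_comm]
      exact Submodule.smul_mem _ c hb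
  | zero => rw [zero_mul]; exact Submodule.zero_mem _
  | add a a' _ _ ha ha' => rw [add_mul]; exact Submodule.add_mem _ ha ha'
  | smul c a _ ha =>
    rw [smul_mul_assoc]
    exact Submodule.smul_mem _ c ha

omit [CharP B p] in
lemma one_mem_redSpan : (1 : B) ∈ redSpan (A := A) p x := by
  apply Submodule.subset_span
  refine ⟨⟨0, fun i => ?_⟩, pMonomial_zero x⟩
  simp only [Finsupp.coe_zero, Pi.zero_apply]
  exact hpf.out.pos

omit [CharP B p] in
lemma redSpan_eq_adjoin :
    redSpan (A := A) p x =
      Subalgebra.toSubmodule (Algebra.adjoin (pPowerSubalgebra p A B) (Set.range x)) := by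
  apply le_antisymm
  · unfold redSpan
    rw [Submodule.span_le]
    rintro _ ⟨e, rfl⟩
    show pMonomial x e.1 ∈ Algebra.adjoin (pPowerSubalgebra p A B) (Set.range x)
    unfold pMonomial Finsupp.prod
    refine Subalgebra.prod_mem _ fun i _ => ?_
    exact Subalgebra.pow_mem _ (Algebra.subset_adjoin (Set.mem_range_self i)) _
  · have hle : Algebra.adjoin (pPowerSubalgebra p A B) (Set.range x) ≤
        (redSpan (A := A) p x).toSubalgebra (one_mem_redSpan p x)
          (fun a b ha hb => redSpan_mul_mem p x ha hb) := by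
      apply Algebra.adjoin_le
      rintro _ ⟨i, rfl⟩
      have := pMonomial_mem_redSpan (A := A) p x (Finsupp.single i 1)
      rw [pMonomial_single, pow_one] at this
      exact this
    intro b hb
    exact hle hb

omit [CharP B p] in
theorem adjoin_eq_top_iff_pGenerating :
    Algebra.adjoin (pPowerSubalgebra p A B) (Set.range x) = ⊤ ↔ IsPGenerating p A x := by
  show _ ↔ redSpan (A := A) p x = ⊤
  rw [redSpan_eq_adjoin, Algebra.toSubmodule_eq_top]

/-- the differential vanishes on `A[B^p]` -/
lemma D_eq_zero_of_mem_pPower {c : B} (hc : c ∈ pPowerSubalgebra p A B) :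
    KaehlerDifferential.D A B c = 0 := by
  unfold pPowerSubalgebra at hc
  induction hc using Algebra.adjoin_induction with
  | mem c hc =>
    obtain ⟨b, rfl⟩ := hc
    simp only
    rw [Derivation.leibniz_pow, ← Nat.cast_smul_eq_nsmul B, CharP.cast_eq_zero, zero_smul]
  | algebraMap a => exact Derivation.map_algebraMap _ a
  | add a b _ _ ha hb => rw [map_add, ha, hb, add_zero]
  | mul a b _ _ ha hb => rw [Derivation.leibniz, ha, hb, smul_zero, smul_zero, add_zero]

/-- the span of the `d x_i` -/
noncomputable def dSpan : Submodule B (Ω[B⁄A]) :=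
  Submodule.span B (Set.range fun i => KaehlerDifferential.D A B (x i))

/-- the subalgebra of elements whose differential lies in the span of the `d x_i` -/
noncomputable def dSub : Subalgebra A B where
  carrier := {b | KaehlerDifferential.D A B b ∈ dSpan (A := A) x}
  mul_mem' {a b} ha hb := by
    show KaehlerDifferential.D A B (a * b) ∈ dSpan (A := A) x
    rw [Derivation.leibniz]
    exact Submodule.add_mem _ (Submodule.smul_mem _ a hb) (Submodule.smul_mem _ b ha)
  add_mem' {a b} ha hb := by
    show KaehlerDifferential.D A B (a + b) ∈ dSpan (A := A) x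
    rw [map_add]
    exact Submodule.add_mem _ ha hb
  algebraMap_mem' a := by
    show KaehlerDifferential.D A B (algebraMap A B a) ∈ dSpan (A := A) x
    rw [Derivation.map_algebraMap]
    exact Submodule.zero_mem _

theorem dSpan_eq_top_of_pGenerating (h : IsPGenerating p A x) : dSpan (A := A) x = ⊤ := by
  have hx : ∀ i, x i ∈ dSub (A := A) x := fun i => Submodule.subset_span ⟨i, rfl⟩
  have hC : ∀ c ∈ pPowerSubalgebra p A B, c ∈ dSub (A := A) x := by
    intro c hc
    show KaehlerDifferential.D A B c ∈ dSpan (A := A) x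
    rw [D_eq_zero_of_mem_pPower p hc]
    exact Submodule.zero_mem _
  have hmon : ∀ e : ι →₀ ℕ, pMonomial x e ∈ dSub (A := A) x := by
    intro e
    unfold pMonomial Finsupp.prod
    exact Subalgebra.prod_mem _ fun i _ => Subalgebra.pow_mem _ (hx i) _
  have hall : ∀ b : B, b ∈ dSub (A := A) x := by
    intro b
    have hb : b ∈ redSpan (A := A) p x := by
      have : redSpan (A := A) p x = ⊤ := h
      rw [this]; trivial
    unfold redSpan at hb
    induction hb using Submodule.span_induction with
    | mem b hb =>
      obtain ⟨e, rfl⟩ := hb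
      exact hmon _
    | zero => exact Subalgebra.zero_mem _
    | add a b _ _ ha hb => exact Subalgebra.add_mem _ ha hb
    | smul c b _ hb =>
      have : c • b = (c : B) * b := rfl
      rw [this]
      exact Subalgebra.mul_mem _ (hC _ c.2) hb
  rw [eq_top_iff, ← KaehlerDifferential.span_range_derivation, Submodule.span_le]
  rintro _ ⟨b, rfl⟩
  exact hall b

theorem adjoin_eq_top_of_dSpan_eq_top [Algebra.FiniteType (pPowerSubalgebra p A B) B]
    (h : dSpan (A := A) x = ⊤) :
    Algebra.adjoin (pPowerSubalgebra p A B) (Set.range x) = ⊤ := by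
  obtain ⟨C', hC'⟩ : ∃ C' : Subalgebra (pPowerSubalgebra p A B) B,
      C' = Algebra.adjoin (pPowerSubalgebra p A B) (Set.range x) := ⟨_, rfl⟩
  rw [← hC']
  have hxC' : ∀ i, x i ∈ C' := fun i => by
    rw [hC']; exact Algebra.subset_adjoin (Set.mem_range_self i)
  have hpC' : ∀ b : B, b ^ p ∈ C' := fun b =>
    Subalgebra.algebraMap_mem C' (⟨b ^ p, pow_mem_pPower p b⟩ : pPowerSubalgebra p A B)
  haveI : Algebra.FormallyUnramified C' B := by
    constructor
    have hsurj := KaehlerDifferential.map_surjective A C' B
    have hzero : KaehlerDifferential.map A C' B B = 0 := by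
      apply LinearMap.ext_on_range (v := fun i => KaehlerDifferential.D A B (x i)) ?_ ?_
      · exact h
      · intro i
        rw [KaehlerDifferential.map_D, LinearMap.zero_apply]
        have : algebraMap B B (x i) = algebraMap C' B ⟨x i, hxC' i⟩ := rfl
        rw [this, Derivation.map_algebraMap]
    constructor
    intro a b
    obtain ⟨a', rfl⟩ := hsurj a
    obtain ⟨b', rfl⟩ := hsurj b
    rw [hzero, LinearMap.zero_apply, LinearMap.zero_apply]
  haveI : Algebra.FiniteType C' B :=
    Algebra.FiniteType.of_restrictScalars_finiteType (pPowerSubalgebra p A B) C' B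
  have htop := Groth.Agent.H21.PPow.adjoin_pow_eq_top p (A := C') (B := B)
  have hbot : Algebra.adjoin C' (Set.range fun b : B => b ^ p) = ⊥ := by
    rw [eq_bot_iff, Algebra.adjoin_le_iff]
    rintro _ ⟨b, rfl⟩
    rw [SetLike.mem_coe, Algebra.mem_bot]
    exact ⟨⟨b ^ p, hpC' b⟩, rfl⟩
  rw [hbot] at htop
  rw [eq_top_iff]
  intro b _
  have hb : b ∈ (⊥ : Subalgebra C' B) := by rw [htop]; trivial
  rw [Algebra.mem_bot] at hb
  obtain ⟨c, rfl⟩ := hb
  exact c.2

end Groth.Agent.H21.PBasis
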