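import Mathlib
import Groth.Agent.H21.PBasis

set_option autoImplicit false
universe u

namespace Groth.Agent.H21.PBasis

open EGA41

variable (p : ℕ) [hpf : Fact p.Prime] {A B : Type u} [CommRing A] [CommRing B] [Algebra A B]
  [CharP B p] {ι : Type u} (x : ι → B)

omit hpf [CharP B p] in
lemma pMonomial_nsmul (n : ℕ) (q : ι →₀ ℕ) : pMonomial x (n • q) = pMonomial x q ^ n := by
  induction n with
  | zero => rw [zero_smul, pMonomial_zero, pow_zero]
  | succ n ih => rw [succ_nsmul, pMonomial_add, ih, pow_succ]

omit hpf [CharP B p] in
lemma divmod_eq (f : ι →₀ ℕ) :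
    f = p • f.mapRange (· / p) (Nat.zero_div p) + f.mapRange (· % p) (Nat.zero_mod p) := by
  ext i
  simp only [Finsupp.coe_add, Finsupp.coe_smul, Pi.add_apply, Pi.smul_apply,
    Finsupp.mapRange_apply, smul_eq_mul]
  exact (Nat.div_add_mod _ _).symm

/-- the type of reduced exponents -/
abbrev Red (p : ℕ) (ι : Type u) := {e : ι →₀ ℕ // ∀ i, e i < p}

variable {p x}

/-- the basis of reduced monomials attached to a `p`-basis -/
noncomputable def monoBasis (hx : IsPBasis p A x) :
    Module.Basis (Red p ι) (pPowerSubalgebra p A B) B :=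
  Module.Basis.mk (v := fun e : Red p ι => pMonomial x e.1)
    (show LinearIndependent (pPowerSubalgebra p A B) (fun e : Red p ι => pMonomial x e.1) from hx.1)
    (by
      have : Submodule.span (pPowerSubalgebra p A B)
        (Set.range fun e : Red p ι => pMonomial x e.1) = ⊤ := hx.2
      rw [this])

omit hpf [CharP B p] in
lemma monoBasis_apply (hx : IsPBasis p A x) (e : Red p ι) :
    monoBasis hx e = pMonomial x e.1 := by
  unfold monoBasis
  exact Module.Basis.mk_apply _ _ e

/-- the partial derivative with respect to `x j` -/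
noncomputable def partialL (hx : IsPBasis p A x) (j : ι) : B →ₗ[pPowerSubalgebra p A B] B :=
  (monoBasis hx).constr (pPowerSubalgebra p A B)
    (fun e => ((e.1 j : ℕ) : B) * pMonomial x (e.1 - Finsupp.single j 1))

omit hpf [CharP B p] in
lemma partialL_red (hx : IsPBasis p A x) (j : ι) (e : Red p ι) :
    partialL hx j (pMonomial x e.1) =
      ((e.1 j : ℕ) : B) * pMonomial x (e.1 - Finsupp.single j 1) := by
  rw [← monoBasis_apply hx e]
  unfold partialL
  rw [Module.Basis.constr_basis]

/-- the key formula on arbitrary monomials -/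
lemma partialL_monomial (hx : IsPBasis p A x) (j : ι) (f : ι →₀ ℕ) :
    partialL hx j (pMonomial x f) =
      ((f j : ℕ) : B) * pMonomial x (f - Finsupp.single j 1) := by
  classical
  obtain ⟨q, hq⟩ : ∃ q : ι →₀ ℕ, q = f.mapRange (· / p) (Nat.zero_div p) := ⟨_, rfl⟩
  obtain ⟨r, hr⟩ : ∃ r : ι →₀ ℕ, r = f.mapRange (· % p) (Nat.zero_mod p) := ⟨_, rfl⟩
  have hf : f = p • q + r := by rw [hq, hr]; exact divmod_eq p f
  have hrlt : ∀ i, r i < p := fun i => by rw [hr]; exact mapRange_mod_lt p hpf.out.pos f i
  have hfj : f j = p * q j + r j := by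
    rw [hf]; simp
  have hcast : ((f j : ℕ) : B) = ((r j : ℕ) : B) := by
    rw [hfj, Nat.cast_add, Nat.cast_mul, CharP.cast_eq_zero, zero_mul, zero_add]
  have hmono : pMonomial x f = pMonomial x q ^ p * pMonomial x r := by
    conv_lhs => rw [hf]
    rw [pMonomial_add, pMonomial_nsmul]
  have hc : pMonomial x q ^ p ∈ pPowerSubalgebra p A B := pow_mem_pPower p _
  have hsm : pMonomial x q ^ p * pMonomial x r =
      (⟨pMonomial x q ^ p, hc⟩ : pPowerSubalgebra p A B) • pMonomial x r := rfl
  rw [hmono, hsm, LinearMap.map_smul, partialL_red hx j ⟨r, hrlt⟩, hcast]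
  show pMonomial x q ^ p * (((r j : ℕ) : B) * pMonomial x (r - Finsupp.single j 1)) = _
  rcases Nat.eq_zero_or_pos (r j) with h0 | hpos
  · rw [h0, Nat.cast_zero, zero_mul, mul_zero, zero_mul]
  · have hsub : f - Finsupp.single j 1 = p • q + (r - Finsupp.single j 1) := by
      ext i
      simp only [Finsupp.coe_tsub, Finsupp.coe_add, Finsupp.coe_smul, Pi.sub_apply, Pi.add_apply,
        Pi.smul_apply, smul_eq_mul]
      have hfi : f i = p * q i + r i := by rw [hf]; simp
      by_cases hij : i = j
      · subst hij
        rw [Finsupp.single_eq_same]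
        omega
      · rw [Finsupp.single_eq_of_ne hij]
        omega
    rw [hsub, pMonomial_add, pMonomial_nsmul]
    ring

lemma partialL_leibniz_monomial (hx : IsPBasis p A x) (j : ι) (e e' : ι →₀ ℕ) :
    partialL hx j (pMonomial x e * pMonomial x e') =
      pMonomial x e * partialL hx j (pMonomial x e') +
        pMonomial x e' * partialL hx j (pMonomial x e) := by
  classical
  rw [← pMonomial_add, partialL_monomial, partialL_monomial, partialL_monomial]
  have h1 : ((e' j : ℕ) : B) * pMonomial x (e + e' - Finsupp.single j 1) =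
      pMonomial x e * (((e' j : ℕ) : B) * pMonomial x (e' - Finsupp.single j 1)) := by
    rcases Nat.eq_zero_or_pos (e' j) with h0 | hpos
    · rw [h0, Nat.cast_zero, zero_mul, zero_mul, mul_zero]
    · have : e + e' - Finsupp.single j 1 = e + (e' - Finsupp.single j 1) := by
        ext i
        simp only [Finsupp.coe_tsub, Finsupp.coe_add, Pi.sub_apply, Pi.add_apply]
        by_cases hij : i = j
        · subst hij
          rw [Finsupp.single_eq_same]
          omega
        · rw [Finsupp.single_eq_of_ne hij]
          omega
      rw [this, pMonomial_add]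
      ring
  have h2 : ((e j : ℕ) : B) * pMonomial x (e + e' - Finsupp.single j 1) =
      pMonomial x e' * (((e j : ℕ) : B) * pMonomial x (e - Finsupp.single j 1)) := by
    rcases Nat.eq_zero_or_pos (e j) with h0 | hpos
    · rw [h0, Nat.cast_zero, zero_mul, zero_mul, mul_zero]
    · have : e + e' - Finsupp.single j 1 = (e - Finsupp.single j 1) + e' := by
        ext i
        simp only [Finsupp.coe_tsub, Finsupp.coe_add, Pi.sub_apply, Pi.add_apply]
        by_cases hij : i = j
        · subst hij
          rw [Finsupp.single_eq_same]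
          omega
        · rw [Finsupp.single_eq_of_ne hij]
          omega
      rw [this, pMonomial_add]
      ring
  rw [← h1, ← h2]
  simp only [Finsupp.coe_add, Pi.add_apply, Nat.cast_add]
  ring

lemma partialL_leibniz (hx : IsPBasis p A x) (j : ι) (a b : B) :
    partialL hx j (a * b) = a * partialL hx j b + b * partialL hx j a := by
  have hspan : ∀ b : B, b ∈ redSpan (A := A) p x := fun b => by
    have : redSpan (A := A) p x = ⊤ := hx.2
    rw [this]; trivial
  have ha := hspan a
  have hb := hspan b
  unfold redSpan at ha hb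
  induction ha using Submodule.span_induction with
  | mem a ha =>
    obtain ⟨e, rfl⟩ := ha
    induction hb using Submodule.span_induction with
    | mem b hb =>
      obtain ⟨e', rfl⟩ := hb
      exact partialL_leibniz_monomial hx j e.1 e'.1
    | zero => simp
    | add b b' _ _ hb hb' =>
      rw [mul_add, map_add, hb, hb', map_add]
      ring
    | smul c b _ hb =>
      rw [mul_smul_comm, LinearMap.map_smul, hb, LinearMap.map_smul, smul_add, mul_smul_comm,
        smul_mul_assoc]
  | zero => simp
  | add a a' _ _ ha ha' =>
    rw [add_mul, map_add, ha, ha', map_add]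
    ring
  | smul c a _ ha =>
    rw [smul_mul_assoc, LinearMap.map_smul, ha, LinearMap.map_smul, smul_add, smul_mul_assoc,
      mul_smul_comm]

/-- the partial derivative as an `A`-derivation -/
noncomputable def partialD (hx : IsPBasis p A x) (j : ι) : Derivation A B B :=
  Derivation.mk' ((partialL hx j).restrictScalars A) (fun a b => by
    simp only [LinearMap.coe_restrictScalars, smul_eq_mul]
    exact partialL_leibniz hx j a b)

lemma partialD_apply (hx : IsPBasis p A x) (j : ι) (b : B) :
    partialD hx j b = partialL hx j b := rfl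

open Classical in
lemma partialD_x (hx : IsPBasis p A x) (j i : ι) :
    partialD hx j (x i) = if i = j then 1 else 0 := by
  rw [partialD_apply]
  have := partialL_monomial hx j (Finsupp.single i 1)
  rw [pMonomial_single, pow_one] at this
  rw [this]
  by_cases hij : i = j
  · subst hij
    rw [if_pos rfl, Finsupp.single_eq_same, tsub_self, pMonomial_zero, Nat.cast_one, one_mul]
  · rw [if_neg hij, Finsupp.single_eq_of_ne (Ne.symm hij), Nat.cast_zero, zero_mul]

/-- the differentials of a `p`-basis are linearly independent -/
theorem linearIndependent_D (hx : IsPBasis p A x) :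
    LinearIndependent B (fun i => KaehlerDifferential.D A B (x i)) := by
  classical
  rw [linearIndependent_iff']
  intro s g hg j hj
  have := congrArg (partialD hx j).liftKaehlerDifferential hg
  rw [map_sum, map_zero] at this
  have h2 : ∀ i ∈ s, (partialD hx j).liftKaehlerDifferential (g i • KaehlerDifferential.D A B (x i)) =
      if i = j then g i else 0 := by
    intro i _
    rw [LinearMap.map_smul, Derivation.liftKaehlerDifferential_comp_D, partialD_x, smul_eq_mul]
    split_ifs <;> simp
  rw [Finset.sum_congr rfl h2, Finset.sum_ite_eq' s j, if_pos hj] at this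
  exact this

theorem exists_basis_D (hx : IsPBasis p A x) :
    ∃ b : Module.Basis ι B (Ω[B⁄A]), ∀ i, b i = KaehlerDifferential.D A B (x i) := by
  refine ⟨Module.Basis.mk (linearIndependent_D hx) ?_, fun i => Module.Basis.mk_apply _ _ i⟩
  have := dSpan_eq_top_of_pGenerating p x hx.2
  unfold dSpan at this
  rw [this]

end Groth.Agent.H21.PBasis
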