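import Mathlib
import Groth.Agent.H21.PBasis2

set_option autoImplicit false
universe u

namespace Groth.Agent.H21.PBasis

open EGA41

variable {p : ℕ} [hpf : Fact p.Prime] {A B : Type u} [CommRing A] [CommRing B] [Algebra A B]
  [CharP B p] {ι : Type u} {x : ι → B}

section
variable (hinj : Function.Injective (algebraMap A B))
  (hpow : ∀ b : B, b ^ p ∈ Set.range (algebraMap A B))

include hpow in
omit hpf [CharP B p] in
lemma mem_range_of_mem_pPower {c : B} (hc : c ∈ pPowerSubalgebra p A B) :
    c ∈ Set.range (algebraMap A B) := by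
  unfold pPowerSubalgebra at hc
  induction hc using Algebra.adjoin_induction with
  | mem c hc =>
    obtain ⟨b, rfl⟩ := hc
    exact hpow b
  | algebraMap a => exact ⟨a, rfl⟩
  | add a b _ _ ha hb =>
    obtain ⟨a', rfl⟩ := ha
    obtain ⟨b', rfl⟩ := hb
    exact ⟨a' + b', map_add _ _ _⟩
  | mul a b _ _ ha hb =>
    obtain ⟨a', rfl⟩ := ha
    obtain ⟨b', rfl⟩ := hb
    exact ⟨a' * b', map_mul _ _ _⟩

include hpow in
omit hpf [CharP B p] in
lemma algebraMap_pPower_surjective :
    Function.Surjective (algebraMap A (pPowerSubalgebra p A B)) := by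
  intro c
  obtain ⟨a, ha⟩ := mem_range_of_mem_pPower hpow c.2
  exact ⟨a, Subtype.ext ha⟩

include hinj in
omit hpf [CharP B p] in
lemma linearIndependent_A (hx : IsPBasis p A x) :
    LinearIndependent A (fun e : Red p ι => pMonomial x e.1) := by
  have hli : LinearIndependent (pPowerSubalgebra p A B) (fun e : Red p ι => pMonomial x e.1) := hx.1
  refine hli.restrict_scalars ?_
  intro a b hab
  apply hinj
  have := congrArg (Subtype.val) hab
  simpa [Algebra.smul_def] using this

include hpow in
omit hpf [CharP B p] in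
lemma span_A_eq_top (hx : IsPBasis p A x) :
    Submodule.span A (Set.range fun e : Red p ι => pMonomial x e.1) = ⊤ := by
  have hsp : Submodule.span (pPowerSubalgebra p A B)
      (Set.range fun e : Red p ι => pMonomial x e.1) = ⊤ := hx.2
  rw [← Submodule.restrictScalars_span A (pPowerSubalgebra p A B)
    (algebraMap_pPower_surjective hpow), hsp, Submodule.restrictScalars_top]

/-- the `A`-basis of reduced monomials -/
noncomputable def monoBasisA (hx : IsPBasis p A x) : Module.Basis (Red p ι) A B :=
  Module.Basis.mk (linearIndependent_A hinj hx) (span_A_eq_top hpow hx).ge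

omit hpf [CharP B p] in
lemma monoBasisA_apply (hx : IsPBasis p A x) (e : Red p ι) :
    monoBasisA hinj hpow hx e = pMonomial x e.1 := by
  unfold monoBasisA
  exact Module.Basis.mk_apply _ _ e

end

omit hpf [CharP B p] in
lemma map_pMonomial {E : Type u} [CommRing E] [Algebra A E] (q : E →ₐ[A] B) (z : ι → E)
    (hz : ∀ i, q (z i) = x i) (f : ι →₀ ℕ) : q (pMonomial z f) = pMonomial x f := by
  unfold pMonomial
  rw [map_finsuppProd]
  refine Finsupp.prod_congr fun i _ => ?_
  rw [map_pow, hz]

section Lift
variable (hinj : Function.Injective (algebraMap A B))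
  (hpow : ∀ b : B, b ^ p ∈ Set.range (algebraMap A B)) (hx : IsPBasis p A x)
  {E : Type u} [CommRing E] [Algebra A E] (q : E →ₐ[A] B)
  (H : ∀ (z : E) (a : A), algebraMap A B a = q z ^ p → algebraMap A E a = z ^ p)
  (z : ι → E) (hz : ∀ i, q (z i) = x i)

/-- the linear lift -/
noncomputable def liftL : B →ₗ[A] E :=
  (monoBasisA hinj hpow hx).constr A (fun e : Red p ι => pMonomial z e.1)

omit hpf [CharP B p] in
lemma liftL_red (e : Red p ι) : liftL hinj hpow hx z (pMonomial x e.1) = pMonomial z e.1 := by
  rw [← monoBasisA_apply hinj hpow hx e]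
  unfold liftL
  rw [Module.Basis.constr_basis]

include H hz in
omit [CharP B p] in
lemma liftL_monomial (f : ι →₀ ℕ) : liftL hinj hpow hx z (pMonomial x f) = pMonomial z f := by
  obtain ⟨q', hq'⟩ : ∃ q' : ι →₀ ℕ, q' = f.mapRange (· / p) (Nat.zero_div p) := ⟨_, rfl⟩
  obtain ⟨r, hr⟩ : ∃ r : ι →₀ ℕ, r = f.mapRange (· % p) (Nat.zero_mod p) := ⟨_, rfl⟩
  have hf : f = p • q' + r := by rw [hq', hr]; exact divmod_eq p f
  have hrlt : ∀ i, r i < p := fun i => by rw [hr]; exact mapRange_mod_lt p hpf.out.pos f i
  obtain ⟨a, ha⟩ := hpow (pMonomial x q')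
  have hE : algebraMap A E a = pMonomial z q' ^ p := by
    apply H
    rw [map_pMonomial q z hz, ha]
  have hxf : pMonomial x f = a • pMonomial x r := by
    conv_lhs => rw [hf]
    rw [pMonomial_add, pMonomial_nsmul, ← ha, Algebra.smul_def]
  have hzf : pMonomial z f = a • pMonomial z r := by
    conv_lhs => rw [hf]
    rw [pMonomial_add, pMonomial_nsmul, ← hE, Algebra.smul_def]
  rw [hxf, LinearMap.map_smul, liftL_red hinj hpow hx z ⟨r, hrlt⟩, hzf]

include H hz in
omit [CharP B p] in
lemma liftL_mul (b b' : B) :
    liftL hinj hpow hx z (b * b') = liftL hinj hpow hx z b * liftL hinj hpow hx z b' := by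
  have hspan : ∀ b : B, b ∈ Submodule.span A (Set.range fun e : Red p ι => pMonomial x e.1) :=
    fun b => by rw [span_A_eq_top hpow hx]; trivial
  have hb := hspan b
  have hb' := hspan b'
  induction hb using Submodule.span_induction with
  | mem b hb =>
    obtain ⟨e, rfl⟩ := hb
    induction hb' using Submodule.span_induction with
    | mem b' hb' =>
      obtain ⟨e', rfl⟩ := hb'
      simp only
      rw [← pMonomial_add, liftL_monomial hinj hpow hx q H z hz, liftL_red, liftL_red,
        pMonomial_add]
    | zero => simp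
    | add c c' _ _ hc hc' => rw [mul_add, map_add, hc, hc', map_add, mul_add]
    | smul a c _ hc => rw [mul_smul_comm, LinearMap.map_smul, hc, LinearMap.map_smul, mul_smul_comm]
  | zero => simp
  | add c c' _ _ hc hc' => rw [add_mul, map_add, hc, hc', map_add, add_mul]
  | smul a c _ hc => rw [smul_mul_assoc, LinearMap.map_smul, hc, LinearMap.map_smul, smul_mul_assoc]

/-- the lift as an algebra homomorphism -/
noncomputable def liftA : B →ₐ[A] E :=
  AlgHom.ofLinearMap (liftL hinj hpow hx z)
    (by
      have := liftL_monomial hinj hpow hx q H z hz 0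
      rwa [pMonomial_zero, pMonomial_zero] at this)
    (liftL_mul hinj hpow hx q H z hz)

omit [CharP B p] in
lemma liftA_x (i : ι) : liftA hinj hpow hx q H z hz (x i) = z i := by
  have := liftL_monomial hinj hpow hx q H z hz (Finsupp.single i 1)
  rw [pMonomial_single, pMonomial_single, pow_one, pow_one] at this
  exact this

include hpow hx in
omit hpf [CharP B p] in
/-- algebra maps out of `B` are determined by the values on the `x i` -/
lemma algHom_ext_of_x {E' : Type u} [CommRing E'] [Algebra A E'] (v v' : B →ₐ[A] E')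
    (h : ∀ i, v (x i) = v' (x i)) : v = v' := by
  apply AlgHom.toLinearMap_injective
  apply LinearMap.ext_on_range (span_A_eq_top hpow hx)
  intro e
  simp only [AlgHom.toLinearMap_apply]
  unfold pMonomial
  rw [map_finsuppProd, map_finsuppProd]
  refine Finsupp.prod_congr fun i _ => ?_
  rw [map_pow, map_pow, h]

end Lift

end Groth.Agent.H21.PBasis
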