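import Mathlib
import Groth.Agent.H21.PBasis3

set_option autoImplicit false
universe u

namespace Groth.Agent.H21.PBasis

open EGA41 TrivSqZeroExt

variable {p : ℕ} [hpf : Fact p.Prime] {A B : Type u} [CommRing A] [CommRing B] [Algebra A B]
  [CharP B p] {ι : Type u} {x : ι → B}

theorem deriv_ext (hinj : Function.Injective (algebraMap A B))
    (hpow : ∀ b : B, b ^ p ∈ Set.range (algebraMap A B)) (hx : IsPBasis p A x)
    (L : Type u) [AddCommGroup L] [Module B L] [Module A L] [IsScalarTower A B L]
    (D : Derivation ℤ A L)
    (hD : ∀ (a : A) (b : B), algebraMap A B a = b ^ p → D a = 0) (y : ι → L) :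
    ∃! D' : Derivation ℤ B L, (∀ a : A, D' (algebraMap A B a) = D a) ∧ ∀ i, D' (x i) = y i := by
  classical
  letI iop : Module Bᵐᵒᵖ L :=
    Module.compHom L ((RingHom.id B).fromOpposite (fun a b => mul_comm a b))
  haveI : IsCentralScalar B L := ⟨fun b l => rfl⟩
  let φ : A →+* TrivSqZeroExt B L :=
    { toFun := fun a => inl (algebraMap A B a) + inr (D a)
      map_one' := by
        ext
        · simp
        · simp
      map_mul' := fun a b => by
        ext
        · simp
        · simp only [snd_add, snd_inl, snd_inr, zero_add, snd_mul, fst_add, fst_inl, fst_inr,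
            add_zero, Derivation.leibniz, algebraMap_smul, op_smul_eq_smul]
      map_zero' := by
        ext
        · simp
        · simp
      map_add' := fun a b => by
        ext
        · simp
        · simp }
  letI algE : Algebra A (TrivSqZeroExt B L) := φ.toAlgebra
  have halg : ∀ a, algebraMap A (TrivSqZeroExt B L) a = inl (algebraMap A B a) + inr (D a) :=
    fun a => rfl
  let q : TrivSqZeroExt B L →ₐ[A] B :=
    { toFun := fst
      map_one' := fst_one
      map_mul' := fst_mul
      map_zero' := fst_zero
      map_add' := fst_add
      commutes' := fun a => by rw [halg]; simp }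
  have hqfst : ∀ z, q z = z.fst := fun z => rfl
  have hp0 : ∀ l : L, (p : ℕ) • l = 0 := fun l => by
    rw [← Nat.cast_smul_eq_nsmul B, CharP.cast_eq_zero, zero_smul]
  have H : ∀ (z : TrivSqZeroExt B L) (a : A), algebraMap A B a = q z ^ p →
      algebraMap A (TrivSqZeroExt B L) a = z ^ p := by
    intro z a ha
    rw [halg]
    ext
    · simp [ha, hqfst]
    · simp only [snd_add, snd_inl, snd_inr, zero_add, snd_pow, hp0]
      exact hD a z.fst ha
  let z : ι → TrivSqZeroExt B L := fun i => inl (x i) + inr (y i)
  have hz : ∀ i, q (z i) = x i := fun i => by rw [hqfst]; simp [z]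
  -- the lift
  obtain ⟨v, hv⟩ : ∃ v : B →ₐ[A] TrivSqZeroExt B L, ∀ i, v (x i) = z i :=
    ⟨liftA hinj hpow hx q H z hz, liftA_x hinj hpow hx q H z hz⟩
  have hqv : q.comp v = AlgHom.id A B := by
    apply algHom_ext_of_x hpow hx
    intro i
    simp [hv, hz]
  have hfst : ∀ b, (v b).fst = b := fun b => by
    have := congrArg (fun f => f b) hqv
    simpa [hqfst] using this
  -- the derivation
  let D' : Derivation ℤ B L := Derivation.mk'
    ({ toFun := fun b => (v b).snd
       map_add' := fun a b => by rw [map_add, snd_add]
       map_smul' := fun n b => by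
        rw [map_zsmul, snd_smul]
        rfl } : B →ₗ[ℤ] L)
    (fun a b => by
      show (v (a * b)).snd = a • (v b).snd + b • (v a).snd
      rw [map_mul, snd_mul, hfst, hfst, op_smul_eq_smul])
  have hD'apply : ∀ b, D' b = (v b).snd := fun b => rfl
  refine ⟨D', ⟨?_, ?_⟩, ?_⟩
  · intro a
    rw [hD'apply, v.commutes, halg]
    simp
  · intro i
    rw [hD'apply, hv]
    simp [z]
  · rintro D'' ⟨hD''a, hD''x⟩
    -- the algebra map attached to `D''`
    let v'' : B →ₐ[A] TrivSqZeroExt B L :=
      { toFun := fun b => inl b + inr (D'' b)
        map_one' := by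
          ext
          · simp
          · simp
        map_mul' := fun a b => by
          ext
          · simp
          · simp only [snd_add, snd_inl, snd_inr, zero_add, snd_mul, fst_add, fst_inl, fst_inr,
              add_zero, Derivation.leibniz, op_smul_eq_smul]
        map_zero' := by
          ext
          · simp
          · simp
        map_add' := fun a b => by
          ext
          · simp
          · simp
        commutes' := fun a => by
          rw [halg, hD''a] }
    have hv'' : v'' = v := by
      apply algHom_ext_of_x hpow hx
      intro i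
      rw [hv]
      show inl (x i) + inr (D'' (x i)) = z i
      rw [hD''x]
    ext b
    rw [hD'apply, ← hv'']
    show D'' b = (inl b + inr (D'' b) : TrivSqZeroExt B L).snd
    simp

end Groth.Agent.H21.PBasis
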