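import Mathlib

set_option autoImplicit false
universe u

open Polynomial

namespace H21.PField

variable {K : Type u} [Field K] (p : ℕ) [hpf : Fact p.Prime] [CharP K p]

/-- a subring containing all `p`-th powers is closed under inverses -/
lemma inv_mem_of_pow_mem (S : Subring K) (hS : ∀ a : K, a ^ p ∈ S) {c : K} (hc : c ∈ S) :
    c⁻¹ ∈ S := by
  by_cases h0 : c = 0
  · rw [h0, inv_zero]; exact S.zero_mem
  · have hp1 : 1 ≤ p := hpf.out.one_lt.le
    have : c⁻¹ = c ^ (p - 1) * (c⁻¹) ^ p := by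
      rw [inv_pow]
      have hcp : c ^ p ≠ 0 := pow_ne_zero _ h0
      field_simp
      rw [← pow_succ', Nat.sub_add_cancel hp1]
    rw [this]
    exact S.mul_mem (S.pow_mem hc _) (hS _)

/-- the subfield with the same carrier -/
def toSubfield (S : Subring K) (hS : ∀ a : K, a ^ p ∈ S) : Subfield K :=
  { S with inv_mem' := fun _ hc => inv_mem_of_pow_mem p S hS hc }

lemma mem_toSubfield (S : Subring K) (hS : ∀ a : K, a ^ p ∈ S) (a : K) :
    a ∈ toSubfield p S hS ↔ a ∈ S := Iff.rfl

/-- Exchange lemma, elementary form: if `s ∉ S` then `1, s, …, s^(p-1)` are independent over `S`. -/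
theorem powers_independent (S : Subring K) (hS : ∀ a : K, a ^ p ∈ S) (s : K) (hs : s ∉ S)
    (g : Fin p → K) (hg : ∀ j, g j ∈ S) (hsum : ∑ j, g j * s ^ (j : ℕ) = 0) : ∀ j, g j = 0 := by
  classical
  let S' : Subfield K := toSubfield p S hS
  let a : S' := ⟨s ^ p, hS s⟩
  have ha : ∀ b : S', b ^ p ≠ a := by
    intro b hb
    have h1 : (b : K) ^ p = s ^ p := congrArg Subtype.val hb
    have h2 : ((b : K) - s) ^ p = 0 := by rw [sub_pow_char, h1, sub_self]
    have h3 : (b : K) = s := sub_eq_zero.mp (pow_eq_zero_iff hpf.out.ne_zero |>.mp h2)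
    exact hs (h3 ▸ b.2)
  have hirr : Irreducible (X ^ p - C a : S'[X]) := X_pow_sub_C_irreducible_of_prime hpf.out ha
  have hroot : aeval s (X ^ p - C a : S'[X]) = 0 := by
    rw [map_sub, map_pow, aeval_X, aeval_C]
    show s ^ p - s ^ p = 0
    exact sub_self _
  have hmonic : (X ^ p - C a : S'[X]).Monic := monic_X_pow_sub_C a hpf.out.ne_zero
  have hmin : (X ^ p - C a : S'[X]) = minpoly S' s :=
    minpoly.eq_of_irreducible_of_monic hirr hroot hmonic
  have hdeg : (minpoly S' s).natDegree = p := by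
    rw [← hmin, natDegree_X_pow_sub_C]
  have hli := linearIndependent_pow (K := S') s
  rw [Fintype.linearIndependent_iff] at hli
  intro j
  have := hli (fun i => (⟨g (Fin.cast hdeg i), hg _⟩ : S')) (by
    have h4 : ∑ i : Fin (minpoly S' s).natDegree,
        (⟨g (Fin.cast hdeg i), hg _⟩ : S') • s ^ (i : ℕ) =
        ∑ j : Fin p, g j * s ^ (j : ℕ) := by
      refine Fintype.sum_equiv (finCongr hdeg) _ _ (fun i => ?_)
      rfl
    rw [h4, hsum]) (Fin.cast hdeg.symm j)
  have h5 := congrArg Subtype.val this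
  simpa using h5

end H21.PField
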