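import Mathlib
import Groth.Agent.H21.PBasis2
import Groth.Agent.H21.PField1

set_option autoImplicit false
universe u

open EGA41 Groth.Agent.H21.PBasis

namespace H21.PField

variable (p : ℕ) [hpf : Fact p.Prime] (k : Type u) {K : Type u} [Field k] [Field K] [Algebra k K]
  [CharP K p]

/-- the big monomial family, with all elements of `K` as variables -/
noncomputable def Mon : Red p K → K := fun e => pMonomial (id : K → K) e.1

/-- reduced exponent vectors supported in `B` -/
def RSet (B : Set K) : Set (Red p K) := {e | (e.1.support : Set K) ⊆ B}

/-- internal notion of `p`-independence of a set -/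
def PI (B : Set K) : Prop := LinearIndepOn (pPowerSubalgebra p k K) (Mon p) (RSet p B)

variable {p}

omit hpf [CharP K p] in
lemma RSet_mono {B B' : Set K} (h : B ⊆ B') : RSet p B ⊆ RSet p B' :=
  fun _ he => he.trans h

variable {k}

omit hpf [CharP K p] in
lemma PI.mono {B B' : Set K} (h : B ⊆ B') (hB' : PI p k B') : PI p k B :=
  LinearIndepOn.mono hB' (RSet_mono h)

open Classical in
/-- the equivalence between reduced exponents on the subtype and `RSet` -/
noncomputable def redEquiv (B : Set K) : Red p B ≃ RSet p B where
  toFun e := ⟨⟨e.1.extendDomain, fun i => by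
      rw [Finsupp.extendDomain_apply]
      split_ifs with h
      · exact e.2 _
      · exact hpf.out.pos⟩, Finsupp.support_extendDomain_subset _⟩
  invFun e := ⟨e.1.1.subtypeDomain (· ∈ B), fun i => by
      rw [Finsupp.subtypeDomain_apply]; exact e.1.2 _⟩
  left_inv e := Subtype.ext (Finsupp.subtypeDomain_extendDomain _)
  right_inv e := Subtype.ext (Subtype.ext
    (Finsupp.extendDomain_subtypeDomain e.1.1 (fun a ha => e.2 ha)))

omit [CharP K p] in
lemma Mon_redEquiv (B : Set K) (e : Red p B) :
    Mon p (redEquiv B e).1 = pMonomial (Subtype.val : B → K) e.1 := by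
  classical
  unfold Mon pMonomial redEquiv
  simp only [Equiv.coe_fn_mk]
  rw [Finsupp.extendDomain_eq_embDomain_subtype, Finsupp.prod_embDomain]
  rfl

omit [CharP K p] in
/-- conversion between the official notion and the internal one -/
theorem isPIndependent_iff_PI (B : Set K) :
    IsPIndependent p k (Subtype.val : B → K) ↔ PI p k B := by
  unfold IsPIndependent PI LinearIndepOn
  exact linearIndependent_equiv' (redEquiv B) (funext fun e => Mon_redEquiv B e)

end H21.PField
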