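import Mathlib
import Groth.Agent.H21.PField2

set_option autoImplicit false
universe u

open EGA41 Groth.Agent.H21.PBasis

namespace H21.PField

variable {p : ℕ} [hpf : Fact p.Prime] {k : Type u} {K : Type u} [Field k] [Field K] [Algebra k K]
  [CharP K p]

omit [CharP K p] in
lemma pow_mem_adjoin (B : Set K) (a : K) :
    a ^ p ∈ Algebra.adjoin (pPowerSubalgebra p k K) B := by
  have h : a ^ p ∈ pPowerSubalgebra p k K := pow_mem_pPower p a
  exact (Algebra.adjoin (pPowerSubalgebra p k K) B).algebraMap_mem ⟨a ^ p, h⟩

omit [CharP K p] in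
lemma Mon_mem_adjoin (B : Set K) (e : RSet p B) :
    Mon p e.1 ∈ Algebra.adjoin (pPowerSubalgebra p k K) B := by
  unfold Mon pMonomial Finsupp.prod
  refine Subalgebra.prod_mem _ (fun i hi => ?_)
  exact Subalgebra.pow_mem _ (Algebra.subset_adjoin (e.2 hi)) _

/-- the reindexing equivalence for inserting a new element -/
noncomputable def insertEquiv (B : Set K) (s : K) (hs : s ∉ B) :
    RSet p B × Fin p ≃ RSet p (insert s B) where
  toFun q := ⟨⟨q.1.1.1 + Finsupp.single s (q.2 : ℕ), fun i => by
      have hs0 : q.1.1.1 s = 0 := by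
        by_contra h
        exact hs (q.1.2 (Finsupp.mem_support_iff.mpr h))
      rw [Finsupp.add_apply]
      by_cases hi : i = s
      · subst hi
        rw [hs0, Finsupp.single_eq_same, zero_add]; exact q.2.2
      · rw [Finsupp.single_eq_of_ne hi, add_zero]; exact q.1.1.2 i⟩, by
      classical
      intro i hi
      have hi' := Finsupp.support_add hi
      rcases Finset.mem_union.mp hi' with h | h
      · exact Set.mem_insert_of_mem _ (q.1.2 h)
      · have := Finsupp.support_single_subset h
        rw [Finset.mem_singleton] at this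
        exact this ▸ Set.mem_insert _ _⟩
  invFun e := (⟨⟨e.1.1.erase s, fun i => by
      by_cases hi : i = s
      · subst hi; rw [Finsupp.erase_same]; exact hpf.out.pos
      · rw [Finsupp.erase_ne hi]; exact e.1.2 i⟩, by
      classical
      intro i hi
      rw [Finset.mem_coe, Finsupp.support_erase, Finset.mem_erase] at hi
      rcases e.2 hi.2 with h | h
      · exact absurd h hi.1
      · exact h⟩, ⟨e.1.1 s, e.1.2 s⟩)
  left_inv q := by
    have hs0 : q.1.1.1 s = 0 := by
      by_contra h
      exact hs (q.1.2 (Finsupp.mem_support_iff.mpr h))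
    refine Prod.ext (Subtype.ext (Subtype.ext ?_)) (Fin.ext ?_)
    · simp only
      ext i
      by_cases hi : i = s
      · subst hi; rw [Finsupp.erase_same, hs0]
      · rw [Finsupp.erase_ne hi, Finsupp.add_apply, Finsupp.single_eq_of_ne hi, add_zero]
    · simp only
      rw [Finsupp.add_apply, hs0, Finsupp.single_eq_same, zero_add]
  right_inv e := by
    refine Subtype.ext (Subtype.ext ?_)
    simp only
    exact Finsupp.erase_add_single s e.1.1

omit [CharP K p] in
lemma Mon_insertEquiv (B : Set K) (s : K) (hs : s ∉ B) (q : RSet p B × Fin p) :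
    Mon p (insertEquiv B s hs q).1 = Mon p q.1.1 * s ^ (q.2 : ℕ) := by
  unfold Mon insertEquiv
  simp only [Equiv.coe_fn_mk]
  rw [pMonomial_add, pMonomial_single]
  rfl

end H21.PField
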