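import Mathlib
import Groth.Agent.H21.PField3

set_option autoImplicit false
universe u

open EGA41 Groth.Agent.H21.PBasis

namespace H21.PField

variable {p : ℕ} [hpf : Fact p.Prime] {k : Type u} {K : Type u} [Field k] [Field K] [Algebra k K]
  [CharP K p]

/-- Exchange lemma. -/
theorem PI_insert (B : Set K) (hB : PI p k B) (s : K)
    (hs : s ∉ Algebra.adjoin (pPowerSubalgebra p k K) B) : PI p k (insert s B) := by
  have hsB : s ∉ B := fun h => hs (Algebra.subset_adjoin h)
  obtain ⟨C, hC⟩ : ∃ C : Subalgebra (pPowerSubalgebra p k K) K,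
      C = Algebra.adjoin (pPowerSubalgebra p k K) B := ⟨_, rfl⟩
  rw [← hC] at hs
  let b : RSet p B → C := fun e => ⟨Mon p e.1, hC ▸ Mon_mem_adjoin B e⟩
  have hb : LinearIndependent (pPowerSubalgebra p k K) b := by
    apply LinearIndependent.of_comp C.val.toLinearMap
    exact hB
  let c : Fin p → K := fun j => s ^ (j : ℕ)
  have hc : LinearIndependent C c := by
    rw [Fintype.linearIndependent_iff]
    intro g hg j
    have := powers_independent p C.toSubring (fun a => hC ▸ pow_mem_adjoin B a) s hs
      (fun j => (g j : K)) (fun j => (g j).2) hg j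
    exact Subtype.ext this
  have H := linearIndependent_smul hb hc
  unfold PI LinearIndepOn
  rw [← linearIndependent_equiv' (insertEquiv B s hsB)
    (f := fun e : RSet p (insert s B) => Mon p e.1)
    (g := fun q : RSet p B × Fin p => b q.1 • c q.2)
    (funext fun q => Mon_insertEquiv B s hsB q)]
  exact H

end H21.PField
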