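import Mathlib
import Groth.Agent.H21.PField4

set_option autoImplicit false
universe u

open EGA41 Groth.Agent.H21.PBasis

namespace H21.PField

variable {p : ℕ} [hpf : Fact p.Prime] {k : Type u} {K : Type u} [Field k] [Field K] [Algebra k K]
  [CharP K p]

omit hpf [CharP K p] in
lemma PI_sUnion (c : Set (Set K)) (hc : IsChain (· ⊆ ·) c) (hne : c.Nonempty)
    (h : ∀ B ∈ c, PI p k B) : PI p k (⋃₀ c) := by
  have hdir : DirectedOn (· ⊆ ·) c := hc.directedOn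
  have hR : RSet p (⋃₀ c) = ⋃ i : c, RSet p i.1 := by
    apply Set.Subset.antisymm
    · intro e he
      obtain ⟨t, ht, hsub⟩ := hdir.exists_mem_subset_of_finite_of_subset_sUnion hne
        (e.1.support.finite_toSet) he
      exact Set.mem_iUnion.mpr ⟨⟨t, ht⟩, hsub⟩
    · intro e he
      obtain ⟨i, hi⟩ := Set.mem_iUnion.mp he
      exact RSet_mono (Set.subset_sUnion_of_mem i.2) hi
  unfold PI
  rw [hR]
  apply linearIndepOn_iUnion_of_directed
  · intro i j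
    obtain ⟨t, ht, hit, hjt⟩ := hdir i.1 i.2 j.1 j.2
    exact ⟨⟨t, ht⟩, RSet_mono hit, RSet_mono hjt⟩
  · intro i
    exact h i.1 i.2

/-- Zorn: a maximal `p`-independent set between `L₀` and `S₀` generates `S₀`. -/
theorem exists_maximal (L₀ S₀ : Set K) (hLS : L₀ ⊆ S₀) (hL : PI p k L₀) :
    ∃ B, L₀ ⊆ B ∧ B ⊆ S₀ ∧ PI p k B ∧
      S₀ ⊆ Algebra.adjoin (pPowerSubalgebra p k K) B := by
  obtain ⟨B, hLB, hmax⟩ := zorn_subset_nonempty {B | L₀ ⊆ B ∧ B ⊆ S₀ ∧ PI p k B} (by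
    intro c hcS hc hne
    refine ⟨⋃₀ c, ⟨?_, ?_, ?_⟩, fun s hs => Set.subset_sUnion_of_mem hs⟩
    · obtain ⟨B, hB⟩ := hne
      exact (hcS hB).1.trans (Set.subset_sUnion_of_mem hB)
    · exact Set.sUnion_subset (fun B hB => (hcS hB).2.1)
    · exact PI_sUnion c hc hne (fun B hB => (hcS hB).2.2)) L₀ ⟨le_rfl, hLS, hL⟩
  obtain ⟨⟨h1, h2, h3⟩, hm⟩ := hmax
  refine ⟨B, h1, h2, h3, ?_⟩
  intro s hs
  by_contra hns
  have h4 := PI_insert B h3 s hns
  have h5 : insert s B ∈ {B | L₀ ⊆ B ∧ B ⊆ S₀ ∧ PI p k B} :=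
    ⟨h1.trans (Set.subset_insert _ _), Set.insert_subset hs h2, h4⟩
  have := hm h5 (Set.subset_insert _ _)
  exact hns (Algebra.subset_adjoin (this (Set.mem_insert _ _)))

end H21.PField
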