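import Mathlib
import Groth.Agent.H21.PField5

set_option autoImplicit false
universe u

open EGA41 Groth.Agent.H21.PBasis

namespace H21.PField

variable {p : ℕ} [hpf : Fact p.Prime] {k : Type u} {K : Type u} [Field k] [Field K] [Algebra k K]
  [CharP K p]

omit [CharP K p] in
lemma PI_empty : PI p k (∅ : Set K) := by
  have h : RSet p (∅ : Set K) = {⟨0, fun _ => hpf.out.pos⟩} := by
    ext e
    simp only [RSet, Set.mem_setOf_eq, Set.subset_empty_iff, Finset.coe_eq_empty,
      Finsupp.support_eq_empty, Set.mem_singleton_iff]
    constructor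
    · intro h; exact Subtype.ext h
    · intro h; rw [h]
  unfold PI
  rw [h, linearIndepOn_singleton_iff]
  unfold Mon
  rw [pMonomial_zero]
  exact one_ne_zero

/-- reindexing reduced exponents along an equivalence -/
noncomputable def redCongr {ι ι' : Type u} (e : ι ≃ ι') : Red p ι ≃ Red p ι' where
  toFun f := ⟨Finsupp.equivMapDomain e f.1, fun i => by
    rw [Finsupp.equivMapDomain_apply]; exact f.2 _⟩
  invFun f := ⟨Finsupp.equivMapDomain e.symm f.1, fun i => by
    rw [Finsupp.equivMapDomain_apply]; exact f.2 _⟩
  left_inv f := by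
    apply Subtype.ext
    ext i
    simp [Finsupp.equivMapDomain_apply]
  right_inv f := by
    apply Subtype.ext
    ext i
    simp [Finsupp.equivMapDomain_apply]

omit hpf [CharP K p] in
lemma isPIndependent_comp_equiv {ι ι' : Type u} (e : ι ≃ ι') (y : ι' → K) :
    IsPIndependent p k (y ∘ e) ↔ IsPIndependent p k y := by
  unfold IsPIndependent
  refine linearIndependent_equiv' (redCongr e) (funext fun f => ?_)
  simp only [Function.comp_apply, redCongr, Equiv.coe_fn_mk]
  unfold pMonomial
  rw [Finsupp.prod_equivMapDomain]
  rfl

omit [CharP K p] in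
lemma injective_of_isPIndependent {ι : Type u} (x : ι → K) (h : IsPIndependent p k x) :
    Function.Injective x := by
  classical
  intro i j hij
  have hinj := LinearIndependent.injective h
  have h1 : ∀ a : ι, ∀ b, (Finsupp.single a 1 : ι →₀ ℕ) b < p := by
    intro a b
    by_cases hab : b = a
    · subst hab
      rw [Finsupp.single_eq_same]; exact hpf.out.one_lt
    · rw [Finsupp.single_eq_of_ne hab]; exact hpf.out.pos
  have h2 : (⟨Finsupp.single i 1, h1 i⟩ : Red p ι) = ⟨Finsupp.single j 1, h1 j⟩ := by
    apply hinj
    simp only [pMonomial_single, pow_one]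
    exact hij
  have h3 : (Finsupp.single i 1 : ι →₀ ℕ) = Finsupp.single j 1 := congrArg Subtype.val h2
  exact Finsupp.single_left_injective one_ne_zero h3

omit [CharP K p] in
lemma isPIndependent_iff_PI_range {ι : Type u} (x : ι → K) (hx : Function.Injective x) :
    IsPIndependent p k x ↔ PI p k (Set.range x) := by
  rw [← isPIndependent_iff_PI]
  have : x = (Subtype.val : Set.range x → K) ∘ (Equiv.ofInjective x hx) := by
    funext i; rfl
  conv_lhs => rw [this]
  exact isPIndependent_comp_equiv _ _

/-- differentials of elements of `K₀(T)` lie in the span of the differentials of `T` -/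
lemma D_mem_span_of_mem_adjoin (T : Set K) (y : K)
    (hy : y ∈ Algebra.adjoin (pPowerSubalgebra p k K) T) :
    KaehlerDifferential.D k K y ∈ Submodule.span K (KaehlerDifferential.D k K '' T) := by
  induction hy using Algebra.adjoin_induction with
  | mem t ht => exact Submodule.subset_span ⟨t, ht, rfl⟩
  | algebraMap c =>
    have : KaehlerDifferential.D k K (c : K) = 0 := D_eq_zero_of_mem_pPower p c.2
    show KaehlerDifferential.D k K (c : K) ∈ _
    rw [this]; exact Submodule.zero_mem _
  | add a b _ _ ha hb => rw [map_add]; exact Submodule.add_mem _ ha hb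
  | mul a b _ _ ha hb =>
    rw [Derivation.leibniz]
    exact Submodule.add_mem _ (Submodule.smul_mem _ _ hb) (Submodule.smul_mem _ _ ha)

/-- a `p`-independent generating set is a `p`-basis in the official sense -/
lemma isPBasis_of_PI_of_gen (B : Set K) (hB : PI p k B)
    (hgen : (Set.univ : Set K) ⊆ Algebra.adjoin (pPowerSubalgebra p k K) B) :
    IsPBasis p k (Subtype.val : B → K) := by
  refine ⟨(isPIndependent_iff_PI B).mpr hB, ?_⟩
  rw [← adjoin_eq_top_iff_pGenerating, Subtype.range_coe, eq_top_iff]
  intro y _
  exact hgen (Set.mem_univ y)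

end H21.PField
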