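import Mathlib
import Groth.Agent.H21.PField6

set_option autoImplicit false
universe u

open EGA41 Groth.Agent.H21.PBasis

namespace H21.PField

variable {p : ℕ} [hpf : Fact p.Prime] {k : Type u} {K : Type u} [Field k] [Field K] [Algebra k K]
  [CharP K p]

theorem linIndep_D_of_isPIndependent {ι : Type u} (x : ι → K) (h : IsPIndependent p k x) :
    LinearIndependent K (fun i => KaehlerDifferential.D k K (x i)) := by
  have hinj := injective_of_isPIndependent x h
  have hPI := (isPIndependent_iff_PI_range x hinj).mp h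
  obtain ⟨B, hLB, -, hB, hgen⟩ := exists_maximal (Set.range x) Set.univ (Set.subset_univ _) hPI
  have hbasis := isPBasis_of_PI_of_gen B hB hgen
  have hli := linearIndependent_D hbasis
  exact hli.comp (fun i => (⟨x i, hLB ⟨i, rfl⟩⟩ : B))
    (fun i j hij => hinj (congrArg Subtype.val hij))

theorem isPIndependent_of_linIndep_D {ι : Type u} (x : ι → K)
    (h : LinearIndependent K (fun i => KaehlerDifferential.D k K (x i))) :
    IsPIndependent p k x := by
  have hinj : Function.Injective x := by
    intro i j hij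
    exact h.injective (by simp only [hij])
  rw [isPIndependent_iff_PI_range x hinj]
  obtain ⟨B, -, hBS, hB, hgen⟩ := exists_maximal (p := p) (k := k) (∅ : Set K) (Set.range x)
    (Set.empty_subset _) PI_empty
  have hsub : Set.range x ⊆ B := by
    rintro _ ⟨j, rfl⟩
    by_contra hj
    have h1 := D_mem_span_of_mem_adjoin B (x j) (hgen ⟨j, rfl⟩)
    have h2 : KaehlerDifferential.D k K '' B =
        (fun i => KaehlerDifferential.D k K (x i)) '' (x ⁻¹' B) := by
      ext w
      constructor
      · rintro ⟨b, hb, rfl⟩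
        obtain ⟨i, rfl⟩ := hBS hb
        exact ⟨i, hb, rfl⟩
      · rintro ⟨i, hi, rfl⟩
        exact ⟨x i, hi, rfl⟩
    rw [h2] at h1
    exact h.notMem_span_image (s := x ⁻¹' B) (x := j) hj h1
  have : B = Set.range x := Set.Subset.antisymm hBS hsub
  rw [← this]; exact hB

theorem isPGenerating_of_span_D {ι : Type u} (x : ι → K)
    (h : Submodule.span K (Set.range fun i => KaehlerDifferential.D k K (x i)) = ⊤) :
    IsPGenerating p k x := by
  obtain ⟨B₁, -, hB₁S, hB₁, hgen₁⟩ := exists_maximal (p := p) (k := k) (∅ : Set K) (Set.range x)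
    (Set.empty_subset _) PI_empty
  obtain ⟨B₂, hB₁₂, -, hB₂, hgen₂⟩ := exists_maximal (p := p) (k := k) B₁ Set.univ
    (Set.subset_univ _) hB₁
  have hbasis := isPBasis_of_PI_of_gen B₂ hB₂ hgen₂
  have hli := linearIndependent_D hbasis
  have hspan : Submodule.span K (KaehlerDifferential.D k K '' B₁) = ⊤ := by
    rw [eq_top_iff, ← h, Submodule.span_le]
    rintro _ ⟨i, rfl⟩
    exact D_mem_span_of_mem_adjoin B₁ (x i) (hgen₁ ⟨i, rfl⟩)
  have hsub : B₂ ⊆ B₁ := by
    intro b hb
    by_contra hb1
    have h2 : KaehlerDifferential.D k K '' B₁ =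
        (fun b : B₂ => KaehlerDifferential.D k K b.1) '' {b' : B₂ | b'.1 ∈ B₁} := by
      ext w
      constructor
      · rintro ⟨b', hb', rfl⟩
        exact ⟨⟨b', hB₁₂ hb'⟩, hb', rfl⟩
      · rintro ⟨b', hb', rfl⟩
        exact ⟨b'.1, hb', rfl⟩
    have h3 := hli.notMem_span_image (s := {b' : B₂ | b'.1 ∈ B₁}) (x := ⟨b, hb⟩) hb1
    rw [← h2, hspan] at h3
    exact h3 trivial
  have hB : B₁ = B₂ := Set.Subset.antisymm hB₁₂ hsub
  rw [← adjoin_eq_top_iff_pGenerating, eq_top_iff]
  intro y _
  have h1 : y ∈ Algebra.adjoin (pPowerSubalgebra p k K) B₁ := by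
    rw [hB]; exact hgen₂ (Set.mem_univ y)
  exact Algebra.adjoin_mono hB₁S h1

end H21.PField
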