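import Mathlib
import Groth.Agent.H21.PField7

set_option autoImplicit false
universe u

open EGA41 Groth.Agent.H21.PBasis H21.PField

namespace H21.PDesc

section descending

variable {K : Type u} [Field K]

/-- set-based linear independence of a finite family -/
def LIset {m : ℕ} (S : Set K) (v : Fin m → K) : Prop :=
  ∀ g : Fin m → K, (∀ j, g j ∈ S) → ∑ j, g j * v j = 0 → ∀ j, g j = 0

theorem exists_LIset {ι : Type*} [Preorder ι] [IsDirected ι (· ≤ ·)] [Nonempty ι]
    (F : ι → Subfield K) (hF : Antitone F) (F₀ : Set K)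
    (hF₀ : ∀ x, (∀ i, x ∈ F i) → x ∈ F₀) :
    ∀ (m : ℕ) (v : Fin m → K), LIset F₀ v → ∃ i, LIset (F i : Set K) v := by
  intro m
  induction m with
  | zero =>
    intro v _
    exact ⟨Classical.arbitrary ι, fun g _ _ j => j.elim0⟩
  | succ m ih =>
    intro v hv
    have h0 : (0 : K) ∈ F₀ := hF₀ 0 (fun i => (F i).zero_mem)
    have hinit : LIset F₀ (Fin.init v) := by
      intro g hg hsum
      have := hv (Fin.snoc (α := fun _ => K) g 0) (fun j => by
        refine Fin.lastCases ?_ (fun j' => ?_) j
        · simp only [Fin.snoc_last]; exact h0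
        · simp only [Fin.snoc_castSucc]; exact hg j') (by
        rw [Fin.sum_univ_castSucc]
        simp only [Fin.snoc_castSucc, Fin.snoc_last, zero_mul, add_zero]
        exact hsum)
      intro j
      have h1 := this (Fin.castSucc j)
      simpa only [Fin.snoc_castSucc] using h1
    obtain ⟨i₀, hi₀⟩ := ih (Fin.init v) hinit
    by_contra hcon
    push Not at hcon
    have hcoef : ∀ i, i₀ ≤ i → ∃ c : Fin m → K, (∀ j, c j ∈ F i) ∧
        v (Fin.last m) = ∑ j, c j * v (Fin.castSucc j) := by
      intro i hi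
      have := hcon i
      unfold LIset at this
      push Not at this
      obtain ⟨g, hg, hsum, j₀, hj₀⟩ := this
      rw [Fin.sum_univ_castSucc] at hsum
      have hlast : g (Fin.last m) ≠ 0 := by
        intro h0'
        have h1 : ∀ j, g (Fin.castSucc j) = 0 := by
          apply hi₀ (fun j => g (Fin.castSucc j)) (fun j => hF hi (hg _))
          rw [h0', zero_mul, add_zero] at hsum
          exact hsum
        apply hj₀
        exact Fin.lastCases h0' (fun j => h1 j) j₀
      refine ⟨fun j => -(g (Fin.castSucc j)) / g (Fin.last m), fun j => ?_, ?_⟩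
      · exact (F i).div_mem ((F i).neg_mem (hg _)) (hg _)
      · have h1 : ∑ j, (-(g (Fin.castSucc j)) / g (Fin.last m)) * v (Fin.castSucc j) =
            (-(1 / g (Fin.last m))) * ∑ j, g (Fin.castSucc j) * v (Fin.castSucc j) := by
          rw [Finset.mul_sum]
          refine Finset.sum_congr rfl (fun j _ => by ring)
        have h2 : ∑ j, g (Fin.castSucc j) * v (Fin.castSucc j) =
            -(g (Fin.last m) * v (Fin.last m)) := by linear_combination hsum
        rw [h1, h2]
        field_simp
    obtain ⟨c, hc, hcv⟩ := hcoef i₀ le_rfl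
    have hcall : ∀ i, i₀ ≤ i → ∀ j, c j ∈ F i := by
      intro i hi
      obtain ⟨c', hc', hc'v⟩ := hcoef i hi
      have : ∀ j, c j - c' j = 0 := by
        apply hi₀ (fun j => c j - c' j) (fun j => (F i₀).sub_mem (hc j) (hF hi (hc' j)))
        simp only [sub_mul, Finset.sum_sub_distrib, Fin.init]
        rw [← hcv, ← hc'v, sub_self]
      intro j
      rw [sub_eq_zero.mp (this j)]
      exact hc' j
    have hc₀ : ∀ j, c j ∈ F₀ := by
      intro j
      apply hF₀
      intro i'
      obtain ⟨i, hi1, hi2⟩ := exists_ge_ge i₀ i'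
      exact hF hi2 (hcall i hi1 j)
    have hneg1 : (-1 : K) ∈ F₀ := hF₀ _ (fun i => (F i).neg_mem (F i).one_mem)
    have := hv (Fin.snoc (α := fun _ => K) c (-1)) (fun j => by
        refine Fin.lastCases ?_ (fun j' => ?_) j
        · simp only [Fin.snoc_last]; exact hneg1
        · simp only [Fin.snoc_castSucc]; exact hc₀ j') (by
        rw [Fin.sum_univ_castSucc]
        simp only [Fin.snoc_castSucc, Fin.snoc_last]
        rw [← hcv]
        ring) (Fin.last m)
    simp only [Fin.snoc_last] at this
    exact one_ne_zero (neg_eq_zero.mp this)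

lemma LIset_of_linearIndependent {R : Type*} [CommRing R] [Algebra R K] (P : Subalgebra R K)
    {m : ℕ} (v : Fin m → K) (h : LinearIndependent ↥P v) : LIset (P : Set K) v := by
  intro g hg hsum
  have := Fintype.linearIndependent_iff.mp h (fun j => ⟨g j, hg j⟩) (by
    simpa only [Subalgebra.smul_def, smul_eq_mul] using hsum)
  intro j
  exact congrArg Subtype.val (this j)

lemma linearIndependent_of_LIset {R : Type*} [CommRing R] [Algebra R K] (P : Subalgebra R K)
    {m : ℕ} (v : Fin m → K) (h : LIset (P : Set K) v) : LinearIndependent ↥P v := by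
  rw [Fintype.linearIndependent_iff]
  intro g hsum j
  apply Subtype.ext
  exact h (fun j => (g j : K)) (fun j => (g j).2) (by
    simpa only [Subalgebra.smul_def, smul_eq_mul] using hsum) j

end descending

section glue

variable {K : Type u} [Field K] (p : ℕ) [hpf : Fact p.Prime] [CharP K p]

omit [Field K] hpf [CharP K p] in
lemma finite_RSet (T : Set K) (hT : T.Finite) : Finite (RSet p T) := by
  classical
  apply Finite.of_injective
    (β := ↥(hT.toFinset.finsupp (fun _ => Finset.range p)))
    (fun e => ⟨e.1.1, by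
      rw [Finset.mem_finsupp_iff]
      refine ⟨?_, fun i _ => Finset.mem_range.mpr (e.1.2 i)⟩
      intro x hx
      rw [Set.Finite.mem_toFinset]
      exact e.2 hx⟩)
  intro e e' h
  have h' : e.1.1 = e'.1.1 :=
    congrArg (fun z : ↥(hT.toFinset.finsupp (fun _ => Finset.range p)) => z.1) h
  exact Subtype.ext (Subtype.ext h')

/-- `k[K^p]` as a subfield -/
def PF (k : Type u) [Field k] [Algebra k K] : Subfield K :=
  toSubfield p (pPowerSubalgebra p k K).toSubring (fun a => Algebra.subset_adjoin ⟨a, rfl⟩)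

lemma mem_PF (k : Type u) [Field k] [Algebra k K] (x : K) :
    x ∈ PF p k ↔ x ∈ pPowerSubalgebra p k K := Iff.rfl

lemma inv_mem_pPower (k : Type u) [Field k] [Algebra k K] (x : K)
    (hx : x ∈ pPowerSubalgebra p k K) : x⁻¹ ∈ pPowerSubalgebra p k K :=
  inv_mem_of_pow_mem p (pPowerSubalgebra p k K).toSubring
    (fun a => Algebra.subset_adjoin ⟨a, rfl⟩) hx

variable {k₀ : Type u} [Field k₀] [Algebra k₀ K]

/-- Fact 1 -/
lemma mem_adjoin_iff (x : K) :
    x ∈ IntermediateField.adjoin k₀ (Set.range fun y : K => y ^ p) ↔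
      x ∈ pPowerSubalgebra p k₀ K := by
  constructor
  · intro hx
    have hle : IntermediateField.adjoin k₀ (Set.range fun y : K => y ^ p) ≤
        (pPowerSubalgebra p k₀ K).toIntermediateField (inv_mem_pPower p k₀) := by
      rw [IntermediateField.adjoin_le_iff]
      intro y hy
      exact Algebra.subset_adjoin hy
    exact hle hx
  · intro hx
    exact IntermediateField.algebra_adjoin_le_adjoin k₀ _ hx

omit hpf [CharP K p] in
lemma pPower_mono (L L' : IntermediateField k₀ K) (hLL' : L ≤ L') (x : K)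
    (hx : x ∈ pPowerSubalgebra p ↥L K) : x ∈ pPowerSubalgebra p ↥L' K := by
  unfold pPowerSubalgebra at hx ⊢
  induction hx using Algebra.adjoin_induction with
  | mem y hy => exact Algebra.subset_adjoin hy
  | algebraMap c => exact Subalgebra.algebraMap_mem _ (⟨c.1, hLL' c.2⟩ : L')
  | add a b _ _ ha hb => exact Subalgebra.add_mem _ ha hb
  | mul a b _ _ ha hb => exact Subalgebra.mul_mem _ ha hb

/-- Fact 2 -/
lemma mem_sup_adjoin_iff (L : IntermediateField k₀ K) (x : K) :
    x ∈ L ⊔ IntermediateField.adjoin k₀ (Set.range fun y : K => y ^ p) ↔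
      x ∈ pPowerSubalgebra p ↥L K := by
  constructor
  · intro hx
    have hmem : ∀ c : k₀, algebraMap k₀ K c ∈ PF p ↥L := by
      intro c
      rw [IsScalarTower.algebraMap_apply k₀ ↥L K]
      exact Subalgebra.algebraMap_mem (pPowerSubalgebra p ↥L K) _
    have hle : L ⊔ IntermediateField.adjoin k₀ (Set.range fun y : K => y ^ p) ≤
        Subfield.toIntermediateField (PF p ↥L) hmem := by
      apply sup_le
      · intro y hy
        exact Subalgebra.algebraMap_mem (pPowerSubalgebra p ↥L K) (⟨y, hy⟩ : L)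
      · rw [IntermediateField.adjoin_le_iff]
        intro y hy
        exact Algebra.subset_adjoin (R := ↥L) hy
    exact hle hx
  · intro hx
    unfold pPowerSubalgebra at hx
    induction hx using Algebra.adjoin_induction with
    | mem y hy =>
      exact (le_sup_right : _ ≤ L ⊔ _) (IntermediateField.subset_adjoin k₀ _ hy)
    | algebraMap c => exact (le_sup_left : L ≤ L ⊔ _) c.2
    | add a b _ _ ha hb => exact add_mem ha hb
    | mul a b _ _ ha hb => exact mul_mem ha hb

/-- hard direction: `dx = 0` implies `x ∈ k[K^p]` -/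
lemma mem_of_D_eq_zero (k : Type u) [Field k] [Algebra k K] (x : K)
    (h : KaehlerDifferential.D k K x = 0) : x ∈ pPowerSubalgebra p k K := by
  by_contra hx
  have hs : x ∉ Algebra.adjoin (pPowerSubalgebra p k K) (∅ : Set K) := by
    rw [Algebra.adjoin_empty]
    intro hmem
    obtain ⟨c, hc⟩ := Algebra.mem_bot.mp hmem
    apply hx
    rw [← hc]
    exact c.2
  have hPI : PI p k ({x} : Set K) := by
    have := PI_insert (p := p) (k := k) (∅ : Set K) PI_empty x hs
    rwa [insert_empty_eq] at this
  have h1 := (isPIndependent_iff_PI ({x} : Set K)).mpr hPI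
  have h2 := linIndep_D_of_isPIndependent _ h1
  have h3 := h2.ne_zero (⟨x, Set.mem_singleton x⟩ : ({x} : Set K))
  exact h3 h

variable {ι : Type u} [Preorder ι] [IsDirected ι (· ≤ ·)] [Nonempty ι]
  (k : ι → IntermediateField k₀ K)

theorem PI_descend (hk : Antitone k)
    (h : ∀ x, (∀ i, x ∈ pPowerSubalgebra p ↥(k i) K) → x ∈ pPowerSubalgebra p k₀ K)
    (T : Set K) (hT : T.Finite) (hPI : PI p k₀ T) : ∃ i, PI p ↥(k i) T := by
  haveI := finite_RSet p T hT
  obtain ⟨m, ⟨e⟩⟩ := Finite.exists_equiv_fin (RSet p T)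
  obtain ⟨v, hv⟩ : ∃ v : Fin m → K, v = (fun e : RSet p T => Mon p e.1) ∘ e.symm := ⟨_, rfl⟩
  have hv₀ : LIset ((pPowerSubalgebra p k₀ K : Subalgebra k₀ K) : Set K) v := by
    apply LIset_of_linearIndependent
    rw [hv]
    exact (linearIndependent_equiv e.symm).mpr hPI
  obtain ⟨i, hi⟩ := exists_LIset (fun i => PF p ↥(k i))
    (fun i j hij x hx => pPower_mono p (k j) (k i) (hk hij) x hx)
    ((pPowerSubalgebra p k₀ K : Subalgebra k₀ K) : Set K) h m v hv₀
  refine ⟨i, ?_⟩
  have := linearIndependent_of_LIset (pPowerSubalgebra p ↥(k i) K) v hi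
  rw [hv] at this
  exact (linearIndependent_equiv e.symm).mp this

theorem forward (hk : Antitone k)
    (h : (⨅ i, k i ⊔ IntermediateField.adjoin k₀ (Set.range fun y : K => y ^ p)) =
      IntermediateField.adjoin k₀ (Set.range fun y : K => y ^ p))
    (ω : Ω[K⁄k₀]) (hω : ∀ i, KaehlerDifferential.map k₀ (k i) K K ω = 0) : ω = 0 := by
  classical
  have h' : ∀ x, (∀ i, x ∈ pPowerSubalgebra p ↥(k i) K) → x ∈ pPowerSubalgebra p k₀ K := by
    intro x hx
    rw [← mem_adjoin_iff, ← h]
    have : x ∈ ((⨅ i, k i ⊔ IntermediateField.adjoin k₀ (Set.range fun y : K => y ^ p) :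
        IntermediateField k₀ K) : Set K) := by
      rw [IntermediateField.coe_iInf]
      exact Set.mem_iInter.mpr (fun i => (mem_sup_adjoin_iff p (k i) x).mpr (hx i))
    exact this
  obtain ⟨B, -, -, hB, hgen⟩ := exists_maximal (p := p) (k := k₀) (∅ : Set K) Set.univ
    (Set.empty_subset _) PI_empty
  have hbasis := isPBasis_of_PI_of_gen B hB hgen
  obtain ⟨b, hb⟩ := exists_basis_D hbasis
  obtain ⟨S, hS⟩ : ∃ S : Finset B, S = (b.repr ω).support := ⟨_, rfl⟩
  obtain ⟨x, hx⟩ : ∃ x : S → K, x = fun s => s.1.1 := ⟨_, rfl⟩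
  have hxinj : Function.Injective x := by
    intro s t hst
    rw [hx] at hst
    exact Subtype.ext (Subtype.ext hst)
  have hT : (Set.range x).Finite := Set.finite_range x
  have hPI₀ : PI p k₀ (Set.range x) := hB.mono (by
    rintro _ ⟨s, rfl⟩
    rw [hx]
    exact s.1.2)
  obtain ⟨i, hi⟩ := PI_descend p k hk h' (Set.range x) hT hPI₀
  have h1 : IsPIndependent p ↥(k i) x := (isPIndependent_iff_PI_range x hxinj).mpr hi
  have h2 := linIndep_D_of_isPIndependent x h1
  have hωsum : ω = ∑ s ∈ S, (b.repr ω s) • KaehlerDifferential.D k₀ K s.1 := by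
    conv_lhs => rw [← b.linearCombination_repr ω]
    rw [Finsupp.linearCombination_apply, Finsupp.sum, ← hS]
    exact Finset.sum_congr rfl (fun s _ => by rw [hb])
  have himg := hω i
  rw [hωsum, map_sum] at himg
  simp only [map_smul, KaehlerDifferential.map_D, Algebra.algebraMap_self_apply] at himg
  rw [← Finset.sum_coe_sort] at himg
  have h3 := Fintype.linearIndependent_iff.mp h2 (fun s => b.repr ω s.1) (by
    rw [hx]
    exact himg)
  rw [hωsum]
  apply Finset.sum_eq_zero
  intro s hs
  rw [h3 ⟨s, hs⟩, zero_smul]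

end glue

end H21.PDesc
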