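import Mathlib
import Groth.Prelude.Def_W4bk4bump814p2PDiff
universe u v
namespace Groth.Agent.H21
open W4bk4bump814p2

variable (K : Type u) (A : Type v) [Field K] (p : ℕ) [Fact p.Prime] [CharP K p]
    [CommRing A] [Algebra K A]

include K in
lemma charP_algebra_pow_eq_zero (x : A) : KaehlerDifferential.D K A (x ^ p) = 0 := by
  rw [Derivation.leibniz_pow]
  have hp : ((p : ℕ) : A) = 0 := by
    have : ((p : ℕ) : A) = algebraMap K A ((p : ℕ) : K) := (map_natCast (algebraMap K A) p).symm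
    rw [this, CharP.cast_eq_zero K p, map_zero]
  rw [← Nat.cast_smul_eq_nsmul A, hp, zero_smul]

lemma delta_pow_mul (i : ℕ) (x z : A) :
    delta K A p i (x ^ p * z) = x ^ (p ^ (i + 1)) • delta K A p i z := by
  unfold delta
  have hpos : 1 ≤ p ^ i := Nat.one_le_pow _ _ (Fact.out : p.Prime).pos
  rw [Derivation.leibniz, charP_algebra_pow_eq_zero K A p x, smul_zero, add_zero, smul_smul, smul_smul]
  congr 1
  rw [mul_pow, ← pow_mul]
  have : p * (p ^ i - 1) + p = p ^ (i + 1) := by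
    rw [pow_succ, Nat.mul_sub, Nat.mul_one, mul_comm p (p ^ i)]
    have : p ≤ p ^ i * p := by nlinarith
    omega
  calc (x ^ (p * (p ^ i - 1)) * z ^ (p ^ i - 1)) * x ^ p
      = x ^ (p * (p ^ i - 1) + p) * z ^ (p ^ i - 1) := by rw [pow_add]; ring
    _ = x ^ p ^ (i + 1) * z ^ (p ^ i - 1) := by rw [this]

theorem sigma_pow_smul_mem (i : ℕ) (x : A) (ω : Ω[A⁄K]) (hω : ω ∈ sigma K A p i) :
    (x ^ (p ^ i)) • ω ∈ sigma K A p i := by
  induction i generalizing x ω with
  | zero =>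
    simp only [sigma_zero, Set.mem_singleton_iff] at hω ⊢
    rw [hω, smul_zero]
  | succ i ih =>
    rw [mem_sigma_succ] at hω ⊢
    obtain ⟨z, hz⟩ := hω
    refine ⟨x ^ p * z, ?_⟩
    rw [delta_pow_mul, ← smul_sub]
    have := ih (x ^ p) _ hz
    rwa [← pow_mul, ← pow_succ'] at this

end Groth.Agent.H21
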