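import Mathlib
import Groth.Prelude.Def_W4bk4bump814p2PDiff
import Groth.Agent.H21.PDiff
universe u v
namespace Groth.Agent.H21
open W4bk4bump814p2

section alg
variable {R : Type*} [CommRing R]

lemma choose_pred_cast (n : ℕ) (hp : (n+1).Prime) (h0 : ((n+1 : ℕ) : R) = 0) (j : ℕ) (hj : j ≤ n) :
    ((n.choose j : ℕ) : R) = (-1)^j := by
  induction j with
  | zero => simp
  | succ j ih =>
    have h1 : (n+1).choose (j+1) = n.choose j + n.choose (j+1) := Nat.choose_succ_succ n j
    have h2 : (n+1) ∣ (n+1).choose (j+1) := hp.dvd_choose_self (by omega) (by omega)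
    obtain ⟨m, hm⟩ := h2
    have h3 : ((n.choose j : ℕ) : R) + ((n.choose (j+1) : ℕ) : R) = 0 := by
      rw [← Nat.cast_add, ← h1, hm, Nat.cast_mul, h0, zero_mul]
    rw [pow_succ, ← ih (by omega)]
    linear_combination h3

lemma add_pow_pred (n : ℕ) (hp : (n+1).Prime) (h0 : ((n+1 : ℕ) : R) = 0) (X Y : R) :
    (X + Y)^n = Y * (∑ j ∈ Finset.range n, (-1)^j * (X^j * Y^(n-1-j))) + X^n ∧
    (X + Y)^n = Y^n - X * (∑ j ∈ Finset.range n, (-1)^j * (X^j * Y^(n-1-j))) := by
  constructor
  · rw [add_pow, Finset.sum_range_succ, Nat.choose_self, Nat.cast_one, mul_one, Nat.sub_self,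
      pow_zero, mul_one, Finset.mul_sum]
    congr 1
    apply Finset.sum_congr rfl
    intro j hj
    rw [Finset.mem_range] at hj
    rw [choose_pred_cast n hp h0 j hj.le]
    have : n - j = (n - 1 - j) + 1 := by omega
    rw [this, pow_succ]
    ring
  · rw [add_pow, Finset.sum_range_succ', Finset.mul_sum]
    simp only [pow_zero, Nat.choose_zero_right, Nat.cast_one, mul_one, one_mul, Nat.sub_zero]
    rw [add_comm, sub_eq_add_neg, ← Finset.sum_neg_distrib]
    congr 1
    apply Finset.sum_congr rfl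
    intro j hj
    rw [Finset.mem_range] at hj
    rw [choose_pred_cast n hp h0 (j+1) (by omega)]
    have : n - (j + 1) = (n - 1 - j) := by omega
    rw [this, pow_succ, pow_succ]
    ring

end alg

section omega
variable (K : Type u) (A : Type v) [Field K] (p : ℕ) [Fact p.Prime] [CharP K p]
    [CommRing A] [Algebra K A]

include K in
omit [Fact p.Prime] in
lemma natCast_p_eq_zero : ((p : ℕ) : A) = 0 := by
  rw [← map_natCast (algebraMap K A) p, CharP.cast_eq_zero K p, map_zero]

omit [Fact p.Prime] [CharP K p] in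
lemma delta_zero (i : ℕ) : delta K A p i 0 = 0 := by
  unfold delta; rw [map_zero, smul_zero]

omit [Fact p.Prime] [CharP K p] in
lemma sigma_mono_succ (i : ℕ) : sigma K A p i ⊆ sigma K A p (i+1) := by
  intro ω hω
  rw [mem_sigma_succ]
  exact ⟨0, by rwa [delta_zero, sub_zero]⟩

omit [CharP K p] in
lemma delta_smul (i : ℕ) (a : K) (x : A) :
    delta K A p i (a • x) = a^(p^i) • delta K A p i x := by
  unfold delta
  have hpos : 1 ≤ p ^ i := Nat.one_le_pow _ _ (Fact.out : p.Prime).pos
  calc (a • x)^(p^i-1) • KaehlerDifferential.D K A (a • x)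
      = (a^(p^i-1) • x^(p^i-1)) • (a • KaehlerDifferential.D K A x) := by rw [smul_pow, Derivation.map_smul]
    _ = a^(p^i-1) • (x^(p^i-1) • (a • KaehlerDifferential.D K A x)) := smul_assoc _ _ _
    _ = a^(p^i-1) • (a • (x^(p^i-1) • KaehlerDifferential.D K A x)) := by
        rw [smul_comm (x^(p^i-1)) a]
    _ = (a^(p^i-1) * a) • (x^(p^i-1) • KaehlerDifferential.D K A x) := by rw [smul_smul]
    _ = a^(p^i) • (x^(p^i-1) • KaehlerDifferential.D K A x) := by
        rw [← pow_succ, Nat.sub_add_cancel hpos]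

lemma delta_monomial (i j m : ℕ) (h : j + m + 2 = p) (x y : A) :
    delta K A p i (x^(j+1) * y^(m+1)) =
      ((j+1 : ℕ) : A) • (((x^(p^i))^j * (y^(p^i))^m) •
        ((y^(p^i)) • delta K A p i x - (x^(p^i)) • delta K A p i y)) := by
  have hpos : 1 ≤ p ^ i := Nat.one_le_pow _ _ (Fact.out : p.Prime).pos
  obtain ⟨q', hq'⟩ : ∃ q', p ^ i = q' + 1 := ⟨p^i - 1, by omega⟩
  have hm : ((m+1 : ℕ) : A) = -((j+1 : ℕ) : A) := by
    have := natCast_p_eq_zero K A p
    rw [← h] at this
    push_cast at this ⊢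
    linear_combination this
  unfold delta
  rw [hq', Nat.add_sub_cancel, Derivation.leibniz, Derivation.leibniz_pow, Derivation.leibniz_pow,
    ← Nat.cast_smul_eq_nsmul A (m+1), ← Nat.cast_smul_eq_nsmul A (j+1), hm, Nat.add_sub_cancel,
    Nat.add_sub_cancel]
  module

end omega
end Groth.Agent.H21
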