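import Mathlib
import Groth.Prelude.Def_W4bk4bump814p2PDiff
import Groth.Agent.H21.PDiff
import Groth.Agent.H21.PDiff2
universe u v
namespace Groth.Agent.H21
open W4bk4bump814p2

section main
variable (K : Type u) (A : Type v) [Field K] (p : ℕ) [Fact p.Prime] [CharP K p]
    [CommRing A] [Algebra K A]

omit [CharP K p] in
lemma delta_succ (i : ℕ) (z : A) :
    delta K A p (i+1) z = ((z^(p^i))^(p-1)) • delta K A p i z := by
  unfold delta
  have hpos : 1 ≤ p ^ i := Nat.one_le_pow _ _ (Fact.out : p.Prime).pos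
  have hp : 1 ≤ p := (Fact.out : p.Prime).pos
  rw [smul_smul, ← pow_mul, ← pow_add]
  congr 2
  obtain ⟨q', hq'⟩ : ∃ q', p ^ i = q' + 1 := ⟨p^i - 1, by omega⟩
  obtain ⟨n, hn⟩ : ∃ n, p = n + 1 := ⟨p - 1, by omega⟩
  rw [pow_succ, hq', hn]
  simp only [Nat.add_sub_cancel]
  have : (q' + 1) * (n + 1) = (q' + 1) * n + q' + 1 := by ring
  omega

/-- the inductive package -/
structure Good (i : ℕ) : Prop where
  zero_mem : (0 : Ω[A⁄K]) ∈ sigma K A p i
  add_mem : ∀ ω₁ ω₂, ω₁ ∈ sigma K A p i → ω₂ ∈ sigma K A p i → ω₁ + ω₂ ∈ sigma K A p i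
  smul_mem : ∀ (c : K) ω, ω ∈ sigma K A p i → c • ω ∈ sigma K A p i
  defect : ∀ x y, delta K A p i (x + y) - delta K A p i x - delta K A p i y ∈ sigma K A p i

variable {K A p} in
/-- the submodule attached to a good level -/
def Good.submodule {i : ℕ} (h : Good K A p i) : Submodule K (Ω[A⁄K]) where
  carrier := sigma K A p i
  zero_mem' := h.zero_mem
  add_mem' := fun {a b} ha hb => h.add_mem a b ha hb
  smul_mem' := fun c {x} hx => h.smul_mem c x hx

variable {K A p} in
lemma Good.mem_submodule {i : ℕ} (h : Good K A p i) (ω : Ω[A⁄K]) :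
    ω ∈ h.submodule ↔ ω ∈ sigma K A p i := Iff.rfl

omit [Fact p.Prime] [CharP K p] in
lemma good_zero : Good K A p 0 where
  zero_mem := by simp
  add_mem := by
    intro a b ha hb
    simp only [sigma_zero, Set.mem_singleton_iff] at ha hb ⊢
    rw [ha, hb, add_zero]
  smul_mem := by
    intro c a ha
    simp only [sigma_zero, Set.mem_singleton_iff] at ha ⊢
    rw [ha, smul_zero]
  defect := by
    intro x y
    simp only [sigma_zero, Set.mem_singleton_iff]
    unfold delta
    simp

variable [PerfectField K]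

lemma good_succ (i : ℕ) (h : Good K A p i) : Good K A p (i+1) := by
  have hprime : p.Prime := Fact.out
  have hp0 : ((p : ℕ) : A) = 0 := natCast_p_eq_zero K A p
  -- the submodule structure first
  have hzero : (0 : Ω[A⁄K]) ∈ sigma K A p (i+1) := sigma_mono_succ K A p i h.zero_mem
  have hadd : ∀ ω₁ ω₂, ω₁ ∈ sigma K A p (i+1) → ω₂ ∈ sigma K A p (i+1) →
      ω₁ + ω₂ ∈ sigma K A p (i+1) := by
    intro ω₁ ω₂ h1 h2
    rw [mem_sigma_succ] at h1 h2 ⊢
    obtain ⟨x1, hx1⟩ := h1
    obtain ⟨x2, hx2⟩ := h2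
    refine ⟨x1 + x2, ?_⟩
    have hd := h.defect x1 x2
    have : ω₁ + ω₂ - delta K A p i (x1 + x2) =
        (ω₁ - delta K A p i x1) + (ω₂ - delta K A p i x2) +
          (-1 : K) • (delta K A p i (x1 + x2) - delta K A p i x1 - delta K A p i x2) := by
      rw [neg_one_smul]; abel
    rw [this]
    exact h.add_mem _ _ (h.add_mem _ _ hx1 hx2) (h.smul_mem _ _ hd)
  have hsmul : ∀ (c : K) ω, ω ∈ sigma K A p (i+1) → c • ω ∈ sigma K A p (i+1) := by
    intro c ω hω
    rw [mem_sigma_succ] at hω ⊢
    obtain ⟨x, hx⟩ := hω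
    obtain ⟨a, rfl⟩ : ∃ a : K, a ^ (p ^ i) = c :=
      ⟨(iterateFrobeniusEquiv K p i).symm c, by
        rw [← iterateFrobeniusEquiv_def, RingEquiv.apply_symm_apply]⟩
    refine ⟨a • x, ?_⟩
    rw [delta_smul, ← smul_sub]
    exact h.smul_mem _ _ hx
  let S : Submodule K (Ω[A⁄K]) :=
    { carrier := sigma K A p (i+1)
      zero_mem' := hzero
      add_mem' := fun {a b} ha hb => hadd a b ha hb
      smul_mem' := fun c {x} hx => hsmul c x hx }
  have hS : ∀ ω, ω ∈ S ↔ ω ∈ sigma K A p (i+1) := fun ω => Iff.rfl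
  have hdeltaS : ∀ z, delta K A p i z ∈ S := by
    intro z
    rw [hS, mem_sigma_succ]
    exact ⟨z, by rw [sub_self]; exact h.zero_mem⟩
  refine ⟨hzero, hadd, hsmul, ?_⟩
  intro x y
  obtain ⟨n, hn⟩ : ∃ n, p = n + 1 := ⟨p - 1, by have := hprime.pos; omega⟩
  have hn1 : p - 1 = n := by omega
  have hprime' : (n+1).Prime := hn ▸ hprime
  have hp0' : ((n+1 : ℕ) : A) = 0 := hn ▸ hp0
  set X := x ^ (p ^ i) with hX
  set Y := y ^ (p ^ i) with hY
  have hXY : (x + y) ^ (p ^ i) = X + Y := by
    obtain ⟨r, hr⟩ := exists_add_pow_prime_pow_eq hprime x y i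
    rw [hr, hp0]; ring
  obtain ⟨e1, e2⟩ := add_pow_pred n hprime' hp0' X Y
  set H := ∑ j ∈ Finset.range n, (-1)^j * (X^j * Y^(n-1-j)) with hH
  set a := delta K A p i x with ha
  set b := delta K A p i y with hb
  set d := delta K A p i (x + y) - a - b with hd
  have key : delta K A p (i+1) (x + y) - delta K A p (i+1) x - delta K A p (i+1) y =
      (((x + y)^n)^(p^i)) • d + H • (Y • a - X • b) := by
    rw [delta_succ, delta_succ, delta_succ, hn1, ← hX, ← hY, hXY, ← ha, ← hb]
    have e3 : ((x + y)^n)^(p^i) = (X + Y)^n := by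
      rw [← hXY, ← pow_mul, ← pow_mul, mul_comm]
    rw [e3]
    have e4 : delta K A p i (x + y) = d + a + b := by rw [hd]; abel
    rw [e4]
    have e5 : X ^ n = (X + Y)^n - Y * H := by rw [e1]; ring
    have e6 : Y ^ n = (X + Y)^n + X * H := by rw [e2]; ring
    rw [e5, e6]
    module
  rw [key, ← hS]
  apply S.add_mem
  · rw [hS]
    exact sigma_mono_succ K A p i (sigma_pow_smul_mem K A p i _ _ (h.defect x y))
  · rw [hH, Finset.sum_smul]
    apply S.sum_mem
    intro j hj
    rw [Finset.mem_range] at hj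
    obtain ⟨m, hm⟩ : ∃ m, n - 1 - j = m := ⟨_, rfl⟩
    have hjm : j + m + 2 = p := by omega
    have hmon := delta_monomial K A p i j m hjm x y
    rw [← hX, ← hY, ← ha, ← hb, Nat.cast_smul_eq_nsmul, ← Nat.cast_smul_eq_nsmul K] at hmon
    have hne : ((j + 1 : ℕ) : K) ≠ 0 := by
      rw [Ne, CharP.cast_eq_zero_iff K p]
      exact Nat.not_dvd_of_pos_of_lt (by omega) (by omega)
    have hT : (X ^ j * Y ^ m) • (Y • a - X • b) ∈ S := by
      have h1 : ((j + 1 : ℕ) : K) • ((X ^ j * Y ^ m) • (Y • a - X • b)) ∈ S := by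
        rw [← hmon]; exact hdeltaS _
      have h2 := S.smul_mem (((j + 1 : ℕ) : K)⁻¹) h1
      rwa [smul_smul, inv_mul_cancel₀ hne, one_smul] at h2
    rw [hm, mul_smul]
    have : ((-1 : A)^j) • ((X ^ j * Y ^ m) • (Y • a - X • b)) =
        ((-1 : K)^j) • ((X ^ j * Y ^ m) • (Y • a - X • b)) := by
      rw [← algebraMap_smul A ((-1 : K)^j), map_pow, map_neg, map_one]
    rw [this]
    exact S.smul_mem _ hT

theorem good_all (i : ℕ) : Good K A p i := by
  induction i with
  | zero => exact good_zero K A p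
  | succ i ih => exact good_succ K A p i ih

omit [Fact p.Prime] [CharP K p] [PerfectField K] in
lemma sigma_mono {i j : ℕ} (hij : i ≤ j) : sigma K A p i ⊆ sigma K A p j := by
  induction j, hij using Nat.le_induction with
  | base => exact subset_rfl
  | succ j _ ih => exact ih.trans (sigma_mono_succ K A p j)

theorem sigma_eq_closure (i : ℕ) :
    sigma K A p i =
      (AddSubgroup.closure (⋃ j ∈ Finset.range i, Set.range (delta K A p j)) : Set (Ω[A⁄K])) := by
  apply Set.Subset.antisymm
  · induction i with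
    | zero =>
      intro ω hω
      simp only [sigma_zero, Set.mem_singleton_iff] at hω
      rw [hω]
      exact AddSubgroup.zero_mem _
    | succ i ih =>
      intro ω hω
      rw [mem_sigma_succ] at hω
      obtain ⟨x, hx⟩ := hω
      have h1 : ω - delta K A p i x ∈
          AddSubgroup.closure (⋃ j ∈ Finset.range (i+1), Set.range (delta K A p j)) := by
        refine AddSubgroup.closure_mono ?_ (ih hx)
        apply Set.biUnion_subset_biUnion_left
        intro j hj
        simp only [Finset.coe_range, Set.mem_Iio] at hj ⊢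
        omega
      have h2 : delta K A p i x ∈
          AddSubgroup.closure (⋃ j ∈ Finset.range (i+1), Set.range (delta K A p j)) := by
        apply AddSubgroup.subset_closure
        simp only [Set.mem_iUnion, Set.mem_range, Finset.mem_range]
        exact ⟨i, by omega, x, rfl⟩
      have := AddSubgroup.add_mem _ h1 h2
      rwa [sub_add_cancel] at this
  · have hg := good_all K A p i
    have : AddSubgroup.closure (⋃ j ∈ Finset.range i, Set.range (delta K A p j)) ≤
        hg.submodule.toAddSubgroup := by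
      rw [AddSubgroup.closure_le]
      intro ω hω
      simp only [Set.mem_iUnion, Set.mem_range, Finset.mem_range] at hω
      obtain ⟨j, hj, x, rfl⟩ := hω
      change delta K A p j x ∈ sigma K A p i
      apply sigma_mono K A p (show j + 1 ≤ i by omega)
      rw [mem_sigma_succ]
      exact ⟨x, by rw [sub_self]; exact (good_all K A p j).zero_mem⟩
    exact this

end main
end Groth.Agent.H21
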