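import Mathlib

set_option autoImplicit false
universe u

open PowerSeries

namespace H21.PSInvol

variable {k : Type u} [Field k]

lemma coeff_mul_pow_eq_zero (A s : PowerSeries k) (hs : constantCoeff s = 0) (n : ℕ) :
    coeff n (A * s ^ (n + 1)) = 0 := by
  obtain ⟨t, rfl⟩ := X_dvd_iff.mpr hs
  rw [mul_pow, ← mul_assoc, mul_comm A, mul_assoc, coeff_X_pow_mul']
  rw [if_neg (by omega)]

lemma algHom_eq_subst (σ : PowerSeries k →ₐ[k] PowerSeries k)
    (hs : constantCoeff (σ X) = 0) (f : PowerSeries k) : σ f = f.subst (σ X) := by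
  have hsub : HasSubst (σ X) := HasSubst.of_constantCoeff_zero' hs
  ext n
  have hf := eq_shift_mul_X_pow_add_trunc (n + 1) f
  obtain ⟨g, hg⟩ : ∃ g, g = PowerSeries.mk (fun i => coeff (i + (n + 1)) f) := ⟨_, rfl⟩
  rw [← hg] at hf
  have hpoly : ∀ p : Polynomial k, σ (p : PowerSeries k) = Polynomial.aeval (σ X) p := by
    intro p
    have : σ.comp (Polynomial.coeToPowerSeries.algHom k) = Polynomial.aeval (σ X) := by
      apply Polynomial.algHom_ext
      simp
    exact DFunLike.congr_fun this p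
  have e1 : σ f = σ g * (σ X) ^ (n + 1) + Polynomial.aeval (σ X) (trunc (n + 1) f) := by
    conv_lhs => rw [hf]
    rw [map_add, map_mul, map_pow, hpoly]
  have e2 : f.subst (σ X) = g.subst (σ X) * (σ X) ^ (n + 1) +
      Polynomial.aeval (σ X) (trunc (n + 1) f) := by
    conv_lhs => rw [hf]
    rw [subst_add hsub, subst_mul hsub, subst_pow hsub, subst_X hsub, subst_coe hsub]
  rw [e1, e2, map_add, map_add, coeff_mul_pow_eq_zero _ _ hs, coeff_mul_pow_eq_zero _ _ hs]

lemma constantCoeff_algEquiv_X (σ : PowerSeries k ≃ₐ[k] PowerSeries k) :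
    constantCoeff (σ X) = 0 := by
  by_contra h
  have hu : IsUnit (σ X) := isUnit_iff_constantCoeff.mpr (IsUnit.mk0 _ h)
  have h1 : IsUnit (σ.symm (σ X)) := hu.map σ.symm
  rw [AlgEquiv.symm_apply_apply, isUnit_iff_constantCoeff] at h1
  simp at h1

lemma algEquiv_eq_subst (σ : PowerSeries k ≃ₐ[k] PowerSeries k) (f : PowerSeries k) :
    σ f = f.subst (σ X) :=
  algHom_eq_subst (σ : PowerSeries k →ₐ[k] PowerSeries k) (constantCoeff_algEquiv_X σ) f

/-- `coeff 1` of `σ s` for `s` with zero constant coefficient. -/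
lemma coeff_one_map (σ : PowerSeries k →ₐ[k] PowerSeries k)
    (hs : constantCoeff (σ X) = 0) (f : PowerSeries k) (hf : constantCoeff f = 0) :
    coeff 1 (σ f) = coeff 1 f * coeff 1 (σ X) := by
  obtain ⟨f1, rfl⟩ := X_dvd_iff.mpr hf
  obtain ⟨s1, hs1⟩ := X_dvd_iff.mpr hs
  have e : f1 = C (constantCoeff f1) + X * PowerSeries.mk (fun i => coeff (i + 1) f1) := by
    ext n
    rcases n with _ | n
    · simp
    · simp [coeff_succ_X_mul]
  obtain ⟨f2, hf2⟩ : ∃ f2, f2 = PowerSeries.mk (fun i => coeff (i + 1) f1) := ⟨_, rfl⟩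
  rw [← hf2] at e
  have e1 : σ (X * f1) = C (constantCoeff f1) * σ X + X ^ 2 * (s1 ^ 2 * σ f2) := by
    conv_lhs => rw [e]
    rw [mul_add, map_add, map_mul, map_mul, map_mul]
    have : σ (C (constantCoeff f1)) = C (constantCoeff f1) := by
      rw [PowerSeries.C_eq_algebraMap]
      exact σ.commutes _
    rw [this, hs1]; ring
  rw [e1, map_add, coeff_C_mul, coeff_X_pow_mul', if_neg (by omega), add_zero]
  congr 1
  rw [show (1 : ℕ) = 0 + 1 from rfl, coeff_succ_X_mul]
  simp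

theorem main (h2 : (2 : k) ≠ 0)
    (σ : PowerSeries k ≃ₐ[k] PowerSeries k) (hσ : ∀ f, σ (σ f) = f) :
    (coeff 1 (σ X)) ^ 2 = 1 ∧
    ∃ φ : PowerSeries k ≃ₐ[k] PowerSeries k,
      φ X = C (2⁻¹ : k) * (X + C (coeff 1 (σ X)) * σ X) ∧
      ∀ f, φ.symm (σ (φ f)) = rescale (coeff 1 (σ X)) f := by
  obtain ⟨ξ, hξ⟩ : ∃ ξ, ξ = coeff 1 (σ X) := ⟨_, rfl⟩
  rw [← hξ]
  have hs0 : constantCoeff (σ X) = 0 := constantCoeff_algEquiv_X σ
  have hs : HasSubst (σ X) := HasSubst.of_constantCoeff_zero' hs0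
  have hξ2 : ξ ^ 2 = 1 := by
    have := coeff_one_map (σ : PowerSeries k →ₐ[k] PowerSeries k) hs0 (σ X) hs0
    simp only [AlgEquiv.coe_toAlgHom] at this
    rw [hσ X, coeff_one_X, ← hξ] at this
    rw [sq]; exact this.symm
  refine ⟨hξ2, ?_⟩
  obtain ⟨u, hudef⟩ : ∃ u, u = C (2⁻¹ : k) * (X + C ξ * σ X) := ⟨_, rfl⟩
  have hu0 : constantCoeff u = 0 := by simp [hudef, hs0]
  have hu1 : coeff 1 u = 1 := by
    rw [hudef, coeff_C_mul, map_add, coeff_one_X, coeff_C_mul, ← hξ, ← sq, hξ2]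
    rw [show (1 : k) + 1 = 2 by norm_num]
    exact inv_mul_cancel₀ h2
  have hunit : IsUnit (coeff 1 u) := hu1 ▸ isUnit_one
  obtain ⟨v, hvdef⟩ : ∃ v, v = u.substInvOfIsUnit hunit := ⟨_, rfl⟩
  have hv : HasSubst v := hvdef ▸ HasSubst.substInvOfIsUnit u hunit
  have hu : HasSubst u := HasSubst.of_constantCoeff_zero' hu0
  have huv : u.subst v = X := hvdef ▸ subst_substInvOfIsUnit_right u hu0 hunit
  have hvu : v.subst u = X := hvdef ▸ subst_substInvOfIsUnit_left u hu0 hunit
  let φ : PowerSeries k ≃ₐ[k] PowerSeries k :=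
    AlgEquiv.ofAlgHom (substAlgHom hu) (substAlgHom hv)
      (by
        apply AlgHom.ext
        intro f
        rw [AlgHom.comp_apply, coe_substAlgHom, coe_substAlgHom,
          subst_comp_subst_apply hv hu, hvu, X_subst]
        rfl)
      (by
        apply AlgHom.ext
        intro f
        rw [AlgHom.comp_apply, coe_substAlgHom, coe_substAlgHom,
          subst_comp_subst_apply hu hv, huv, X_subst]
        rfl)
  have hφ : ∀ f, φ f = f.subst u := fun f => by
    change substAlgHom hu f = _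
    rw [coe_substAlgHom]
  refine ⟨φ, ?_, ?_⟩
  · rw [hφ, subst_X hu, hudef]
  · intro f
    have hσu : σ u = C ξ * u := by
      rw [hudef, map_mul, map_add, map_mul, hσ X]
      have hC : ∀ a : k, σ (C a) = C a := by
        intro a
        rw [PowerSeries.C_eq_algebraMap]
        exact σ.commutes _
      rw [hC, hC]
      have : C ξ * C ξ = (1 : PowerSeries k) := by
        rw [← map_mul, ← sq, hξ2, map_one]
      calc C (2⁻¹ : k) * (σ X + C ξ * X)
          = C (2⁻¹ : k) * (C ξ * X + (C ξ * C ξ) * σ X) := by rw [this]; ring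
        _ = C ξ * (C (2⁻¹ : k) * (X + C ξ * σ X)) := by ring
    have e1 : σ (φ f) = f.subst (C ξ * u) := by
      rw [hφ, algEquiv_eq_subst σ, subst_comp_subst_apply hu hs, ← algEquiv_eq_subst σ, hσu]
    have hξX : HasSubst (ξ • X : PowerSeries k) := HasSubst.smul_X' ξ
    have e2 : φ (rescale ξ f) = f.subst (C ξ * u) := by
      rw [hφ, rescale_eq_subst, subst_comp_subst_apply hξX hu, subst_smul hu, subst_X hu,
        smul_eq_C_mul]
    rw [e1, ← e2, AlgEquiv.symm_apply_apply]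

end H21.PSInvol
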