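import Mathlib
open CategoryTheory CategoryTheory.Limits Simplicial Opposite
universe w v u
namespace Groth.Agent.H21

variable {C : Type u} [Category.{v} C] {T : Type w} [HasLimitsOfShape (Discrete T) C]

/-- the evaluated product fan is a limit -/
noncomputable def evalPiIsLimit (Y : T → SimplicialObject C) (Δ : SimplexCategoryᵒᵖ) :
    IsLimit (Fan.mk ((∏ᶜ Y).obj Δ) (fun t => (Pi.π Y t).app Δ)) :=
  isLimitFanMkObjOfIsLimit ((evaluation _ _).obj Δ) Y (Pi.π Y) (productIsProduct Y)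

lemma evalPi_hom_ext (Y : T → SimplicialObject C) (Δ : SimplexCategoryᵒᵖ) {Z : C}
    (f g : Z ⟶ (∏ᶜ Y).obj Δ) (h : ∀ t, f ≫ (Pi.π Y t).app Δ = g ≫ (Pi.π Y t).app Δ) : f = g :=
  Fan.IsLimit.hom_ext (evalPiIsLimit Y Δ) f g h

noncomputable def piH {X Y : T → SimplicialObject C} {a b : ∀ t, X t ⟶ Y t}
    (H : ∀ t, SimplicialObject.Homotopy (a t) (b t)) {n : ℕ} (i : Fin (n + 1)) :
    (∏ᶜ X) _⦋n⦌ ⟶ (∏ᶜ Y) _⦋n + 1⦌ :=
  Fan.IsLimit.lift (evalPiIsLimit Y (op ⦋n + 1⦌))
    (fun t => (Pi.π X t).app (op ⦋n⦌) ≫ (H t).h i)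

@[reassoc]
lemma piH_π {X Y : T → SimplicialObject C} {a b : ∀ t, X t ⟶ Y t}
    (H : ∀ t, SimplicialObject.Homotopy (a t) (b t)) {n : ℕ} (i : Fin (n + 1)) (t : T) :
    piH H i ≫ (Pi.π Y t).app (op ⦋n + 1⦌) = (Pi.π X t).app (op ⦋n⦌) ≫ (H t).h i :=
  Fan.IsLimit.fac (evalPiIsLimit Y (op ⦋n + 1⦌))
      (fun t => (Pi.π X t).app (op ⦋n⦌) ≫ (H t).h i) t

@[reassoc]
lemma piMap_app_π {X Y : T → SimplicialObject C} (a : ∀ t, X t ⟶ Y t) (Δ : SimplexCategoryᵒᵖ) (t : T) :
    (Limits.Pi.map a).app Δ ≫ (Pi.π Y t).app Δ = (Pi.π X t).app Δ ≫ (a t).app Δ := by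
  rw [← NatTrans.comp_app, Limits.Pi.map_π, NatTrans.comp_app]

noncomputable def piHomotopy {X Y : T → SimplicialObject C} (a b : ∀ t, X t ⟶ Y t)
    (H : ∀ t, SimplicialObject.Homotopy (a t) (b t)) :
    SimplicialObject.Homotopy (Limits.Pi.map a) (Limits.Pi.map b) where
  h {n} i := piH H i
  h_zero_comp_δ_zero n := by
    apply evalPi_hom_ext
    intro t
    rw [Category.assoc, SimplicialObject.δ_naturality, piH_π_assoc, piMap_app_π,
      (H t).h_zero_comp_δ_zero]
  h_last_comp_δ_last n := by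
    apply evalPi_hom_ext
    intro t
    rw [Category.assoc, SimplicialObject.δ_naturality, piH_π_assoc, piMap_app_π,
      (H t).h_last_comp_δ_last]
  h_succ_comp_δ_castSucc_of_lt i j hij := by
    apply evalPi_hom_ext
    intro t
    rw [Category.assoc, Category.assoc, SimplicialObject.δ_naturality, piH_π_assoc, piH_π,
      SimplicialObject.δ_naturality_assoc, (H t).h_succ_comp_δ_castSucc_of_lt i j hij]
  h_succ_comp_δ_castSucc_succ j := by
    apply evalPi_hom_ext
    intro t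
    rw [Category.assoc, Category.assoc, SimplicialObject.δ_naturality, piH_π_assoc, piH_π_assoc,
      (H t).h_succ_comp_δ_castSucc_succ j]
  h_castSucc_comp_δ_succ_of_lt i j hji := by
    apply evalPi_hom_ext
    intro t
    rw [Category.assoc, Category.assoc, SimplicialObject.δ_naturality, piH_π_assoc, piH_π,
      SimplicialObject.δ_naturality_assoc, (H t).h_castSucc_comp_δ_succ_of_lt i j hji]
  h_comp_σ_castSucc_of_le i j hij := by
    apply evalPi_hom_ext
    intro t
    rw [Category.assoc, Category.assoc, SimplicialObject.σ_naturality, piH_π_assoc, piH_π,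
      SimplicialObject.σ_naturality_assoc, (H t).h_comp_σ_castSucc_of_le i j hij]
  h_comp_σ_succ_of_lt i j hji := by
    apply evalPi_hom_ext
    intro t
    rw [Category.assoc, Category.assoc, SimplicialObject.σ_naturality, piH_π_assoc, piH_π,
      SimplicialObject.σ_naturality_assoc, (H t).h_comp_σ_succ_of_lt i j hji]

end Groth.Agent.H21
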