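import Mathlib

set_option autoImplicit false
open TensorProduct

namespace Groth.Agent.H21.PicPow

universe u v
variable {R : Type u} [CommRing R] (N : Type v) [AddCommGroup N] [Module R N]

open CommRing in
/-- the `k`-th power of the class of `N` is represented by the tensor power -/
theorem nonempty_equiv_tensorPower [Module.Invertible R N] (k : ℕ) :
    Nonempty ((Pic.mk R N ^ k : Pic R) ≃ₗ[R] (⨂[R]^k N)) := by
  induction k with
  | zero =>
    rw [pow_zero]
    have h1 : Nonempty ((1 : Pic R) ≃ₗ[R] R) :=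
      Module.Invertible.free_iff_linearEquiv.mp inferInstance
    obtain ⟨e1⟩ := h1
    exact ⟨e1 ≪≫ₗ (PiTensorProduct.isEmptyEquiv (R := R) (s := fun _ : Fin 0 => N) (Fin 0)).symm⟩
  | succ k ih =>
    obtain ⟨e1⟩ := ih
    rw [pow_succ, Pic.mul_eq_tensor]
    refine ⟨Pic.mk.linearEquiv R _ ≪≫ₗ ?_⟩
    refine TensorProduct.congr e1 (Pic.mk.linearEquiv R N ≪≫ₗ
      (PiTensorProduct.subsingletonEquiv (R := R) (s := fun _ : Fin 1 => N) 0).symm) ≪≫ₗ ?_
    exact TensorPower.mulEquiv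

/-- key rank-one fact: a functional on an invertible module whose value at a "generator mod m"
lies in `m` has all values in `m`. -/
theorem exists_gen_mod [Module.Invertible R N] (m : Ideal R) [m.IsMaximal] :
    ∃ u : N, ∀ l : N →ₗ[R] R, l u ∈ m → ∀ x, l x ∈ m := by
  let κ := R ⧸ m
  letI : Field κ := Ideal.Quotient.field m
  have hfr : Module.finrank κ (κ ⊗[R] N) = 1 := Module.Invertible.finrank_eq_one κ _
  -- there is u with 1 ⊗ u ≠ 0
  have hne : ∃ u : N, (1 : κ) ⊗ₜ[R] u ≠ (0 : κ ⊗[R] N) := by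
    by_contra hcon
    push Not at hcon
    have : ∀ z : κ ⊗[R] N, z = 0 := by
      intro z
      induction z using TensorProduct.induction_on with
      | zero => rfl
      | tmul a x =>
        have : a ⊗ₜ[R] x = a • ((1 : κ) ⊗ₜ[R] x) := by
          rw [TensorProduct.smul_tmul', smul_eq_mul, mul_one]
        rw [this, hcon, smul_zero]
      | add x y hx hy => rw [hx, hy, add_zero]
    have hsub : Subsingleton (κ ⊗[R] N) := ⟨fun a b => by rw [this a, this b]⟩
    have := Module.finrank_zero_of_subsingleton (R := κ) (M := κ ⊗[R] N)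
    omega
  obtain ⟨u, hu⟩ := hne
  refine ⟨u, fun l hl x => ?_⟩
  -- base change of l
  let lb : κ ⊗[R] N →ₗ[κ] κ ⊗[R] R := l.baseChange κ
  have h1 : lb ((1 : κ) ⊗ₜ[R] u) = 0 := by
    show (1 : κ) ⊗ₜ[R] (l u) = 0
    have : l u = l u • (1 : R) := by simp
    rw [this, ← TensorProduct.smul_tmul]
    have : (l u) • (1 : κ) = 0 := by
      rw [Algebra.smul_def, mul_one]
      exact Ideal.Quotient.eq_zero_iff_mem.mpr hl
    rw [this, TensorProduct.zero_tmul]
  -- 1 ⊗ u spans
  have hspan : ∀ z : κ ⊗[R] N, ∃ c : κ, z = c • ((1 : κ) ⊗ₜ[R] u) := by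
    intro z
    have := (finrank_eq_one_iff_of_nonzero' ((1 : κ) ⊗ₜ[R] u) hu).mp hfr z
    obtain ⟨c, hc⟩ := this
    exact ⟨c, hc.symm⟩
  obtain ⟨c, hc⟩ := hspan ((1 : κ) ⊗ₜ[R] x)
  have h2 : lb ((1 : κ) ⊗ₜ[R] x) = 0 := by rw [hc, map_smul, h1, smul_zero]
  have h3 : (1 : κ) ⊗ₜ[R] (l x) = (0 : κ ⊗[R] R) := h2
  have h4 := congrArg (TensorProduct.rid R κ) h3
  rw [TensorProduct.rid_tmul, map_zero, Algebra.smul_def, mul_one] at h4
  exact Ideal.Quotient.eq_zero_iff_mem.mp h4

/-- the determinant multilinear functional -/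
noncomputable def detMap (n : ℕ) (e : (Fin n → N) →ₗ[R] (Fin n → R)) :
    MultilinearMap R (fun _ : Fin n => N) R :=
  (Matrix.detRowAlternating (R := R) (n := Fin n)).toMultilinearMap.compLinearMap
    (fun j => e ∘ₗ LinearMap.single R (fun _ => N) j)

theorem detMap_apply (n : ℕ) (e : (Fin n → N) →ₗ[R] (Fin n → R)) (x : Fin n → N) :
    detMap N n e x = Matrix.det (Matrix.of fun j i => e (Pi.single j (x j)) i) := rfl

theorem detMap_notMem [Module.Invertible R N] (n : ℕ) (e : (Fin n → N) ≃ₗ[R] (Fin n → R))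
    (m : Ideal R) [m.IsMaximal] : ∃ x : Fin n → N, detMap N n e.toLinearMap x ∉ m := by
  obtain ⟨u, hu⟩ := exists_gen_mod N m
  refine ⟨fun _ => u, fun hdet => ?_⟩
  rw [detMap_apply] at hdet
  let κ := R ⧸ m
  letI : Field κ := Ideal.Quotient.field m
  obtain ⟨C, hC⟩ : ∃ C : Matrix (Fin n) (Fin n) R,
      C = Matrix.of fun j i => e (Pi.single j u) i := ⟨_, rfl⟩
  have hdet' : (C.map (Ideal.Quotient.mk m)).det = 0 := by
    rw [← RingHom.mapMatrix_apply, ← RingHom.map_det, hC]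
    exact Ideal.Quotient.eq_zero_iff_mem.mpr hdet
  obtain ⟨v, hv0, hv⟩ := Matrix.exists_mulVec_eq_zero_iff.mpr hdet'
  choose w hw using fun i => Ideal.Quotient.mk_surjective (v i)
  let lam : (Fin n → N) →ₗ[R] R :=
    (∑ i, w i • LinearMap.proj (R := R) (φ := fun _ : Fin n => R) i) ∘ₗ e.toLinearMap
  have hlam : ∀ y, lam y = ∑ i, w i * e y i := by
    intro y
    simp [lam, LinearMap.sum_apply]
  have h1 : ∀ j, lam (Pi.single j u) ∈ m := by
    intro j
    rw [hlam, ← Ideal.Quotient.eq_zero_iff_mem, map_sum]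
    have := congrFun hv j
    simp only [Matrix.mulVec, dotProduct, Matrix.map_apply, Pi.zero_apply] at this
    rw [← this]
    apply Finset.sum_congr rfl
    intro i _
    rw [map_mul, hw, hC, mul_comm]
    rfl
  have h2 : ∀ j x, lam (Pi.single j x) ∈ m := by
    intro j x
    exact hu (lam ∘ₗ LinearMap.single R (fun _ => N) j) (h1 j) x
  have h3 : ∀ y, lam y ∈ m := by
    intro y
    have : y = ∑ j, Pi.single j (y j) := (Finset.univ_sum_single y).symm
    rw [this, map_sum]
    exact Ideal.sum_mem _ fun j _ => h2 j (y j)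
  obtain ⟨i₀, hi₀⟩ : ∃ i, v i ≠ 0 := by
    by_contra hcon
    push Not at hcon
    exact hv0 (funext hcon)
  have h4 := h3 (e.symm (Pi.single i₀ 1))
  rw [hlam] at h4
  simp only [LinearEquiv.apply_symm_apply] at h4
  rw [Finset.sum_eq_single i₀ (by intro b _ hb; rw [Pi.single_eq_of_ne hb, mul_zero])
    (by intro h; exact absurd (Finset.mem_univ _) h)] at h4
  rw [Pi.single_eq_same, mul_one] at h4
  apply hi₀
  rw [← hw i₀]
  exact Ideal.Quotient.eq_zero_iff_mem.mpr h4

open CommRing in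
theorem main [Module.Invertible R N] (n : ℕ) (e : (Fin n → N) ≃ₗ[R] (Fin n → R)) :
    Pic.mk R N ^ n = 1 := by
  obtain ⟨e1⟩ := nonempty_equiv_tensorPower (R := R) N n
  let Φ : (⨂[R]^n N) →ₗ[R] R := PiTensorProduct.lift (detMap N n e.toLinearMap)
  have hΦ : Function.Surjective Φ := by
    rw [← LinearMap.range_eq_top]
    by_contra hne
    obtain ⟨m, hm, hle⟩ := Ideal.exists_le_maximal (LinearMap.range Φ) hne
    obtain ⟨x, hx⟩ := detMap_notMem N n e m
    apply hx
    apply hle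
    exact ⟨PiTensorProduct.tprod R x, PiTensorProduct.lift.tprod x⟩
  let Ψ : (Pic.mk R N ^ n : Pic R) →ₗ[R] R := Φ ∘ₗ e1.toLinearMap
  have hΨ : Function.Surjective Ψ := hΦ.comp e1.surjective
  have hb := Module.Invertible.bijective_of_surjective hΨ
  rw [← Pic.mk_eq_self (M := Pic.mk R N ^ n), Pic.mk_eq_one_iff]
  exact ⟨LinearEquiv.ofBijective Ψ hb⟩

end Groth.Agent.H21.PicPow
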