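import Mathlib

set_option autoImplicit false
universe u

open MvPolynomial

namespace H21.PinchDer

variable (K : Type u) [Field K]

/-- the pinch point subalgebra -/
noncomputable abbrev Rp : Subalgebra K (MvPolynomial (Fin 2) K) :=
  Algebra.adjoin K {MvPolynomial.X 0 ^ 2, MvPolynomial.X 0 * MvPolynomial.X 1, MvPolynomial.X 1}

variable {K}

lemma memU : (X 0 ^ 2 : MvPolynomial (Fin 2) K) ∈ Rp K := Algebra.subset_adjoin (by simp)
lemma memV : (X 0 * X 1 : MvPolynomial (Fin 2) K) ∈ Rp K := Algebra.subset_adjoin (by simp)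
lemma memW : (X 1 : MvPolynomial (Fin 2) K) ∈ Rp K := Algebra.subset_adjoin (by simp)

lemma smul_def' (r : Rp K) (p : MvPolynomial (Fin 2) K) : r • p = (r : MvPolynomial (Fin 2) K) * p := rfl

lemma X1_not_dvd_X0 : ¬ (X 1 : MvPolynomial (Fin 2) K) ∣ X 0 := by
  intro h
  have := (MvPolynomial.X_dvd_X (R := K) (i := (1 : Fin 2)) (j := (0 : Fin 2))).mp h
  exact absurd this (by decide)

theorem main [NeZero (2 : K)] (δ : Derivation K (Rp K) (MvPolynomial (Fin 2) K)) :
    ∃! D : Derivation K (MvPolynomial (Fin 2) K) (MvPolynomial (Fin 2) K),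
      ∀ r : Rp K, D (r : MvPolynomial (Fin 2) K) = δ r := by
  obtain ⟨u, hu⟩ : ∃ u : Rp K, u = ⟨X 0 ^ 2, memU⟩ := ⟨_, rfl⟩
  obtain ⟨v, hv⟩ : ∃ v : Rp K, v = ⟨X 0 * X 1, memV⟩ := ⟨_, rfl⟩
  obtain ⟨w, hw⟩ : ∃ w : Rp K, w = ⟨X 1, memW⟩ := ⟨_, rfl⟩
  have hrel : v * v = u * w * w := by
    apply Subtype.ext
    rw [hu, hv, hw]
    change (X 0 * X 1 : MvPolynomial (Fin 2) K) * (X 0 * X 1) = X 0 ^ 2 * X 1 * X 1
    ring
  have h2 : (2 : MvPolynomial (Fin 2) K) = C 2 := (map_ofNat C 2).symm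
  have h2u : IsUnit (2 : MvPolynomial (Fin 2) K) := by
    rw [h2]; exact (isUnit_iff_ne_zero.mpr (NeZero.ne (2 : K))).map C
  -- the key relation
  have hδ := congrArg δ hrel
  rw [Derivation.leibniz, Derivation.leibniz, Derivation.leibniz] at hδ
  simp only [smul_def', Subalgebra.coe_mul] at hδ
  have cu : (u : MvPolynomial (Fin 2) K) = X 0 ^ 2 := by rw [hu]
  have cv : (v : MvPolynomial (Fin 2) K) = X 0 * X 1 := by rw [hv]
  have cw : (w : MvPolynomial (Fin 2) K) = X 1 := by rw [hw]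
  rw [cu, cv, cw] at hδ
  have hX1 : (X 1 : MvPolynomial (Fin 2) K) ≠ 0 := X_ne_zero _
  have key : (X 1 : MvPolynomial (Fin 2) K) * δ u = 2 * X 0 * (δ v - X 0 * δ w) := by
    apply mul_left_cancel₀ hX1
    linear_combination (-1 : MvPolynomial (Fin 2) K) * hδ
  have hprime : Prime (X 1 : MvPolynomial (Fin 2) K) := MvPolynomial.X_prime
  have hdvd : (X 1 : MvPolynomial (Fin 2) K) ∣ δ v - X 0 * δ w := by
    have h1 : (X 1 : MvPolynomial (Fin 2) K) ∣ 2 * X 0 * (δ v - X 0 * δ w) := ⟨_, key.symm⟩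
    rcases hprime.dvd_or_dvd h1 with h | h
    · exfalso
      rcases hprime.dvd_or_dvd h with h' | h'
      · exact hprime.not_isUnit (isUnit_of_dvd_unit h' h2u)
      · exact X1_not_dvd_X0 h'
    · exact h
  obtain ⟨e, he⟩ := hdvd
  have hδu : δ u = 2 * X 0 * e := by
    apply mul_left_cancel₀ hX1
    rw [key, he]; ring
  have hδv : δ v = X 1 * e + X 0 * δ w := by
    linear_combination he
  -- the extension
  let D : Derivation K (MvPolynomial (Fin 2) K) (MvPolynomial (Fin 2) K) :=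
    mkDerivation K ![e, δ w]
  have hD0 : D (X 0) = e := by simp [D, mkDerivation_X]
  have hD1 : D (X 1) = δ w := by simp [D, mkDerivation_X]
  have hDext : ∀ (x : MvPolynomial (Fin 2) K) (hx : x ∈ Rp K), D x = δ ⟨x, hx⟩ := by
    intro x hx
    induction hx using Algebra.adjoin_induction with
    | mem x hx =>
      simp only [Set.mem_insert_iff, Set.mem_singleton_iff] at hx
      rcases hx with rfl | rfl | rfl
      · have : (⟨X 0 ^ 2, memU⟩ : Rp K) = u := hu.symm
        have h' : δ ⟨X 0 ^ 2, Algebra.subset_adjoin (by simp)⟩ = δ u := by rw [← this]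
        rw [h', hδu, Derivation.leibniz_pow, hD0]
        simp only [smul_eq_mul, nsmul_eq_mul, Nat.cast_ofNat]
        ring
      · have : (⟨X 0 * X 1, memV⟩ : Rp K) = v := hv.symm
        have h' : δ ⟨X 0 * X 1, Algebra.subset_adjoin (by simp)⟩ = δ v := by rw [← this]
        rw [h', hδv, Derivation.leibniz, hD0, hD1]
        simp only [smul_eq_mul]
        ring
      · have : (⟨X 1, memW⟩ : Rp K) = w := hw.symm
        have h' : δ ⟨X 1, Algebra.subset_adjoin (by simp)⟩ = δ w := by rw [← this]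
        rw [h', hD1]
    | algebraMap r =>
      have : (⟨algebraMap K (MvPolynomial (Fin 2) K) r, Subalgebra.algebraMap_mem _ r⟩ : Rp K) =
          algebraMap K (Rp K) r := rfl
      rw [Derivation.map_algebraMap]
      exact (Derivation.map_algebraMap δ r).symm
    | add x y hx hy ihx ihy =>
      have : (⟨x + y, Subalgebra.add_mem _ hx hy⟩ : Rp K) = ⟨x, hx⟩ + ⟨y, hy⟩ := rfl
      rw [this, map_add, map_add, ihx, ihy]
    | mul x y hx hy ihx ihy =>
      have : (⟨x * y, Subalgebra.mul_mem _ hx hy⟩ : Rp K) = ⟨x, hx⟩ * ⟨y, hy⟩ := rfl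
      rw [this, Derivation.leibniz, Derivation.leibniz, ihx, ihy]
      rfl
  refine ⟨D, fun r => hDext r.1 r.2, ?_⟩
  intro D' hD'
  apply MvPolynomial.derivation_ext
  intro i
  have h1 : D' (X 1) = δ w := by rw [← hD' w, cw]
  have h0 : D' (X 0) = e := by
    have hv' := hD' v
    rw [cv, Derivation.leibniz, h1, hδv] at hv'
    simp only [smul_eq_mul] at hv'
    apply mul_left_cancel₀ hX1
    linear_combination hv'
  fin_cases i
  · change D' (X 0) = D (X 0)
    rw [h0, hD0]
  · change D' (X 1) = D (X 1)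
    rw [h1, hD1]

end H21.PinchDer
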