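import Groth.Statements.S11249
import Mathlib

set_option autoImplicit false
open Matrix

namespace Groth.Agent.H21.Pluecker

variable {K : Type*} [Field K] {d n : ℕ}

theorem exists_minor_ne_zero (A : Matrix (Fin n) (Fin d) K) (hA : LinearIndependent K A.transpose) :
    ∃ θ : Fin d → Fin n, (A.submatrix θ id).det ≠ 0 := by
  classical
  have hrank : A.rank = d := by
    have h1 : Aᵀ.rank = Fintype.card (Fin d) := LinearIndependent.rank_matrix (M := Aᵀ) hA
    rw [rank_transpose] at h1
    simpa using h1
  obtain ⟨κ, a, ha, hsp, hli⟩ := exists_linearIndependent' K A.row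
  have : Finite κ := Finite.of_injective a ha
  cases nonempty_fintype κ
  have hcard : Fintype.card κ = d := by
    rw [linearIndependent_iff_card_eq_finrank_span.mp hli, Set.finrank, hsp,
      ← rank_eq_finrank_span_row, hrank]
  let e : Fin d ≃ κ := (Fintype.equivFinOfCardEq hcard).symm
  refine ⟨a ∘ e, ?_⟩
  have hli2 : LinearIndependent K (A.submatrix (a ∘ e) id).row := hli.comp e e.injective
  rw [linearIndependent_rows_iff_isUnit, isUnit_iff_isUnit_det] at hli2
  exact hli2.ne_zero

theorem minor_all (A A' : Matrix (Fin n) (Fin d) K) (c : K)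
    (h : ∀ θ : W4bk4grassmannian.Idx d n, (A.submatrix θ.1 id).det = c * (A'.submatrix θ.1 id).det)
    (θ : Fin d → Fin n) : (A.submatrix θ id).det = c * (A'.submatrix θ id).det := by
  by_cases hinj : Function.Injective θ
  · have hmono : StrictMono (θ ∘ Tuple.sort θ) :=
      (Tuple.monotone_sort θ).strictMono_of_injective (hinj.comp (Tuple.sort θ).injective)
    have key := h ⟨θ ∘ Tuple.sort θ, hmono⟩
    have e1 : ∀ M : Matrix (Fin n) (Fin d) K, (M.submatrix (θ ∘ Tuple.sort θ) id).det =
        ((Equiv.Perm.sign (Tuple.sort θ) : ℤˣ) : ℤ) * (M.submatrix θ id).det := by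
      intro M
      have : M.submatrix (θ ∘ Tuple.sort θ) id = (M.submatrix θ id).submatrix (Tuple.sort θ) id := rfl
      rw [this, det_permute]
    simp only [e1] at key
    rcases Int.units_eq_one_or (Equiv.Perm.sign (Tuple.sort θ)) with hs | hs
    · simpa [hs] using key
    · simpa [hs] using key
  · have : ∃ s t, θ s = θ t ∧ s ≠ t := by
      by_contra hcon
      apply hinj
      intro s t hst
      by_contra hne
      exact hcon ⟨s, t, hst, hne⟩
    obtain ⟨s, t, hst, hne⟩ := this
    have z : ∀ M : Matrix (Fin n) (Fin d) K, (M.submatrix θ id).det = 0 := by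
      intro M
      apply det_zero_of_row_eq hne
      funext j
      simp [submatrix_apply, hst]
    rw [z, z, mul_zero]

theorem entry_eq (M : Matrix (Fin n) (Fin d) K) (θ0 : Fin d → Fin n) (h1 : M.submatrix θ0 id = 1)
    (i : Fin n) (j : Fin d) : M i j = (M.submatrix (Function.update θ0 j i) id).det := by
  have : M.submatrix (Function.update θ0 j i) id = updateRow (1 : Matrix (Fin d) (Fin d) K) j (M i) := by
    ext s t
    by_cases hs : s = j
    · subst hs
      simp
    · simp only [submatrix_apply, Function.update_of_ne hs, id, updateRow_ne hs]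
      exact congrFun (congrFun h1 s) t
  rw [this, ← cramer_transpose_apply, transpose_one, cramer_one]
  rfl

theorem span_le_of_eq_mul (A A' : Matrix (Fin n) (Fin d) K) (Q : Matrix (Fin d) (Fin d) K)
    (h : A' = A * Q) :
    Submodule.span K (Set.range A'.transpose) ≤ Submodule.span K (Set.range A.transpose) := by
  rw [Submodule.span_le]
  rintro _ ⟨j, rfl⟩
  have : A'.transpose j = ∑ k, Q k j • A.transpose k := by
    funext i
    simp [h, mul_apply, Finset.sum_apply, mul_comm]
  rw [this]
  exact Submodule.sum_mem _ fun k _ => Submodule.smul_mem _ _ (Submodule.subset_span ⟨k, rfl⟩)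

theorem main (A A' : Matrix (Fin n) (Fin d) K) (hA : LinearIndependent K A.transpose)
    (c : K) (hc : c ≠ 0)
    (h : ∀ θ : W4bk4grassmannian.Idx d n, (A.submatrix θ.1 id).det = c * (A'.submatrix θ.1 id).det) :
    Submodule.span K (Set.range A.transpose) = Submodule.span K (Set.range A'.transpose) := by
  have hall := minor_all A A' c h
  obtain ⟨θ0, h0⟩ := exists_minor_ne_zero A hA
  have h0' : (A'.submatrix θ0 id).det ≠ 0 := by
    intro e
    apply h0
    rw [hall, e, mul_zero]
  obtain ⟨P, hP⟩ : ∃ P, P = A.submatrix θ0 id := ⟨_, rfl⟩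
  obtain ⟨P', hP'⟩ : ∃ P', P' = A'.submatrix θ0 id := ⟨_, rfl⟩
  rw [← hP] at h0
  rw [← hP'] at h0'
  have uP : IsUnit P.det := isUnit_iff_ne_zero.mpr h0
  have uP' : IsUnit P'.det := isUnit_iff_ne_zero.mpr h0'
  have sub_mul : ∀ (M : Matrix (Fin n) (Fin d) K) (Q : Matrix (Fin d) (Fin d) K) (θ : Fin d → Fin n),
      (M * Q).submatrix θ id = M.submatrix θ id * Q := by
    intro M Q θ
    ext s t
    simp [mul_apply]
  have hdet : ∀ θ : Fin d → Fin n, ((A * P⁻¹).submatrix θ id).det = ((A' * P'⁻¹).submatrix θ id).det := by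
    intro θ
    rw [sub_mul, sub_mul, det_mul, det_mul, det_nonsing_inv, det_nonsing_inv, hall θ]
    have : P.det = c * P'.det := by rw [hP, hP', hall θ0]
    rw [this]
    simp only [Ring.inverse_eq_inv']
    field_simp
  have hB1 : (A * P⁻¹).submatrix θ0 id = 1 := by
    rw [sub_mul, ← hP, mul_nonsing_inv _ uP]
  have hB1' : (A' * P'⁻¹).submatrix θ0 id = 1 := by
    rw [sub_mul, ← hP', mul_nonsing_inv _ uP']
  have hBB : A * P⁻¹ = A' * P'⁻¹ := by
    ext i j
    rw [entry_eq _ θ0 hB1, entry_eq _ θ0 hB1', hdet]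
  have e1 : A' = A * (P⁻¹ * P') := by
    rw [← Matrix.mul_assoc, hBB, Matrix.mul_assoc, nonsing_inv_mul _ uP', Matrix.mul_one]
  have e2 : A = A' * (P'⁻¹ * P) := by
    rw [← Matrix.mul_assoc, ← hBB, Matrix.mul_assoc, nonsing_inv_mul _ uP, Matrix.mul_one]
  exact le_antisymm (span_le_of_eq_mul A' A _ e2) (span_le_of_eq_mul A A' _ e1)

end Groth.Agent.H21.Pluecker
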