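import Mathlib

set_option autoImplicit false
universe u

namespace H21.PoleAlong

theorem main (R : Type u) [CommRing R] [IsDomain R] [IsNoetherianRing R]
    (p : Ideal R) [p.IsPrime] (hp : p.height = 1) :
    ∃ f : FractionRing R, f ∉ Set.range ⇑(algebraMap R (FractionRing R)) ∧
      ∀ q : Ideal R, q.IsPrime → q.height = 1 → q ≠ p →
        ∃ a b : R, b ∉ q ∧ f * algebraMap R (FractionRing R) b = algebraMap R (FractionRing R) a := by
  have hfin : p.FiniteHeight := p.finiteHeight_iff.mpr (Or.inr (by rw [hp]; exact ENat.one_ne_top))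
  have hpbot : p ≠ ⊥ := by
    intro h
    have := Ideal.height_eq_zero_iff_eq_bot.mpr h
    rw [hp] at this
    exact one_ne_zero this
  obtain ⟨x, hxp, hx0⟩ := Submodule.exists_mem_ne_zero_of_ne_bot hpbot
  -- p is minimal over (x)
  have hmin : p ∈ (Ideal.span {x}).minimalPrimes := by
    refine ⟨⟨inferInstance, (Ideal.span_singleton_le_iff_mem _).mpr hxp⟩, ?_⟩
    rintro q ⟨hq, hxq⟩ hqp
    by_contra hne
    have hlt : q < p := lt_of_le_of_ne hqp (fun h => hne (h ▸ le_rfl))
    have h1 : q.height < p.height := Ideal.height_strict_mono_of_isPrime_of_isPrime hlt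
    rw [hp, Order.lt_one_iff, Ideal.height_eq_zero_iff_eq_bot] at h1
    have : x ∈ q := (Ideal.span_singleton_le_iff_mem _).mp hxq
    rw [h1] at this
    exact hx0 this
  have hass : p ∈ associatedPrimes R (R ⧸ Ideal.span {x}) := by
    apply Module.associatedPrimes.minimalPrimes_annihilator_subset_associatedPrimes R (R ⧸ Ideal.span {x})
    rwa [Ideal.annihilator_quotient]
  obtain ⟨_, ybar, hy⟩ := (isAssociatedPrime_iff).mp hass
  obtain ⟨y, rfl⟩ := Ideal.Quotient.mk_surjective ybar
  have hmem : ∀ r : R, r ∈ p ↔ ∃ a, r * y = a * x := by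
    intro r
    rw [hy, Submodule.mem_colon_singleton, Submodule.mem_bot]
    change r • (Ideal.Quotient.mk (Ideal.span {x}) y) = 0 ↔ _
    rw [Algebra.smul_def, Ideal.Quotient.algebraMap_eq, ← map_mul, Ideal.Quotient.eq_zero_iff_mem,
      Ideal.mem_span_singleton']
    constructor
    · rintro ⟨a, ha⟩; exact ⟨a, ha.symm⟩
    · rintro ⟨a, ha⟩; exact ⟨a, ha.symm⟩
  have hinj := IsFractionRing.injective R (FractionRing R)
  have hx0' : algebraMap R (FractionRing R) x ≠ 0 := fun h => hx0 (hinj (h.trans (map_zero _).symm))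
  refine ⟨algebraMap R (FractionRing R) y / algebraMap R (FractionRing R) x, ?_, ?_⟩
  · rintro ⟨r, hr⟩
    rw [eq_div_iff hx0', ← map_mul] at hr
    have h1 : (1 : R) ∈ p := (hmem 1).mpr ⟨r, by rw [one_mul]; exact (hinj hr).symm⟩
    exact (Ideal.IsPrime.ne_top inferInstance) ((Ideal.eq_top_iff_one p).mpr h1)
  · intro q hq hq1 hne
    have hnle : ¬ p ≤ q := by
      intro hle
      have hlt : p < q := lt_of_le_of_ne hle (fun h => hne h.symm)
      have := Ideal.height_strict_mono_of_isPrime hlt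
      rw [hp, hq1] at this
      exact lt_irrefl _ this
    obtain ⟨b, hbp, hbq⟩ := Set.not_subset.mp hnle
    obtain ⟨a, ha⟩ := (hmem b).mp hbp
    refine ⟨a, b, hbq, ?_⟩
    rw [div_mul_eq_mul_div, div_eq_iff hx0', ← map_mul, ← map_mul, mul_comm y b, ha]

end H21.PoleAlong
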