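import Mathlib
import Groth.Prelude.Def_W4c5spincurvestfNode

set_option autoImplicit false
universe u

open Polynomial LaurentPolynomial

namespace H21.PolyNodeTorsion

variable {k : Type u} [Field k]

lemma toLaurent_coeff_nat (p : k[X]) (n : ℕ) : (toLaurent p).coeff (n : ℤ) = p.coeff n := by
  rw [coeff_toLaurent]
  have : ((n : ℕ) : ℤ) = Nat.castEmbedding n := rfl
  rw [this, Finsupp.mapDomain_apply Nat.castEmbedding.injective]
  rfl

lemma toLaurent_coeff_neg (p : k[X]) (m : ℤ) (hm : m < 0) : (toLaurent p).coeff m = 0 := by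
  rw [coeff_toLaurent]
  apply Finsupp.mapDomain_of_notMem_range
  rintro ⟨n, hn⟩
  have : ((n : ℕ) : ℤ) = m := hn
  omega

lemma key (a b : k[X]) (h : T 1 * toLaurent a = invert (toLaurent b)) : a = 0 ∧ b = 0 := by
  have ha : a = 0 := by
    ext n
    have h1 : (T 1 * toLaurent a).coeff ((n + 1 : ℕ) : ℤ) = a.coeff n := by
      rw [← Polynomial.toLaurent_X, ← map_mul, toLaurent_coeff_nat, Polynomial.coeff_X_mul]
    rw [h, invert_apply, toLaurent_coeff_neg _ _ (by omega)] at h1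
    rw [← h1]; simp
  refine ⟨ha, ?_⟩
  rw [ha] at h
  simp only [map_zero, mul_zero] at h
  have := (EmbeddingLike.map_eq_zero_iff (f := (invert : k[T;T⁻¹] ≃ₐ[k] k[T;T⁻¹]))).mp h.symm
  exact Polynomial.toLaurent_eq_zero.mp this

variable (k)

/-- `X₀ ↦ X`, `X₁ ↦ 0`. -/
noncomputable def φ : MvPolynomial (Fin 2) k →ₐ[k] k[X] := MvPolynomial.aeval ![Polynomial.X, 0]

/-- `X ↦ X₀`. -/
noncomputable def ψ : k[X] →ₐ[k] MvPolynomial (Fin 2) k := Polynomial.aeval (MvPolynomial.X 0)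

lemma φ_X0 : φ k (MvPolynomial.X 0) = Polynomial.X := by simp [φ]
lemma φ_X1 : φ k (MvPolynomial.X 1) = 0 := by simp [φ]
lemma ψ_X : ψ k Polynomial.X = MvPolynomial.X 0 := by simp [ψ]

variable {k}

lemma sub_mem (Q : MvPolynomial (Fin 2) k) :
    Q - ψ k (φ k Q) ∈ Ideal.span {(MvPolynomial.X 1 : MvPolynomial (Fin 2) k)} := by
  induction Q using MvPolynomial.induction_on with
  | C a =>
    have : ψ k (φ k (MvPolynomial.C a)) = MvPolynomial.C a := by
      rw [← MvPolynomial.algebraMap_eq, AlgHom.commutes, AlgHom.commutes]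
    rw [this, sub_self]
    exact Ideal.zero_mem _
  | add p q hp hq =>
    have : p + q - ψ k (φ k (p + q)) = (p - ψ k (φ k p)) + (q - ψ k (φ k q)) := by
      rw [map_add, map_add]; ring
    rw [this]
    exact Ideal.add_mem _ hp hq
  | mul_X p i hp =>
    fin_cases i
    · have : p * MvPolynomial.X 0 - ψ k (φ k (p * MvPolynomial.X 0))
          = (p - ψ k (φ k p)) * MvPolynomial.X 0 := by
        rw [map_mul, map_mul, φ_X0, ψ_X]; ring
      change p * MvPolynomial.X 0 - ψ k (φ k (p * MvPolynomial.X 0)) ∈ _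
      rw [this]
      exact Ideal.mul_mem_right _ _ hp
    · have : p * MvPolynomial.X 1 - ψ k (φ k (p * MvPolynomial.X 1))
          = p * MvPolynomial.X 1 := by
        rw [map_mul, φ_X1, mul_zero, map_zero, sub_zero]
      change p * MvPolynomial.X 1 - ψ k (φ k (p * MvPolynomial.X 1)) ∈ _
      rw [this]
      exact Ideal.mul_mem_left _ _ (Ideal.subset_span rfl)

local notation "I0" => Ideal.span
  {(MvPolynomial.X 0 * MvPolynomial.X 1 - MvPolynomial.C (0 : k) : MvPolynomial (Fin 2) k)}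

lemma mem_I0 (P : MvPolynomial (Fin 2) k) :
    P ∈ I0 ↔ ∃ Q, P = MvPolynomial.X 0 * MvPolynomial.X 1 * Q := by
  rw [Ideal.mem_span_singleton']
  simp only [map_zero, sub_zero]
  constructor
  · rintro ⟨a, rfl⟩; exact ⟨a, by ring⟩
  · rintro ⟨a, rfl⟩; exact ⟨a, by ring⟩

/-- If `y * g = 0` in the node then `g = x * h`. -/
lemma exists_of_y_mul_eq_zero (g : SpinCurv.PolyNodeRing k 0)
    (h : SpinCurv.PolyNodeRing.y k 0 * g = 0) :
    ∃ H : MvPolynomial (Fin 2) k, g = Ideal.Quotient.mk _ (MvPolynomial.X 0 * H) := by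
  obtain ⟨G, rfl⟩ := Ideal.Quotient.mk_surjective g
  rw [← map_mul, Ideal.Quotient.eq_zero_iff_mem, mem_I0] at h
  obtain ⟨Q, hQ⟩ := h
  refine ⟨Q, ?_⟩
  have : G = MvPolynomial.X 0 * Q := by
    have hX : (MvPolynomial.X 1 : MvPolynomial (Fin 2) k) ≠ 0 := MvPolynomial.X_ne_zero _
    apply mul_left_cancel₀ hX
    rw [hQ]; ring
  rw [this]

/-- If `φ H = 0` then `x * H = 0` in the node. -/
lemma mk_eq_zero_of_φ (H : MvPolynomial (Fin 2) k) (h : φ k H = 0) :
    (Ideal.Quotient.mk I0 (MvPolynomial.X 0 * H)) = 0 := by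
  have h1 := sub_mem H
  rw [h, map_zero, sub_zero, Ideal.mem_span_singleton'] at h1
  obtain ⟨a, rfl⟩ := h1
  rw [Ideal.Quotient.eq_zero_iff_mem, mem_I0]
  exact ⟨a, by ring⟩

lemma gU_comp (gU : SpinCurv.PolyNodeRing k 0 →ₐ[k] LaurentPolynomial k)
    (hgUs : gU (SpinCurv.PolyNodeRing.x k 0) = LaurentPolynomial.T 1)
    (hgUy : gU (SpinCurv.PolyNodeRing.y k 0) = 0) (H : MvPolynomial (Fin 2) k) :
    gU (Ideal.Quotient.mk _ H) = toLaurent (φ k H) := by
  have : gU.comp (Ideal.Quotient.mkₐ k I0) = (toLaurentAlg (R := k)).comp (φ k) := by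
    apply MvPolynomial.algHom_ext
    intro i
    fin_cases i
    · change gU (SpinCurv.PolyNodeRing.x k 0) = toLaurentAlg (φ k (MvPolynomial.X 0))
      rw [hgUs, φ_X0, toLaurentAlg_apply, Polynomial.toLaurent_X]
    · change gU (SpinCurv.PolyNodeRing.y k 0) = toLaurentAlg (φ k (MvPolynomial.X 1))
      rw [hgUy, φ_X1, map_zero]
  exact DFunLike.congr_fun this H

lemma gV_comp (gV : SpinCurv.PolyNodeRing k 0 →ₐ[k] LaurentPolynomial k)
    (hgVt : gV (SpinCurv.PolyNodeRing.x k 0) = LaurentPolynomial.T (-1))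
    (hgVx : gV (SpinCurv.PolyNodeRing.y k 0) = 0) (H : MvPolynomial (Fin 2) k) :
    gV (Ideal.Quotient.mk _ H) = invert (toLaurent (φ k H)) := by
  have : gV.comp (Ideal.Quotient.mkₐ k I0) =
      ((invert : k[T;T⁻¹] ≃ₐ[k] k[T;T⁻¹]) : k[T;T⁻¹] →ₐ[k] k[T;T⁻¹]).comp
        ((toLaurentAlg (R := k)).comp (φ k)) := by
    apply MvPolynomial.algHom_ext
    intro i
    fin_cases i
    · change gV (SpinCurv.PolyNodeRing.x k 0) = invert (toLaurentAlg (φ k (MvPolynomial.X 0)))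
      rw [hgVt, φ_X0, toLaurentAlg_apply, Polynomial.toLaurent_X, invert_T]
    · change gV (SpinCurv.PolyNodeRing.y k 0) = invert (toLaurentAlg (φ k (MvPolynomial.X 1)))
      rw [hgVx, φ_X1, map_zero, map_zero]
  exact DFunLike.congr_fun this H

theorem main
    (gU : SpinCurv.PolyNodeRing k 0 →ₐ[k] LaurentPolynomial k)
    (hgUs : gU (SpinCurv.PolyNodeRing.x k 0) = LaurentPolynomial.T 1)
    (hgUy : gU (SpinCurv.PolyNodeRing.y k 0) = 0)
    (gV : SpinCurv.PolyNodeRing k 0 →ₐ[k] LaurentPolynomial k)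
    (hgVt : gV (SpinCurv.PolyNodeRing.x k 0) = LaurentPolynomial.T (-1))
    (hgVx : gV (SpinCurv.PolyNodeRing.y k 0) = 0)
    (g f : SpinCurv.PolyNodeRing k 0) (hsec : gU g = LaurentPolynomial.T 1 * gV f)
    (hg : SpinCurv.PolyNodeRing.y k 0 * g = 0) (hf : SpinCurv.PolyNodeRing.y k 0 * f = 0) :
    g = 0 ∧ f = 0 := by
  obtain ⟨G, rfl⟩ := exists_of_y_mul_eq_zero g hg
  obtain ⟨F, rfl⟩ := exists_of_y_mul_eq_zero f hf
  have e1 : gU (Ideal.Quotient.mk _ (MvPolynomial.X 0 * G)) = T 1 * toLaurent (φ k G) := by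
    rw [gU_comp gU hgUs hgUy, map_mul, φ_X0, map_mul, Polynomial.toLaurent_X]
  have e2 : gV (Ideal.Quotient.mk _ (MvPolynomial.X 0 * F)) =
      T (-1) * invert (toLaurent (φ k F)) := by
    rw [gV_comp gV hgVt hgVx, map_mul, φ_X0, map_mul, Polynomial.toLaurent_X, map_mul, invert_T]
  rw [e1, e2, ← mul_assoc, ← T_add] at hsec
  simp only [add_neg_cancel, T_zero, one_mul] at hsec
  obtain ⟨h1, h2⟩ := key _ _ hsec
  exact ⟨mk_eq_zero_of_φ G h1, mk_eq_zero_of_φ F h2⟩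

end H21.PolyNodeTorsion
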