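import Mathlib

set_option autoImplicit false

namespace H21.PowerSum
open Polynomial

/-- If all power sums of finitely many complex numbers are bounded, each has norm ≤ 1. -/
lemma norm_le_one_of_powerSum_bounded {n : ℕ} (β : Fin n → ℂ) (K : ℝ)
    (h : ∀ N : ℕ, 1 ≤ N → ‖∑ i, β i ^ N‖ ≤ K) (k : Fin n) : ‖β k‖ ≤ 1 := by
  classical
  by_contra hk
  push Not at hk
  set γ := β k with hγ
  let p : ℂ[X] := ∏ x ∈ (Finset.univ.image β).erase γ, (X - C x)
  have hpγ : p.eval γ ≠ 0 := by
    simp only [p, eval_prod, eval_sub, eval_X, eval_C]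
    rw [Finset.prod_ne_zero_iff]
    intro x hx
    rw [sub_ne_zero]
    exact (Finset.ne_of_mem_erase hx).symm
  have hpβ : ∀ i, β i ≠ γ → p.eval (β i) = 0 := by
    intro i hi
    simp only [p, eval_prod, eval_sub, eval_X, eval_C]
    apply Finset.prod_eq_zero (i := β i)
    · exact Finset.mem_erase.mpr ⟨hi, Finset.mem_image_of_mem _ (Finset.mem_univ _)⟩
    · simp
  have hC : 0 ≤ K := le_trans (norm_nonneg _) (h 1 le_rfl)
  set C' : ℝ := ∑ j ∈ Finset.range (p.natDegree + 1), ‖p.coeff j‖ * K with hC'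
  have hbound : ∀ N : ℕ, 1 ≤ N → ‖γ‖ ^ N * ‖p.eval γ‖ ≤ C' := by
    intro N hN
    have h1 : ∑ i, β i ^ N * p.eval (β i) =
        ∑ j ∈ Finset.range (p.natDegree + 1), p.coeff j * ∑ i, β i ^ (N + j) := by
      simp_rw [eval_eq_sum_range, Finset.mul_sum]
      rw [Finset.sum_comm]
      refine Finset.sum_congr rfl (fun j _ => Finset.sum_congr rfl (fun i _ => ?_))
      rw [pow_add]; ring
    have h2 : ∑ i, β i ^ N * p.eval (β i) =
        ((Finset.univ.filter (fun i => β i = γ)).card : ℂ) * (γ ^ N * p.eval γ) := by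
      rw [← Finset.sum_filter_add_sum_filter_not Finset.univ (fun i => β i = γ)]
      have h3 : ∑ i ∈ Finset.univ.filter (fun i => ¬ β i = γ), β i ^ N * p.eval (β i) = 0 := by
        apply Finset.sum_eq_zero
        intro i hi
        rw [hpβ i (Finset.mem_filter.mp hi).2, mul_zero]
      rw [h3, add_zero]
      have h4 : ∀ i ∈ Finset.univ.filter (fun i => β i = γ),
          β i ^ N * p.eval (β i) = γ ^ N * p.eval γ := by
        intro i hi
        rw [(Finset.mem_filter.mp hi).2]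
      rw [Finset.sum_congr rfl h4, Finset.sum_const, nsmul_eq_mul]
    have hcard : (1 : ℝ) ≤ ((Finset.univ.filter (fun i => β i = γ)).card : ℝ) := by
      have : 0 < (Finset.univ.filter (fun i => β i = γ)).card :=
        Finset.card_pos.mpr ⟨k, Finset.mem_filter.mpr ⟨Finset.mem_univ _, rfl⟩⟩
      exact_mod_cast this
    calc ‖γ‖ ^ N * ‖p.eval γ‖
        ≤ ((Finset.univ.filter (fun i => β i = γ)).card : ℝ) * (‖γ‖ ^ N * ‖p.eval γ‖) := by
          have : 0 ≤ ‖γ‖ ^ N * ‖p.eval γ‖ := by positivity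
          nlinarith
      _ = ‖∑ i, β i ^ N * p.eval (β i)‖ := by
          rw [h2, norm_mul, norm_mul, norm_pow, Complex.norm_natCast]
      _ = ‖∑ j ∈ Finset.range (p.natDegree + 1), p.coeff j * ∑ i, β i ^ (N + j)‖ := by rw [h1]
      _ ≤ ∑ j ∈ Finset.range (p.natDegree + 1), ‖p.coeff j * ∑ i, β i ^ (N + j)‖ :=
          norm_sum_le _ _
      _ ≤ C' := by
          apply Finset.sum_le_sum
          intro j _
          rw [norm_mul]
          exact mul_le_mul_of_nonneg_left (h (N + j) (by omega)) (norm_nonneg _)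
  have hpos : 0 < ‖p.eval γ‖ := norm_pos_iff.mpr hpγ
  have htend := tendsto_pow_atTop_atTop_of_one_lt hk
  obtain ⟨N, hN⟩ := (htend.eventually_gt_atTop (C' / ‖p.eval γ‖)).and
    (Filter.eventually_ge_atTop 1) |>.exists
  have := hbound N hN.2
  have h5 : ‖γ‖ ^ N ≤ C' / ‖p.eval γ‖ := by
    rw [le_div_iff₀ hpos]; exact this
  linarith [hN.1]

end H21.PowerSum
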