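import Mathlib

set_option autoImplicit false
universe u

open PrimeSpectrum Topology

namespace H21.ProCons

variable {A : Type u} [CommRing A]

lemma isConstructible_basic (a : A) (T : Finset A) :
    IsConstructible ((zeroLocus (T : Set A) \ zeroLocus {a} : Set (PrimeSpectrum A))ᶜ) := by
  rw [isConstructible_compl]
  refine .sdiff ?_ ?_
  · rw [← isConstructible_compl]
    exact (isRetrocompact_zeroLocus_compl T.finite_toSet).isConstructible
      (isClosed_zeroLocus _).isOpen_compl
  · rw [← isConstructible_compl]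
    exact (isRetrocompact_zeroLocus_compl (Set.finite_singleton _)).isConstructible
      (isClosed_zeroLocus _).isOpen_compl

/-- The range of `Spec B → Spec A` is an intersection of constructible sets. -/
lemma range_comap_eq_sInter {B : Type*} [CommRing B] (f : A →+* B) :
    ∃ S : Set (Set (PrimeSpectrum A)), (∀ s ∈ S, IsConstructible s) ∧
      Set.range (PrimeSpectrum.comap f) = ⋂₀ S := by
  classical
  refine ⟨{s | ∃ (a : A) (T : Finset A), f a ∈ Ideal.span (f '' (T : Set A)) ∧
      s = (zeroLocus (T : Set A) \ zeroLocus {a})ᶜ}, ?_, ?_⟩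
  · rintro s ⟨a, T, -, rfl⟩
    exact isConstructible_basic a T
  · apply Set.Subset.antisymm
    · rintro _ ⟨Q, rfl⟩ s ⟨a, T, haT, rfl⟩
      rintro ⟨h1, h2⟩
      apply h2
      rw [mem_zeroLocus, Set.singleton_subset_iff]
      show f a ∈ Q.asIdeal
      have : Ideal.span (f '' (T : Set A)) ≤ Q.asIdeal := by
        rw [Ideal.span_le]
        rintro _ ⟨t, ht, rfl⟩
        exact h1 ht
      exact this haT
    · intro p hp
      by_contra hpr
      rw [PrimeSpectrum.mem_range_comap_iff] at hpr
      have hle : p.asIdeal ≤ (p.asIdeal.map f).comap f := Ideal.le_comap_map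
      obtain ⟨a, ha, hap⟩ : ∃ a, a ∈ (p.asIdeal.map f).comap f ∧ a ∉ p.asIdeal := by
        by_contra hcon
        push Not at hcon
        exact hpr (le_antisymm hcon hle)
      rw [Ideal.mem_comap, Ideal.map, ] at ha
      obtain ⟨T', hT', haT'⟩ := Submodule.mem_span_finite_of_mem_span ha
      obtain ⟨T, hT, rfl⟩ : ∃ T : Finset A, (T : Set A) ⊆ p.asIdeal ∧ T.image f = T' := by
        have := (Finset.subset_set_image_iff).mp hT'
        obtain ⟨T, hT, hT2⟩ := this
        exact ⟨T, hT, hT2⟩
      have hmem := hp _ ⟨a, T, by simpa using haT', rfl⟩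
      apply hmem
      refine ⟨?_, ?_⟩
      · rw [mem_zeroLocus]
        exact hT
      · rw [mem_zeroLocus, Set.singleton_subset_iff]
        exact hap

/-- An intersection of constructible sets is the range of some `Spec B → Spec A`. -/
lemma exists_range_comap_eq_sInter (S : Set (Set (PrimeSpectrum A)))
    (hS : ∀ s ∈ S, IsConstructible s) :
    ∃ (B : Type u) (_ : CommRing B) (f : A →+* B),
      Set.range (PrimeSpectrum.comap f) = ⋂₀ S := by
  classical
  let f : A →+* (∀ x : (⋂₀ S : Set (PrimeSpectrum A)), x.1.asIdeal.ResidueField) :=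
    RingHom.pi (fun x => algebraMap A x.1.asIdeal.ResidueField)
  refine ⟨∀ x : (⋂₀ S : Set (PrimeSpectrum A)), x.1.asIdeal.ResidueField, inferInstance, f, ?_⟩
  apply Set.Subset.antisymm
  · rintro _ ⟨Q, rfl⟩ s hs
    by_contra hps
    obtain ⟨D, hD⟩ := exists_constructibleSetData_iff.mpr (hS s hs).compl
    have hmem : comap f Q ∈ D.toSet := by rw [hD]; exact hps
    simp only [ConstructibleSetData.toSet, Set.mem_iUnion] at hmem
    obtain ⟨C, hC, hpC⟩ := hmem
    obtain ⟨h1, h2⟩ := hpC
    have hx : ∀ x : (⋂₀ S : Set (PrimeSpectrum A)), x.1 ∉ C.toSet := by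
      intro x hxC
      have : x.1 ∈ sᶜ := by
        rw [← hD]
        exact Set.mem_biUnion (Finset.mem_coe.mpr hC) hxC
      exact this (x.2 s hs)
    have claim : f C.f ∈ Ideal.span (Set.range (f ∘ C.g)) := by
      have key : ∀ x : (⋂₀ S : Set (PrimeSpectrum A)),
          ∃ c : Fin C.n → x.1.asIdeal.ResidueField,
            algebraMap A x.1.asIdeal.ResidueField C.f =
              ∑ i, c i * algebraMap A x.1.asIdeal.ResidueField (C.g i) := by
        intro x
        by_cases hf : C.f ∈ x.1.asIdeal
        · refine ⟨fun _ => 0, ?_⟩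
          simp [Ideal.algebraMap_residueField_eq_zero.mpr hf]
        · have : ∃ i, C.g i ∉ x.1.asIdeal := by
            by_contra hcon
            push Not at hcon
            apply hx x
            refine ⟨?_, ?_⟩
            · rw [mem_zeroLocus]; rintro _ ⟨i, rfl⟩; exact hcon i
            · rw [mem_zeroLocus, Set.singleton_subset_iff]; exact hf
          obtain ⟨i₀, hi₀⟩ := this
          have hne : algebraMap A x.1.asIdeal.ResidueField (C.g i₀) ≠ 0 := by
            rwa [Ne, Ideal.algebraMap_residueField_eq_zero]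
          refine ⟨fun i => if i = i₀ then
            algebraMap A x.1.asIdeal.ResidueField C.f /
              algebraMap A x.1.asIdeal.ResidueField (C.g i₀) else 0, ?_⟩
          simp only [ite_mul, zero_mul, Finset.sum_ite_eq', Finset.mem_univ, if_true]
          rw [div_mul_cancel₀ _ hne]
      choose c hc using key
      have : f C.f = ∑ i, (fun x => c x i) * f (C.g i) := by
        funext x
        rw [Finset.sum_apply]
        exact hc x
      rw [this]
      refine Ideal.sum_mem _ (fun i _ => Ideal.mul_mem_left _ _ (Ideal.subset_span ⟨i, rfl⟩))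
    have hle : Ideal.span (Set.range (f ∘ C.g)) ≤ Q.asIdeal := by
      rw [Ideal.span_le]; rintro _ ⟨i, rfl⟩
      exact h1 ⟨i, rfl⟩
    apply h2
    rw [mem_zeroLocus, Set.singleton_subset_iff]
    exact hle claim
  · intro x hx
    refine ⟨⟨RingHom.ker (Pi.evalRingHom _ (⟨x, hx⟩ : (⋂₀ S : Set (PrimeSpectrum A)))),
      RingHom.ker_isPrime _⟩, ?_⟩
    ext a
    show f a ∈ RingHom.ker _ ↔ a ∈ x.asIdeal
    rw [RingHom.mem_ker]
    exact Ideal.algebraMap_residueField_eq_zero

end H21.ProCons
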