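import Mathlib
import Groth.Prelude.Def_ProCons

/-! Helper lemmas (helper21): preimages of locally constructible / pro- / ind-constructible sets
under morphisms of schemes. -/

namespace Groth.Agent.H21

open CategoryTheory AlgebraicGeometry Topology

universe u

theorem isLocallyConstructible_preimage' {X Y : Scheme.{u}} (f : X ⟶ Y) {s : Set Y}
    (hs : IsLocallyConstructible s) : IsLocallyConstructible (f.base ⁻¹' s) := by
  intro x
  obtain ⟨U, hUx, hUo, hUc⟩ := hs (f.base x)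
  let U' : Y.Opens := ⟨U, hUo⟩
  refine ⟨(f ⁻¹ᵁ U' : Set X), ?_, (f ⁻¹ᵁ U').isOpen, ?_⟩
  · exact (f ⁻¹ᵁ U').isOpen.mem_nhds (show f.base x ∈ U from mem_of_mem_nhds hUx)
  · have h1 : IsConstructible ((f ∣_ U').base ⁻¹' (U'.ι.base ⁻¹' s)) :=
      Scheme.Hom.isConstructible_preimage (f ∣_ U') (s := (U'.ι.base ⁻¹' s)) hUc
    have h2 : ((f ∣_ U').base ⁻¹' (U'.ι.base ⁻¹' s)) =
        ((f ⁻¹ᵁ U').ι.base ⁻¹' (f.base ⁻¹' s)) := by
      ext z
      simp only [Set.mem_preimage]
      have : U'.ι ((f ∣_ U') z) = f ((f ⁻¹ᵁ U').ι z) := by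
        rw [← Scheme.Hom.comp_apply, morphismRestrict_ι, Scheme.Hom.comp_apply]
      rw [this]
    rw [h2] at h1
    exact h1

theorem isLocallyConstructible_restrictPreimage {X Y : Scheme.{u}} (f : X ⟶ Y) (U : Set Y) (hU : IsOpen U)
    (T : Set ↥U) (hT : IsLocallyConstructible T) :
    IsLocallyConstructible ((U.restrictPreimage f.base) ⁻¹' T) := by
  let U' : Y.Opens := ⟨U, hU⟩
  have := isLocallyConstructible_preimage' (f ∣_ U') (s := T) hT
  rw [morphismRestrict_base] at this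
  exact this

theorem proCons_preimage {X Y : Scheme.{u}} (f : X ⟶ Y) (T : Set Y)
    (hT : ProCons.IsProConstructible T) :
    ProCons.IsProConstructible (f.base ⁻¹' T) := by
  intro x
  obtain ⟨U, hUo, hyU, S, hS, hTS⟩ := hT (f.base x)
  refine ⟨f.base ⁻¹' U, hUo.preimage f.continuous, hyU,
    (fun T' => (U.restrictPreimage f.base) ⁻¹' T') '' S, ?_, ?_⟩
  · rintro _ ⟨T', hT', rfl⟩
    exact isLocallyConstructible_restrictPreimage f U hUo T' (hS T' hT')
  · have : (Subtype.val ⁻¹' (f.base ⁻¹' T) : Set ↥(f.base ⁻¹' U)) =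
        (U.restrictPreimage f.base) ⁻¹' (Subtype.val ⁻¹' T) := by
      ext z; simp
    rw [this, hTS]
    ext z
    simp

theorem indCons_preimage {X Y : Scheme.{u}} (f : X ⟶ Y) (T : Set Y)
    (hT : ProCons.IsIndConstructible T) :
    ProCons.IsIndConstructible (f.base ⁻¹' T) := by
  intro x
  obtain ⟨U, hUo, hyU, S, hS, hTS⟩ := hT (f.base x)
  refine ⟨f.base ⁻¹' U, hUo.preimage f.continuous, hyU,
    (fun T' => (U.restrictPreimage f.base) ⁻¹' T') '' S, ?_, ?_⟩
  · rintro _ ⟨T', hT', rfl⟩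
    exact isLocallyConstructible_restrictPreimage f U hUo T' (hS T' hT')
  · have : (Subtype.val ⁻¹' (f.base ⁻¹' T) : Set ↥(f.base ⁻¹' U)) =
        (U.restrictPreimage f.base) ⁻¹' (Subtype.val ⁻¹' T) := by
      ext z; simp
    rw [this, hTS]
    ext z
    simp

end Groth.Agent.H21
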