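import Mathlib

set_option autoImplicit false
universe u

open CategoryTheory AlgebraicGeometry HomogeneousLocalization

namespace H21.ProjKer

variable {R A : Type u} [CommRing R] [CommRing A] [Algebra R A]
  (𝒜 : ℕ → Submodule R A) [GradedAlgebra 𝒜]

lemma awayMap_injective {e : ℕ} {f g : A} (hg : g ∈ 𝒜 e) (hnz : g ∈ nonZeroDivisors A)
    {x : A} (hx : x = f * g) : Function.Injective (awayMap 𝒜 hg hx) := by
  rw [injective_iff_map_eq_zero]
  intro z hz
  obtain ⟨⟨n, ⟨a, ha⟩, ⟨b, hb'⟩, i, rfl : _ = b⟩, rfl⟩ := mk_surjective z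
  have h1 := congrArg HomogeneousLocalization.val hz
  rw [val_awayMap_mk, HomogeneousLocalization.val_zero, Localization.mk_eq_mk',
    IsLocalization.mk'_eq_zero_iff] at h1
  obtain ⟨⟨c, k, rfl⟩, hc⟩ := h1
  simp only at hc
  apply HomogeneousLocalization.val_injective
  rw [HomogeneousLocalization.val_mk, HomogeneousLocalization.val_zero, Localization.mk_eq_mk',
    IsLocalization.mk'_eq_zero_iff]
  refine ⟨⟨f ^ k, k, rfl⟩, ?_⟩
  simp only
  have h2 : g ^ (k + i) * (f ^ k * a) = 0 := by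
    rw [← hc, hx]; ring
  exact (mul_left_mem_nonZeroDivisors_eq_zero_iff (pow_mem hnz (k + i))).mp h2

end H21.ProjKer

namespace H21.ProjKer

variable {R A : Type u} [CommRing R] [CommRing A] [Algebra R A]
  (𝒜 : ℕ → Submodule R A) [GradedAlgebra 𝒜]

lemma bijective_awayToSection {m : ℕ} {f : A} (hf : f ∈ 𝒜 m) (hm : 0 < m) :
    Function.Bijective (Proj.awayToSection 𝒜 f).hom := by
  have : IsIso (Proj.awayToSection 𝒜 f) := by
    rw [← Proj.basicOpenIsoAway_hom 𝒜 f hf hm]; infer_instance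
  exact ConcreteCategory.bijective_of_isIso (Proj.awayToSection 𝒜 f)

lemma restrict_injective {m d : ℕ} {f g : A} (hf : f ∈ 𝒜 m) (hm : 0 < m) (hg : g ∈ 𝒜 d)
    (hnz : g ∈ nonZeroDivisors A)
    (W : (Proj 𝒜).Opens) (hW : W = Proj.basicOpen 𝒜 f ⊓ Proj.basicOpen 𝒜 g)
    (hle : W ≤ Proj.basicOpen 𝒜 f) :
    Function.Injective ((Proj 𝒜).presheaf.map (homOfLE hle).op).hom := by
  have hWx : W = Proj.basicOpen 𝒜 (f * g) := by rw [hW, Proj.basicOpen_mul]
  subst hWx
  have key := Proj.awayMap_awayToSection 𝒜 (f := f) hg (x := f * g) rfl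
  have b1 := bijective_awayToSection 𝒜 hf hm
  have b2 := bijective_awayToSection 𝒜 (SetLike.mul_mem_graded hf hg) (Nat.add_pos_left hm d)
  intro s1 s2 h
  obtain ⟨t1, rfl⟩ := b1.2 s1
  obtain ⟨t2, rfl⟩ := b1.2 s2
  have k1 := congrArg (fun φ => φ.hom t1) key
  have k2 := congrArg (fun φ => φ.hom t2) key
  simp only [CommRingCat.hom_comp, RingHom.comp_apply, CommRingCat.hom_ofHom] at k1 k2
  have h' : (Proj.awayToSection 𝒜 (f * g)).hom (awayMap 𝒜 hg rfl t1) =
      (Proj.awayToSection 𝒜 (f * g)).hom (awayMap 𝒜 hg rfl t2) := by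
    rw [k1, k2]; exact h
  have := awayMap_injective 𝒜 hg hnz rfl (b2.1 h')
  rw [this]

end H21.ProjKer
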