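import Mathlib
import Groth.Prelude.Def_W4c5quivmodgenus0Quiv

set_option autoImplicit false
universe u v
open PtQuiv Module

namespace H21.PtQuivAB

variable {K : Type u} [Field K] {κ : Type v} [Fintype κ] [DecidableEq κ] (a b : κ)

lemma sum_split (hab : a ≠ b) (θ : κ → ℚ) (I : Finset κ) :
    ∑ i ∈ I, θ i = ∑ i ∈ I.subtype (fun i => i ≠ a ∧ i ≠ b), θ i.1 +
      (if a ∈ I then θ a else 0) + (if b ∈ I then θ b else 0) := by
  have h1 : ∑ i ∈ I.subtype (fun i => i ≠ a ∧ i ≠ b), θ i.1 =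
      ∑ i ∈ I.filter (fun i => i ≠ a ∧ i ≠ b), θ i := by
    rw [← Finset.subtype_map, Finset.sum_map]; rfl
  rw [h1, ← Finset.sum_filter_add_sum_filter_not I (fun i => i ≠ a ∧ i ≠ b), add_assoc]
  congr 1
  have : I.filter (fun i => ¬ (i ≠ a ∧ i ≠ b)) = ({a, b} : Finset κ).filter (· ∈ I) := by
    ext i; simp only [Finset.mem_filter, Finset.mem_insert, Finset.mem_singleton]; tauto
  rw [this, Finset.sum_filter, Finset.sum_pair hab]

lemma sum_others (hab : a ≠ b) (θ : κ → ℚ) (h2 : ∑ i, θ i = 2) :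
    ∑ i : {i : κ // i ≠ a ∧ i ≠ b}, θ i.1 = 2 - θ a - θ b := by
  have := sum_split a b hab θ Finset.univ
  rw [h2, Finset.subtype_univ] at this
  simp only [Finset.mem_univ, if_true] at this
  linarith

lemma sum_le_others (hab : a ≠ b) (θ : κ → ℚ) (h0 : ∀ i, 0 ≤ θ i) (h2 : ∑ i, θ i = 2)
    (I' : Finset {i : κ // i ≠ a ∧ i ≠ b}) :
    ∑ i ∈ I', θ i.1 ≤ 2 - θ a - θ b := by
  rw [← sum_others a b hab θ h2]
  exact Finset.sum_le_univ_sum_of_nonneg (fun i => h0 i.1)

lemma pwt_eq (θ : κ → ℚ) (c : ℚ) (U : Fin 2 → Submodule K K)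
    (I' : Finset {i : κ // i ≠ a ∧ i ≠ b}) :
    PWt K ![c * (θ a - 1), c * (θ b - 1)] (fun i : {i : κ // i ≠ a ∧ i ≠ b} => c * θ i.1) U I' =
      c * ((θ a - 1) * (finrank K (U 0) : ℚ) + (θ b - 1) * (finrank K (U 1) : ℚ) +
        ∑ i ∈ I', θ i.1) := by
  unfold PWt
  rw [Fin.sum_univ_two, ← Finset.mul_sum]
  simp only [Matrix.cons_val_zero, Matrix.cons_val_one]
  ring

lemma sub_cases (u : Submodule K K) : u = ⊥ ∨ u = ⊤ := Ideal.eq_bot_or_top u

lemma finrank_sub_bot : finrank K (⊥ : Submodule K K) = 0 := finrank_bot K K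

lemma finrank_sub_top : finrank K (⊤ : Submodule K K) = 1 := by
  rw [finrank_top, Module.finrank_self]

lemma eq_bot_fun (U : Fin 2 → Submodule K K) : U = ⊥ ↔ U 0 = ⊥ ∧ U 1 = ⊥ := by
  constructor
  · rintro rfl; exact ⟨rfl, rfl⟩
  · rintro ⟨h0, h1⟩; funext j; fin_cases j
    · exact h0
    · exact h1

lemma eq_top_fun (U : Fin 2 → Submodule K K) : U = ⊤ ↔ U 0 = ⊤ ∧ U 1 = ⊤ := by
  constructor
  · rintro rfl; exact ⟨rfl, rfl⟩
  · rintro ⟨h0, h1⟩; funext j; fin_cases j
    · exact h0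
    · exact h1

lemma finrank_plane : finrank K (Fin 2 → K) = 2 := Module.finrank_fin_fun K

lemma exists_L (x y : Fin 2 → K) (hx : x ≠ 0) (hy : y ≠ 0) (U : Fin 2 → Submodule K K) :
    ∃ L : Submodule K (Fin 2 → K), finrank K L = finrank K (U 0) + finrank K (U 1) ∧
      (∀ p ∈ U 0, ∀ q ∈ U 1, p • x + q • y ∈ L) ∧ (L = ⊥ → U = ⊥) ∧ (L = ⊤ → U = ⊤) := by
  rcases sub_cases (U 0) with h0 | h0 <;> rcases sub_cases (U 1) with h1 | h1
  · refine ⟨⊥, ?_, ?_, ?_, ?_⟩
    · rw [h0, h1, finrank_sub_bot, finrank_bot]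
    · intro p hp q hq
      rw [h0] at hp; rw [h1] at hq
      rw [(Submodule.mem_bot K).mp hp, (Submodule.mem_bot K).mp hq]
      simp
    · intro _; exact (eq_bot_fun U).mpr ⟨h0, h1⟩
    · intro h; exact (bot_ne_top h).elim
  · refine ⟨Submodule.span K {y}, ?_, ?_, ?_, ?_⟩
    · rw [h0, h1, finrank_sub_bot, finrank_sub_top, finrank_span_singleton hy]
    · intro p hp q hq
      rw [h0] at hp
      rw [(Submodule.mem_bot K).mp hp, zero_smul, zero_add]
      exact Submodule.smul_mem _ _ (Submodule.mem_span_singleton_self y)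
    · intro h
      have : y ∈ Submodule.span K {y} := Submodule.mem_span_singleton_self y
      rw [h] at this
      exact (hy ((Submodule.mem_bot K).mp this)).elim
    · intro h
      have := finrank_span_singleton (K := K) hy
      rw [h, finrank_top, finrank_plane] at this
      omega
  · refine ⟨Submodule.span K {x}, ?_, ?_, ?_, ?_⟩
    · rw [h0, h1, finrank_sub_bot, finrank_sub_top, finrank_span_singleton hx]
    · intro p hp q hq
      rw [h1] at hq
      rw [(Submodule.mem_bot K).mp hq, zero_smul, add_zero]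
      exact Submodule.smul_mem _ _ (Submodule.mem_span_singleton_self x)
    · intro h
      have : x ∈ Submodule.span K {x} := Submodule.mem_span_singleton_self x
      rw [h] at this
      exact (hx ((Submodule.mem_bot K).mp this)).elim
    · intro h
      have := finrank_span_singleton (K := K) hx
      rw [h, finrank_top, finrank_plane] at this
      omega
  · refine ⟨⊤, ?_, ?_, ?_, ?_⟩
    · rw [h0, h1, finrank_sub_top, finrank_top, finrank_plane]
    · intro p _ q _; exact Submodule.mem_top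
    · intro h; exact (bot_ne_top h.symm).elim
    · intro _; exact (eq_top_fun U).mpr ⟨h0, h1⟩



lemma ite_top (u : Submodule K K) (x : ℚ) [Decidable (u = ⊤)] :
    (if u = ⊤ then x else 0) = x * (finrank K u : ℚ) := by
  rcases sub_cases u with h | h
  · rw [if_neg (by rw [h]; exact bot_ne_top), h, finrank_sub_bot]; simp
  · rw [if_pos h, h, finrank_sub_top]; simp

open Classical in
theorem forward (hab : a ≠ b) (s : κ → (Fin 2 → K)) (θ : κ → ℚ)
    (hsa : s a ≠ 0) (hsb : s b ≠ 0)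
    (t : {i : κ // i ≠ a ∧ i ≠ b} → (Fin 2 → K))
    (ht : ∀ i, s i.1 = t i 0 • s a + t i 1 • s b)
    (U : Fin 2 → Submodule K K) (I' : Finset {i : κ // i ≠ a ∧ i ≠ b}) (h : PSubrep t U I') :
    ∃ (L : Submodule K (Fin 2 → K)) (I : Finset κ), QSubrep s L I ∧
      QWt K (-1) θ L I = (θ a - 1) * (finrank K (U 0) : ℚ) + (θ b - 1) * (finrank K (U 1) : ℚ) +
        ∑ i ∈ I', θ i.1 ∧
      ((L = ⊥ ∧ I = ∅) → (U = ⊥ ∧ I' = ∅)) ∧ ((L = ⊤ ∧ I = Finset.univ) → (U = ⊤ ∧ I' = Finset.univ)) := by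
  obtain ⟨L, hL1, hL2, hL3, hL4⟩ := exists_L (s a) (s b) hsa hsb U
  obtain ⟨I, hI⟩ : ∃ I : Finset κ, I = Finset.univ.filter (fun i =>
      (∃ hi : i ≠ a ∧ i ≠ b, (⟨i, hi⟩ : {i : κ // i ≠ a ∧ i ≠ b}) ∈ I') ∨ (i = a ∧ U 0 = ⊤) ∨
        (i = b ∧ U 1 = ⊤)) := ⟨_, rfl⟩
  have hmem : ∀ i, i ∈ I ↔ ((∃ hi : i ≠ a ∧ i ≠ b, (⟨i, hi⟩ : {i : κ // i ≠ a ∧ i ≠ b}) ∈ I') ∨
      (i = a ∧ U 0 = ⊤) ∨ (i = b ∧ U 1 = ⊤)) := by
    intro i; rw [hI]; simp only [Finset.mem_filter, Finset.mem_univ, true_and]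
  have hsub : I.subtype (fun i => i ≠ a ∧ i ≠ b) = I' := by
    ext ⟨i, hi⟩
    rw [Finset.mem_subtype, hmem]
    constructor
    · rintro (⟨_, h'⟩ | ⟨h', _⟩ | ⟨h', _⟩)
      · exact h'
      · exact (hi.1 h').elim
      · exact (hi.2 h').elim
    · intro h'; exact Or.inl ⟨hi, h'⟩
  have ha : a ∈ I ↔ U 0 = ⊤ := by
    rw [hmem]
    constructor
    · rintro (⟨h', _⟩ | ⟨_, h'⟩ | ⟨h', _⟩)
      · exact (h'.1 rfl).elim
      · exact h'
      · exact (hab h').elim
    · intro h'; exact Or.inr (Or.inl ⟨rfl, h'⟩)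
  have hb : b ∈ I ↔ U 1 = ⊤ := by
    rw [hmem]
    constructor
    · rintro (⟨h', _⟩ | ⟨h', _⟩ | ⟨_, h'⟩)
      · exact (h'.2 rfl).elim
      · exact (hab h'.symm).elim
      · exact h'
    · intro h'; exact Or.inr (Or.inr ⟨rfl, h'⟩)
  refine ⟨L, I, ?_, ?_, ?_, ?_⟩
  · intro i hi
    rcases (hmem i).mp hi with ⟨hi', hiI⟩ | ⟨rfl, h0⟩ | ⟨rfl, h1⟩
    · have := ht ⟨i, hi'⟩
      simp only at this
      rw [this]
      exact hL2 _ (h _ hiI 0) _ (h _ hiI 1)
    · have := hL2 1 (by rw [h0]; exact Submodule.mem_top) 0 (Submodule.zero_mem _)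
      simpa using this
    · have := hL2 0 (Submodule.zero_mem _) 1 (by rw [h1]; exact Submodule.mem_top)
      simpa using this
  · unfold QWt
    rw [sum_split a b hab θ I, hsub, hL1]
    have e1 : (if a ∈ I then θ a else 0) = θ a * (finrank K (U 0) : ℚ) := by
      rw [← ite_top (U 0) (θ a)]
      exact if_congr ha rfl rfl
    have e2 : (if b ∈ I then θ b else 0) = θ b * (finrank K (U 1) : ℚ) := by
      rw [← ite_top (U 1) (θ b)]
      exact if_congr hb rfl rfl
    rw [e1, e2]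
    push_cast
    ring
  · rintro ⟨hLb, hIe⟩
    refine ⟨hL3 hLb, ?_⟩
    rw [← hsub, hIe]
    rfl
  · rintro ⟨hLt, hIu⟩
    refine ⟨hL4 hLt, ?_⟩
    rw [← hsub, hIu, Finset.subtype_univ]



lemma eq_top_of_mem {x y : Fin 2 → K} (hli : LinearIndependent K ![x, y])
    (L : Submodule K (Fin 2 → K)) (hx : x ∈ L) (hy : y ∈ L) : L = ⊤ := by
  have := hli.span_eq_top_of_card_eq_finrank (by rw [finrank_plane]; rfl)
  rw [eq_top_iff, ← this, Submodule.span_le]
  rintro _ ⟨j, rfl⟩
  fin_cases j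
  · exact hx
  · exact hy

lemma bot_ne_top_sub : (⊥ : Submodule K K) ≠ ⊤ := bot_ne_top

theorem backward (hab : a ≠ b) (s : κ → (Fin 2 → K)) (θ : κ → ℚ)
    (h0 : ∀ i, 0 ≤ θ i) (h1 : ∀ i, θ i ≤ 1) (h2 : ∑ i, θ i = 2) (hθ : 1 < θ a + θ b)
    (hli : LinearIndependent K ![s a, s b])
    (t : {i : κ // i ≠ a ∧ i ≠ b} → (Fin 2 → K))
    (ht : ∀ i, s i.1 = t i 0 • s a + t i 1 • s b)
    (L : Submodule K (Fin 2 → K)) (I : Finset κ) (hLI : QSubrep s L I) :
    QWt K (-1) θ L I < 0 ∨
    ∃ (U : Fin 2 → Submodule K K) (I' : Finset {i : κ // i ≠ a ∧ i ≠ b}), PSubrep t U I' ∧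
      QWt K (-1) θ L I ≤ (θ a - 1) * (finrank K (U 0) : ℚ) + (θ b - 1) * (finrank K (U 1) : ℚ) +
        ∑ i ∈ I', θ i.1 ∧
      (QWt K (-1) θ L I = (θ a - 1) * (finrank K (U 0) : ℚ) + (θ b - 1) * (finrank K (U 1) : ℚ) +
        ∑ i ∈ I', θ i.1 →
      ((U = ⊥ ∧ I' = ∅) → (L = ⊥ ∧ I = ∅)) ∧
        ((U = ⊤ ∧ I' = Finset.univ) → (L = ⊤ ∧ I = Finset.univ))) := by
  have hsa : s a ≠ 0 := hli.ne_zero 0
  have hsb : s b ≠ 0 := hli.ne_zero 1
  have hcoef : ∀ p q : K, p • s a + q • s b = 0 → p = 0 ∧ q = 0 := LinearIndependent.pair_iff.mp hli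
  have hθa : 0 < θ a := by have := h1 b; linarith
  have hθb : 0 < θ b := by have := h1 a; linarith
  obtain ⟨I', hI'⟩ : ∃ I' : Finset {i : κ // i ≠ a ∧ i ≠ b},
    I' = I.subtype (fun i => i ≠ a ∧ i ≠ b) := ⟨_, rfl⟩
  have hmem : ∀ i : {i : κ // i ≠ a ∧ i ≠ b}, i ∈ I' ↔ i.1 ∈ I := by
    intro i; rw [hI', Finset.mem_subtype]
  have hwt : QWt K (-1) θ L I = -(finrank K L : ℚ) + ∑ i ∈ I', θ i.1 +
      (if a ∈ I then θ a else 0) + (if b ∈ I then θ b else 0) := by
    unfold QWt
    rw [sum_split a b hab θ I, hI']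
    ring
  have hfr : finrank K L ≤ 2 := by
    have := Submodule.finrank_le L
    rwa [finrank_plane] at this
  obtain hf | hf | hf : finrank K L = 0 ∨ finrank K L = 1 ∨ finrank K L = 2 := by omega
  · -- L = ⊥
    have hL : L = ⊥ := Submodule.finrank_eq_zero.mp hf
    have haI : a ∉ I := by
      intro h
      have := hLI a h
      rw [hL] at this
      exact hsa ((Submodule.mem_bot K).mp this)
    have hbI : b ∉ I := by
      intro h
      have := hLI b h
      rw [hL] at this
      exact hsb ((Submodule.mem_bot K).mp this)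
    right
    refine ⟨⊥, I', ?_, ?_, ?_⟩
    · intro i hi j
      have := hLI i.1 ((hmem i).mp hi)
      rw [hL, Submodule.mem_bot, ht i] at this
      obtain ⟨e0, e1⟩ := hcoef _ _ this
      show t i j ∈ (⊥ : Submodule K K)
      fin_cases j
      · exact (Submodule.mem_bot K).mpr e0
      · exact (Submodule.mem_bot K).mpr e1
    · rw [hwt, hf, if_neg haI, if_neg hbI]
      simp only [Pi.bot_apply, finrank_sub_bot]
      simp
    · intro _
      refine ⟨?_, ?_⟩
      · rintro ⟨_, hI'e⟩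
        refine ⟨hL, Finset.eq_empty_of_forall_notMem ?_⟩
        intro i hi
        have hia : i ≠ a := fun h => haI (h ▸ hi)
        have hib : i ≠ b := fun h => hbI (h ▸ hi)
        have := (hmem ⟨i, hia, hib⟩).mpr hi
        rw [hI'e] at this
        exact Finset.notMem_empty _ this
      · rintro ⟨hU, _⟩
        exact (bot_ne_top_sub (K := K) (congrFun hU 0)).elim
  · -- dim 1
    by_cases haI : a ∈ I
    · by_cases hbI : b ∈ I
      · have := eq_top_of_mem hli L (hLI a haI) (hLI b hbI)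
        rw [this, finrank_top, finrank_plane] at hf
        omega
      · have hsbL : s b ∉ L := by
          intro h
          have := eq_top_of_mem hli L (hLI a haI) h
          rw [this, finrank_top, finrank_plane] at hf
          omega
        right
        refine ⟨![⊤, ⊥], I', ?_, ?_, ?_⟩
        · intro i hi j
          fin_cases j
          · exact Submodule.mem_top
          · show t i 1 ∈ (⊥ : Submodule K K)
            rw [Submodule.mem_bot]
            by_contra hne
            apply hsbL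
            have h3 : s i.1 ∈ L := hLI i.1 ((hmem i).mp hi)
            have h4 : s b = (t i 1)⁻¹ • (s i.1 - t i 0 • s a) := by
              rw [ht i, add_sub_cancel_left, smul_smul, inv_mul_cancel₀ hne, one_smul]
            rw [h4]
            exact L.smul_mem _ (L.sub_mem h3 (L.smul_mem _ (hLI a haI)))
        · rw [hwt, hf, if_pos haI, if_neg hbI]
          have e0 : finrank K ((![⊤, ⊥] : Fin 2 → Submodule K K) 0) = 1 := finrank_sub_top
          have e1 : finrank K ((![⊤, ⊥] : Fin 2 → Submodule K K) 1) = 0 := finrank_sub_bot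
          rw [e0, e1]
          apply le_of_eq
          push_cast
          ring
        · intro _
          refine ⟨?_, ?_⟩
          · rintro ⟨hU, _⟩
            exact (bot_ne_top_sub (K := K) (congrFun hU 0).symm).elim
          · rintro ⟨hU, _⟩
            exact (bot_ne_top_sub (K := K) (congrFun hU 1)).elim
    · by_cases hbI : b ∈ I
      · have hsaL : s a ∉ L := by
          intro h
          have := eq_top_of_mem hli L h (hLI b hbI)
          rw [this, finrank_top, finrank_plane] at hf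
          omega
        right
        refine ⟨![⊥, ⊤], I', ?_, ?_, ?_⟩
        · intro i hi j
          fin_cases j
          · show t i 0 ∈ (⊥ : Submodule K K)
            rw [Submodule.mem_bot]
            by_contra hne
            apply hsaL
            have h3 : s i.1 ∈ L := hLI i.1 ((hmem i).mp hi)
            have h4 : s a = (t i 0)⁻¹ • (s i.1 - t i 1 • s b) := by
              rw [ht i, add_sub_cancel_right, smul_smul, inv_mul_cancel₀ hne, one_smul]
            rw [h4]
            exact L.smul_mem _ (L.sub_mem h3 (L.smul_mem _ (hLI b hbI)))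
          · exact Submodule.mem_top
        · rw [hwt, hf, if_neg haI, if_pos hbI]
          have e0 : finrank K ((![⊥, ⊤] : Fin 2 → Submodule K K) 0) = 0 := finrank_sub_bot
          have e1 : finrank K ((![⊥, ⊤] : Fin 2 → Submodule K K) 1) = 1 := finrank_sub_top
          rw [e0, e1]
          apply le_of_eq
          push_cast
          ring
        · intro _
          refine ⟨?_, ?_⟩
          · rintro ⟨hU, _⟩
            exact (bot_ne_top_sub (K := K) (congrFun hU 1).symm).elim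
          · rintro ⟨hU, _⟩
            exact (bot_ne_top_sub (K := K) (congrFun hU 0)).elim
      · left
        rw [hwt, hf, if_neg haI, if_neg hbI]
        have := sum_le_others a b hab θ h0 h2 I'
        push_cast
        linarith
  · -- L = ⊤
    have hL : L = ⊤ := Submodule.eq_top_of_finrank_eq (by rw [hf, finrank_plane])
    right
    refine ⟨⊤, I', ?_, ?_, ?_⟩
    · intro i _ j
      exact Submodule.mem_top
    · rw [hwt, hf]
      simp only [Pi.top_apply, finrank_sub_top]
      have e1 : (if a ∈ I then θ a else 0) ≤ θ a := by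
        split_ifs
        · exact le_rfl
        · exact h0 a
      have e2 : (if b ∈ I then θ b else 0) ≤ θ b := by
        split_ifs
        · exact le_rfl
        · exact h0 b
      push_cast
      linarith
    · intro heq
      rw [hwt, hf] at heq
      simp only [Pi.top_apply, finrank_sub_top] at heq
      have haI : a ∈ I := by
        by_contra h
        rw [if_neg h] at heq
        have e2 : (if b ∈ I then θ b else 0) ≤ θ b := by
          split_ifs
          · exact le_rfl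
          · exact h0 b
        push_cast at heq
        linarith
      have hbI : b ∈ I := by
        by_contra h
        rw [if_neg h, if_pos haI] at heq
        push_cast at heq
        linarith
      refine ⟨?_, ?_⟩
      · rintro ⟨hU, _⟩
        exact (bot_ne_top_sub (K := K) (congrFun hU 0).symm).elim
      · rintro ⟨_, hI'u⟩
        refine ⟨hL, Finset.eq_univ_iff_forall.mpr ?_⟩
        intro i
        by_cases hia : i = a
        · rw [hia]; exact haI
        by_cases hib : i = b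
        · rw [hib]; exact hbI
        exact (hmem ⟨i, hia, hib⟩).mp (by rw [hI'u]; exact Finset.mem_univ _)




lemma finrank_span_singleton_le (v : Fin 2 → K) : finrank K (Submodule.span K {v}) ≤ 1 := by
  by_cases hv : v = 0
  · rw [hv, Submodule.span_singleton_eq_bot.mpr rfl, finrank_bot]
    exact Nat.zero_le _
  · rw [finrank_span_singleton hv]

theorem li_of_semistable (hab : a ≠ b) (s : κ → (Fin 2 → K)) (θ : κ → ℚ)
    (hθ : 1 < θ a + θ b) (hQ : QSemistable (-1) θ s) : LinearIndependent K ![s a, s b] := by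
  by_contra hli
  have key : ∃ L : Submodule K (Fin 2 → K), finrank K L ≤ 1 ∧ s a ∈ L ∧ s b ∈ L := by
    rw [linearIndependent_fin2] at hli
    simp only [Matrix.cons_val_zero, Matrix.cons_val_one] at hli
    by_cases hb0 : s b = 0
    · refine ⟨Submodule.span K {s a}, finrank_span_singleton_le _,
        Submodule.mem_span_singleton_self _, ?_⟩
      rw [hb0]; exact Submodule.zero_mem _
    · have : ∃ c : K, c • s b = s a := by
        by_contra hne
        apply hli
        refine ⟨hb0, fun c hc => hne ⟨c, hc⟩⟩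
      obtain ⟨c, hc⟩ := this
      refine ⟨Submodule.span K {s b}, finrank_span_singleton_le _, ?_,
        Submodule.mem_span_singleton_self _⟩
      rw [← hc]
      exact Submodule.smul_mem _ _ (Submodule.mem_span_singleton_self _)
  obtain ⟨L, hL1, hLa, hLb⟩ := key
  have hsub : QSubrep s L {a, b} := by
    intro i hi
    rcases Finset.mem_insert.mp hi with rfl | hi
    · exact hLa
    · rw [Finset.mem_singleton.mp hi]; exact hLb
  have := hQ.2 L {a, b} hsub
  unfold QWt at this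
  rw [Finset.sum_pair hab] at this
  have h' : (finrank K L : ℚ) ≤ 1 := by exact_mod_cast hL1
  linarith

theorem exists_t (s : κ → (Fin 2 → K)) (hli : LinearIndependent K ![s a, s b]) :
    ∃ t : {i : κ // i ≠ a ∧ i ≠ b} → (Fin 2 → K), ∀ i, s i.1 = t i 0 • s a + t i 1 • s b := by
  have hspan := hli.span_eq_top_of_card_eq_finrank (by rw [finrank_plane]; rfl)
  have hrange : Set.range ![s a, s b] = {s a, s b} := by
    ext v
    simp only [Set.mem_range, Set.mem_insert_iff, Set.mem_singleton_iff]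
    constructor
    · rintro ⟨j, rfl⟩
      fin_cases j
      · left; rfl
      · right; rfl
    · rintro (rfl | rfl)
      · exact ⟨0, rfl⟩
      · exact ⟨1, rfl⟩
  rw [hrange] at hspan
  have : ∀ i : {i : κ // i ≠ a ∧ i ≠ b}, ∃ p q : K, p • s a + q • s b = s i.1 := by
    intro i
    have : s i.1 ∈ Submodule.span K {s a, s b} := by rw [hspan]; exact Submodule.mem_top
    exact Submodule.mem_span_pair.mp this
  choose p q hpq using this
  exact ⟨fun i => ![p i, q i], fun i => (hpq i).symm⟩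

section main

variable (hab : a ≠ b) (s : κ → (Fin 2 → K))
    (θ : κ → ℚ) (h0 : ∀ i, 0 ≤ θ i) (h1 : ∀ i, θ i ≤ 1) (h2 : ∑ i, θ i = 2)
    (hθ : 1 < θ a + θ b) (hθ' : θ a + θ b < 2)

include hab h0 h1 h2 hθ hθ'

theorem psemistable_of (hQ : QSemistable (-1) θ s) (hli : LinearIndependent K ![s a, s b])
    (t : {i : κ // i ≠ a ∧ i ≠ b} → (Fin 2 → K))
    (ht : ∀ i, s i.1 = t i 0 • s a + t i 1 • s b) :
    PSemistable ![(2 - θ a - θ b)⁻¹ * (θ a - 1), (2 - θ a - θ b)⁻¹ * (θ b - 1)]
      (fun i : {i : κ // i ≠ a ∧ i ≠ b} => (2 - θ a - θ b)⁻¹ * θ i.1) t := by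
  have hc : 0 < (2 - θ a - θ b)⁻¹ := inv_pos.mpr (by linarith)
  refine ⟨?_, ?_⟩
  · rw [Fin.sum_univ_two, ← Finset.mul_sum, sum_others a b hab θ h2]
    simp only [Matrix.cons_val_zero, Matrix.cons_val_one]
    have hne : (2 - θ a - θ b) ≠ 0 := by linarith
    field_simp
    ring
  · intro U I' hsub
    obtain ⟨L, I, hLI, hwt, -, -⟩ := forward a b hab s θ (hli.ne_zero 0) (hli.ne_zero 1) t ht U I' hsub
    have := hQ.2 L I hLI
    rw [pwt_eq, ← hwt]
    exact mul_nonpos_iff.mpr (Or.inl ⟨hc.le, this⟩)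

theorem qsemistable_of (hli : LinearIndependent K ![s a, s b])
    (t : {i : κ // i ≠ a ∧ i ≠ b} → (Fin 2 → K))
    (ht : ∀ i, s i.1 = t i 0 • s a + t i 1 • s b)
    (hP : PSemistable ![(2 - θ a - θ b)⁻¹ * (θ a - 1), (2 - θ a - θ b)⁻¹ * (θ b - 1)]
      (fun i : {i : κ // i ≠ a ∧ i ≠ b} => (2 - θ a - θ b)⁻¹ * θ i.1) t) :
    QSemistable (-1) θ s := by
  have hc : 0 < (2 - θ a - θ b)⁻¹ := inv_pos.mpr (by linarith)
  refine ⟨by rw [h2]; norm_num, ?_⟩
  intro L I hLI
  rcases backward a b hab s θ h0 h1 h2 hθ hli t ht L I hLI with h | ⟨U, I', hsub, hle, -⟩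
  · exact h.le
  · have := hP.2 U I' hsub
    rw [pwt_eq] at this
    have h3 := nonpos_of_mul_nonpos_right this hc
    linarith

theorem pstable_of (hQ : QStable (-1) θ s) (hli : LinearIndependent K ![s a, s b])
    (t : {i : κ // i ≠ a ∧ i ≠ b} → (Fin 2 → K))
    (ht : ∀ i, s i.1 = t i 0 • s a + t i 1 • s b) :
    PStable ![(2 - θ a - θ b)⁻¹ * (θ a - 1), (2 - θ a - θ b)⁻¹ * (θ b - 1)]
      (fun i : {i : κ // i ≠ a ∧ i ≠ b} => (2 - θ a - θ b)⁻¹ * θ i.1) t := by
  have hc : 0 < (2 - θ a - θ b)⁻¹ := inv_pos.mpr (by linarith)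
  refine ⟨psemistable_of a b hab s θ h0 h1 h2 hθ hθ' hQ.1 hli t ht, ?_⟩
  intro U I' hsub hw
  obtain ⟨L, I, hLI, hwt, hb, htop⟩ :=
    forward a b hab s θ (hli.ne_zero 0) (hli.ne_zero 1) t ht U I' hsub
  rw [pwt_eq, ← hwt] at hw
  have hw' : QWt K (-1) θ L I = 0 := by
    rcases mul_eq_zero.mp hw with h | h
    · exact (hc.ne' h).elim
    · exact h
  rcases hQ.2 L I hLI hw' with h | h
  · exact Or.inl (hb h)
  · exact Or.inr (htop h)

theorem qstable_of (hli : LinearIndependent K ![s a, s b])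
    (t : {i : κ // i ≠ a ∧ i ≠ b} → (Fin 2 → K))
    (ht : ∀ i, s i.1 = t i 0 • s a + t i 1 • s b)
    (hP : PStable ![(2 - θ a - θ b)⁻¹ * (θ a - 1), (2 - θ a - θ b)⁻¹ * (θ b - 1)]
      (fun i : {i : κ // i ≠ a ∧ i ≠ b} => (2 - θ a - θ b)⁻¹ * θ i.1) t) :
    QStable (-1) θ s := by
  have hc : 0 < (2 - θ a - θ b)⁻¹ := inv_pos.mpr (by linarith)
  refine ⟨qsemistable_of a b hab s θ h0 h1 h2 hθ hθ' hli t ht hP.1, ?_⟩
  intro L I hLI hw
  rcases backward a b hab s θ h0 h1 h2 hθ hli t ht L I hLI with h | ⟨U, I', hsub, hle, himp⟩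
  · rw [hw] at h; exact (lt_irrefl _ h).elim
  · have h3 := hP.1.2 U I' hsub
    rw [pwt_eq] at h3
    have h4 := nonpos_of_mul_nonpos_right h3 hc
    have heq : QWt K (-1) θ L I = (θ a - 1) * (finrank K (U 0) : ℚ) +
        (θ b - 1) * (finrank K (U 1) : ℚ) + ∑ i ∈ I', θ i.1 := by
      rw [hw] at hle ⊢
      linarith
    obtain ⟨hb, htop⟩ := himp heq
    have hpw : PWt K ![(2 - θ a - θ b)⁻¹ * (θ a - 1), (2 - θ a - θ b)⁻¹ * (θ b - 1)]
      (fun i : {i : κ // i ≠ a ∧ i ≠ b} => (2 - θ a - θ b)⁻¹ * θ i.1) U I' = 0 := by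
      rw [pwt_eq, ← heq, hw, mul_zero]
    rcases hP.2 U I' hsub hpw with h | h
    · exact Or.inl (hb h)
    · exact Or.inr (htop h)

end main


end H21.PtQuivAB
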