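import Mathlib
import Groth.Agent.H21.H1QR

namespace Groth.Agent.H21.QR2

open MvPolynomial Groth.Agent.H21.H1QR

section Part1

variable {R : Type*} [CommRing R] {c : ℕ} (f : Fin c → R)

lemma dd_dd2 (ρ : Fin c → Fin c → MvPolynomial (Fin c) R) :
    dd f (dd2 f ρ) = 0 := by
  unfold dd dd2
  simp only [Finset.mul_sum]
  have h1 : ∀ i j : Fin c, C (f i) * (C (f j) * (ρ i j - ρ j i))
      = ρ i j * (C (f i) * C (f j)) - ρ j i * (C (f j) * C (f i)) := by
    intro i j; ring
  simp only [h1, Finset.sum_sub_distrib]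
  rw [sub_eq_zero]
  rw [Finset.sum_comm]

lemma dd_sub (q q' : Fin c → MvPolynomial (Fin c) R) : dd f (q - q') = dd f q - dd f q' := by
  simp only [dd, Pi.sub_apply, mul_sub, Finset.sum_sub_distrib]

lemma dX_sub (q q' : Fin c → MvPolynomial (Fin c) R) : dX (q - q') = dX q - dX q' := by
  simp only [dX, Pi.sub_apply, mul_sub, Finset.sum_sub_distrib]

/-- the kernel of evaluation is generated by the `X_j - f_j` -/
lemma ker_eval (p : MvPolynomial (Fin c) R) :
    ∃ q : Fin c → MvPolynomial (Fin c) R, p - C (eval f p) = dX q - dd f q := by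
  induction p using MvPolynomial.induction_on with
  | C a => exact ⟨0, by simp [dX, dd]⟩
  | add p p' hp hp' =>
    obtain ⟨q, hq⟩ := hp
    obtain ⟨q', hq'⟩ := hp'
    refine ⟨q + q', ?_⟩
    rw [dX_add, dd_add, map_add, map_add]
    linear_combination hq + hq'
  | mul_X p j hp =>
    obtain ⟨q, hq⟩ := hp
    refine ⟨(X j : MvPolynomial (Fin c) R) • q + Pi.single j (C (eval f p)), ?_⟩
    have e1 : dX (Pi.single j (C (eval f p)) : Fin c → MvPolynomial (Fin c) R)
        = X j * C (eval f p) := by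
      unfold dX
      rw [Finset.sum_eq_single j]
      · rw [Pi.single_eq_same]
      · intro i _ hi
        rw [Pi.single_eq_of_ne hi, mul_zero]
      · intro h; exact absurd (Finset.mem_univ j) h
    have e2 : dd f (Pi.single j (C (eval f p)) : Fin c → MvPolynomial (Fin c) R)
        = C (f j) * C (eval f p) := by
      unfold dd
      rw [Finset.sum_eq_single j]
      · rw [Pi.single_eq_same]
      · intro i _ hi
        rw [Pi.single_eq_of_ne hi, mul_zero]
      · intro h; exact absurd (Finset.mem_univ j) h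
    rw [dX_add, dd_add, dX_smul, dd_smul, e1, e2, map_mul, eval_X, map_mul]
    linear_combination (X j) * hq

lemma X_mem_idealOfVars (j : Fin c) : (X j : MvPolynomial (Fin c) R) ∈ idealOfVars (Fin c) R :=
  Ideal.subset_span ⟨j, rfl⟩

lemma dX_mem {k : ℕ} {q : Fin c → MvPolynomial (Fin c) R}
    (hq : ∀ j, q j ∈ idealOfVars (Fin c) R ^ k) : dX q ∈ idealOfVars (Fin c) R ^ (k + 1) := by
  unfold dX
  apply Ideal.sum_mem
  intro j _
  rw [pow_succ']
  exact Ideal.mul_mem_mul (X_mem_idealOfVars j) (hq j)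

lemma dd_mem {K : Ideal (MvPolynomial (Fin c) R)} {q : Fin c → MvPolynomial (Fin c) R}
    (hq : ∀ j, q j ∈ K) : dd f q ∈ K := by
  unfold dd
  apply Ideal.sum_mem
  intro j _
  exact Ideal.mul_mem_left _ _ (hq j)

lemma dX2_mem {k : ℕ} {ρ : Fin c → Fin c → MvPolynomial (Fin c) R}
    (hρ : ∀ i j, ρ i j ∈ idealOfVars (Fin c) R ^ k) (i : Fin c) :
    dX2 ρ i ∈ idealOfVars (Fin c) R ^ (k + 1) := by
  unfold dX2
  apply Ideal.sum_mem
  intro j _
  rw [pow_succ']
  exact Ideal.mul_mem_mul (X_mem_idealOfVars j) (Ideal.sub_mem _ (hρ i j) (hρ j i))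

lemma dd2_mem {K : Ideal (MvPolynomial (Fin c) R)} {ρ : Fin c → Fin c → MvPolynomial (Fin c) R}
    (hρ : ∀ i j, ρ i j ∈ K) (i : Fin c) : dd2 f ρ i ∈ K := by
  unfold dd2
  apply Ideal.sum_mem
  intro j _
  exact Ideal.mul_mem_left _ _ (Ideal.sub_mem _ (hρ i j) (hρ j i))

variable {f}

lemma exists_rho_deg (hf : H1 f) (k : ℕ) (q : Fin c → MvPolynomial (Fin c) R)
    (hq : ∀ j, q j ∈ idealOfVars (Fin c) R ^ k)
    (h : dd f q ∈ idealOfVars (Fin c) R ^ (k + 1)) :
    ∃ ρ : Fin c → Fin c → MvPolynomial (Fin c) R,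
      (∀ i j, ρ i j ∈ idealOfVars (Fin c) R ^ k) ∧
      ∀ l, q l - dd2 f ρ l ∈ idealOfVars (Fin c) R ^ (k + 1) := by
  classical
  have hrel : ∀ μ : Fin c →₀ ℕ, μ.degree = k → ∑ i, coeff μ (q i) * f i = 0 := by
    intro μ hμ
    have := (mem_pow_idealOfVars_iff' _ _).1 h μ (by omega)
    simp only [dd, coeff_sum, coeff_C_mul] at this
    rw [← this]
    apply Finset.sum_congr rfl
    intro i _
    ring
  have hex : ∀ μ : Fin c →₀ ℕ, ∃ ρ : Fin c → Fin c → R, μ.degree = k →
      ∀ l, coeff μ (q l) = ∑ j, f j * (ρ l j - ρ j l) := by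
    intro μ
    by_cases hμ : μ.degree = k
    · obtain ⟨ρ, hρ⟩ := exists_rho_of_mem_span f _ (hf _ (hrel μ hμ))
      exact ⟨ρ, fun _ => hρ⟩
    · exact ⟨0, fun h => absurd h hμ⟩
  choose ρm hρm using hex
  obtain ⟨T, hT⟩ : ∃ T : Finset (Fin c →₀ ℕ),
      T = (Finset.univ.biUnion (fun i => (q i).support)).filter (fun μ => μ.degree = k) :=
    ⟨_, rfl⟩
  have hTdeg : ∀ μ ∈ T, μ.degree = k := by
    intro μ hμ
    rw [hT] at hμ
    exact (Finset.mem_filter.1 hμ).2
  have hcoeff : ∀ (i j : Fin c) (ν : Fin c →₀ ℕ),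
      coeff ν (∑ μ ∈ T, monomial μ (ρm μ i j)) = if ν ∈ T then ρm ν i j else 0 := by
    intro i j ν
    simp only [coeff_sum, coeff_monomial]
    rw [Finset.sum_ite_eq']
  refine ⟨fun i j => ∑ μ ∈ T, monomial μ (ρm μ i j), ?_, ?_⟩
  · intro i j
    rw [mem_pow_idealOfVars_iff']
    intro ν hν
    rw [hcoeff, if_neg]
    intro hνT
    have := hTdeg ν hνT
    omega
  · intro l
    rw [mem_pow_idealOfVars_iff']
    intro ν hν
    rw [coeff_sub]
    unfold dd2
    rw [coeff_sum]
    simp only [coeff_C_mul, coeff_sub, hcoeff]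
    by_cases hνT : ν ∈ T
    · simp only [hνT, if_true]
      rw [hρm ν (hTdeg ν hνT) l, sub_self]
    · simp only [hνT, if_false, sub_zero, mul_zero, Finset.sum_const_zero]
      by_cases hd : ν.degree = k
      · rw [hT] at hνT
        simp only [Finset.mem_filter, Finset.mem_biUnion, Finset.mem_univ, true_and, not_and,
          mem_support_iff] at hνT
        by_contra hne
        exact hνT ⟨l, hne⟩ hd
      · exact (mem_pow_idealOfVars_iff' _ _).1 (hq l) ν (by omega)

lemma refine_rel (hf : H1 f) : ∀ (k : ℕ) (p : MvPolynomial (Fin c) R), eval f p = 0 →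
    p ∈ idealOfVars (Fin c) R ^ k →
    ∃ q : Fin c → MvPolynomial (Fin c) R, (∀ j, q j ∈ idealOfVars (Fin c) R ^ k) ∧
      p = dX q - dd f q
  | 0, p, hp, _ => by
    obtain ⟨q, hq⟩ := ker_eval f p
    rw [hp, map_zero, sub_zero] at hq
    exact ⟨q, fun j => by rw [pow_zero, Ideal.one_eq_top]; trivial, hq⟩
  | k + 1, p, hp, hpk => by
    have hpk' : p ∈ idealOfVars (Fin c) R ^ k := Ideal.pow_le_pow_right (Nat.le_succ k) hpk
    obtain ⟨q, hq, hpq⟩ := refine_rel hf k p hp hpk'
    have hdd : dd f q ∈ idealOfVars (Fin c) R ^ (k + 1) := by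
      have : dd f q = dX q - p := by rw [hpq]; ring
      rw [this]
      exact Ideal.sub_mem _ (dX_mem hq) hpk
    obtain ⟨ρ, hρ, hqρ⟩ := exists_rho_deg hf k q hq hdd
    refine ⟨q + dX2 ρ - dd2 f ρ, ?_, ?_⟩
    · intro j
      have : (q + dX2 ρ - dd2 f ρ) j = (q j - dd2 f ρ j) + dX2 ρ j := by
        simp only [Pi.add_apply, Pi.sub_apply]; ring
      rw [this]
      exact Ideal.add_mem _ (hqρ j) (dX2_mem hρ j)
    · rw [dX_sub, dd_sub, dX_add, dd_add, dX_dX2, dd_dd2, hpq]
      have := anticomm f ρ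
      linear_combination this

end Part1

section Part2

variable {A : Type*} [CommRing A] {n m : ℕ} (f : Fin n → A) (g : Fin m → A)

lemma map_idealOfVars_pow {A B : Type*} [CommRing A] [CommRing B] (φ : A →+* B) (m k : ℕ) :
    Ideal.map (MvPolynomial.map φ) (idealOfVars (Fin m) A ^ k) = idealOfVars (Fin m) B ^ k := by
  rw [Ideal.map_pow]
  congr 1
  unfold idealOfVars
  rw [Ideal.map_span, ← Set.range_comp]
  congr 2
  funext j
  simp

lemma lift_rel (hg : H1 (fun j => Ideal.Quotient.mk (Ideal.span (Set.range f)) (g j)))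
    (k : ℕ) (c : MvPolynomial (Fin m) A) (hck : c ∈ idealOfVars (Fin m) A ^ k)
    (hc : eval g c ∈ Ideal.span (Set.range f)) :
    ∃ (q : Fin m → MvPolynomial (Fin m) A) (U : Fin n → MvPolynomial (Fin m) A),
      (∀ j, q j ∈ idealOfVars (Fin m) A ^ k) ∧ (∀ i, U i ∈ idealOfVars (Fin m) A ^ k) ∧
      c = dX q - dd g q + ∑ i, C (f i) * U i := by
  classical
  obtain ⟨φ, hφ⟩ : ∃ φ : A →+* A ⧸ Ideal.span (Set.range f),
      φ = Ideal.Quotient.mk (Ideal.span (Set.range f)) := ⟨_, rfl⟩
  have hφs : Function.Surjective φ := by rw [hφ]; exact Ideal.Quotient.mk_surjective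
  have hΦs : Function.Surjective (MvPolynomial.map (σ := Fin m) φ) := map_surjective φ hφs
  have hev : ∀ p : MvPolynomial (Fin m) A,
      eval (fun j => φ (g j)) (MvPolynomial.map φ p) = φ (eval g p) := by
    intro p
    induction p using MvPolynomial.induction_on with
    | C a => simp
    | add p p' hp hp' => simp [hp, hp']
    | mul_X p j hp => simp [hp]
  have h1 : eval (fun j => φ (g j)) (MvPolynomial.map φ c) = 0 := by
    rw [hev, hφ, Ideal.Quotient.eq_zero_iff_mem]
    exact hc
  have h2 : MvPolynomial.map φ c ∈ idealOfVars (Fin m) (A ⧸ Ideal.span (Set.range f)) ^ k := by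
    rw [← map_idealOfVars_pow φ]
    exact Ideal.mem_map_of_mem _ hck
  have hg' : H1 (fun j => φ (g j)) := by rw [hφ]; exact hg
  obtain ⟨qb, hqb, hcq⟩ := refine_rel hg' k _ h1 h2
  have hlift : ∀ j, ∃ q : MvPolynomial (Fin m) A, q ∈ idealOfVars (Fin m) A ^ k ∧
      MvPolynomial.map φ q = qb j := by
    intro j
    have := hqb j
    rw [← map_idealOfVars_pow φ, Ideal.mem_map_iff_of_surjective _ hΦs] at this
    exact this
  choose q hq hqmap using hlift
  obtain ⟨e, he⟩ : ∃ e : MvPolynomial (Fin m) A, e = c - (dX q - dd g q) := ⟨_, rfl⟩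
  have hek : e ∈ idealOfVars (Fin m) A ^ k := by
    rw [he]
    refine Ideal.sub_mem _ hck (Ideal.sub_mem _ ?_ (dd_mem g hq))
    exact Ideal.pow_le_pow_right (Nat.le_succ k) (dX_mem hq)
  have hmape : MvPolynomial.map φ e = 0 := by
    rw [he, map_sub, map_sub, hcq]
    have e1 : MvPolynomial.map φ (dX q) = dX qb := by
      unfold dX
      rw [map_sum]
      apply Finset.sum_congr rfl
      intro j _
      rw [map_mul, map_X, hqmap]
    have e2 : MvPolynomial.map φ (dd g q) = dd (fun j => φ (g j)) qb := by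
      unfold dd
      rw [map_sum]
      apply Finset.sum_congr rfl
      intro j _
      rw [map_mul, map_C, hqmap]
    rw [e1, e2, sub_self]
  have hecoeff : ∀ μ, coeff μ e ∈ Ideal.span (Set.range f) := by
    intro μ
    have := congrArg (coeff μ) hmape
    rw [coeff_map, coeff_zero, hφ, Ideal.Quotient.eq_zero_iff_mem] at this
    exact this
  have hex : ∀ μ, ∃ u : Fin n → A, ∑ i, u i * f i = coeff μ e := fun μ =>
    (Ideal.mem_span_range_iff_exists_fun).1 (hecoeff μ)
  choose u hu using hex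
  have hUc : ∀ (i : Fin n) (ν : Fin m →₀ ℕ),
      coeff ν (∑ μ ∈ e.support, monomial μ (u μ i)) = if ν ∈ e.support then u ν i else 0 := by
    intro i ν
    simp only [coeff_sum, coeff_monomial]
    rw [Finset.sum_ite_eq']
  refine ⟨q, fun i => ∑ μ ∈ e.support, monomial μ (u μ i), hq, ?_, ?_⟩
  · intro i
    rw [mem_pow_idealOfVars_iff']
    intro ν hν
    rw [hUc, if_neg]
    intro hνs
    exact (mem_support_iff.1 hνs) ((mem_pow_idealOfVars_iff' _ _).1 hek ν hν)
  · have : ∑ i, C (f i) * ∑ μ ∈ e.support, monomial μ (u μ i) = e := by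
      ext ν
      rw [coeff_sum]
      simp only [coeff_C_mul, hUc]
      by_cases hν : ν ∈ e.support
      · simp only [hν, if_true]
        rw [← hu ν]
        apply Finset.sum_congr rfl
        intro i _
        ring
      · simp only [hν, if_false, mul_zero, Finset.sum_const_zero]
        exact (notMem_support_iff.1 hν).symm
    rw [this, he]
    ring

end Part2

section Part3

variable {A : Type*} [CommRing A] {n m : ℕ} (f : Fin n → A) (g : Fin m → A)

/-- quasi-regularity in the explicit form used in the frozen statement -/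
def QR {c : ℕ} (f : Fin c → A) : Prop :=
  ∀ (n : ℕ) (P : MvPolynomial (Fin c) A), P.IsHomogeneous n →
    MvPolynomial.eval f P ∈ Ideal.span (Set.range f) ^ (n + 1) →
      ∀ d : Fin c →₀ ℕ, P.coeff d ∈ Ideal.span (Set.range f)

lemma eval_mem_pow (a : ℕ) (H : MvPolynomial (Fin n) A)
    (hH : ∀ α : Fin n →₀ ℕ, α.degree ≤ a → coeff α H = 0) :
    eval f H ∈ Ideal.span (Set.range f) ^ (a + 1) := by
  rw [eval_eq']
  apply Ideal.sum_mem
  intro α hα
  apply Ideal.mul_mem_left
  have hdeg : a + 1 ≤ α.degree := by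
    by_contra hcon
    exact (mem_support_iff.1 hα) (hH α (by omega))
  apply Ideal.pow_le_pow_right hdeg
  rw [Finsupp.degree_eq_sum, ← Finset.prod_pow_eq_pow_sum]
  apply Ideal.prod_mem_prod
  intro i _
  exact Ideal.pow_mem_pow (Ideal.subset_span (Set.mem_range_self i)) _

variable {f}

lemma stepA (hf : QR f) (a : ℕ) (G : MvPolynomial (Fin n) A)
    (hG : ∀ α : Fin n →₀ ℕ, α.degree < a → coeff α G = 0) (hev : eval f G = 0)
    (α : Fin n →₀ ℕ) (hα : α.degree = a) : coeff α G ∈ Ideal.span (Set.range f) := by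
  have h1 : eval f (G - homogeneousComponent a G) ∈ Ideal.span (Set.range f) ^ (a + 1) := by
    apply eval_mem_pow
    intro β hβ
    rw [coeff_sub, coeff_homogeneousComponent]
    by_cases hβa : β.degree = a
    · rw [if_pos hβa, sub_self]
    · rw [if_neg hβa, sub_zero]
      exact hG β (by omega)
  have h2 : eval f (homogeneousComponent a G) ∈ Ideal.span (Set.range f) ^ (a + 1) := by
    rw [map_sub, hev, zero_sub, neg_mem_iff] at h1
    exact h1
  have := hf a _ (homogeneousComponent_isHomogeneous a G) h2 α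
  rw [coeff_homogeneousComponent, if_pos hα] at this
  exact this

variable (f)

/-- evaluation `A[Y][X] → A` -/
noncomputable def ev : MvPolynomial (Fin n) (MvPolynomial (Fin m) A) →+* A :=
  (eval f).comp (MvPolynomial.map (eval g))

def JJ : Ideal A := Ideal.span (Set.range f) ⊔ Ideal.span (Set.range g)

noncomputable def JY : Ideal (MvPolynomial (Fin m) A) := Ideal.map C (JJ f g)

lemma ev_monomial (α : Fin n →₀ ℕ) (c : MvPolynomial (Fin m) A) :
    ev f g (monomial α c) = eval g c * ∏ i, f i ^ α i := by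
  unfold ev
  rw [RingHom.comp_apply, map_monomial, eval_monomial, Finsupp.prod_fintype]
  intro i
  exact pow_zero _

lemma prod_add_single (α : Fin n →₀ ℕ) (i : Fin n) :
    ∏ l, f l ^ ((α + Finsupp.single i 1 : Fin n →₀ ℕ) l) = (∏ l, f l ^ α l) * f i := by
  classical
  simp only [Finsupp.add_apply, pow_add, Finset.prod_mul_distrib]
  congr 1
  rw [Finset.prod_eq_single i]
  · rw [Finsupp.single_eq_same, pow_one]
  · intro l _ hl
    rw [Finsupp.single_eq_of_ne hl, pow_zero]
  · intro h; exact absurd (Finset.mem_univ i) h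

lemma Cf_mem_JY (i : Fin n) : (C (f i) : MvPolynomial (Fin m) A) ∈ JY f g :=
  Ideal.mem_map_of_mem _ (Ideal.mem_sup_left (Ideal.subset_span (Set.mem_range_self i)))

lemma Cg_mem_JY (j : Fin m) : (C (g j) : MvPolynomial (Fin m) A) ∈ JY f g :=
  Ideal.mem_map_of_mem _ (Ideal.mem_sup_right (Ideal.subset_span (Set.mem_range_self j)))

variable {f g}

lemma lift_conseq (hg : H1 (fun j => Ideal.Quotient.mk (Ideal.span (Set.range f)) (g j)))
    (k : ℕ) (c : MvPolynomial (Fin m) A) (hck : c ∈ idealOfVars (Fin m) A ^ k)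
    (hc : eval g c ∈ Ideal.span (Set.range f)) :
    ∃ U : Fin n → MvPolynomial (Fin m) A, (∀ i, U i ∈ idealOfVars (Fin m) A ^ k) ∧
      c ∈ JY f g ⊔ idealOfVars (Fin m) A ^ (k + 1) ∧
      eval g c = ∑ i, f i * eval g (U i) := by
  obtain ⟨q, U, hq, hU, hcq⟩ := lift_rel f g hg k c hck hc
  refine ⟨U, hU, ?_, ?_⟩
  · rw [hcq]
    refine Ideal.add_mem _ (Ideal.sub_mem _ ?_ ?_) ?_
    · exact Ideal.mem_sup_right (dX_mem hq)
    · apply Ideal.mem_sup_left
      unfold dd
      apply Ideal.sum_mem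
      intro j _
      exact Ideal.mul_mem_right _ _ (Cg_mem_JY f g j)
    · apply Ideal.mem_sup_left
      apply Ideal.sum_mem
      intro i _
      exact Ideal.mul_mem_right _ _ (Cf_mem_JY f g i)
  · have h0 : eval g (dX q) = eval g (dd g q) := by
      simp [dX, dd]
    conv_lhs => rw [hcq]
    rw [map_add, map_sub, h0, sub_self, zero_add, map_sum]
    apply Finset.sum_congr rfl
    intro i _
    rw [map_mul, eval_C]

lemma step (hf : QR f)
    (hg : H1 (fun j => Ideal.Quotient.mk (Ideal.span (Set.range f)) (g j)))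
    (N a : ℕ) (haN : a ≤ N) (F : MvPolynomial (Fin n) (MvPolynomial (Fin m) A))
    (h1 : ∀ α : Fin n →₀ ℕ, α.degree < a → coeff α F = 0)
    (h2 : ∀ α : Fin n →₀ ℕ, coeff α F ∈ idealOfVars (Fin m) A ^ (N - α.degree))
    (h3 : ev f g F = 0) :
    ∃ F' : MvPolynomial (Fin n) (MvPolynomial (Fin m) A),
      (∀ α : Fin n →₀ ℕ, α.degree < a + 1 → coeff α F' = 0) ∧
      (∀ α : Fin n →₀ ℕ, coeff α F' ∈ idealOfVars (Fin m) A ^ (N - α.degree)) ∧
      ev f g F' = 0 ∧
      (∀ α : Fin n →₀ ℕ, coeff α F' ∈ JY f g ⊔ idealOfVars (Fin m) A ^ (N + 1 - α.degree) →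
        coeff α F ∈ JY f g ⊔ idealOfVars (Fin m) A ^ (N + 1 - α.degree)) := by
  classical
  have hA : ∀ α : Fin n →₀ ℕ, α.degree = a →
      eval g (coeff α F) ∈ Ideal.span (Set.range f) := by
    intro α hα
    have := stepA hf a (MvPolynomial.map (eval g) F) (fun β hβ => by
      rw [coeff_map, h1 β hβ, map_zero]) h3 α hα
    rwa [coeff_map] at this
  have hex : ∀ α : Fin n →₀ ℕ, ∃ U : Fin n → MvPolynomial (Fin m) A, α.degree = a →
      (∀ i, U i ∈ idealOfVars (Fin m) A ^ (N - a)) ∧
      coeff α F ∈ JY f g ⊔ idealOfVars (Fin m) A ^ (N - a + 1) ∧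
      eval g (coeff α F) = ∑ i, f i * eval g (U i) := by
    intro α
    by_cases hα : α.degree = a
    · have hck : coeff α F ∈ idealOfVars (Fin m) A ^ (N - a) := by
        have := h2 α
        rwa [hα] at this
      obtain ⟨U, hU⟩ := lift_conseq hg (N - a) (coeff α F) hck (hA α hα)
      exact ⟨U, fun _ => hU⟩
    · exact ⟨0, fun h => absurd h hα⟩
  choose U hU using hex
  obtain ⟨W, hW⟩ : ∃ W : Finset (Fin n →₀ ℕ), W = F.support.filter (fun α => α.degree = a) :=
    ⟨_, rfl⟩
  have hWdeg : ∀ α ∈ W, α.degree = a := by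
    intro α hα
    rw [hW] at hα
    exact (Finset.mem_filter.1 hα).2
  obtain ⟨E1, hE1⟩ : ∃ E1 : MvPolynomial (Fin n) (MvPolynomial (Fin m) A),
      E1 = ∑ α ∈ W, monomial α (coeff α F) := ⟨_, rfl⟩
  obtain ⟨E2, hE2⟩ : ∃ E2 : MvPolynomial (Fin n) (MvPolynomial (Fin m) A),
      E2 = ∑ α ∈ W, ∑ i, monomial (α + Finsupp.single i 1) (U α i) := ⟨_, rfl⟩
  have c1 : ∀ β : Fin n →₀ ℕ, coeff β E1 = if β.degree = a then coeff β F else 0 := by
    intro β
    rw [hE1, coeff_sum]
    simp only [coeff_monomial]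
    rw [Finset.sum_ite_eq']
    by_cases hβ : β.degree = a
    · rw [if_pos hβ]
      by_cases hβs : β ∈ F.support
      · rw [if_pos]
        rw [hW]
        exact Finset.mem_filter.2 ⟨hβs, hβ⟩
      · rw [notMem_support_iff.1 hβs]
        simp
    · rw [if_neg hβ, if_neg]
      intro hβW
      exact hβ (hWdeg β hβW)
  have c2 : ∀ β : Fin n →₀ ℕ, β.degree ≠ a + 1 → coeff β E2 = 0 := by
    intro β hβ
    rw [hE2, coeff_sum]
    apply Finset.sum_eq_zero
    intro α hα
    rw [coeff_sum]
    apply Finset.sum_eq_zero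
    intro i _
    rw [coeff_monomial, if_neg]
    rintro rfl
    apply hβ
    rw [map_add, Finsupp.degree_single, hWdeg α hα]
  have c3 : ∀ (β : Fin n →₀ ℕ) (K : Ideal (MvPolynomial (Fin m) A)),
      (∀ α ∈ W, ∀ i, U α i ∈ K) → coeff β E2 ∈ K := by
    intro β K hK
    rw [hE2, coeff_sum]
    apply Ideal.sum_mem
    intro α hα
    rw [coeff_sum]
    apply Ideal.sum_mem
    intro i _
    rw [coeff_monomial]
    split_ifs
    · exact hK α hα i
    · exact K.zero_mem
  refine ⟨F - E1 + E2, ?_, ?_, ?_, ?_⟩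
  · intro β hβ
    rw [coeff_add, coeff_sub, c1, c2 β (by omega), add_zero]
    by_cases hβa : β.degree = a
    · rw [if_pos hβa, sub_self]
    · rw [if_neg hβa, sub_zero]
      exact h1 β (by omega)
  · intro β
    rw [coeff_add, coeff_sub, c1]
    refine Ideal.add_mem _ (Ideal.sub_mem _ (h2 β) ?_) ?_
    · split_ifs
      · exact h2 β
      · exact Ideal.zero_mem _
    · by_cases hβ : β.degree = a + 1
      · apply c3
        intro α hα i
        have := (hU α (hWdeg α hα)).1 i
        rw [hβ]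
        exact Ideal.pow_le_pow_right (by omega) this
      · rw [c2 β hβ]
        exact Ideal.zero_mem _
  · rw [map_add, map_sub, h3, zero_sub, hE1, hE2, map_sum, map_sum, ← Finset.sum_neg_distrib,
      ← Finset.sum_add_distrib]
    apply Finset.sum_eq_zero
    intro α hα
    rw [ev_monomial, map_sum]
    simp only [ev_monomial, prod_add_single]
    rw [(hU α (hWdeg α hα)).2.2, Finset.sum_mul, ← Finset.sum_neg_distrib,
      ← Finset.sum_add_distrib]
    apply Finset.sum_eq_zero
    intro i _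
    ring
  · intro β hβ
    have e : coeff β F = coeff β (F - E1 + E2) + coeff β E1 - coeff β E2 := by
      rw [coeff_add, coeff_sub]; ring
    rw [e]
    refine Ideal.sub_mem _ (Ideal.add_mem _ hβ ?_) ?_
    · rw [c1]
      split_ifs with hβa
      · have := (hU β hβa).2.1
        have e2 : N + 1 - β.degree = N - a + 1 := by omega
        rw [e2]
        exact this
      · exact Ideal.zero_mem _
    · by_cases hβa : β.degree = a + 1
      · apply c3
        intro α hα i
        have := (hU α (hWdeg α hα)).1 i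
        have e2 : N + 1 - β.degree = N - a := by omega
        rw [e2]
        exact Ideal.mem_sup_right this
      · rw [c2 β hβa]
        exact Ideal.zero_mem _

lemma main_ind (hf : QR f)
    (hg : H1 (fun j => Ideal.Quotient.mk (Ideal.span (Set.range f)) (g j))) (N : ℕ) :
    ∀ (t a : ℕ), a + t = N + 1 → ∀ F : MvPolynomial (Fin n) (MvPolynomial (Fin m) A),
      (∀ α : Fin n →₀ ℕ, α.degree < a → coeff α F = 0) →
      (∀ α : Fin n →₀ ℕ, coeff α F ∈ idealOfVars (Fin m) A ^ (N - α.degree)) →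
      ev f g F = 0 →
      ∀ α : Fin n →₀ ℕ, coeff α F ∈ JY f g ⊔ idealOfVars (Fin m) A ^ (N + 1 - α.degree)
  | 0, a, hat, F, h1, _, _, α => by
    by_cases hα : α.degree < a
    · rw [h1 α hα]
      exact Ideal.zero_mem _
    · have e : N + 1 - α.degree = 0 := by omega
      rw [e, pow_zero, Ideal.one_eq_top, sup_top_eq]
      trivial
  | t + 1, a, hat, F, h1, h2, h3, α => by
    obtain ⟨F', h1', h2', h3', h4⟩ := step hf hg N a (by omega) F h1 h2 h3
    exact h4 α (main_ind hf hg N t (a + 1) (by omega) F' h1' h2' h3' α)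

end Part3

section Part4

variable {A : Type*} [CommRing A] {n m : ℕ} (f : Fin n → A) (g : Fin m → A)

noncomputable def dXp (d : Fin (n + m) →₀ ℕ) : Fin n →₀ ℕ :=
  Finsupp.equivFunOnFinite.symm (fun i => d (Fin.castAdd m i))

noncomputable def dYp (d : Fin (n + m) →₀ ℕ) : Fin m →₀ ℕ :=
  Finsupp.equivFunOnFinite.symm (fun j => d (Fin.natAdd n j))

@[simp] lemma dXp_apply (d : Fin (n + m) →₀ ℕ) (i : Fin n) : dXp d i = d (Fin.castAdd m i) := rfl

@[simp] lemma dYp_apply (d : Fin (n + m) →₀ ℕ) (j : Fin m) : dYp d j = d (Fin.natAdd n j) := rfl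

lemma degree_split (d : Fin (n + m) →₀ ℕ) : d.degree = (dXp d).degree + (dYp d).degree := by
  rw [Finsupp.degree_eq_sum, Finsupp.degree_eq_sum, Finsupp.degree_eq_sum, Fin.sum_univ_add]
  simp

lemma split_inj {d d' : Fin (n + m) →₀ ℕ} (h1 : dXp d = dXp d') (h2 : dYp d = dYp d') :
    d = d' := by
  ext i
  induction i using Fin.addCases with
  | left i => simpa using DFunLike.congr_fun h1 i
  | right j => simpa using DFunLike.congr_fun h2 j

/-- the ring hom `A[Z_1..Z_{n+m}] → A[Y][X]` -/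
noncomputable def Phi :
    MvPolynomial (Fin (n + m)) A →+* MvPolynomial (Fin n) (MvPolynomial (Fin m) A) :=
  eval₂Hom (C.comp C) (Fin.append (fun i => X i) (fun j => C (X j)))

lemma Phi_monomial (d : Fin (n + m) →₀ ℕ) (a : A) :
    Phi (n := n) (m := m) (monomial d a) = monomial (dXp d) (monomial (dYp d) a) := by
  unfold Phi
  rw [eval₂Hom_monomial, Finsupp.prod_fintype _ _ (fun i => pow_zero _), Fin.prod_univ_add]
  simp only [Fin.append_left, Fin.append_right]
  rw [monomial_eq (s := dXp d), Finsupp.prod_fintype _ _ (fun i => pow_zero _),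
    monomial_eq (s := dYp d), Finsupp.prod_fintype _ _ (fun i => pow_zero _)]
  simp only [dXp_apply, dYp_apply, RingHom.comp_apply, map_mul, map_prod, map_pow]
  ring

lemma ev_Phi (P : MvPolynomial (Fin (n + m)) A) :
    ev f g (Phi P) = eval (Fin.append f g) P := by
  have : (ev f g).comp (Phi (n := n) (m := m)) = eval (Fin.append f g) := by
    apply MvPolynomial.ringHom_ext
    · intro r
      simp [ev, Phi]
    · intro i
      induction i using Fin.addCases with
      | left i => simp [ev, Phi]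
      | right j => simp [ev, Phi]
  rw [← this]
  rfl

lemma coeff_Phi (P : MvPolynomial (Fin (n + m)) A) (α : Fin n →₀ ℕ) (μ : Fin m →₀ ℕ) :
    coeff μ (coeff α (Phi P)) =
      ∑ e ∈ P.support, if dXp e = α ∧ dYp e = μ then coeff e P else 0 := by
  classical
  conv_lhs => rw [P.as_sum]
  rw [map_sum, coeff_sum, coeff_sum]
  apply Finset.sum_congr rfl
  intro e _
  rw [Phi_monomial, coeff_monomial]
  by_cases h1 : dXp e = α
  · by_cases h2 : dYp e = μ
    · simp [h1, h2]
    · simp [h1, h2]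
  · simp [h1]

lemma coeff_Phi_split (P : MvPolynomial (Fin (n + m)) A) (d : Fin (n + m) →₀ ℕ) :
    coeff (dYp d) (coeff (dXp d) (Phi P)) = coeff d P := by
  classical
  rw [coeff_Phi]
  have : ∀ e ∈ P.support, (if dXp e = dXp d ∧ dYp e = dYp d then coeff e P else 0)
      = if e = d then coeff e P else 0 := by
    intro e _
    by_cases hed : e = d
    · subst hed; simp
    · rw [if_neg hed, if_neg]
      rintro ⟨h1, h2⟩
      exact hed (split_inj h1 h2)
  rw [Finset.sum_congr rfl this, Finset.sum_ite_eq']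
  split_ifs with h
  · rfl
  · exact (notMem_support_iff.1 h).symm

lemma coeff_Phi_eq_zero (P : MvPolynomial (Fin (n + m)) A) (α : Fin n →₀ ℕ) (μ : Fin m →₀ ℕ)
    (h : ∀ e ∈ P.support, e.degree ≠ α.degree + μ.degree) :
    coeff μ (coeff α (Phi P)) = 0 := by
  classical
  rw [coeff_Phi]
  apply Finset.sum_eq_zero
  intro e he
  rw [if_neg]
  rintro ⟨h1, h2⟩
  apply h e he
  rw [degree_split, h1, h2]

lemma span_range_append :
    Ideal.span (Set.range (Fin.append f g)) = JJ f g := by
  unfold JJ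
  apply le_antisymm
  · rw [Ideal.span_le]
    rintro _ ⟨i, rfl⟩
    induction i using Fin.addCases with
    | left i =>
      rw [Fin.append_left]
      exact Ideal.mem_sup_left (Ideal.subset_span (Set.mem_range_self i))
    | right j =>
      rw [Fin.append_right]
      exact Ideal.mem_sup_right (Ideal.subset_span (Set.mem_range_self j))
  · apply sup_le
    · rw [Ideal.span_le]
      rintro _ ⟨i, rfl⟩
      exact Ideal.subset_span ⟨Fin.castAdd m i, Fin.append_left _ _ _⟩
    · rw [Ideal.span_le]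
      rintro _ ⟨j, rfl⟩
      exact Ideal.subset_span ⟨Fin.natAdd n j, Fin.append_right _ _ _⟩

variable {f g}

theorem quasiRegular_append (hf : QR f)
    (hg : H1 (fun j => Ideal.Quotient.mk (Ideal.span (Set.range f)) (g j))) :
    QR (Fin.append f g) := by
  intro N P hP hev d
  obtain ⟨Q, hQ1, hQ2, hQ3⟩ := pow_succ_repr (f := Fin.append f g) N _ hev
  have hP' : (P - Q).IsHomogeneous N := hP.sub hQ1
  have hev' : ev f g (Phi (P - Q)) = 0 := by
    rw [ev_Phi, map_sub, hQ3, sub_self]
  have h2 : ∀ α : Fin n →₀ ℕ,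
      coeff α (Phi (P - Q)) ∈ idealOfVars (Fin m) A ^ (N - α.degree) := by
    intro α
    rw [mem_pow_idealOfVars_iff']
    intro μ hμ
    apply coeff_Phi_eq_zero
    intro e he hdeg
    have : coeff e (P - Q) = 0 := hP'.coeff_eq_zero (by omega)
    exact (mem_support_iff.1 he) this
  have hmain := main_ind hf hg N (N + 1) 0 (by omega) (Phi (P - Q))
    (fun α hα => absurd hα (Nat.not_lt_zero _)) h2 hev'
  by_cases hd : d.degree = N
  · have e : coeff d P = coeff d (P - Q) + coeff d Q := by rw [coeff_sub]; ring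
    rw [e]
    refine Ideal.add_mem _ ?_ (mem_map_C_iff.1 hQ2 d)
    rw [← coeff_Phi_split, span_range_append]
    obtain ⟨y, hy, z, hz, hyz⟩ := Submodule.mem_sup.1 (hmain (dXp d))
    rw [← hyz, coeff_add]
    have hz0 : coeff (dYp d) z = 0 := by
      apply (mem_pow_idealOfVars_iff' _ _).1 hz
      have := degree_split d
      omega
    rw [hz0, add_zero]
    exact mem_map_C_iff.1 hy _
  · rw [hP.coeff_eq_zero hd]
    exact Ideal.zero_mem _

end Part4

end Groth.Agent.H21.QR2
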