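import Mathlib

set_option autoImplicit false
universe u

open Set Topology

namespace H21.QuasiHomeo

variable {X Y : Type u} [TopologicalSpace X] [TopologicalSpace Y]

/-- unbundled quasi-homeomorphism -/
structure QH (f : X → Y) : Prop where
  cont : Continuous f
  inj : ∀ U U' : Set Y, IsOpen U → IsOpen U' → f ⁻¹' U = f ⁻¹' U' → U = U'
  surj : ∀ V : Set X, IsOpen V → ∃ U : Set Y, IsOpen U ∧ f ⁻¹' U = V

lemma QH.of_opens (f : X → Y) (hf : Continuous f)
    (hq : Function.Bijective (fun U : TopologicalSpace.Opens Y =>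
      (⟨f ⁻¹' (U : Set Y), U.isOpen.preimage hf⟩ : TopologicalSpace.Opens X))) : QH f where
  cont := hf
  inj := by
    intro U U' hU hU' h
    have := @hq.1 ⟨U, hU⟩ ⟨U', hU'⟩ (by
      apply TopologicalSpace.Opens.ext
      exact h)
    exact congrArg (fun O : TopologicalSpace.Opens Y => (O : Set Y)) this
  surj := by
    intro V hV
    obtain ⟨U, hU⟩ := hq.2 ⟨V, hV⟩
    exact ⟨U, U.isOpen, congrArg (fun O : TopologicalSpace.Opens X => (O : Set X)) hU⟩

/-- pointwise union of locally closed sets -/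
def PLC (T : Set Y) : Prop := ∀ y ∈ T, ∃ Z : Set Y, IsLocallyClosed Z ∧ y ∈ Z ∧ Z ⊆ T

lemma PLC.of_isLocallyClosed {T : Set Y} (h : IsLocallyClosed T) : PLC T :=
  fun _ hy => ⟨T, h, hy, subset_rfl⟩

lemma PLC.union {S T : Set Y} (hS : PLC S) (hT : PLC T) : PLC (S ∪ T) := by
  rintro y (hy | hy)
  · obtain ⟨Z, h1, h2, h3⟩ := hS y hy
    exact ⟨Z, h1, h2, h3.trans subset_union_left⟩
  · obtain ⟨Z, h1, h2, h3⟩ := hT y hy
    exact ⟨Z, h1, h2, h3.trans subset_union_right⟩

lemma PLC.inter {S T : Set Y} (hS : PLC S) (hT : PLC T) : PLC (S ∩ T) := by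
  rintro y ⟨hy, hy'⟩
  obtain ⟨Z, h1, h2, h3⟩ := hS y hy
  obtain ⟨Z', h1', h2', h3'⟩ := hT y hy'
  exact ⟨Z ∩ Z', h1.inter h1', ⟨h2, h2'⟩, inter_subset_inter h3 h3'⟩

variable {f : X → Y}

lemma QH.subset_of_lc (hf : QH f) {Z W : Set Y} (hZ : IsLocallyClosed Z) (hW : IsOpen W)
    (h : f ⁻¹' Z ⊆ f ⁻¹' W) : Z ⊆ W := by
  obtain ⟨O, C, hO, hC, rfl⟩ := hZ
  have h1 : f ⁻¹' (O ∩ (W ∪ Cᶜ)) = f ⁻¹' O := by
    ext x
    simp only [mem_preimage, mem_inter_iff, mem_union, mem_compl_iff]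
    constructor
    · exact fun h' => h'.1
    · intro hx
      refine ⟨hx, ?_⟩
      by_cases hc : f x ∈ C
      · exact Or.inl (h ⟨hx, hc⟩)
      · exact Or.inr hc
  have h2 := hf.inj _ _ (hO.inter (hW.union hC.isOpen_compl)) hO h1
  rintro y ⟨hyO, hyC⟩
  have : y ∈ O ∩ (W ∪ Cᶜ) := by rw [h2]; exact hyO
  rcases this.2 with h' | h'
  · exact h'
  · exact (h' hyC).elim

lemma QH.subset_of_plc (hf : QH f) {T W : Set Y} (hT : PLC T) (hW : IsOpen W)
    (h : f ⁻¹' T ⊆ f ⁻¹' W) : T ⊆ W := by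
  intro y hy
  obtain ⟨Z, h1, h2, h3⟩ := hT y hy
  exact hf.subset_of_lc h1 hW ((preimage_mono h3).trans h) h2

lemma QH.eq_empty_of_plc (hf : QH f) {T : Set Y} (hT : PLC T) (h : f ⁻¹' T = ∅) : T = ∅ := by
  have := hf.subset_of_plc hT isOpen_empty (by rw [h]; exact empty_subset _)
  exact subset_empty_iff.mp this

lemma QH.isCompact_preimage_iff (hf : QH f) {T : Set Y} (hT : PLC T) :
    IsCompact (f ⁻¹' T) ↔ IsCompact T := by
  constructor
  · intro hc
    rw [isCompact_iff_finite_subcover]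
    intro ι U hU hcov
    have h1 : f ⁻¹' T ⊆ ⋃ i, f ⁻¹' (U i) := by
      rw [← preimage_iUnion]; exact preimage_mono hcov
    obtain ⟨t, ht⟩ := hc.elim_finite_subcover (fun i => f ⁻¹' (U i))
      (fun i => (hU i).preimage hf.cont) h1
    refine ⟨t, ?_⟩
    apply hf.subset_of_plc hT (isOpen_biUnion (fun i _ => hU i))
    rw [preimage_iUnion₂]
    exact ht
  · intro hc
    rw [isCompact_iff_finite_subcover]
    intro ι V hV hcov
    choose U hU hUV using fun i => hf.surj (V i) (hV i)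
    have h1 : T ⊆ ⋃ i, U i := by
      apply hf.subset_of_plc hT (isOpen_iUnion hU)
      rw [preimage_iUnion]
      simp only [hUV]
      exact hcov
    obtain ⟨t, ht⟩ := hc.elim_finite_subcover U hU h1
    refine ⟨t, ?_⟩
    have := preimage_mono (f := f) ht
    rw [preimage_iUnion₂] at this
    simpa only [hUV] using this


section S4904


theorem s4904 (f : X → Y) (hf : Continuous f)
    (hq : Function.Bijective (fun U : TopologicalSpace.Opens Y =>
      (⟨f ⁻¹' (U : Set Y), U.isOpen.preimage hf⟩ : TopologicalSpace.Opens X)))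
    (Y' : Set Y)
    (hY' : ∀ y : Y, ∃ U : Set Y, IsOpen U ∧ y ∈ U ∧
      ∃ T : Set (Set Y), T.Finite ∧ (∀ t ∈ T, IsLocallyClosed t) ∧ U ∩ Y' = ⋃₀ T) :
    (∀ U : Set Y, IsOpen U → IsCompact U → IsCompact (U ∩ Y')) ↔
      (∀ V : Set X, IsOpen V → IsCompact V → IsCompact (V ∩ f ⁻¹' Y')) := by
  have hQ := QH.of_opens f hf hq
  have hplc : ∀ U : Set Y, IsOpen U → PLC (U ∩ Y') := by
    intro U hU y hy
    obtain ⟨U₁, hU₁, hyU₁, T, -, hT, hUT⟩ := hY' y
    have : y ∈ ⋃₀ T := by rw [← hUT]; exact ⟨hyU₁, hy.2⟩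
    obtain ⟨t, htT, hyt⟩ := this
    refine ⟨t ∩ U, (hT t htT).inter hU.isLocallyClosed, ⟨hyt, hy.1⟩, ?_⟩
    rintro z ⟨hzt, hzU⟩
    have : z ∈ U₁ ∩ Y' := by rw [hUT]; exact ⟨t, htT, hzt⟩
    exact ⟨hzU, this.2⟩
  constructor
  · intro h V hV hVc
    obtain ⟨U, hU, rfl⟩ := hQ.surj V hV
    have hUc : IsCompact U := (hQ.isCompact_preimage_iff (PLC.of_isLocallyClosed hU.isLocallyClosed)).mp hVc
    rw [← preimage_inter]
    exact (hQ.isCompact_preimage_iff (hplc U hU)).mpr (h U hU hUc)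
  · intro h U hU hUc
    have hVc : IsCompact (f ⁻¹' U) :=
      (hQ.isCompact_preimage_iff (PLC.of_isLocallyClosed hU.isLocallyClosed)).mpr hUc
    have := h _ (hU.preimage hf) hVc
    rw [← preimage_inter] at this
    exact (hQ.isCompact_preimage_iff (hplc U hU)).mp this


end S4904

section more


/-- both the set and its complement are pointwise unions of locally closed sets -/
def PLC2 (T : Set Y) : Prop := PLC T ∧ PLC Tᶜ

lemma PLC2.of_isLocallyClosed {T : Set Y} (h : IsLocallyClosed T) : PLC2 T := by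
  refine ⟨PLC.of_isLocallyClosed h, ?_⟩
  obtain ⟨O, C, hO, hC, rfl⟩ := h
  rw [compl_inter]
  exact (PLC.of_isLocallyClosed hO.isClosed_compl.isLocallyClosed).union
    (PLC.of_isLocallyClosed hC.isOpen_compl.isLocallyClosed)

lemma PLC2.compl {T : Set Y} (h : PLC2 T) : PLC2 Tᶜ := ⟨h.2, by rw [compl_compl]; exact h.1⟩

lemma PLC2.union {S T : Set Y} (hS : PLC2 S) (hT : PLC2 T) : PLC2 (S ∪ T) :=
  ⟨hS.1.union hT.1, by rw [compl_union]; exact hS.2.inter hT.2⟩

lemma PLC2.of_isConstructible {T : Set Y} (h : IsConstructible T) : PLC2 T := by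
  induction h using IsConstructible.empty_union_induction with
  | open_retrocompact U hUopen hUcomp => exact PLC2.of_isLocallyClosed hUopen.isLocallyClosed
  | union s hs t ht hs' ht' => exact hs'.union ht'
  | compl s hs hs' => exact hs'.compl

variable {f : X → Y}

lemma QH.eq_of_plc2 (hf : QH f) {A B : Set Y} (hA : PLC2 A) (hB : PLC2 B)
    (h : f ⁻¹' A = f ⁻¹' B) : A = B := by
  have h1 : A ∩ Bᶜ = ∅ := by
    apply hf.eq_empty_of_plc (hA.1.inter hB.2)
    rw [preimage_inter, preimage_compl, h]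
    exact inter_compl_self _
  have h2 : B ∩ Aᶜ = ∅ := by
    apply hf.eq_empty_of_plc (hB.1.inter hA.2)
    rw [preimage_inter, preimage_compl, h]
    exact inter_compl_self _
  apply Subset.antisymm
  · intro y hy
    by_contra hyB
    have : y ∈ A ∩ Bᶜ := ⟨hy, hyB⟩
    rw [h1] at this
    exact this
  · intro y hy
    by_contra hyA
    have : y ∈ B ∩ Aᶜ := ⟨hy, hyA⟩
    rw [h2] at this
    exact this

lemma QH.exists_lc (hf : QH f) {Z : Set X} (hZ : IsLocallyClosed Z) :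
    ∃ Z' : Set Y, IsLocallyClosed Z' ∧ f ⁻¹' Z' = Z := by
  obtain ⟨V, D, hV, hD, rfl⟩ := hZ
  obtain ⟨U, hU, rfl⟩ := hf.surj V hV
  obtain ⟨U', hU', hU'D⟩ := hf.surj Dᶜ hD.isOpen_compl
  refine ⟨U ∩ U'ᶜ, ⟨U, U'ᶜ, hU, hU'.isClosed_compl, rfl⟩, ?_⟩
  rw [preimage_inter, preimage_compl, hU'D, compl_compl]

lemma QH.isCompact_open_iff (hf : QH f) {U : Set Y} (hU : IsOpen U) :
    IsCompact (f ⁻¹' U) ↔ IsCompact U :=
  hf.isCompact_preimage_iff (PLC.of_isLocallyClosed hU.isLocallyClosed)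

lemma QH.isRetrocompact_preimage_iff (hf : QH f) {U : Set Y} (hU : IsOpen U) :
    IsRetrocompact (f ⁻¹' U) ↔ IsRetrocompact U := by
  constructor
  · intro h U₁ hU₁c hU₁
    have := h ((hf.isCompact_open_iff hU₁).mpr hU₁c) (hU₁.preimage hf.cont)
    rw [← preimage_inter] at this
    exact (hf.isCompact_open_iff (hU.inter hU₁)).mp this
  · intro h V hVc hV
    obtain ⟨U₁, hU₁, rfl⟩ := hf.surj V hV
    rw [← preimage_inter]
    exact (hf.isCompact_open_iff (hU.inter hU₁)).mpr (h ((hf.isCompact_open_iff hU₁).mp hVc) hU₁)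

lemma QH.isConstructible_preimage (hf : QH f) {Z : Set Y} (hZ : IsConstructible Z) :
    IsConstructible (f ⁻¹' Z) :=
  hZ.preimage hf.cont (fun _ hs hs' => (hf.isRetrocompact_preimage_iff hs).mpr hs')

lemma QH.exists_constructible (hf : QH f) {W : Set X} (hW : IsConstructible W) :
    ∃ Z : Set Y, IsConstructible Z ∧ f ⁻¹' Z = W := by
  induction hW using IsConstructible.empty_union_induction with
  | open_retrocompact V hVopen hVcomp =>
    obtain ⟨U, hU, rfl⟩ := hf.surj V hVopen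
    exact ⟨U, ((hf.isRetrocompact_preimage_iff hU).mp hVcomp).isConstructible hU, rfl⟩
  | union s hs t ht hs' ht' =>
    obtain ⟨Z₁, h1, rfl⟩ := hs'
    obtain ⟨Z₂, h2, rfl⟩ := ht'
    exact ⟨Z₁ ∪ Z₂, h1.union h2, preimage_union⟩
  | compl s hs hs' =>
    obtain ⟨Z₁, h1, rfl⟩ := hs'
    exact ⟨Z₁ᶜ, h1.compl, preimage_compl⟩


end more

section restr


lemma QH.restrict (hf : QH f) {U : Set Y} (hU : IsOpen U) : QH (U.restrictPreimage f) where
  cont := hf.cont.restrictPreimage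
  inj := by
    intro A A' hA hA' h
    have hO : IsOpen (Subtype.val '' A) := hU.isOpenMap_subtype_val A hA
    have hO' : IsOpen (Subtype.val '' A') := hU.isOpenMap_subtype_val A' hA'
    have key : ∀ B : Set ↥U, f ⁻¹' (Subtype.val '' B) =
        Subtype.val '' (U.restrictPreimage f ⁻¹' B) := by
      intro B
      ext x
      simp only [mem_preimage, mem_image, Subtype.exists, exists_and_right, exists_eq_right]
      constructor
      · rintro ⟨hx, hB⟩
        exact ⟨hx, hB⟩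
      · rintro ⟨hx, hB⟩
        exact ⟨hx, hB⟩
    have := hf.inj _ _ hO hO' (by rw [key, key, h])
    exact (image_injective.mpr Subtype.val_injective) this
  surj := by
    intro B hB
    have hO : IsOpen (Subtype.val '' B) := (hU.preimage hf.cont).isOpenMap_subtype_val B hB
    obtain ⟨O, hO', hOB⟩ := hf.surj _ hO
    refine ⟨Subtype.val ⁻¹' O, hO'.preimage continuous_subtype_val, ?_⟩
    ext x
    have : x.1 ∈ f ⁻¹' O ↔ x.1 ∈ Subtype.val '' B := by rw [hOB]
    simp only [mem_preimage, mem_image, Subtype.exists, exists_and_right, exists_eq_right] at this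
    constructor
    · intro hx
      obtain ⟨_, h'⟩ := this.mp hx
      exact h'
    · intro hx
      exact this.mpr ⟨x.2, hx⟩


end restr


section lc


lemma PLC.image_val {U : Set Y} (hU : IsOpen U) {A : Set ↥U} (hA : PLC A) :
    PLC (Subtype.val '' A) := by
  rintro y ⟨a, ha, rfl⟩
  obtain ⟨Z, hZ, haZ, hZA⟩ := hA a ha
  refine ⟨Subtype.val '' Z, ?_, ⟨a, haZ, rfl⟩, image_mono hZA⟩
  exact hZ.image IsInducing.subtypeVal (by rw [Subtype.range_val]; exact hU.isLocallyClosed)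

lemma PLC2.of_isLocallyConstructible {Z : Set Y} (hZ : IsLocallyConstructible Z) : PLC2 Z := by
  constructor
  · intro y hy
    obtain ⟨U, hUy, hU, hc⟩ := hZ y
    have h1 := (PLC2.of_isConstructible hc).1.image_val hU
    rw [Subtype.image_preimage_coe] at h1
    obtain ⟨Z', h2, h3, h4⟩ := h1 y ⟨mem_of_mem_nhds hUy, hy⟩
    exact ⟨Z', h2, h3, h4.trans inter_subset_right⟩
  · intro y hy
    obtain ⟨U, hUy, hU, hc⟩ := hZ y
    have h1 := (PLC2.of_isConstructible hc).2.image_val hU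
    rw [← preimage_compl, Subtype.image_preimage_coe] at h1
    obtain ⟨Z', h2, h3, h4⟩ := h1 y ⟨mem_of_mem_nhds hUy, hy⟩
    exact ⟨Z', h2, h3, h4.trans inter_subset_right⟩

lemma QH.isLocallyConstructible_preimage (hf : QH f) {Z : Set Y}
    (hZ : IsLocallyConstructible Z) : IsLocallyConstructible (f ⁻¹' Z) := by
  intro x
  obtain ⟨U, hUx, hU, hc⟩ := hZ (f x)
  refine ⟨f ⁻¹' U, hf.cont.continuousAt.preimage_mem_nhds hUx, hU.preimage hf.cont, ?_⟩
  exact (hf.restrict hU).isConstructible_preimage hc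

lemma QH.exists_locallyConstructible (hf : QH f) {W : Set X} (hW : IsLocallyConstructible W) :
    ∃ Z : Set Y, IsLocallyConstructible Z ∧ f ⁻¹' Z = W := by
  -- local data
  have h1 : ∀ x : X, ∃ U : Set Y, IsOpen U ∧ f x ∈ U ∧
      ∃ A : Set ↥U, IsConstructible A ∧ U.restrictPreimage f ⁻¹' A = Subtype.val ⁻¹' W := by
    intro x
    obtain ⟨V, hVx, hV, hc⟩ := hW x
    obtain ⟨U, hU, rfl⟩ := hf.surj V hV
    obtain ⟨A, hA, hAW⟩ := (hf.restrict hU).exists_constructible hc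
    exact ⟨U, hU, (mem_of_mem_nhds hVx : x ∈ f ⁻¹' U), A, hA, hAW⟩
  choose U hU hxU A hA hAW using h1
  -- membership in the image sets
  have hmem : ∀ (x x' : X), f x' ∈ Subtype.val '' (A x) ↔ (f x' ∈ U x ∧ x' ∈ W) := by
    intro x x'
    constructor
    · rintro ⟨a, ha, hax⟩
      have hx'U : f x' ∈ U x := by rw [← hax]; exact a.2
      refine ⟨hx'U, ?_⟩
      have : (⟨x', hx'U⟩ : ↥(f ⁻¹' U x)) ∈ ((U x).restrictPreimage f) ⁻¹' (A x) := by
        show (⟨f x', hx'U⟩ : ↥(U x)) ∈ A x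
        have : a = ⟨f x', hx'U⟩ := Subtype.ext hax
        rw [← this]; exact ha
      rw [hAW x] at this
      exact this
    · rintro ⟨hx'U, hx'W⟩
      have : (⟨x', hx'U⟩ : ↥(f ⁻¹' U x)) ∈ ((U x).restrictPreimage f) ⁻¹' (A x) := by
        rw [hAW x]; exact hx'W
      exact ⟨⟨f x', hx'U⟩, this, rfl⟩
  refine ⟨⋃ x, Subtype.val '' (A x), ?_, ?_⟩
  · -- locally constructible
    have hcover : (⋃ x, U x) = univ := by
      apply hf.inj _ _ (isOpen_iUnion hU) isOpen_univ
      rw [preimage_univ, preimage_iUnion]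
      exact eq_univ_of_forall (fun x => mem_iUnion.mpr ⟨x, hxU x⟩)
    have hcompat : ∀ x x', Subtype.val '' (A x') ∩ U x ⊆ Subtype.val '' (A x) := by
      intro x x'
      have hD : PLC (Subtype.val '' (A x') ∩ Subtype.val '' (A x)ᶜ) :=
        ((PLC2.of_isConstructible (hA x')).1.image_val (hU x')).inter
          ((PLC2.of_isConstructible (hA x)).2.image_val (hU x))
      have hempty := hf.eq_empty_of_plc hD (by
        ext z
        simp only [mem_preimage, mem_inter_iff, mem_empty_iff_false, iff_false, not_and]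
        intro hz1 hz2
        have e1 := (hmem x' z).mp hz1
        obtain ⟨a, ha, haz⟩ := hz2
        have hzU : f z ∈ U x := by rw [← haz]; exact a.2
        apply ha
        have := (hmem x z).mpr ⟨hzU, e1.2⟩
        obtain ⟨a', ha', ha'z⟩ := this
        have : a = a' := Subtype.ext (haz.trans ha'z.symm)
        rw [this]; exact ha')
      rintro y ⟨hy1, hy2⟩
      by_contra hy3
      have : y ∈ Subtype.val '' (A x') ∩ Subtype.val '' (A x)ᶜ := by
        refine ⟨hy1, ⟨⟨y, hy2⟩, ?_, rfl⟩⟩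
        intro h'
        exact hy3 ⟨_, h', rfl⟩
      rw [hempty] at this
      exact this
    intro y
    have : y ∈ ⋃ x, U x := by rw [hcover]; trivial
    obtain ⟨x, hyx⟩ := mem_iUnion.mp this
    refine ⟨U x, (hU x).mem_nhds hyx, hU x, ?_⟩
    have : (Subtype.val ⁻¹' (⋃ x, Subtype.val '' (A x)) : Set ↥(U x)) = A x := by
      ext a
      simp only [mem_preimage, mem_iUnion]
      constructor
      · rintro ⟨x', hx'⟩
        obtain ⟨a', ha', ha'a⟩ := hcompat x x' ⟨hx', a.2⟩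
        have : a' = a := Subtype.ext ha'a
        rw [← this]; exact ha'
      · intro ha
        exact ⟨x, a, ha, rfl⟩
    rw [this]
    exact hA x
  · ext x'
    simp only [mem_preimage, mem_iUnion]
    constructor
    · rintro ⟨x, hx⟩
      exact ((hmem x x').mp hx).2
    · intro hx'
      exact ⟨x', (hmem x' x').mpr ⟨hxU x', hx'⟩⟩


end lc


section S4897


theorem s4897 (f : X → Y) (hf : Continuous f)
    (hq : Function.Bijective (fun U : TopologicalSpace.Opens Y =>
      (⟨f ⁻¹' (U : Set Y), U.isOpen.preimage hf⟩ : TopologicalSpace.Opens X))) :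
    Function.Bijective (fun Z : {Z : Set Y // IsLocallyClosed Z} =>
        (⟨f ⁻¹' Z.1, Z.2.preimage hf⟩ : {Z : Set X // IsLocallyClosed Z})) ∧
      Set.BijOn (fun Z : Set Y => f ⁻¹' Z) {Z | Topology.IsConstructible Z} {Z | Topology.IsConstructible Z} ∧
      Set.BijOn (fun Z : Set Y => f ⁻¹' Z) {Z | Topology.IsLocallyConstructible Z}
        {Z | Topology.IsLocallyConstructible Z} := by
  have hQ := QH.of_opens f hf hq
  refine ⟨⟨?_, ?_⟩, ⟨?_, ?_, ?_⟩, ⟨?_, ?_, ?_⟩⟩
  · rintro ⟨Z, hZ⟩ ⟨Z', hZ'⟩ h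
    have h' : f ⁻¹' Z = f ⁻¹' Z' := congrArg Subtype.val h
    exact Subtype.ext (hQ.eq_of_plc2 (PLC2.of_isLocallyClosed hZ) (PLC2.of_isLocallyClosed hZ') h')
  · rintro ⟨Z, hZ⟩
    obtain ⟨Z', hZ', h⟩ := hQ.exists_lc hZ
    exact ⟨⟨Z', hZ'⟩, Subtype.ext h⟩
  · intro Z hZ
    exact hQ.isConstructible_preimage hZ
  · intro Z hZ Z' hZ' h
    exact hQ.eq_of_plc2 (PLC2.of_isConstructible hZ) (PLC2.of_isConstructible hZ') h
  · intro W hW
    obtain ⟨Z, hZ, h⟩ := hQ.exists_constructible hW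
    exact ⟨Z, hZ, h⟩
  · intro Z hZ
    exact hQ.isLocallyConstructible_preimage hZ
  · intro Z hZ Z' hZ' h
    exact hQ.eq_of_plc2 (PLC2.of_isLocallyConstructible hZ) (PLC2.of_isLocallyConstructible hZ') h
  · intro W hW
    obtain ⟨Z, hZ, h⟩ := hQ.exists_locallyConstructible hW
    exact ⟨Z, hZ, h⟩


end S4897

end H21.QuasiHomeo
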