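import Mathlib

set_option autoImplicit false
universe u

namespace Groth.Agent.H21.ResDet
open PowerSeries

variable {R : Type u} [CommRing R]

noncomputable def geom (a : R) : PowerSeries R := PowerSeries.mk (fun m => (-a) ^ m)

lemma coeff_zero_lin_mul (b : R) (f : PowerSeries R) :
    coeff 0 ((1 + C b * X) * f) = coeff 0 f := by
  rw [add_mul, one_mul, mul_assoc, map_add, coeff_C_mul, coeff_zero_X_mul, mul_zero, add_zero]

lemma coeff_succ_lin_mul (b : R) (f : PowerSeries R) (m : ℕ) :
    coeff (m + 1) ((1 + C b * X) * f) = coeff (m + 1) f + b * coeff m f := by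
  rw [add_mul, one_mul, mul_assoc, map_add, coeff_C_mul, coeff_succ_X_mul]

lemma lin_mul_geom (a : R) : (1 + C a * X) * geom a = 1 := by
  ext m
  cases m with
  | zero =>
    rw [coeff_zero_lin_mul]
    simp [geom]
  | succ m =>
    rw [coeff_succ_lin_mul]
    simp only [geom, coeff_mk, coeff_one]
    rw [if_neg (Nat.succ_ne_zero m)]
    ring

noncomputable def bb {e : ℕ} (β : Fin e → R) : PowerSeries R :=
  ∏ j : Fin e, (1 + C (β j) * X)

noncomputable def PP {d e : ℕ} (α : Fin d → R) (β : Fin e → R) (i : Fin d) : PowerSeries R :=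
  bb β * ∏ l : Fin d, if l ≤ i then geom (α l) else 1

noncomputable def entry (e : ℕ) (f : PowerSeries R) (i j : ℕ) : R :=
  if i ≤ e + j then coeff (e + j - i) f else 0

noncomputable def M {d e : ℕ} (α : Fin d → R) (β : Fin e → R) : Matrix (Fin d) (Fin d) R :=
  Matrix.of fun i j : Fin d => entry e (PP α β i) (i : ℕ) (j : ℕ)

lemma entry_shift (e : ℕ) (a : R) (f : PowerSeries R) (i j : ℕ) :
    entry e ((1 + C a * X) * f) i j = entry e f (i + 1) (j + 1) + a * entry e f (i + 1) j := by
  unfold entry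
  by_cases h : i ≤ e + j
  · rw [if_pos h, if_pos (by omega : i + 1 ≤ e + (j + 1))]
    have e1 : e + (j + 1) - (i + 1) = e + j - i := by omega
    rw [e1]
    by_cases h2 : i + 1 ≤ e + j
    · rw [if_pos h2]
      obtain ⟨m, hm⟩ : ∃ m, e + j - i = m + 1 := ⟨e + j - i - 1, by omega⟩
      have e2 : e + j - (i + 1) = m := by omega
      rw [hm, e2, coeff_succ_lin_mul]
    · rw [if_neg h2]
      have e2 : e + j - i = 0 := by omega
      rw [e2, coeff_zero_lin_mul, mul_zero, add_zero]
  · rw [if_neg h, if_neg (by omega : ¬ i + 1 ≤ e + (j + 1)), if_neg (by omega : ¬ i + 1 ≤ e + j),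
      mul_zero, add_zero]

lemma row0 (e : ℕ) (β : Fin e → R) (a : R) (j : ℕ) :
    coeff (e + j) (bb β * geom a) = (-a) ^ j * ∏ k : Fin e, (β k - a) := by
  induction e generalizing j with
  | zero =>
    simp [bb, geom]
  | succ e ih =>
    have hb : bb β = (1 + C (β 0) * X) * bb (fun k : Fin e => β k.succ) := by
      unfold bb
      rw [Fin.prod_univ_succ]
    rw [hb, mul_assoc, Fin.prod_univ_succ]
    have e1 : e + 1 + j = (e + j) + 1 := by omega
    rw [e1, coeff_succ_lin_mul]
    have h1 := ih (fun k : Fin e => β k.succ) (j + 1)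
    have e2 : e + (j + 1) = e + j + 1 := by omega
    rw [e2] at h1
    rw [h1, ih (fun k : Fin e => β k.succ) j]
    ring

lemma PP_succ {d e : ℕ} (α : Fin (d + 1) → R) (β : Fin e → R) (i : Fin d) :
    (1 + C (α 0) * X) * PP α β i.succ = PP (fun l : Fin d => α l.succ) β i := by
  unfold PP
  rw [Fin.prod_univ_succ, if_pos (Fin.zero_le _)]
  have : ∀ l : Fin d, (if l.succ ≤ i.succ then geom (α l.succ) else 1)
      = (if l ≤ i then geom (α l.succ) else 1) := by
    intro l
    simp only [Fin.succ_le_succ_iff]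
  simp only [this]
  calc (1 + C (α 0) * X) * (bb β * (geom (α 0) * ∏ l : Fin d, if l ≤ i then geom (α l.succ) else 1))
      = ((1 + C (α 0) * X) * geom (α 0)) *
          (bb β * ∏ l : Fin d, if l ≤ i then geom (α l.succ) else 1) := by ring
    _ = _ := by rw [lin_mul_geom, one_mul]

lemma PP_zero {d e : ℕ} (α : Fin (d + 1) → R) (β : Fin e → R) :
    PP α β 0 = bb β * geom (α 0) := by
  unfold PP
  rw [Fin.prod_univ_succ, if_pos le_rfl]
  have : ∀ l : Fin d, (if l.succ ≤ (0 : Fin (d + 1)) then geom (α l.succ) else 1)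
      = (1 : PowerSeries R) := by
    intro l
    rw [if_neg]
    exact not_le.mpr (Fin.succ_pos l)
  simp only [this, Finset.prod_const_one, mul_one]

theorem main' (d e : ℕ) (α : Fin d → R) (β : Fin e → R) :
    ∏ i : Fin d, ∏ j : Fin e, (β j - α i) = (M α β).det := by
  induction d with
  | zero => simp
  | succ d ih =>
    obtain ⟨A, hA⟩ : ∃ A, A = M α β := ⟨_, rfl⟩
    let B : Matrix (Fin (d + 1)) (Fin (d + 1)) R := Matrix.of fun i j =>
      Fin.cases (A i 0) (fun j' => A i j'.succ + α 0 * A i j'.castSucc) j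
    have hAB : A.det = B.det := by
      refine Matrix.det_eq_of_forall_col_eq_smul_add_pred (fun _ => -α 0) ?_ ?_
      · intro i; rfl
      · intro i j
        change A i j.succ = (A i j.succ + α 0 * A i j.castSucc) + -α 0 * A i j.castSucc
        ring
    have hA0 : ∀ j : Fin (d + 1), A 0 j = (-α 0) ^ (j : ℕ) * ∏ k : Fin e, (β k - α 0) := by
      intro j
      rw [hA]
      change entry e (PP α β 0) ((0 : Fin (d + 1)) : ℕ) (j : ℕ) = _
      rw [PP_zero]
      unfold entry
      rw [if_pos (by simp)]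
      simp only [Fin.val_zero, Nat.sub_zero]
      exact row0 e β (α 0) j
    have hB0 : B 0 0 = ∏ k : Fin e, (β k - α 0) := by
      change A 0 0 = _
      rw [hA0]; simp
    have hB0s : ∀ j : Fin d, B 0 j.succ = 0 := by
      intro j
      change A 0 j.succ + α 0 * A 0 j.castSucc = 0
      rw [hA0, hA0]
      simp only [Fin.val_succ, Fin.val_castSucc]
      ring
    have hBsub : B.submatrix Fin.succ Fin.succ = M (fun l : Fin d => α l.succ) β := by
      ext i j
      change A i.succ j.succ + α 0 * A i.succ j.castSucc = _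
      rw [hA]
      change entry e (PP α β i.succ) ((i.succ : Fin (d + 1)) : ℕ) ((j.succ : Fin (d + 1)) : ℕ)
        + α 0 * entry e (PP α β i.succ) ((i.succ : Fin (d + 1)) : ℕ) ((j.castSucc : Fin (d + 1)) : ℕ)
        = entry e (PP (fun l : Fin d => α l.succ) β i) (i : ℕ) (j : ℕ)
      rw [← PP_succ, entry_shift]
      simp only [Fin.val_succ, Fin.val_castSucc]
    rw [← hA, hAB, Matrix.det_succ_row_zero, Fin.sum_univ_succ]
    have hz : ∀ j : Fin d, (-1 : R) ^ ((j.succ : Fin (d + 1)) : ℕ) * B 0 j.succ *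
        (B.submatrix Fin.succ j.succ.succAbove).det = 0 := by
      intro j
      rw [hB0s]; ring
    rw [Finset.sum_eq_zero (fun j _ => hz j), add_zero]
    have : (Fin.succAbove (0 : Fin (d + 1))) = Fin.succ := by
      ext j; simp
    rw [this, hBsub, ← ih, hB0, Fin.prod_univ_succ]
    simp

theorem main (d e : ℕ) (α : Fin d → R) (β : Fin e → R) :
    ∏ i : Fin d, ∏ j : Fin e, (β j - α i) =
      (Matrix.of fun i j : Fin d =>
        if (i : ℕ) ≤ e + (j : ℕ) then
          PowerSeries.coeff (e + (j : ℕ) - (i : ℕ))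
            ((∏ j : Fin e, (1 + PowerSeries.C (β j) * PowerSeries.X)) *
              ∏ l : Fin d, if l ≤ i then PowerSeries.mk (fun m => (-α l) ^ m) else 1)
        else 0).det :=
  main' d e α β

end Groth.Agent.H21.ResDet
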