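import Mathlib
open Finset
namespace Groth.Agent.H21
variable {A : Type*} [CommRing A]

/-- rising product -/
def risP (h τ : A) (N : ℕ) : A := ∏ i ∈ range N, (h + (i : A) * τ)

lemma risP_succ (h τ : A) (N : ℕ) : risP h τ (N + 1) = risP h τ N * (h + (N : A) * τ) := by
  unfold risP; rw [Finset.prod_range_succ]

lemma mul_risP (h τ : A) (n N : ℕ) :
    (h + (n : A) * τ) * risP h τ N = risP h τ (N + 1) + ((n : A) - (N : A)) * τ * risP h τ N := by
  rw [risP_succ]; ring

/-- the coefficient -/
def risC (m n s : ℕ) : A := (-1 : A) ^ s * (Nat.factorial s : A) * (Nat.choose n s : A) * (Nat.choose m s : A)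

lemma choose_mul_sub (m s : ℕ) :
    ((Nat.choose m s : ℕ) : A) * ((m : A) - (s : A)) = ((s : A) + 1) * (Nat.choose m (s + 1) : A) := by
  rcases le_or_gt s m with hs | hs
  · have := Nat.choose_succ_right_eq m s
    have h2 : ((m.choose (s + 1) * (s + 1) : ℕ) : A) = ((m.choose s * (m - s) : ℕ) : A) := by rw [this]
    push_cast [Nat.cast_sub hs] at h2
    linear_combination -h2
  · rw [Nat.choose_eq_zero_of_lt hs, Nat.choose_eq_zero_of_lt (by omega : m < s + 1)]
    simp

lemma risC_succ (m n s : ℕ) :
    (risC m (n + 1) (s + 1) : A) = risC m n (s + 1) + risC m n s * ((s : A) - (m : A)) := by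
  unfold risC
  have h1 := choose_mul_sub (A := A) m s
  have h2 : ((Nat.choose (n + 1) (s + 1) : ℕ) : A) = (Nat.choose n s : A) + (Nat.choose n (s + 1) : A) := by
    rw [Nat.choose_succ_succ]; push_cast; ring
  have h3 : ((Nat.factorial (s + 1) : ℕ) : A) = ((s : A) + 1) * (Nat.factorial s : A) := by
    rw [Nat.factorial_succ]; push_cast; ring
  rw [h2, h3, pow_succ]
  linear_combination ((-1 : A) ^ s * (Nat.factorial s : A) * (Nat.choose n s : A)) * h1

theorem risP_mul_risP (h τ : A) (m n : ℕ) :
    risP h τ n * risP h τ m =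
      ∑ s ∈ range (n + 1), risC m n s * τ ^ s * risP h τ (m + n - s) := by
  induction n with
  | zero => simp [risP, risC]
  | succ n ih =>
    rw [risP_succ, mul_comm (risP h τ n), mul_assoc, ih, Finset.mul_sum]
    -- expand each term
    have hterm : ∀ s ∈ range (n + 1), (h + (n : A) * τ) * (risC m n s * τ ^ s * risP h τ (m + n - s)) =
        risC m n s * τ ^ s * risP h τ (m + (n + 1) - s) +
          risC m n s * ((s : A) - (m : A)) * τ ^ (s + 1) * risP h τ (m + (n + 1) - (s + 1)) := by
      intro s hs
      rw [Finset.mem_range] at hs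
      have e1 : m + (n + 1) - s = (m + n - s) + 1 := by omega
      have e2 : m + (n + 1) - (s + 1) = m + n - s := by omega
      have e3 : ((m + n - s : ℕ) : A) = (m : A) + (n : A) - (s : A) := by
        rw [Nat.cast_sub (by omega), Nat.cast_add]
      rw [e1, e2, mul_left_comm, mul_risP, e3, pow_succ]
      ring
    rw [Finset.sum_congr rfl hterm, Finset.sum_add_distrib]
    -- target
    rw [Finset.sum_range_succ' _ (n + 1)]
    -- first sum
    have hfirst : ∑ s ∈ range (n + 1), risC m n s * τ ^ s * risP h τ (m + (n + 1) - s) =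
        ∑ s ∈ range (n + 1), risC m n (s + 1) * τ ^ (s + 1) * risP h τ (m + (n + 1) - (s + 1)) +
          risC m n 0 * τ ^ 0 * risP h τ (m + (n + 1) - 0) := by
      rw [Finset.sum_range_succ' _ n, Finset.sum_range_succ _ n]
      have : (risC m n (n + 1) : A) = 0 := by
        unfold risC; rw [Nat.choose_eq_zero_of_lt (by omega : n < n + 1)]; simp
      rw [this]; ring
    rw [hfirst]
    have h0 : (risC m (n + 1) 0 : A) = risC m n 0 := by unfold risC; simp
    rw [h0, add_right_comm, ← Finset.sum_add_distrib]
    congr 1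
    apply Finset.sum_congr rfl
    intro s _
    rw [risC_succ]
    ring

end Groth.Agent.H21
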