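import Mathlib
import Groth.Prelude.Def_W4c1hurwitzcptBd

set_option autoImplicit false
universe u
open PowerSeries W4c1hurwitzcpt

namespace H21.RootDiskLib

variable {k : Type u} [Field k]

lemma val_smul (p : ℕ) [NeZero p] (r : PowerSeries k) (f : RootDisk p k) :
    RootDisk.val (r • f) = PowerSeries.expand p (NeZero.ne p) r * RootDisk.val f := by
  rw [Algebra.smul_def, map_mul]
  rfl

/-- cancel a higher-order term -/
lemma order_cancel (P C : PowerSeries k) (d : ℕ) (h : order (P + C) = d) (hC : (d : ℕ∞) < order C) :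
    order P = d := by
  have e : P = (P + C) + (-C) := by ring
  have hne : order (P + C) ≠ order (-C) := by
    rw [order_neg, h]; exact hC.ne
  rw [e, order_add_of_order_ne _ _ hne, order_neg, h]
  exact min_eq_left hC.le

lemma order_expand_nat (p : ℕ) (hp : p ≠ 0) (r : PowerSeries k) (hr : r ≠ 0) :
    order (PowerSeries.expand p hp r) = ((p * r.order.toNat : ℕ) : ℕ∞) := by
  rw [order_expand, ← coe_toNat_order hr]
  simp [nsmul_eq_mul]

lemma expand_eq_zero (p : ℕ) (hp : p ≠ 0) (r : PowerSeries k) :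
    PowerSeries.expand p hp r = 0 ↔ r = 0 := by
  constructor
  · intro h
    by_contra hr
    have := order_expand_nat p hp r hr
    rw [h, order_zero] at this
    exact ENat.top_ne_natCast _ this
  · rintro rfl; simp



theorem s19486
    (m n : ℕ) (hm : Odd m) (hmn : 2 * m < n) (x g : W4c1hurwitzcpt.RootDisk 2 k)
    (hx : W4c1hurwitzcpt.RootDisk.val x = PowerSeries.X) (hg : PowerSeries.order (W4c1hurwitzcpt.RootDisk.val g) = 0)
    (M : Submodule (PowerSeries k) (W4c1hurwitzcpt.RootDisk 2 k × PowerSeries k))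
    (hM : M = Submodule.span (PowerSeries k) {(1 : W4c1hurwitzcpt.RootDisk 2 k × PowerSeries k), (x ^ m * g, 0)} ⊔
      ((Ideal.span {x ^ n} : Ideal (W4c1hurwitzcpt.RootDisk 2 k)).restrictScalars (PowerSeries k)).prod ⊥) :
    ∃ a ∈ M, ∃ b ∈ M, a * b ∉ M := by
  have hu : ((x ^ m * g, 0) : RootDisk 2 k × PowerSeries k) ∈ M := by
    rw [hM]
    exact Submodule.mem_sup_left (Submodule.subset_span (by simp))
  refine ⟨_, hu, _, hu, ?_⟩
  intro hmem
  rw [hM, Submodule.mem_sup] at hmem
  obtain ⟨y, hy, z, hz, hyz⟩ := hmem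
  rw [Submodule.mem_span_pair] at hy
  obtain ⟨r₁, r₂, rfl⟩ := hy
  rw [Submodule.mem_prod] at hz
  obtain ⟨hz1, hz2⟩ := hz
  rw [Submodule.restrictScalars_mem, Ideal.mem_span_singleton] at hz1
  obtain ⟨h, hh⟩ := hz1
  rw [Submodule.mem_bot] at hz2
  have e2 := congrArg Prod.snd hyz
  have e1 := congrArg Prod.fst hyz
  simp only [Prod.snd_add, Prod.smul_snd, Prod.snd_one, smul_zero, add_zero, hz2, Prod.snd_mul,
    mul_zero, smul_eq_mul, mul_one] at e2
  simp only [Prod.fst_add, Prod.smul_fst, Prod.fst_one, Prod.fst_mul, e2, zero_smul, zero_add,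
    hh] at e1
  have e3 := congrArg RootDisk.val e1
  simp only [map_add, val_smul, map_mul, map_pow, hx] at e3
  obtain ⟨G, hG⟩ : ∃ G, G = RootDisk.val g := ⟨_, rfl⟩
  obtain ⟨H, hH⟩ : ∃ H, H = RootDisk.val h := ⟨_, rfl⟩
  rw [← hG, ← hH] at e3
  rw [← hG] at hg
  have hord : order (PowerSeries.expand 2 (NeZero.ne 2) r₂ * (X ^ m * G) + X ^ n * H) =
      ((2 * m : ℕ) : ℕ∞) := by
    rw [e3, order_mul, order_mul, order_X_pow, hg]
    push_cast
    ring
  have hC : ((2 * m : ℕ) : ℕ∞) < order (X ^ n * H) := by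
    rw [order_mul, order_X_pow]
    calc ((2 * m : ℕ) : ℕ∞) < (n : ℕ∞) := by exact_mod_cast hmn
      _ ≤ (n : ℕ∞) + order H := le_self_add
  have hP := order_cancel _ _ _ hord hC
  by_cases hr : r₂ = 0
  · rw [hr, map_zero, zero_mul, order_zero] at hP
    exact ENat.top_ne_natCast _ hP
  · rw [order_mul, order_mul, order_X_pow, hg, order_expand_nat 2 _ r₂ hr, add_zero] at hP
    have : 2 * r₂.order.toNat + m = 2 * m := by exact_mod_cast hP
    obtain ⟨j, hj⟩ := hm
    omega




lemma mem_M_iff {p : ℕ} [NeZero p] (u v : RootDisk p k) (z : RootDisk p k) :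
    z ∈ Submodule.span (PowerSeries k) {1, u} ⊔
      (Ideal.span {v} : Ideal (RootDisk p k)).restrictScalars (PowerSeries k) ↔
    ∃ (r₁ r₂ : PowerSeries k) (h : RootDisk p k), z = r₁ • 1 + r₂ • u + v * h := by
  rw [Submodule.mem_sup]
  constructor
  · rintro ⟨y, hy, w, hw, rfl⟩
    rw [Submodule.mem_span_pair] at hy
    obtain ⟨r₁, r₂, rfl⟩ := hy
    rw [Submodule.restrictScalars_mem, Ideal.mem_span_singleton] at hw
    obtain ⟨h, rfl⟩ := hw
    exact ⟨r₁, r₂, h, rfl⟩
  · rintro ⟨r₁, r₂, h, rfl⟩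
    refine ⟨_, Submodule.mem_span_pair.mpr ⟨r₁, r₂, rfl⟩, v * h, ?_, rfl⟩
    rw [Submodule.restrictScalars_mem, Ideal.mem_span_singleton]
    exact Dvd.intro h rfl

theorem s19485
    (m n : ℕ) (hm : ¬ 3 ∣ m) (x g : W4c1hurwitzcpt.RootDisk 3 k)
    (hx : W4c1hurwitzcpt.RootDisk.val x = PowerSeries.X) (hg : PowerSeries.order (W4c1hurwitzcpt.RootDisk.val g) = 0)
    (M : Submodule (PowerSeries k) (W4c1hurwitzcpt.RootDisk 3 k))
    (hM : M = Submodule.span (PowerSeries k) {1, x ^ m * g} ⊔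
      (Ideal.span {x ^ n} : Ideal (W4c1hurwitzcpt.RootDisk 3 k)).restrictScalars (PowerSeries k)) :
    (∀ a ∈ M, ∀ b ∈ M, a * b ∈ M) ↔ n ≤ 2 * m := by
  have hmem : ∀ z, z ∈ M ↔ ∃ (r₁ r₂ : PowerSeries k) (h : RootDisk 3 k),
      z = r₁ • 1 + r₂ • (x ^ m * g) + x ^ n * h := by
    intro z; rw [hM]; exact mem_M_iff _ _ z
  constructor
  · intro hclosed
    by_contra hn
    have hmn : 2 * m < n := by omega
    have hu : x ^ m * g ∈ M := (hmem _).mpr ⟨0, 1, 0, by simp⟩
    obtain ⟨r₁, r₂, h, e1⟩ := (hmem _).mp (hclosed _ hu _ hu)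
    have e3 := congrArg RootDisk.val e1
    simp only [map_add, val_smul, map_mul, map_pow, hx, map_one, mul_one] at e3
    obtain ⟨G, hG⟩ : ∃ G, G = RootDisk.val g := ⟨_, rfl⟩
    obtain ⟨H, hH⟩ : ∃ H, H = RootDisk.val h := ⟨_, rfl⟩
    rw [← hG, ← hH] at e3
    rw [← hG] at hg
    have hord : order (PowerSeries.expand 3 (NeZero.ne 3) r₁ +
        PowerSeries.expand 3 (NeZero.ne 3) r₂ * (X ^ m * G) + X ^ n * H) =
        ((2 * m : ℕ) : ℕ∞) := by
      rw [← e3, order_mul, order_mul, order_X_pow, hg]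
      push_cast
      ring
    have hC : ((2 * m : ℕ) : ℕ∞) < order (X ^ n * H) := by
      rw [order_mul, order_X_pow]
      calc ((2 * m : ℕ) : ℕ∞) < (n : ℕ∞) := by exact_mod_cast hmn
        _ ≤ (n : ℕ∞) + order H := le_self_add
    have hP := order_cancel _ _ _ hord hC
    by_cases hr₁ : r₁ = 0
    · by_cases hr₂ : r₂ = 0
      · rw [hr₁, hr₂, map_zero, zero_mul, add_zero, order_zero] at hP
        exact ENat.top_ne_natCast _ hP
      · rw [hr₁, map_zero, zero_add, order_mul, order_mul, order_X_pow, hg,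
          order_expand_nat 3 _ r₂ hr₂, add_zero] at hP
        have : 3 * r₂.order.toNat + m = 2 * m := by exact_mod_cast hP
        omega
    · by_cases hr₂ : r₂ = 0
      · rw [hr₂, map_zero, zero_mul, add_zero, order_expand_nat 3 _ r₁ hr₁] at hP
        have : 3 * r₁.order.toNat = 2 * m := by exact_mod_cast hP
        omega
      · have hA := order_expand_nat 3 (NeZero.ne 3) r₁ hr₁
        have hB : order (PowerSeries.expand 3 (NeZero.ne 3) r₂ * (X ^ m * G)) =
            ((3 * r₂.order.toNat + m : ℕ) : ℕ∞) := by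
          rw [order_mul, order_mul, order_X_pow, hg, order_expand_nat 3 _ r₂ hr₂, add_zero]
          push_cast
          rfl
        have hne : order (PowerSeries.expand 3 (NeZero.ne 3) r₁) ≠
            order (PowerSeries.expand 3 (NeZero.ne 3) r₂ * (X ^ m * G)) := by
          rw [hA, hB]
          intro h'
          have : 3 * r₁.order.toNat = 3 * r₂.order.toNat + m := by exact_mod_cast h'
          omega
        rw [order_add_of_order_ne _ _ hne, hA, hB] at hP
        rcases le_total (3 * r₁.order.toNat) (3 * r₂.order.toNat + m) with hle | hle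
        · rw [min_eq_left (by exact_mod_cast hle)] at hP
          have : 3 * r₁.order.toNat = 2 * m := by exact_mod_cast hP
          omega
        · rw [min_eq_right (by exact_mod_cast hle)] at hP
          have : 3 * r₂.order.toNat + m = 2 * m := by exact_mod_cast hP
          omega
  · intro hn a ha b hb
    obtain ⟨r₁, r₂, h, rfl⟩ := (hmem a).mp ha
    obtain ⟨s₁, s₂, h', rfl⟩ := (hmem b).mp hb
    have huu : x ^ m * g * (x ^ m * g) = x ^ n * (x ^ (2 * m - n) * g * g) := by
      have : x ^ n * x ^ (2 * m - n) = x ^ m * x ^ m := by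
        rw [← pow_add, ← pow_add]; congr 1; omega
      calc x ^ m * g * (x ^ m * g) = (x ^ m * x ^ m) * g * g := by ring
        _ = x ^ n * (x ^ (2 * m - n) * g * g) := by rw [← this]; ring
    rw [hmem]
    refine ⟨r₁ * s₁, r₁ * s₂ + r₂ * s₁,
      (r₂ * s₂) • (x ^ (2 * m - n) * g * g) + h * (s₁ • 1 + s₂ • (x ^ m * g) + x ^ n * h') +
        h' * (r₁ • 1 + r₂ • (x ^ m * g)), ?_⟩
    simp only [Algebra.smul_def, map_mul, map_add, mul_one]
    linear_combination (algebraMap (PowerSeries k) (RootDisk 3 k) r₂ *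
      algebraMap (PowerSeries k) (RootDisk 3 k) s₂) * huu


end H21.RootDiskLib
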