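import Mathlib

set_option autoImplicit false
open Submodule

namespace Groth.Agent.H21.RootOrd

variable {ι M N : Type*} [AddCommGroup M] [AddCommGroup N]
  (P : RootPairing ι ℤ M N) (b : P.Base)

/-- the height functional on the root lattice -/
noncomputable def ht : P.rootSpan ℤ →ₗ[ℤ] ℤ := ∑ j, b.toWeightBasisInt.coord j

/-- the coordinate functionals, height first -/
noncomputable def cc : Fin (Fintype.card b.support + 1) → (P.rootSpan ℤ →ₗ[ℤ] ℤ) :=
  Fin.cons (ht P b) (fun k => b.toWeightBasisInt.coord ((Fintype.equivFin b.support).symm k))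

noncomputable def ψ : P.rootSpan ℤ →ₗ[ℤ] (Fin (Fintype.card b.support + 1) → ℤ) :=
  LinearMap.pi (cc P b)

theorem ψ_zero_apply (x : P.rootSpan ℤ) : ψ P b x 0 = ht P b x := by
  simp [ψ, cc]

theorem ψ_succ_apply (x : P.rootSpan ℤ) (k : Fin (Fintype.card b.support)) :
    ψ P b x k.succ = b.toWeightBasisInt.coord ((Fintype.equivFin b.support).symm k) x := by
  simp [ψ, cc]

theorem ψ_injective : Function.Injective (ψ P b) := by
  rw [← LinearMap.ker_eq_bot, LinearMap.ker_eq_bot']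
  intro x hx
  apply b.toWeightBasisInt.repr.injective
  rw [map_zero]
  ext j
  have := congrFun hx ((Fintype.equivFin b.support j).succ)
  rw [ψ_succ_apply, Equiv.symm_apply_apply] at this
  simpa using this

/-- the positive cone -/
def C : Set (P.rootSpan ℤ) := {x | 0 < toLex (ψ P b x)}

theorem zero_notMem : (0 : P.rootSpan ℤ) ∉ C P b := by
  intro h
  have h' : (0 : Lex (Fin (Fintype.card b.support + 1) → ℤ)) < toLex (ψ P b 0) := h
  rw [map_zero] at h'
  exact lt_irrefl _ h'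

theorem add_mem (x y : P.rootSpan ℤ) (hx : x ∈ C P b) (hy : y ∈ C P b) : x + y ∈ C P b := by
  have hx' : (0 : Lex (Fin (Fintype.card b.support + 1) → ℤ)) < toLex (ψ P b x) := hx
  have hy' : (0 : Lex (Fin (Fintype.card b.support + 1) → ℤ)) < toLex (ψ P b y) := hy
  show (0 : Lex (Fin (Fintype.card b.support + 1) → ℤ)) < toLex (ψ P b (x + y))
  rw [map_add, toLex_add]
  exact add_pos hx' hy'

theorem mem_or_neg_mem (x : P.rootSpan ℤ) (hx : x ≠ 0) : x ∈ C P b ∨ -x ∈ C P b := by
  have h1 : ψ P b x ≠ 0 := fun h => hx (ψ_injective P b (by rw [h, map_zero]))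
  have h2 : toLex (ψ P b x) ≠ 0 := h1
  rcases lt_or_gt_of_ne h2 with h | h
  · right
    show (0 : Lex (Fin (Fintype.card b.support + 1) → ℤ)) < toLex (ψ P b (-x))
    rw [map_neg, toLex_neg]
    exact neg_pos.mpr h
  · left
    exact h

theorem neg_notMem (x : P.rootSpan ℤ) (hx : x ∈ C P b) : -x ∉ C P b := by
  intro h
  have hx' : (0 : Lex (Fin (Fintype.card b.support + 1) → ℤ)) < toLex (ψ P b x) := hx
  have h' : (0 : Lex (Fin (Fintype.card b.support + 1) → ℤ)) < toLex (ψ P b (-x)) := h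
  rw [map_neg, toLex_neg] at h'
  exact lt_asymm hx' (neg_pos.mp h')

theorem pos_of_ht_pos (x : P.rootSpan ℤ) (h : 0 < ht P b x) : x ∈ C P b := by
  show (0 : Lex (Fin (Fintype.card b.support + 1) → ℤ)) < toLex (ψ P b x)
  refine ⟨0, fun j hj => absurd hj (Fin.not_lt_zero j), ?_⟩
  show (0 : ℤ) < ψ P b x 0
  rw [ψ_zero_apply]
  exact h

theorem ht_nonneg_of_mem (x : P.rootSpan ℤ) (h : x ∈ C P b) : 0 ≤ ht P b x := by
  obtain ⟨i, hi1, hi2⟩ := h
  rw [← ψ_zero_apply]
  by_cases h0 : i = 0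
  · subst h0
    exact le_of_lt hi2
  · have := hi1 0 (Fin.pos_of_ne_zero h0)
    exact le_of_eq this

theorem ht_root (i : ι) : ht P b (P.rootSpanMem ℤ i) = b.height i := by
  classical
  obtain ⟨x, hx⟩ : ∃ x, x = P.rootSpanMem ℤ i := ⟨_, rfl⟩
  rw [← hx]
  let f : ι → ℤ := fun j => if h : j ∈ b.support then b.toWeightBasisInt.repr x ⟨j, h⟩ else 0
  have h1 : P.root i = ∑ j ∈ b.support, f j • P.root j := by
    have h2 := b.toWeightBasisInt.sum_repr x
    have h3 := congrArg (Subtype.val) h2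
    rw [hx] at h3
    have h4 : ((P.rootSpanMem ℤ i : P.rootSpan ℤ) : M) = P.root i := rfl
    rw [h4] at h3
    rw [← h3, ← hx]
    rw [AddSubmonoidClass.coe_finsetSum]
    rw [← Finset.sum_coe_sort b.support]
    apply Finset.sum_congr rfl
    intro j _
    simp only [f, j.2, dif_pos]
    rw [Submodule.coe_smul, b.coe_toWeightBasisInt_apply]
  rw [b.height_eq_sum h1]
  rw [← Finset.sum_coe_sort b.support]
  simp only [ht, LinearMap.sum_apply, Module.Basis.coord_apply]
  apply Finset.sum_congr rfl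
  intro j _
  simp only [f, j.2, dif_pos]

theorem eq_ht (φ : P.rootSpan ℤ →+ ℤ)
    (hφ : ∀ j ∈ b.support, φ (P.rootSpanMem ℤ j) = 1) (x : P.rootSpan ℤ) : φ x = ht P b x := by
  have : φ.toIntLinearMap = ht P b := by
    apply b.toWeightBasisInt.ext
    intro j
    have h1 : b.toWeightBasisInt j = P.rootSpanMem ℤ j := by
      apply Subtype.ext
      exact b.coe_toWeightBasisInt_apply j
    rw [h1]
    show φ (P.rootSpanMem ℤ j) = _
    rw [hφ j j.2, ht_root, b.height_one_of_mem_support j.2]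
  exact congrArg (fun l => l x) this


theorem main [Finite ι] :
    ∃ C : Set ↥(Submodule.span ℤ (Set.range P.root)),
      0 ∉ C ∧ (∀ x ∈ C, ∀ y ∈ C, x + y ∈ C) ∧ (∀ x, x ≠ 0 → (x ∈ C ∨ -x ∈ C)) ∧ (∀ x ∈ C, -x ∉ C) ∧
      (∀ i : ι, (⟨P.root i, Submodule.subset_span (Set.mem_range_self i)⟩ : ↥(Submodule.span ℤ (Set.range P.root))) ∈ C ↔
        b.IsPos i) ∧
      ∀ φ : ↥(Submodule.span ℤ (Set.range P.root)) →+ ℤ,
        (∀ j ∈ b.support, φ ⟨P.root j, Submodule.subset_span (Set.mem_range_self j)⟩ = 1) →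
        ∀ x y : ↥(Submodule.span ℤ (Set.range P.root)), y - x ∈ C → φ x ≤ φ y := by
  refine ⟨C P b, zero_notMem P b, fun x hx y hy => add_mem P b x y hx hy, mem_or_neg_mem P b,
    neg_notMem P b, ?_, ?_⟩
  · intro i
    constructor
    · intro h
      have h1 := ht_nonneg_of_mem P b _ h
      have h2 : ht P b (P.rootSpanMem ℤ i) = b.height i := ht_root P b i
      rw [b.isPos_iff']
      rw [← h2]
      exact h1
    · intro h
      apply pos_of_ht_pos
      have h2 : ht P b (P.rootSpanMem ℤ i) = b.height i := ht_root P b i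
      show 0 < ht P b (P.rootSpanMem ℤ i)
      rw [h2]
      exact b.isPos_iff.mp h
  · intro φ hφ x y hxy
    have h1 := ht_nonneg_of_mem P b _ hxy
    rw [← eq_ht P b φ hφ, map_sub] at h1
    linarith

end Groth.Agent.H21.RootOrd
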