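import Mathlib
open CategoryTheory Simplicial Opposite
universe u
namespace Groth.Agent.H21

lemma hasDimensionLT_skeleton (X : SSet.{u}) (n : ℕ) :
    SSet.HasDimensionLT (X.skeleton n : SSet.{u}) n where
  degenerate_eq_top i hi := by
    ext x
    simp only [Set.top_eq_univ, Set.mem_univ, iff_true]
    refine (SSet.Subcomplex.mem_degenerate_iff (X.skeleton n) x).mpr ?_
    by_contra h
    have := (X.mem_skeleton_obj_iff_of_nonDegenerate ⟨x.1, h⟩ n).mp x.2
    omega

theorem hasDimensionLT_sk (m : ℕ) (U : SSet.Truncated.{u} m) :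
    ((SSet.Truncated.sk m).obj U).HasDimensionLT (m + 1) := by
  set V := (SSet.Truncated.sk m).obj U with hV
  let V' : V.Subcomplex := V.skeleton (m + 1)
  let ι : (V' : SSet.{u}) ⟶ V := V'.ι
  let adj := SSet.skAdj.{u} m
  have hiso : IsIso ((SSet.truncation m).map ι) := by
    haveI : ∀ Z, IsIso (((SSet.truncation m).map ι).app Z) := by
      intro Z
      rw [isIso_iff_bijective]
      constructor
      · intro a b h
        exact Subtype.ext h
      · intro y
        have : y ∈ (V.skeleton (m + 1)).obj (op ⦋Z.unop.obj.len⦌) := by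
          rw [V.skeleton_obj_eq_top (Nat.lt_succ_of_le Z.unop.property)]
          trivial
        exact ⟨⟨y, this⟩, rfl⟩
    exact NatIso.isIso_of_isIso_app _
  let s : V ⟶ (V' : SSet.{u}) :=
    (adj.homEquiv U (V' : SSet.{u})).symm (adj.unit.app U ≫ inv ((SSet.truncation m).map ι))
  have hs : s ≫ ι = 𝟙 V := by
    apply (adj.homEquiv U V).injective
    rw [Adjunction.homEquiv_naturality_right, Equiv.apply_symm_apply, Category.assoc,
      IsIso.inv_hom_id, Category.comp_id, Adjunction.homEquiv_unit, CategoryTheory.Functor.map_id]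
    exact (Category.comp_id _).symm
  haveI : IsSplitEpi ι := ⟨⟨s, hs⟩⟩
  haveI := hasDimensionLT_skeleton V (m + 1)
  exact SSet.hasDimensionLT_of_epi ι (m + 1)



theorem sk_counit_ssets (U : SSet.{u}) (n : ℕ) :
    Mono ((SSet.skAdj n).counit.app U) ∧
      SSet.Subcomplex.range ((SSet.skAdj n).counit.app U) = U.skeleton (n + 1) := by
  let adj := SSet.skAdj.{u} n
  let T := (SSet.truncation n).obj U
  let V : SSet.{u} := (SSet.Truncated.sk n).obj T
  let ε : V ⟶ U := adj.counit.app U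
  let η : T ⟶ (SSet.truncation n).obj V := adj.unit.app T
  have htri : η ≫ (SSet.truncation n).map ε = 𝟙 T := adj.right_triangle_components U
  haveI : IsIso η := inferInstanceAs (IsIso (adj.unit.app T))
  have hεiso : IsIso ((SSet.truncation n).map ε) := by
    have : (SSet.truncation n).map ε = inv η := by
      rw [← cancel_epi η, htri, IsIso.hom_inv_id]
    rw [this]; infer_instance
  have hbij : ∀ i : ℕ, i ≤ n → Function.Bijective (ε.app (op ⦋i⦌)) := by
    intro i hi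
    have := (NatIso.isIso_app_of_isIso ((SSet.truncation n).map ε) (op ⟨⦋i⦌, hi⟩))
    exact (isIso_iff_bijective _).mp this
  haveI hdim : V.HasDimensionLT (n + 1) := hasDimensionLT_sk n T
  have hnat : ∀ {k j : ℕ} (f : ⦋k⦌ ⟶ ⦋j⦌) (y : V _⦋j⦌),
      ε.app (op ⦋k⦌) (V.map f.op y) = U.map f.op (ε.app (op ⦋j⦌) y) := by
    intro k j f y
    exact NatTrans.naturality_apply ε f.op y
  -- nondegenerate simplices map to nondegenerate simplices
  have hnd : ∀ (j : ℕ) (y : V.nonDegenerate j), ε.app (op ⦋j⦌) y.1 ∈ U.nonDegenerate j := by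
    intro j y
    have hj : j ≤ n := Nat.le_of_lt_succ (V.dim_lt_of_nonDegenerate y (n + 1))
    rw [SSet.mem_nonDegenerate_iff_notMem_degenerate, SSet.mem_degenerate_iff]
    rintro ⟨i, hi, g, hg, z, hz⟩
    obtain ⟨w, rfl⟩ := (hbij i (by omega)).2 z
    rw [← hnat g w] at hz
    have hy := (hbij j hj).1 hz
    have : y.1 ∈ V.degenerate j := by
      rw [SSet.mem_degenerate_iff]
      exact ⟨i, hi, g, hg, w, hy⟩
    exact y.2 this
  have hinj : ∀ k : ℕ, Function.Injective (ε.app (op ⦋k⦌)) := by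
    intro k x x' hxx
    obtain ⟨m₁, f₁, hf₁, y₁, rfl⟩ := V.exists_nonDegenerate x
    obtain ⟨m₂, f₂, hf₂, y₂, rfl⟩ := V.exists_nonDegenerate x'
    rw [hnat, hnat] at hxx
    have hm : m₁ = m₂ := U.unique_nonDegenerate_dim (U.map f₁.op (ε.app _ y₁.1))
      f₁ ⟨_, hnd m₁ y₁⟩ rfl f₂ ⟨_, hnd m₂ y₂⟩ hxx
    subst hm
    have hy : (⟨_, hnd m₁ y₁⟩ : U.nonDegenerate m₁) = ⟨_, hnd m₁ y₂⟩ :=
      U.unique_nonDegenerate_simplex (U.map f₁.op (ε.app _ y₁.1))
      f₁ ⟨_, hnd m₁ y₁⟩ rfl f₂ ⟨_, hnd m₁ y₂⟩ hxx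
    have hf : f₁ = f₂ := U.unique_nonDegenerate_map (U.map f₁.op (ε.app _ y₁.1))
      f₁ ⟨_, hnd m₁ y₁⟩ rfl f₂ ⟨_, hnd m₁ y₂⟩ hxx
    have hm₁ : m₁ ≤ n := Nat.le_of_lt_succ (V.dim_lt_of_nonDegenerate y₁ (n + 1))
    have hy' : y₁.1 = y₂.1 := (hbij m₁ hm₁).1 (congrArg Subtype.val hy)
    rw [hf, hy']
  refine ⟨?_, ?_⟩
  · rw [NatTrans.mono_iff_mono_app]
    intro Z
    rw [mono_iff_injective]
    exact hinj Z.unop.len
  · apply le_antisymm
    · intro Z x hx
      obtain ⟨v, rfl⟩ := hx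
      obtain ⟨m₁, f₁, hf₁, y₁, hv⟩ := V.exists_nonDegenerate (n := Z.unop.len) v
      have hm₁ : m₁ < n + 1 := V.dim_lt_of_nonDegenerate y₁ (n + 1)
      have h1 : ε.app (op ⦋m₁⦌) y₁.1 ∈ (U.skeleton (n + 1)).obj _ := U.mem_skeleton _ hm₁
      have h2 := (U.skeleton (n + 1)).map f₁.op h1
      have h3 : ε.app Z v = U.map f₁.op (ε.app (op ⦋m₁⦌) y₁.1) := by
        rw [← hnat f₁ y₁.1]
        exact congrArg (ε.app Z) hv
      rw [h3]
      exact h2
    · change (⨆ (i : Fin (n + 1)) (x : U.nonDegenerate i), SSet.Subcomplex.ofSimplex x.1) ≤ _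
      simp only [iSup_le_iff]
      intro i x
      rw [SSet.Subcomplex.ofSimplex_le_iff]
      obtain ⟨w, hw⟩ := (hbij i (Nat.le_of_lt_succ i.2)).2 x.1
      exact ⟨w, hw⟩

end Groth.Agent.H21
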