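import Mathlib

set_option autoImplicit false
universe u

namespace Groth.Agent.H21.Schubert
open Matrix

variable {K : Type u} [Field K] {n d : ℕ}

lemma vecMul_eq_sum (A : Matrix (Fin d) (Fin n) K) (a : Fin d → K) :
    a ᵥ* A = ∑ k, a k • A k := by
  ext l
  simp [Matrix.vecMul, dotProduct, Finset.sum_apply]

lemma vecMul_inj (A : Matrix (Fin d) (Fin n) K)
    (hA : LinearIndependent K (fun i : Fin d => A i)) :
    Function.Injective (fun a : Fin d → K => a ᵥ* A) :=
  Matrix.vecMul_injective_iff.mpr hA

theorem fwd (V : ℕ → Submodule K (Fin n → K))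
    (hV : ∀ (j : ℕ) (v : Fin n → K), v ∈ V j ↔ ∀ l : Fin n, j ≤ (l : ℕ) → v l = 0)
    (A : Matrix (Fin d) (Fin n) K) (c : ℕ) (i : Fin d)
    (h : (i : ℕ) + 1 ≤
      Module.finrank K ↥(Submodule.span K (Set.range fun i : Fin d => A i) ⊓ V c))
    (J : Fin d → Fin n) (hJ : StrictMono J) (hc : c ≤ (J i : ℕ)) :
    (A.submatrix id J).det = 0 := by
  by_contra hdet
  let χ : ↥(Submodule.span K (Set.range fun i : Fin d => A i) ⊓ V c) →ₗ[K] (Fin (i : ℕ) → K) :=
    { toFun := fun v k => v.1 (J ⟨k, lt_trans k.2 i.2⟩)
      map_add' := fun v w => by ext k; rfl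
      map_smul' := fun r v => by ext k; rfl }
  have hχ : Function.Injective χ := by
    rw [← LinearMap.ker_eq_bot, LinearMap.ker_eq_bot']
    intro v hv
    obtain ⟨hvW, hvV⟩ := Submodule.mem_inf.mp v.2
    obtain ⟨a, ha⟩ := (Submodule.mem_span_range_iff_exists_fun K).mp hvW
    have hz : ∀ k : Fin d, v.1 (J k) = 0 := by
      intro k
      by_cases hk : (k : ℕ) < i
      · exact congrFun hv ⟨k, hk⟩
      · apply (hV c v.1).mp hvV
        have h1 : i ≤ k := by
          rw [Fin.le_def]; omega
        have h2 : J i ≤ J k := hJ.monotone h1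
        rw [Fin.le_def] at h2
        omega
    have hvm : a ᵥ* A.submatrix id J = 0 := by
      ext k
      have h3 := hz k
      rw [← ha] at h3
      simpa [Matrix.vecMul, dotProduct, Finset.sum_apply] using h3
    have ha0 := Matrix.eq_zero_of_vecMul_eq_zero hdet hvm
    apply Subtype.ext
    rw [← ha, ha0]
    simp
  have h5 := LinearMap.finrank_le_finrank_of_injective hχ
  rw [Module.finrank_fin_fun] at h5
  omega

theorem bwd (V : ℕ → Submodule K (Fin n → K))
    (hV : ∀ (j : ℕ) (v : Fin n → K), v ∈ V j ↔ ∀ l : Fin n, j ≤ (l : ℕ) → v l = 0)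
    (A : Matrix (Fin d) (Fin n) K) (hA : LinearIndependent K (fun i : Fin d => A i))
    (c : ℕ) (i : Fin d)
    (hmin : ∀ J : Fin d → Fin n, StrictMono J → c ≤ (J i : ℕ) → (A.submatrix id J).det = 0) :
    (i : ℕ) + 1 ≤
      Module.finrank K ↥(Submodule.span K (Set.range fun i : Fin d => A i) ⊓ V c) := by
  classical
  by_contra hlt
  push Not at hlt
  obtain ⟨col, hcol⟩ : ∃ col : Fin n → (Fin d → K), col = fun l k => A k l := ⟨_, rfl⟩
  obtain ⟨T, hT⟩ : ∃ T : Set (Fin n), T = {l : Fin n | c ≤ (l : ℕ)} := ⟨_, rfl⟩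
  have h0 : LinearIndepOn K col (∅ : Set (Fin n)) := linearIndepOn_empty K col
  obtain ⟨S₀, hS₀T, -, hspan₀, hli₀⟩ := exists_linearIndepOn_extension h0 (Set.empty_subset T)
  obtain ⟨S, -, hS₀S, hspan, hli⟩ := exists_linearIndepOn_extension hli₀ (Set.subset_univ S₀)
  have hcardS : Fintype.card S = d := by
    have h1 := linearIndependent_iff_card_eq_finrank_span.mp hli
    have h2 : Submodule.span K (Set.range (fun x : S => col x))
        = Submodule.span K (Set.range col) := by
      apply le_antisymm
      · apply Submodule.span_mono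
        rintro _ ⟨x, rfl⟩
        exact ⟨x, rfl⟩
      · rw [Submodule.span_le]
        rintro _ ⟨l, rfl⟩
        have h3 := hspan ⟨l, Set.mem_univ l, rfl⟩
        rwa [Set.image_eq_range] at h3
    have h3 : A.rank = d := by
      have := LinearIndependent.rank_matrix (M := A) hA
      simpa using this
    rw [Matrix.rank_eq_finrank_span_cols] at h3
    have h4 : A.col = col := by
      rw [hcol]; rfl
    rw [h4] at h3
    rw [h1, Set.finrank, h2]
    exact h3
  have hD : d ≤ (i : ℕ) + Fintype.card S₀ := by
    let φ : (Fin d → K) →ₗ[K] (S₀ → K) :=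
      { toFun := fun a l => a ⬝ᵥ col l
        map_add' := fun a b => by ext l; simp [add_dotProduct]
        map_smul' := fun r a => by ext l; simp [smul_dotProduct] }
    have hrn := LinearMap.finrank_range_add_finrank_ker φ
    have hr : Module.finrank K (LinearMap.range φ) ≤ Fintype.card S₀ := by
      have := Submodule.finrank_le (LinearMap.range φ)
      rwa [Module.finrank_fintype_fun_eq_card] at this
    have hmem : ∀ a : ↥(LinearMap.ker φ), (a.1 ᵥ* A) ∈
        Submodule.span K (Set.range fun i : Fin d => A i) ⊓ V c := by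
      intro a
      refine Submodule.mem_inf.mpr ⟨?_, ?_⟩
      · rw [vecMul_eq_sum]
        exact Submodule.sum_mem _ (fun k _ => Submodule.smul_mem _ _
          (Submodule.subset_span ⟨k, rfl⟩))
      · rw [hV]
        intro l hl
        have hl' : l ∈ T := by rw [hT]; exact hl
        have h6 : col l ∈ Submodule.span K (col '' S₀) := hspan₀ ⟨l, hl', rfl⟩
        have h7 : ∀ w ∈ Submodule.span K (col '' S₀), a.1 ⬝ᵥ w = 0 := by
          intro w hw
          induction hw using Submodule.span_induction with
          | mem w hw =>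
            obtain ⟨s, hs, rfl⟩ := hw
            have := congrFun (LinearMap.mem_ker.mp a.2) ⟨s, hs⟩
            exact this
          | zero => exact dotProduct_zero _
          | add x y _ _ hx hy => rw [dotProduct_add, hx, hy, add_zero]
          | smul r x _ hx => rw [dotProduct_smul, hx, smul_zero]
        have h8 := h7 _ h6
        rw [hcol] at h8
        exact h8
    have hk : Module.finrank K (LinearMap.ker φ) ≤
        Module.finrank K ↥(Submodule.span K (Set.range fun i : Fin d => A i) ⊓ V c) := by
      let ψ : ↥(LinearMap.ker φ) →ₗ[K]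
          ↥(Submodule.span K (Set.range fun i : Fin d => A i) ⊓ V c) :=
        LinearMap.codRestrict _ (A.vecMulLinear ∘ₗ (LinearMap.ker φ).subtype) hmem
      refine LinearMap.finrank_le_finrank_of_injective (f := ψ) ?_
      intro a b hab
      have h9 : a.1 ᵥ* A = b.1 ᵥ* A := congrArg Subtype.val hab
      exact Subtype.ext (vecMul_inj A hA h9)
    rw [Module.finrank_fin_fun] at hrn
    omega
  have hcardS' : S.toFinset.card = d := by
    rw [Set.toFinset_card]; exact hcardS
  obtain ⟨J, hJdef⟩ : ∃ J, J = S.toFinset.orderEmbOfFin hcardS' := ⟨_, rfl⟩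
  have hJmem : ∀ k, (J k) ∈ S := fun k => by
    have := S.toFinset.orderEmbOfFin_mem hcardS' k
    rw [Set.mem_toFinset] at this
    rw [hJdef]; exact this
  have hJi : c ≤ (J i : ℕ) := by
    by_contra hlt2
    push Not at hlt2
    have hsub : S₀.toFinset ⊆ (Finset.Ioi i).image J := by
      intro l hl
      rw [Set.mem_toFinset] at hl
      have hlS : l ∈ S.toFinset := by rw [Set.mem_toFinset]; exact hS₀S hl
      have hr : l ∈ Set.range J := by
        rw [hJdef, Finset.range_orderEmbOfFin]; exact hlS
      obtain ⟨k, rfl⟩ := hr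
      rw [Finset.mem_image]
      refine ⟨k, ?_, rfl⟩
      rw [Finset.mem_Ioi]
      by_contra hki
      have h1 : J k ≤ J i := J.monotone (not_lt.mp hki)
      have h2 : c ≤ (J k : ℕ) := by
        have := hS₀T hl
        rw [hT] at this
        exact this
      rw [Fin.le_def] at h1
      omega
    have h1 := Finset.card_le_card hsub
    have h2 := Finset.card_image_le (s := Finset.Ioi i) (f := J)
    rw [Fin.card_Ioi] at h2
    rw [Set.toFinset_card] at h1
    omega
  have hdet := hmin J J.strictMono hJi
  have hliJ : LinearIndependent K (A.submatrix id J).col := by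
    have := hli.comp (fun k : Fin d => (⟨J k, hJmem k⟩ : S))
      (by intro a b hab; exact J.injective (Subtype.ext_iff.mp hab))
    rw [hcol] at this
    exact this
  rw [Matrix.linearIndependent_cols_iff_isUnit, Matrix.isUnit_iff_isUnit_det] at hliJ
  exact hliJ.ne_zero hdet

theorem main (K : Type u) [Field K] (n d : ℕ)
    (hdn : d ≤ n) (V : ℕ → Submodule K (Fin n → K))
    (hV : ∀ (j : ℕ) (v : Fin n → K), v ∈ V j ↔ ∀ l : Fin n, j ≤ (l : ℕ) → v l = 0)
    (lam : Fin d → ℕ) (hlam : Antitone lam) (A : Matrix (Fin d) (Fin n) K)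
    (hA : LinearIndependent K (fun i : Fin d => A i)) :
    (∀ i : Fin d, (i : ℕ) + 1 ≤
        Module.finrank K ↥(Submodule.span K (Set.range fun i : Fin d => A i) ⊓
          V (n - d + ((i : ℕ) + 1) - lam i))) ↔
      ∀ J : Fin d → Fin n, StrictMono J →
        (∃ i : Fin d, n - d + ((i : ℕ) + 1) - lam i < (J i : ℕ) + 1) →
          (A.submatrix id J).det = 0 := by
  constructor
  · rintro h J hJ ⟨i, hi⟩
    exact fwd V hV A _ i (h i) J hJ (by omega)
  · intro h i
    exact bwd V hV A hA _ i (fun J hJ hc => h J hJ ⟨i, by omega⟩)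

end Groth.Agent.H21.Schubert
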