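import Mathlib

set_option autoImplicit false
universe u

namespace Groth.Agent.H21.Segre
open TensorProduct DirectSum

section
variable {k : Type u} [Field k] {R : Type u} [CommRing R] [Algebra k R] (𝒜 : ℤ → Submodule k R)
  [GradedAlgebra 𝒜] {S : Type u} [CommRing S] [Algebra k S] (ℬ : ℤ → Submodule k S) [GradedAlgebra ℬ]

noncomputable def Bn (n : ℤ) : 𝒜 n →ₗ[k] S →ₗ[k] R ⊗[k] S :=
  (LinearMap.lcomp k (R ⊗[k] S) (GradedAlgebra.proj ℬ n)) ∘ₗ (TensorProduct.mk k R S) ∘ₗ (𝒜 n).subtype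

noncomputable def B : R →ₗ[k] S →ₗ[k] R ⊗[k] S :=
  (DirectSum.toModule k ℤ (S →ₗ[k] R ⊗[k] S) (Bn 𝒜 ℬ)) ∘ₗ
    (DirectSum.decomposeLinearEquiv 𝒜).toLinearMap

noncomputable def ρ : R ⊗[k] S →ₗ[k] R ⊗[k] S := TensorProduct.lift (B 𝒜 ℬ)

lemma ρ_tmul_of_mem {i j : ℤ} {a : R} {b : S} (ha : a ∈ 𝒜 i) (hb : b ∈ ℬ j) :
    ρ 𝒜 ℬ (a ⊗ₜ b) = if i = j then a ⊗ₜ b else 0 := by
  have h1 : B 𝒜 ℬ a = Bn 𝒜 ℬ i ⟨a, ha⟩ := by
    simp only [B, LinearMap.comp_apply, LinearEquiv.coe_coe, DirectSum.decomposeLinearEquiv_apply]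
    rw [DirectSum.decompose_of_mem 𝒜 ha, ← DirectSum.lof_eq_of k, DirectSum.toModule_lof]
  rw [ρ, TensorProduct.lift.tmul, h1]
  simp only [Bn, LinearMap.comp_apply, LinearMap.lcomp_apply, Submodule.subtype_apply,
    TensorProduct.mk_apply, GradedAlgebra.proj_apply]
  split_ifs with h
  · subst h
    rw [DirectSum.decompose_of_mem_same ℬ hb]
  · rw [DirectSum.decompose_of_mem_ne ℬ hb (Ne.symm h), TensorProduct.tmul_zero]

def Hom : Set (R ⊗[k] S) := {x | ∃ i j : ℤ, ∃ a ∈ 𝒜 i, ∃ b ∈ ℬ j, x = a ⊗ₜ[k] b}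

def Dg : Set (R ⊗[k] S) := {x | ∃ n : ℤ, ∃ a ∈ 𝒜 n, ∃ b ∈ ℬ n, x = a ⊗ₜ[k] b}

lemma span_Hom : Submodule.span k (Hom 𝒜 ℬ) = ⊤ := by
  rw [eq_top_iff]
  intro w hw
  clear hw
  induction w using TensorProduct.induction_on with
  | zero => exact zero_mem _
  | add x y hx hy => exact add_mem hx hy
  | tmul a b =>
    induction a using DirectSum.Decomposition.inductionOn 𝒜 with
    | zero => rw [TensorProduct.zero_tmul]; exact zero_mem _
    | add a a' ha ha' => rw [TensorProduct.add_tmul]; exact add_mem ha ha'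
    | @homogeneous i a =>
      induction b using DirectSum.Decomposition.inductionOn ℬ with
      | zero => rw [TensorProduct.tmul_zero]; exact zero_mem _
      | add b b' hb hb' => rw [TensorProduct.tmul_add]; exact add_mem hb hb'
      | @homogeneous j b =>
        exact Submodule.subset_span ⟨i, j, a, a.2, b, b.2, rfl⟩

lemma ρ_mem (w : R ⊗[k] S) : ρ 𝒜 ℬ w ∈ Submodule.span k (Dg 𝒜 ℬ) := by
  have hw : w ∈ Submodule.span k (Hom 𝒜 ℬ) := by rw [span_Hom]; trivial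
  induction hw using Submodule.span_induction with
  | mem x hx =>
    obtain ⟨i, j, a, ha, b, hb, rfl⟩ := hx
    rw [ρ_tmul_of_mem 𝒜 ℬ ha hb]
    split_ifs with h
    · subst h
      exact Submodule.subset_span ⟨i, a, ha, b, hb, rfl⟩
    · exact zero_mem _
  | zero => rw [map_zero]; exact zero_mem _
  | add x y _ _ hx hy => rw [map_add]; exact add_mem hx hy
  | smul c x _ hx => rw [map_smul]; exact Submodule.smul_mem _ _ hx

lemma ρ_eq_self {t : R ⊗[k] S} (ht : t ∈ Submodule.span k (Dg 𝒜 ℬ)) : ρ 𝒜 ℬ t = t := by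
  induction ht using Submodule.span_induction with
  | mem x hx =>
    obtain ⟨n, a, ha, b, hb, rfl⟩ := hx
    rw [ρ_tmul_of_mem 𝒜 ℬ ha hb, if_pos rfl]
  | zero => rw [map_zero]
  | add x y _ _ hx hy => rw [map_add, hx, hy]
  | smul c x _ hx => rw [map_smul, hx]

lemma ρ_mul_gen {n : ℤ} {a : R} {b : S} (ha : a ∈ 𝒜 n) (hb : b ∈ ℬ n) (w : R ⊗[k] S) :
    ρ 𝒜 ℬ ((a ⊗ₜ[k] b) * w) = (a ⊗ₜ[k] b) * ρ 𝒜 ℬ w := by
  have hw : w ∈ Submodule.span k (Hom 𝒜 ℬ) := by rw [span_Hom]; trivial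
  induction hw using Submodule.span_induction with
  | mem x hx =>
    obtain ⟨i, j, a', ha', b', hb', rfl⟩ := hx
    rw [Algebra.TensorProduct.tmul_mul_tmul,
      ρ_tmul_of_mem 𝒜 ℬ (SetLike.mul_mem_graded ha ha') (SetLike.mul_mem_graded hb hb'),
      ρ_tmul_of_mem 𝒜 ℬ ha' hb']
    by_cases h : i = j
    · subst h
      rw [if_pos rfl, if_pos rfl, Algebra.TensorProduct.tmul_mul_tmul]
    · rw [if_neg h, if_neg (by omega), mul_zero]
  | zero => rw [mul_zero, map_zero, mul_zero]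
  | add x y _ _ hx hy => rw [mul_add, map_add, hx, hy, map_add, mul_add]
  | smul c x _ hx => rw [mul_smul_comm, map_smul, hx, map_smul, mul_smul_comm]

lemma ρ_mul {t : R ⊗[k] S} (ht : t ∈ Submodule.span k (Dg 𝒜 ℬ)) :
    ∀ w, ρ 𝒜 ℬ (t * w) = t * ρ 𝒜 ℬ w := by
  induction ht using Submodule.span_induction with
  | mem x hx =>
    obtain ⟨n, a, ha, b, hb, rfl⟩ := hx
    exact ρ_mul_gen 𝒜 ℬ ha hb
  | zero => intro w; rw [zero_mul, map_zero, zero_mul]
  | add x y _ _ hx hy => intro w; rw [add_mul, map_add, hx, hy, add_mul]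
  | smul c x _ hx => intro w; rw [smul_mul_assoc, map_smul, hx, smul_mul_assoc]

theorem main (k : Type u) [Field k] (R : Type u) [CommRing R] [Algebra k R]
    (𝒜 : ℤ → Submodule k R) [GradedAlgebra 𝒜] [Algebra.FiniteType k R]
    (S : Type u) [CommRing S] [Algebra k S] (ℬ : ℤ → Submodule k S) [GradedAlgebra ℬ]
    [Algebra.FiniteType k S] (T : Type u) [CommRing T] [Algebra k T] (𝒯 : ℤ → Submodule k T)
    [GradedAlgebra 𝒯] (ψ : T →ₐ[k] TensorProduct k R S) (hψ : Function.Injective ψ)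
    (hdegT : ∀ n : ℤ, (𝒯 n).map ψ.toLinearMap = Submodule.span k
      {x : TensorProduct k R S | ∃ a ∈ 𝒜 n, ∃ b ∈ ℬ n, x = a ⊗ₜ[k] b}) : IsNoetherianRing T := by
  have hsub : ∀ n : ℤ, {x : TensorProduct k R S | ∃ a ∈ 𝒜 n, ∃ b ∈ ℬ n, x = a ⊗ₜ[k] b} ⊆ Dg 𝒜 ℬ := by
    rintro n x ⟨a, ha, b, hb, rfl⟩
    exact ⟨n, a, ha, b, hb, rfl⟩
  have h1 : ∀ t : T, ψ t ∈ Submodule.span k (Dg 𝒜 ℬ) := by
    intro t
    induction t using DirectSum.Decomposition.inductionOn 𝒯 with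
    | zero => rw [map_zero]; exact zero_mem _
    | add a a' ha ha' => rw [map_add]; exact add_mem ha ha'
    | @homogeneous n t =>
      have : ψ (t : T) ∈ (𝒯 n).map ψ.toLinearMap := ⟨t, t.2, rfl⟩
      rw [hdegT] at this
      exact Submodule.span_mono (hsub n) this
  have h2 : ∀ w ∈ Submodule.span k (Dg 𝒜 ℬ), ∃ t, ψ t = w := by
    intro w hw
    induction hw using Submodule.span_induction with
    | mem x hx =>
      obtain ⟨n, a, ha, b, hb, rfl⟩ := hx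
      have : a ⊗ₜ[k] b ∈ (𝒯 n).map ψ.toLinearMap := by
        rw [hdegT]
        exact Submodule.subset_span ⟨a, ha, b, hb, rfl⟩
      obtain ⟨t, _, ht⟩ := this
      exact ⟨t, ht⟩
    | zero => exact ⟨0, map_zero _⟩
    | add x y _ _ hx hy =>
      obtain ⟨x', rfl⟩ := hx
      obtain ⟨y', rfl⟩ := hy
      exact ⟨x' + y', map_add _ _ _⟩
    | smul c x _ hx =>
      obtain ⟨x', rfl⟩ := hx
      exact ⟨c • x', map_smul _ _ _⟩
  have h3 : ∀ I : Ideal T, Ideal.comap ψ (Ideal.map ψ I) ≤ I := by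
    intro I x hx
    rw [Ideal.mem_comap] at hx
    have key : ∀ y ∈ Ideal.map ψ I, ∀ w, ∃ i ∈ I, ψ i = ρ 𝒜 ℬ (w * y) := by
      intro y hy
      change y ∈ Ideal.span (ψ '' I) at hy
      induction hy using Submodule.span_induction with
      | mem y hy =>
        obtain ⟨i₀, hi₀, rfl⟩ := hy
        intro w
        obtain ⟨t, ht⟩ := h2 _ (ρ_mem 𝒜 ℬ w)
        refine ⟨i₀ * t, I.mul_mem_right _ hi₀, ?_⟩
        rw [mul_comm w, ρ_mul 𝒜 ℬ (h1 i₀), map_mul, ht]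
      | zero => intro w; exact ⟨0, I.zero_mem, by rw [mul_zero, map_zero, map_zero]⟩
      | add y y' _ _ hy hy' =>
        intro w
        obtain ⟨i, hi, e⟩ := hy w
        obtain ⟨i', hi', e'⟩ := hy' w
        exact ⟨i + i', I.add_mem hi hi', by rw [map_add, e, e', mul_add, map_add]⟩
      | smul c y _ hy =>
        intro w
        obtain ⟨i, hi, e⟩ := hy (w * c)
        exact ⟨i, hi, by rw [e, smul_eq_mul, mul_assoc]⟩
    obtain ⟨i, hi, e⟩ := key _ hx 1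
    rw [one_mul, ρ_eq_self 𝒜 ℬ (h1 x)] at e
    rw [← hψ e]
    exact hi
  haveI : Algebra.FiniteType k (R ⊗[k] S) :=
    Algebra.FiniteType.trans (inferInstance : Algebra.FiniteType k R)
      (inferInstance : Algebra.FiniteType R (R ⊗[k] S))
  haveI : IsNoetherianRing (R ⊗[k] S) := Algebra.FiniteType.isNoetherianRing k _
  let e : Ideal T ↪o Ideal (R ⊗[k] S) := OrderEmbedding.ofMapLEIff (Ideal.map ψ) (by
    intro I J
    constructor
    · intro h
      calc I ≤ Ideal.comap ψ (Ideal.map ψ I) := Ideal.le_comap_map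
        _ ≤ Ideal.comap ψ (Ideal.map ψ J) := Ideal.comap_mono h
        _ ≤ J := h3 J
    · exact fun h => Ideal.map_mono h)
  haveI : WellFoundedGT (Ideal T) := e.wellFoundedGT
  exact isNoetherian_iff'.mpr inferInstance

end

end Groth.Agent.H21.Segre
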