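import Mathlib
import Groth.Prelude.Def_GrSeg
import Groth.Agent.H21.Segre

set_option autoImplicit false
universe u

namespace Groth.Agent.H21.SegreMod
open TensorProduct DirectSum

section conv
variable {k : Type u} [CommRing k] {M : Type u} [AddCommGroup M] [Module k M]
  (ℳ : ℤ → AddSubgroup M) (hk : ∀ n (c : k) (x : M), x ∈ ℳ n → c • x ∈ ℳ n)

/-- the pieces as `k`-submodules -/
def sub (n : ℤ) : Submodule k M :=
  { carrier := ℳ n
    add_mem' := fun ha hb => (ℳ n).add_mem ha hb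
    zero_mem' := (ℳ n).zero_mem
    smul_mem' := fun c x hx => hk n c x hx }

lemma mem_sub {n : ℤ} {x : M} : x ∈ sub ℳ hk n ↔ x ∈ ℳ n := Iff.rfl

variable [DirectSum.Decomposition ℳ]

/-- identity on pieces -/
def toSub (n : ℤ) : ℳ n →+ sub ℳ hk n :=
  { toFun := fun x => ⟨x.1, x.2⟩
    map_zero' := rfl
    map_add' := fun _ _ => rfl }

omit [DirectSum.Decomposition ℳ] in
lemma coe_map_toSub (d : ⨁ n, ℳ n) :
    DirectSum.coeAddMonoidHom (sub ℳ hk) (DirectSum.map (toSub ℳ hk) d) =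
      DirectSum.coeAddMonoidHom ℳ d := by
  induction d using DirectSum.induction_on with
  | zero => simp
  | of i x =>
    rw [DirectSum.map_of, DirectSum.coeAddMonoidHom_of, DirectSum.coeAddMonoidHom_of]
    rfl
  | add x y hx hy => rw [map_add, map_add, map_add, hx, hy]

noncomputable instance decSub : DirectSum.Decomposition (sub ℳ hk) where
  decompose' x := DirectSum.map (toSub ℳ hk) (DirectSum.decompose ℳ x)
  left_inv x := by
    rw [coe_map_toSub]
    exact (DirectSum.decompose ℳ).left_inv x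
  right_inv d := by
    change DirectSum.map (toSub ℳ hk) (DirectSum.decompose ℳ
      (DirectSum.coeAddMonoidHom (sub ℳ hk) d)) = d
    induction d using DirectSum.induction_on with
    | zero => simp
    | of i x =>
      rw [DirectSum.coeAddMonoidHom_of]
      have hx : (x : M) ∈ ℳ i := x.2
      rw [DirectSum.decompose_of_mem ℳ hx, DirectSum.map_of]
      rfl
    | add x y hx hy => rw [map_add, DirectSum.decompose_add, map_add, hx, hy]

end conv

section rho
variable {k : Type u} [CommRing k] {M N : Type u} [AddCommGroup M] [Module k M]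
  [AddCommGroup N] [Module k N]
  (ℳ : ℤ → Submodule k M) [DirectSum.Decomposition ℳ]
  (𝒩 : ℤ → Submodule k N) [DirectSum.Decomposition 𝒩]

noncomputable def projL (n : ℤ) : N →ₗ[k] N :=
  (𝒩 n).subtype ∘ₗ (DFinsupp.lapply n) ∘ₗ (DirectSum.decomposeLinearEquiv 𝒩).toLinearMap

lemma projL_apply (n : ℤ) (y : N) : projL 𝒩 n y = (DirectSum.decompose 𝒩 y n : N) := rfl

noncomputable def Bn (n : ℤ) : ℳ n →ₗ[k] N →ₗ[k] M ⊗[k] N :=
  (LinearMap.lcomp k (M ⊗[k] N) (projL 𝒩 n)) ∘ₗ (TensorProduct.mk k M N) ∘ₗ (ℳ n).subtype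

noncomputable def B : M →ₗ[k] N →ₗ[k] M ⊗[k] N :=
  (DirectSum.toModule k ℤ (N →ₗ[k] M ⊗[k] N) (Bn ℳ 𝒩)) ∘ₗ
    (DirectSum.decomposeLinearEquiv ℳ).toLinearMap

noncomputable def ρQ : M ⊗[k] N →ₗ[k] M ⊗[k] N := TensorProduct.lift (B ℳ 𝒩)

lemma ρQ_tmul_of_mem {i j : ℤ} {a : M} {b : N} (ha : a ∈ ℳ i) (hb : b ∈ 𝒩 j) :
    ρQ ℳ 𝒩 (a ⊗ₜ b) = if i = j then a ⊗ₜ b else 0 := by
  have h1 : B ℳ 𝒩 a = Bn ℳ 𝒩 i ⟨a, ha⟩ := by
    simp only [B, LinearMap.comp_apply, LinearEquiv.coe_coe, DirectSum.decomposeLinearEquiv_apply]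
    rw [DirectSum.decompose_of_mem ℳ ha, ← DirectSum.lof_eq_of k, DirectSum.toModule_lof]
  rw [ρQ, TensorProduct.lift.tmul, h1]
  simp only [Bn, LinearMap.comp_apply, LinearMap.lcomp_apply, Submodule.subtype_apply,
    TensorProduct.mk_apply, projL_apply]
  split_ifs with h
  · subst h
    rw [DirectSum.decompose_of_mem_same 𝒩 hb]
  · rw [DirectSum.decompose_of_mem_ne 𝒩 hb (Ne.symm h), TensorProduct.tmul_zero]

def HomQ : Set (M ⊗[k] N) := {x | ∃ i j : ℤ, ∃ a ∈ ℳ i, ∃ b ∈ 𝒩 j, x = a ⊗ₜ[k] b}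

def DgQ : Set (M ⊗[k] N) := {x | ∃ n : ℤ, ∃ a ∈ ℳ n, ∃ b ∈ 𝒩 n, x = a ⊗ₜ[k] b}

lemma span_HomQ : Submodule.span k (HomQ ℳ 𝒩) = ⊤ := by
  rw [eq_top_iff]
  intro w hw
  clear hw
  induction w using TensorProduct.induction_on with
  | zero => exact zero_mem _
  | add x y hx hy => exact add_mem hx hy
  | tmul a b =>
    induction a using DirectSum.Decomposition.inductionOn ℳ with
    | zero => rw [TensorProduct.zero_tmul]; exact zero_mem _
    | add a a' ha ha' => rw [TensorProduct.add_tmul]; exact add_mem ha ha'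
    | @homogeneous i a =>
      induction b using DirectSum.Decomposition.inductionOn 𝒩 with
      | zero => rw [TensorProduct.tmul_zero]; exact zero_mem _
      | add b b' hb hb' => rw [TensorProduct.tmul_add]; exact add_mem hb hb'
      | @homogeneous j b =>
        exact Submodule.subset_span ⟨i, j, a, a.2, b, b.2, rfl⟩

lemma ρQ_mem (w : M ⊗[k] N) : ρQ ℳ 𝒩 w ∈ Submodule.span k (DgQ ℳ 𝒩) := by
  have hw : w ∈ Submodule.span k (HomQ ℳ 𝒩) := by rw [span_HomQ]; trivial
  induction hw using Submodule.span_induction with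
  | mem x hx =>
    obtain ⟨i, j, a, ha, b, hb, rfl⟩ := hx
    rw [ρQ_tmul_of_mem ℳ 𝒩 ha hb]
    split_ifs with h
    · subst h
      exact Submodule.subset_span ⟨i, a, ha, b, hb, rfl⟩
    · exact zero_mem _
  | zero => rw [map_zero]; exact zero_mem _
  | add x y _ _ hx hy => rw [map_add]; exact add_mem hx hy
  | smul c x _ hx => rw [map_smul]; exact Submodule.smul_mem _ _ hx

lemma ρQ_eq_self {t : M ⊗[k] N} (ht : t ∈ Submodule.span k (DgQ ℳ 𝒩)) : ρQ ℳ 𝒩 t = t := by
  induction ht using Submodule.span_induction with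
  | mem x hx =>
    obtain ⟨n, a, ha, b, hb, rfl⟩ := hx
    rw [ρQ_tmul_of_mem ℳ 𝒩 ha hb, if_pos rfl]
  | zero => rw [map_zero]
  | add x y _ _ hx hy => rw [map_add, hx, hy]
  | smul c x _ hx => rw [map_smul, hx]

end rho

section act
variable (k : Type u) [CommRing k] (R S : Type u) [CommRing R] [CommRing S] [Algebra k R] [Algebra k S]
  (M N : Type u) [AddCommGroup M] [Module R M] [Module k M] [IsScalarTower k R M]
  [AddCommGroup N] [Module S N] [Module k N] [IsScalarTower k S N]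

lemma act_one (q : M ⊗[k] N) : GrSeg.act k R S M N 1 q = q := by
  rw [Algebra.TensorProduct.one_def]
  induction q using TensorProduct.induction_on with
  | zero => rw [map_zero]
  | tmul m n => rw [GrSeg.act_tmul, one_smul, one_smul]
  | add x y hx hy => rw [map_add, hx, hy]

lemma act_mul (w w' : R ⊗[k] S) (q : M ⊗[k] N) :
    GrSeg.act k R S M N (w * w') q = GrSeg.act k R S M N w (GrSeg.act k R S M N w' q) := by
  induction w using TensorProduct.induction_on with
  | zero => rw [zero_mul, map_zero, LinearMap.zero_apply, LinearMap.zero_apply]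
  | add x y hx hy => rw [add_mul, map_add, LinearMap.add_apply, hx, hy, map_add, LinearMap.add_apply]
  | tmul a b =>
    induction w' using TensorProduct.induction_on with
    | zero => rw [mul_zero, map_zero, LinearMap.zero_apply, map_zero]
    | add x y hx hy =>
      rw [mul_add, map_add, LinearMap.add_apply, hx, hy, map_add, LinearMap.add_apply, map_add]
    | tmul a' b' =>
      rw [Algebra.TensorProduct.tmul_mul_tmul]
      induction q using TensorProduct.induction_on with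
      | zero => rw [map_zero, map_zero, map_zero]
      | add x y hx hy => rw [map_add, hx, hy, map_add, map_add]
      | tmul m n =>
        rw [GrSeg.act_tmul, GrSeg.act_tmul, GrSeg.act_tmul, mul_smul, mul_smul]

/-- the `R ⊗ S`-module structure on `M ⊗ N` given by `GrSeg.act`. -/
@[reducible] noncomputable def modW : Module (R ⊗[k] S) (M ⊗[k] N) where
  smul w q := GrSeg.act k R S M N w q
  one_smul q := act_one k R S M N q
  mul_smul w w' q := act_mul k R S M N w w' q
  smul_zero w := map_zero _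
  smul_add w q q' := map_add _ q q'
  add_smul w w' q := by
    change GrSeg.act k R S M N (w + w') q = _
    rw [map_add, LinearMap.add_apply]; rfl
  zero_smul q := by
    change GrSeg.act k R S M N 0 q = _
    rw [map_zero, LinearMap.zero_apply]

lemma finite_modW [Module.Finite R M] [Module.Finite S N] :
    @Module.Finite (R ⊗[k] S) (M ⊗[k] N) _ _ (modW k R S M N) := by
  letI := modW k R S M N
  obtain ⟨sM, hsM⟩ := (Module.Finite.fg_top : (⊤ : Submodule R M).FG)
  obtain ⟨sN, hsN⟩ := (Module.Finite.fg_top : (⊤ : Submodule S N).FG)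
  classical
  refine ⟨⟨Finset.image₂ (fun m n => m ⊗ₜ[k] n) sM sN, ?_⟩⟩
  rw [eq_top_iff]
  have hsmul : ∀ (w : R ⊗[k] S) (q : M ⊗[k] N), w • q = GrSeg.act k R S M N w q := fun _ _ => rfl
  have key : ∀ x ∈ Submodule.span R (sM : Set M), ∀ y ∈ Submodule.span S (sN : Set N),
      x ⊗ₜ[k] y ∈ Submodule.span (R ⊗[k] S)
        ((Finset.image₂ (fun m n => m ⊗ₜ[k] n) sM sN : Finset (M ⊗[k] N)) : Set (M ⊗[k] N)) := by
    intro x hx
    induction hx using Submodule.span_induction with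
    | mem x hx =>
      intro y hy
      induction hy using Submodule.span_induction with
      | mem y hy =>
        apply Submodule.subset_span
        rw [Finset.coe_image₂]
        exact ⟨x, hx, y, hy, rfl⟩
      | zero => rw [TensorProduct.tmul_zero]; exact zero_mem _
      | add y y' _ _ hy hy' => rw [TensorProduct.tmul_add]; exact add_mem hy hy'
      | smul c y _ hy =>
        have : x ⊗ₜ[k] (c • y) = ((1 : R) ⊗ₜ[k] c) • (x ⊗ₜ[k] y) := by
          rw [hsmul, GrSeg.act_tmul, one_smul]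
        rw [this]
        exact Submodule.smul_mem _ _ hy
    | zero => intro y _; rw [TensorProduct.zero_tmul]; exact zero_mem _
    | add x x' _ _ hx hx' =>
      intro y hy
      rw [TensorProduct.add_tmul]; exact add_mem (hx y hy) (hx' y hy)
    | smul c x _ hx =>
      intro y hy
      have : (c • x) ⊗ₜ[k] y = (c ⊗ₜ[k] (1 : S)) • (x ⊗ₜ[k] y) := by
        rw [hsmul, GrSeg.act_tmul, one_smul]
      rw [this]
      exact Submodule.smul_mem _ _ (hx y hy)
  intro q hq
  clear hq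
  induction q using TensorProduct.induction_on with
  | zero => exact zero_mem _
  | tmul x y => exact key x (by rw [hsM]; trivial) y (by rw [hsN]; trivial)
  | add x y hx hy => exact add_mem hx hy

end act

section main
open Groth.Agent.H21.Segre

theorem main (k : Type u) [Field k] (R : Type u) [CommRing R] [Algebra k R]
    (𝒜 : ℤ → Submodule k R) [GradedAlgebra 𝒜] [Algebra.FiniteType k R]
    (S : Type u) [CommRing S] [Algebra k S] (ℬ : ℤ → Submodule k S) [GradedAlgebra ℬ]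
    [Algebra.FiniteType k S] (T : Type u) [CommRing T] [Algebra k T] (𝒯 : ℤ → Submodule k T)
    [GradedAlgebra 𝒯] (ψ : T →ₐ[k] TensorProduct k R S) (hT : GrSeg.IsSegreRing 𝒜 ℬ 𝒯 ψ)
    (M : Type u) [AddCommGroup M] [Module R M] [Module k M] [IsScalarTower k R M]
    (ℳ : ℤ → AddSubgroup M) [DirectSum.Decomposition ℳ] [SetLike.GradedSMul 𝒜 ℳ]
    [Module.Finite R M] (N : Type u) [AddCommGroup N] [Module S N] [Module k N]
    [IsScalarTower k S N] (𝒩 : ℤ → AddSubgroup N) [DirectSum.Decomposition 𝒩]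
    [SetLike.GradedSMul ℬ 𝒩] [Module.Finite S N] (P : Type u) [AddCommGroup P] [Module T P]
    [Module k P] [IsScalarTower k T P] (𝒬 : ℤ → AddSubgroup P) [DirectSum.Decomposition 𝒬]
    (φ : P →ₗ[k] TensorProduct k M N) (hP : GrSeg.IsSegreMod ψ ℳ 𝒩 𝒬 φ) : Module.Finite T P := by
  -- k-stability of pieces
  have hkM : ∀ n (c : k) (x : M), x ∈ ℳ n → c • x ∈ ℳ n := by
    intro n c x hx
    rw [← algebraMap_smul R c x]
    have := SetLike.GradedSMul.smul_mem (A := 𝒜) (B := ℳ) (SetLike.algebraMap_mem_graded 𝒜 c) hx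
    simpa using this
  have hkN : ∀ n (c : k) (x : N), x ∈ 𝒩 n → c • x ∈ 𝒩 n := by
    intro n c x hx
    rw [← algebraMap_smul S c x]
    have := SetLike.GradedSMul.smul_mem (A := ℬ) (B := 𝒩) (SetLike.algebraMap_mem_graded ℬ c) hx
    simpa using this
  obtain ⟨ℳ', hℳ'⟩ : ∃ ℳ' : ℤ → Submodule k M, ℳ' = sub ℳ hkM := ⟨_, rfl⟩
  obtain ⟨𝒩', h𝒩'⟩ : ∃ 𝒩' : ℤ → Submodule k N, 𝒩' = sub 𝒩 hkN := ⟨_, rfl⟩
  letI : DirectSum.Decomposition ℳ' := by rw [hℳ']; exact decSub ℳ hkM
  letI : DirectSum.Decomposition 𝒩' := by rw [h𝒩']; exact decSub 𝒩 hkN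
  have memM : ∀ {n : ℤ} {x : M}, x ∈ ℳ' n ↔ x ∈ ℳ n := by intro n x; rw [hℳ']; exact Iff.rfl
  have memN : ∀ {n : ℤ} {x : N}, x ∈ 𝒩' n ↔ x ∈ 𝒩 n := by intro n x; rw [h𝒩']; exact Iff.rfl
  -- compatibility of ρQ with act
  have hgen : ∀ {i j n : ℤ} {a : R} {b : S} {x : M} {y : N}, a ∈ 𝒜 i → b ∈ ℬ j → x ∈ ℳ n → y ∈ 𝒩 n →
      ρQ ℳ' 𝒩' (GrSeg.act k R S M N (a ⊗ₜ[k] b) (x ⊗ₜ[k] y)) =
        GrSeg.act k R S M N (ρ 𝒜 ℬ (a ⊗ₜ[k] b)) (x ⊗ₜ[k] y) := by
    intro i j n a b x y ha hb hx hy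
    have hax : a • x ∈ ℳ' (i + n) := memM.mpr (SetLike.GradedSMul.smul_mem ha hx)
    have hby : b • y ∈ 𝒩' (j + n) := memN.mpr (SetLike.GradedSMul.smul_mem hb hy)
    rw [GrSeg.act_tmul, ρQ_tmul_of_mem ℳ' 𝒩' hax hby, ρ_tmul_of_mem 𝒜 ℬ ha hb]
    by_cases h : i = j
    · subst h
      rw [if_pos rfl, if_pos rfl, GrSeg.act_tmul]
    · rw [if_neg h, if_neg (by omega), map_zero, LinearMap.zero_apply]
  have hcompat1 : ∀ {n : ℤ} {x : M} {y : N}, x ∈ ℳ n → y ∈ 𝒩 n → ∀ w : R ⊗[k] S,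
      ρQ ℳ' 𝒩' (GrSeg.act k R S M N w (x ⊗ₜ[k] y)) =
        GrSeg.act k R S M N (ρ 𝒜 ℬ w) (x ⊗ₜ[k] y) := by
    intro n x y hx hy w
    have hw : w ∈ Submodule.span k (Hom 𝒜 ℬ) := by rw [span_Hom]; trivial
    induction hw using Submodule.span_induction with
    | mem w hw =>
      obtain ⟨i, j, a, ha, b, hb, rfl⟩ := hw
      exact hgen ha hb hx hy
    | zero => simp
    | add w w' _ _ h1 h2 =>
      rw [map_add, LinearMap.add_apply, map_add, h1, h2, map_add, map_add, LinearMap.add_apply]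
    | smul c w _ h1 =>
      rw [map_smul, LinearMap.smul_apply, map_smul, h1, map_smul, map_smul, LinearMap.smul_apply]
  have hcompat : ∀ ℓ ∈ Submodule.span k (DgQ ℳ' 𝒩'), ∀ w : R ⊗[k] S,
      ρQ ℳ' 𝒩' (GrSeg.act k R S M N w ℓ) = GrSeg.act k R S M N (ρ 𝒜 ℬ w) ℓ := by
    intro ℓ hℓ
    induction hℓ using Submodule.span_induction with
    | mem ℓ hℓ =>
      obtain ⟨n, x, hx, y, hy, rfl⟩ := hℓ
      exact hcompat1 (memM.mp hx) (memN.mp hy)
    | zero => intro w; simp
    | add ℓ ℓ' _ _ h1 h2 => intro w; rw [map_add, map_add, h1, h2, map_add]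
    | smul c ℓ _ h1 => intro w; rw [map_smul, map_smul, h1, map_smul]
  -- image of φ lies in the diagonal span
  have hφmem : ∀ p : P, φ p ∈ Submodule.span k (DgQ ℳ' 𝒩') := by
    intro p
    induction p using DirectSum.Decomposition.inductionOn 𝒬 with
    | zero => rw [map_zero]; exact zero_mem _
    | add a a' ha ha' => rw [map_add]; exact add_mem ha ha'
    | @homogeneous n p =>
      have : φ (p : P) ∈ φ '' (𝒬 n : Set P) := ⟨p, p.2, rfl⟩
      rw [hP.image_piece] at this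
      refine Submodule.span_mono ?_ this
      rintro _ ⟨a, ha, b, hb, rfl⟩
      exact ⟨n, a, memM.mpr ha, b, memN.mpr hb, rfl⟩
  -- ρ lands in the image of ψ
  have hρψ : ∀ w : R ⊗[k] S, ∃ t : T, ψ t = ρ 𝒜 ℬ w := by
    intro w
    have hw := ρ_mem 𝒜 ℬ w
    obtain ⟨z, hz⟩ : ∃ z, z = ρ 𝒜 ℬ w := ⟨_, rfl⟩
    rw [← hz] at hw ⊢
    clear hz
    induction hw using Submodule.span_induction with
    | mem x hx =>
      obtain ⟨n, a, ha, b, hb, rfl⟩ := hx
      have : a ⊗ₜ[k] b ∈ (𝒯 n).map ψ.toLinearMap := by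
        rw [hT.2]
        exact Submodule.subset_span ⟨a, ha, b, hb, rfl⟩
      obtain ⟨t, _, ht⟩ := this
      exact ⟨t, ht⟩
    | zero => exact ⟨0, map_zero _⟩
    | add x y _ _ hx hy =>
      obtain ⟨x', hx'⟩ := hx
      obtain ⟨y', hy'⟩ := hy
      exact ⟨x' + y', by rw [map_add, hx', hy']⟩
    | smul c x _ hx =>
      obtain ⟨x', hx'⟩ := hx
      exact ⟨c • x', by rw [map_smul, hx']⟩
  -- Noetherianity
  letI := modW k R S M N
  haveI : Module.Finite (R ⊗[k] S) (M ⊗[k] N) := finite_modW k R S M N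
  haveI : Algebra.FiniteType k (R ⊗[k] S) :=
    Algebra.FiniteType.trans (inferInstance : Algebra.FiniteType k R)
      (inferInstance : Algebra.FiniteType R (R ⊗[k] S))
  haveI : IsNoetherianRing (R ⊗[k] S) := Algebra.FiniteType.isNoetherianRing k _
  haveI : IsNoetherian (R ⊗[k] S) (M ⊗[k] N) := isNoetherian_of_isNoetherianRing_of_finite _ _
  have hsmul : ∀ (w : R ⊗[k] S) (q : M ⊗[k] N), w • q = GrSeg.act k R S M N w q := fun _ _ => rfl
  have hfg : (Submodule.span (R ⊗[k] S) (Set.range φ)).FG := IsNoetherian.noetherian _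
  obtain ⟨s', hs's, hs'⟩ := (Submodule.fg_span_iff_fg_span_finset_subset _).mp hfg
  classical
  refine ⟨⟨s'.image (Function.invFun φ), ?_⟩⟩
  rw [eq_top_iff]
  intro p _
  have hp : φ p ∈ Submodule.span (R ⊗[k] S) (s' : Set (M ⊗[k] N)) := by
    rw [← hs']
    exact Submodule.subset_span ⟨p, rfl⟩
  obtain ⟨f, -, hf⟩ := Submodule.mem_span_finset.mp hp
  choose t ht using hρψ
  have e1 : φ p = ρQ ℳ' 𝒩' (φ p) := (ρQ_eq_self ℳ' 𝒩' (hφmem p)).symm
  have e2 : ρQ ℳ' 𝒩' (φ p) = ∑ a ∈ s', φ (t (f a) • Function.invFun φ a) := by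
    rw [← hf, map_sum]
    apply Finset.sum_congr rfl
    intro a ha
    obtain ⟨pa, hpa⟩ := hs's ha
    have hinv : φ (Function.invFun φ a) = a := Function.invFun_eq ⟨pa, hpa⟩
    rw [hsmul, hcompat a (by rw [← hpa]; exact hφmem pa), hP.map_smul, ht, hinv]
  have e3 : p = ∑ a ∈ s', t (f a) • Function.invFun φ a := by
    apply hP.injective
    rw [map_sum, ← e2, ← e1]
  rw [e3]
  apply Submodule.sum_mem
  intro a ha
  apply Submodule.smul_mem
  apply Submodule.subset_span
  rw [Finset.coe_image]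
  exact ⟨a, ha, rfl⟩

end main

end Groth.Agent.H21.SegreMod
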