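import Mathlib

set_option autoImplicit false
universe u

namespace Groth.Agent.H21.VeroG
open DirectSum

section
variable {R : Type u} [CommRing R] {σ : Type*} [SetLike σ R] [AddSubgroupClass σ R]
  (𝒜 : ℤ → σ) [GradedRing 𝒜]

def prodSet (d e : ℤ) : Set R := {x | ∃ u ∈ 𝒜 d, ∃ v ∈ 𝒜 e, x = u * v}

lemma step1_aux (z : R) (hz : z ∈ Ideal.span ((𝒜 1 : σ) : Set R)) :
    ∀ m : ℤ, (decompose 𝒜 z (m + 1) : R) ∈ AddSubgroup.closure (prodSet 𝒜 1 m) := by
  induction hz using Submodule.closure_induction with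
  | zero => intro m; rw [decompose_zero, DirectSum.zero_apply, ZeroMemClass.coe_zero]; exact zero_mem _
  | add x y _ _ hx hy =>
    intro m
    rw [decompose_add, DirectSum.add_apply, AddMemClass.coe_add]
    exact add_mem (hx m) (hy m)
  | smul_mem r y hy =>
    intro m
    rw [smul_eq_mul, coe_decompose_mul_add_of_right_mem 𝒜 hy]
    apply AddSubgroup.subset_closure
    exact ⟨y, hy, _, SetLike.coe_mem _, mul_comm _ _⟩

variable (hstd : Ideal.span (⋃ n ∈ Set.Ioi (0 : ℤ), (𝒜 n : Set R)) =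
  Ideal.span ((𝒜 1 : σ) : Set R))
include hstd

lemma step1 (n : ℤ) (hn : 1 ≤ n) : ∀ x ∈ 𝒜 n, x ∈ AddSubgroup.closure (prodSet 𝒜 1 (n - 1)) := by
  intro x hx
  have h1 : x ∈ Ideal.span ((𝒜 1 : σ) : Set R) := by
    rw [← hstd]
    apply Ideal.subset_span
    simp only [Set.mem_Ioi, Set.mem_iUnion, SetLike.mem_coe, exists_prop]
    exact ⟨n, by omega, hx⟩
  have h2 := step1_aux 𝒜 x h1 (n - 1)
  rw [sub_add_cancel, decompose_of_mem_same 𝒜 hx] at h2
  exact h2

omit hstd in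
lemma mul_closure {y : R} (hy : y ∈ 𝒜 1) (d e : ℤ) :
    ∀ w ∈ AddSubgroup.closure (prodSet 𝒜 d e), y * w ∈ AddSubgroup.closure (prodSet 𝒜 (1 + d) e) := by
  intro w hw
  induction hw using AddSubgroup.closure_induction with
  | mem z' hz' =>
    obtain ⟨u, hu, v, hv, rfl⟩ := hz'
    apply AddSubgroup.subset_closure
    exact ⟨y * u, SetLike.mul_mem_graded hy hu, v, hv, (mul_assoc _ _ _).symm⟩
  | zero => rw [mul_zero]; exact zero_mem _
  | add a b _ _ ha hb => rw [mul_add]; exact add_mem ha hb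
  | neg a _ ha => rw [mul_neg]; exact neg_mem ha

omit hstd in
lemma closure_step (d e : ℤ) (ih : ∀ x ∈ 𝒜 (d + e), x ∈ AddSubgroup.closure (prodSet 𝒜 d e)) :
    ∀ z ∈ AddSubgroup.closure (prodSet 𝒜 1 (d + e)),
      z ∈ AddSubgroup.closure (prodSet 𝒜 (1 + d) e) := by
  intro z hz
  induction hz using AddSubgroup.closure_induction with
  | mem z hz =>
    obtain ⟨y, hy, w, hw, rfl⟩ := hz
    exact mul_closure 𝒜 hy d e w (ih w hw)
  | zero => exact zero_mem _
  | add a b _ _ ha hb => exact add_mem ha hb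
  | neg a _ ha => exact neg_mem ha

lemma step2 (d : ℕ) (e : ℤ) (he : 0 ≤ e) :
    ∀ x ∈ 𝒜 ((d : ℤ) + e), x ∈ AddSubgroup.closure (prodSet 𝒜 d e) := by
  induction d with
  | zero =>
    intro x hx
    apply AddSubgroup.subset_closure
    refine ⟨1, ?_, x, ?_, (one_mul x).symm⟩
    · simpa using SetLike.one_mem_graded 𝒜
    · simpa using hx
  | succ d ih =>
    intro x hx
    have h1 := step1 𝒜 hstd ((d + 1 : ℕ) + e) (by push_cast; omega) x hx
    have e1 : ((d + 1 : ℕ) : ℤ) + e - 1 = (d : ℤ) + e := by push_cast; ring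
    rw [e1] at h1
    have e2 : ((d + 1 : ℕ) : ℤ) = 1 + d := by push_cast; ring
    rw [e2]
    exact closure_step 𝒜 d e ih x h1

end

end Groth.Agent.H21.VeroG
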