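import Mathlib
import Groth.Prelude.Def_GrSeg
import Groth.Agent.H21.VeroG

set_option autoImplicit false
universe u

namespace Groth.Agent.H21.SegreShift
open TensorProduct DirectSum

section
variable {k : Type u} [Field k] {R : Type u} [CommRing R] [Algebra k R]
  (𝒜 : ℤ → Submodule k R) [GradedAlgebra 𝒜]
  {S : Type u} [CommRing S] [Algebra k S] (ℬ : ℤ → Submodule k S) [GradedAlgebra ℬ]
  (a b : ℤ)

/-- `act` respects the pieces. -/
lemma act_mem_piece (n m : ℤ) :
    ∀ w ∈ GrSeg.segrePiece k 𝒜 ℬ n,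
    ∀ q ∈ GrSeg.segrePiece k (fun n : ℤ => 𝒜 (n + a)) (fun n : ℤ => ℬ (n + b)) m,
      GrSeg.act k R S R S w q ∈
        GrSeg.segrePiece k (fun n : ℤ => 𝒜 (n + a)) (fun n : ℤ => ℬ (n + b)) (n + m) := by
  intro w hw
  refine Submodule.span_induction ?_ ?_ ?_ ?_ hw
  · rintro _ ⟨u, hu, v, hv, rfl⟩ q hq
    refine Submodule.span_induction ?_ ?_ ?_ ?_ hq
    · rintro _ ⟨x, hx, y, hy, rfl⟩
      rw [GrSeg.act_tmul]
      apply Submodule.subset_span
      refine ⟨u • x, ?_, v • y, ?_, rfl⟩
      · change u * x ∈ 𝒜 (n + m + a)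
        rw [add_assoc]
        exact SetLike.mul_mem_graded hu hx
      · change v * y ∈ ℬ (n + m + b)
        rw [add_assoc]
        exact SetLike.mul_mem_graded hv hy
    · rw [map_zero]; exact zero_mem _
    · intro q q' _ _ h1 h2; rw [map_add]; exact add_mem h1 h2
    · intro c q _ h1; rw [map_smul]; exact Submodule.smul_mem _ _ h1
  · intro q _; rw [map_zero, LinearMap.zero_apply]; exact zero_mem _
  · intro w w' _ _ h1 h2 q hq
    rw [map_add, LinearMap.add_apply]; exact add_mem (h1 q hq) (h2 q hq)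
  · intro c w _ h1 q hq
    rw [map_smul, LinearMap.smul_apply]; exact Submodule.smul_mem _ _ (h1 q hq)

end

theorem main (k : Type u) [Field k] (R : Type u) [CommRing R] [Algebra k R]
    (𝒜 : ℤ → Submodule k R) [GradedAlgebra 𝒜] (h0R : 𝒜 0 = Submodule.span k {(1 : R)})
    (S : Type u) [CommRing S] [Algebra k S] (ℬ : ℤ → Submodule k S) [GradedAlgebra ℬ]
    (hposS : ∀ n : ℤ, n < 0 → ℬ n = ⊥) (h0S : ℬ 0 = Submodule.span k {(1 : S)})
    (T : Type u) [CommRing T] [Algebra k T] (𝒯 : ℤ → Submodule k T) [GradedAlgebra 𝒯]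
    (ψ : T →ₐ[k] TensorProduct k R S) (hT : GrSeg.IsSegreRing 𝒜 ℬ 𝒯 ψ)
    (hstdR : Ideal.span (⋃ n ∈ Set.Ioi (0 : ℤ), (𝒜 n : Set R)) =
      Ideal.span ((𝒜 1 : Submodule k R) : Set R))
    (hs1 : 1 ≤ ringKrullDim S) (mT : HomogeneousIdeal 𝒯)
    (hmT : mT.toIdeal = Ideal.span (⋃ n ∈ Set.Ioi (0 : ℤ), (𝒯 n : Set T))) (a b : ℤ) (hab : b ≤ a)
    (P : Type u) [AddCommGroup P] [Module T P] [Module k P] [IsScalarTower k T P]
    (𝒬 : ℤ → AddSubgroup P) [DirectSum.Decomposition 𝒬] (φ : P →ₗ[k] TensorProduct k R S)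
    (hP : GrSeg.IsSegreMod ψ (fun n : ℤ => 𝒜 (n + a)) (fun n : ℤ => ℬ (n + b)) 𝒬 φ) :
    Module.finrank k (P ⧸ (mT.toIdeal • (⊤ : Submodule T P))) = Module.finrank k (𝒜 (a - b)) := by
  obtain ⟨hψinj, hψimg⟩ := hT
  obtain ⟨N, hN⟩ : ∃ N : Submodule T P, N = mT.toIdeal • (⊤ : Submodule T P) := ⟨_, rfl⟩
  rw [← hN]
  -- membership in pieces via φ
  have hmemQ : ∀ {m : ℤ} {p : P}, p ∈ 𝒬 m ↔
      φ p ∈ GrSeg.segrePiece k (fun n : ℤ => 𝒜 (n + a)) (fun n : ℤ => ℬ (n + b)) m := by
    intro m p
    constructor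
    · intro hp
      have : φ p ∈ φ '' (𝒬 m : Set P) := ⟨p, hp, rfl⟩
      rw [hP.image_piece] at this
      exact this
    · intro hp
      have : φ p ∈ φ '' (𝒬 m : Set P) := by rw [hP.image_piece]; exact hp
      obtain ⟨p', hp', e⟩ := this
      rw [← hP.injective e]; exact hp'
  have hmemT : ∀ {n : ℤ} {t : T}, t ∈ 𝒯 n → ψ t ∈ GrSeg.segrePiece k 𝒜 ℬ n := by
    intro n t ht
    rw [← hψimg]
    exact ⟨t, ht, rfl⟩
  -- L1 : graded action
  have L1 : ∀ {n m : ℤ} {t : T} {p : P}, t ∈ 𝒯 n → p ∈ 𝒬 m → t • p ∈ 𝒬 (n + m) := by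
    intro n m t p ht hp
    rw [hmemQ, hP.map_smul]
    exact act_mem_piece 𝒜 ℬ a b n m _ (hmemT ht) _ (hmemQ.mp hp)
  -- L2 : vanishing below -b
  have L2 : ∀ {m : ℤ} {p : P}, m + b < 0 → p ∈ 𝒬 m → p = 0 := by
    intro m p hm hp
    apply hP.injective
    rw [map_zero]
    have h1 := hmemQ.mp hp
    have h2 : GrSeg.segrePiece k (fun n : ℤ => 𝒜 (n + a)) (fun n : ℤ => ℬ (n + b)) m = ⊥ := by
      rw [eq_bot_iff]
      apply Submodule.span_le.mpr
      rintro _ ⟨x, _, y, hy, rfl⟩
      have hy' : y ∈ ℬ (m + b) := hy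
      rw [hposS _ hm, Submodule.mem_bot] at hy'
      rw [hy', TensorProduct.tmul_zero]
      exact Submodule.zero_mem _
    rw [h2, Submodule.mem_bot] at h1
    exact h1
  -- component at -b
  have hc0 : ∀ {n : ℤ} {t : T}, 0 < n → t ∈ 𝒯 n → ∀ p : P,
      (DirectSum.decompose 𝒬 (t • p) (-b) : P) = 0 := by
    intro n t hn ht p
    induction p using DirectSum.Decomposition.inductionOn 𝒬 with
    | zero => simp
    | add x y hx hy =>
      rw [smul_add, DirectSum.decompose_add, DirectSum.add_apply, AddMemClass.coe_add, hx, hy,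
        add_zero]
    | @homogeneous m p =>
      by_cases hm : n + m = -b
      · have : (p : P) = 0 := L2 (by omega) p.2
        rw [this, smul_zero, DirectSum.decompose_zero, DirectSum.zero_apply, ZeroMemClass.coe_zero]
      · exact DirectSum.decompose_of_mem_ne 𝒬 (L1 ht p.2) hm
  have hcN : ∀ p ∈ N, (DirectSum.decompose 𝒬 p (-b) : P) = 0 := by
    intro p hp
    rw [hN] at hp
    refine Submodule.smul_induction_on hp ?_ ?_
    · intro r hr p' _
      rw [hmT] at hr
      have key : ∀ r ∈ Ideal.span (⋃ n ∈ Set.Ioi (0 : ℤ), (𝒯 n : Set T)), ∀ p' : P,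
          (DirectSum.decompose 𝒬 (r • p') (-b) : P) = 0 := by
        intro r hr
        refine Submodule.span_induction ?_ ?_ ?_ ?_ hr
        · intro t ht
          simp only [Set.mem_Ioi, Set.mem_iUnion, SetLike.mem_coe, exists_prop] at ht
          obtain ⟨n, hn, ht⟩ := ht
          exact hc0 hn ht
        · intro p'; simp
        · intro x y _ _ hx hy p'
          rw [add_smul, DirectSum.decompose_add, DirectSum.add_apply, AddMemClass.coe_add, hx, hy,
            add_zero]
        · intro c x _ hx p'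
          rw [smul_eq_mul, mul_comm, mul_smul]
          exact hx _
      exact key r hr p'
    · intro x y hx hy
      rw [DirectSum.decompose_add, DirectSum.add_apply, AddMemClass.coe_add, hx, hy, add_zero]
  -- L3 : pieces above -b lie in N
  have hTN : ∀ {n : ℤ} {t : T}, 0 < n → t ∈ 𝒯 n → ∀ p : P, t • p ∈ N := by
    intro n t hn ht p
    rw [hN]
    apply Submodule.smul_mem_smul _ Submodule.mem_top
    rw [hmT]
    apply Ideal.subset_span
    simp only [Set.mem_Ioi, Set.mem_iUnion, SetLike.mem_coe, exists_prop]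
    exact ⟨n, hn, ht⟩
  have hkN : ∀ (c : k) (p : P), p ∈ N → c • p ∈ N := by
    intro c p hp
    rw [← algebraMap_smul T c p]
    exact N.smul_mem _ hp
  have L3 : ∀ {n : ℤ} {p : P}, 0 < n + b → p ∈ 𝒬 n → p ∈ N := by
    intro n p hn hp
    have h1 := hmemQ.mp hp
    -- the k-subspace φ(N)
    have key : ∀ z ∈ GrSeg.segrePiece k (fun n : ℤ => 𝒜 (n + a)) (fun n : ℤ => ℬ (n + b)) n,
        ∃ p' ∈ N, φ p' = z := by
      intro z hz
      refine Submodule.span_induction ?_ ?_ ?_ ?_ hz
      · rintro _ ⟨x, hx, y, hy, rfl⟩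
        have hx' : x ∈ 𝒜 (((n + b).toNat : ℤ) + (a - b)) := by
          have : ((n + b).toNat : ℤ) + (a - b) = n + a := by
            rw [Int.toNat_of_nonneg (by omega)]; ring
          rw [this]; exact hx
        have h2 := VeroG.step2 𝒜 hstdR (n + b).toNat (a - b) (by omega) x hx'
        have e1 : ((n + b).toNat : ℤ) = n + b := Int.toNat_of_nonneg (by omega)
        rw [e1] at h2
        -- induct over the closure
        have key2 : ∀ x' ∈ AddSubgroup.closure (VeroG.prodSet 𝒜 (n + b) (a - b)),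
            ∃ p' ∈ N, φ p' = x' ⊗ₜ[k] y := by
          intro x' hx'
          induction hx' using AddSubgroup.closure_induction with
          | mem x' hx' =>
            obtain ⟨u, hu, v, hv, rfl⟩ := hx'
            have hy' : y ∈ ℬ (n + b) := hy
            have huy : u ⊗ₜ[k] y ∈ GrSeg.segrePiece k 𝒜 ℬ (n + b) :=
              Submodule.subset_span ⟨u, hu, y, hy', rfl⟩
            rw [← hψimg] at huy
            obtain ⟨t, ht, htu⟩ := huy
            have hv1 : v ⊗ₜ[k] (1 : S) ∈
                GrSeg.segrePiece k (fun n : ℤ => 𝒜 (n + a)) (fun n : ℤ => ℬ (n + b)) (-b) := by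
              apply Submodule.subset_span
              refine ⟨v, ?_, 1, ?_, rfl⟩
              · change v ∈ 𝒜 (-b + a)
                have : -b + a = a - b := by ring
                rw [this]; exact hv
              · change (1 : S) ∈ ℬ (-b + b)
                have : -b + b = 0 := by ring
                rw [this]; exact SetLike.one_mem_graded ℬ
            have : v ⊗ₜ[k] (1 : S) ∈ φ '' (𝒬 (-b) : Set P) := by
              rw [hP.image_piece]; exact hv1
            obtain ⟨p0, _, hp0⟩ := this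
            refine ⟨t • p0, hTN hn ht p0, ?_⟩
            rw [hP.map_smul, hp0]
            have htu' : ψ t = u ⊗ₜ[k] y := htu
            rw [htu', GrSeg.act_tmul, smul_eq_mul, smul_eq_mul, mul_one]
          | zero => exact ⟨0, N.zero_mem, by rw [map_zero, TensorProduct.zero_tmul]⟩
          | add x1 x2 _ _ h1 h2 =>
            obtain ⟨p1, hp1, e1⟩ := h1
            obtain ⟨p2, hp2, e2⟩ := h2
            exact ⟨p1 + p2, N.add_mem hp1 hp2, by rw [map_add, e1, e2, TensorProduct.add_tmul]⟩
          | neg x1 _ h1 =>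
            obtain ⟨p1, hp1, e1⟩ := h1
            exact ⟨-p1, N.neg_mem hp1, by rw [map_neg, e1, TensorProduct.neg_tmul]⟩
        exact key2 x h2
      · exact ⟨0, N.zero_mem, map_zero _⟩
      · intro z z' _ _ h1 h2
        obtain ⟨p1, hp1, e1⟩ := h1
        obtain ⟨p2, hp2, e2⟩ := h2
        exact ⟨p1 + p2, N.add_mem hp1 hp2, by rw [map_add, e1, e2]⟩
      · intro c z _ h1
        obtain ⟨p1, hp1, e1⟩ := h1
        exact ⟨c • p1, hkN c p1 hp1, by rw [map_smul, e1]⟩
    obtain ⟨p', hp', e⟩ := key _ h1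
    rw [← hP.injective e]; exact hp'
  -- the map g
  haveI : Nontrivial S := by
    by_contra h
    rw [not_nontrivial_iff_subsingleton] at h
    have : ringKrullDim S = ⊥ := ringKrullDim_eq_bot_of_subsingleton
    rw [this] at hs1
    simp at hs1
  have hinjL : Function.Injective (fun x : R => x ⊗ₜ[k] (1 : S)) :=
    Algebra.TensorProduct.includeLeft_injective (S := k) (algebraMap k S).injective
  have hrange : ∀ x : 𝒜 (a - b), ((TensorProduct.mk k R S).flip 1 ∘ₗ (𝒜 (a - b)).subtype) x ∈
      LinearMap.range φ := by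
    intro x
    have hv1 : (x : R) ⊗ₜ[k] (1 : S) ∈
        GrSeg.segrePiece k (fun n : ℤ => 𝒜 (n + a)) (fun n : ℤ => ℬ (n + b)) (-b) := by
      apply Submodule.subset_span
      refine ⟨x, ?_, 1, ?_, rfl⟩
      · change (x : R) ∈ 𝒜 (-b + a)
        have : -b + a = a - b := by ring
        rw [this]; exact x.2
      · change (1 : S) ∈ ℬ (-b + b)
        have : -b + b = 0 := by ring
        rw [this]; exact SetLike.one_mem_graded ℬ
    have : (x : R) ⊗ₜ[k] (1 : S) ∈ φ '' (𝒬 (-b) : Set P) := by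
      rw [hP.image_piece]; exact hv1
    obtain ⟨p0, _, hp0⟩ := this
    exact ⟨p0, hp0⟩
  let g0 : 𝒜 (a - b) →ₗ[k] P :=
    (LinearEquiv.ofInjective φ hP.injective).symm.toLinearMap ∘ₗ
      LinearMap.codRestrict (LinearMap.range φ)
        ((TensorProduct.mk k R S).flip 1 ∘ₗ (𝒜 (a - b)).subtype) hrange
  have hg0 : ∀ x : 𝒜 (a - b), φ (g0 x) = (x : R) ⊗ₜ[k] (1 : S) := by
    intro x
    have := (LinearEquiv.ofInjective φ hP.injective).apply_symm_apply
      (LinearMap.codRestrict (LinearMap.range φ)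
        ((TensorProduct.mk k R S).flip 1 ∘ₗ (𝒜 (a - b)).subtype) hrange x)
    have h2 := congrArg Subtype.val this
    exact h2
  have hg0mem : ∀ x : 𝒜 (a - b), g0 x ∈ 𝒬 (-b) := by
    intro x
    rw [hmemQ, hg0]
    apply Submodule.subset_span
    refine ⟨x, ?_, 1, ?_, rfl⟩
    · change (x : R) ∈ 𝒜 (-b + a)
      have : -b + a = a - b := by ring
      rw [this]; exact x.2
    · change (1 : S) ∈ ℬ (-b + b)
      have : -b + b = 0 := by ring
      rw [this]; exact SetLike.one_mem_graded ℬ
  let g : 𝒜 (a - b) →ₗ[k] P ⧸ N := (N.mkQ.restrictScalars k) ∘ₗ g0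
  have hginj : Function.Injective g := by
    rw [← LinearMap.ker_eq_bot, eq_bot_iff]
    intro x hx
    rw [LinearMap.mem_ker] at hx
    have h1 : g0 x ∈ N := (Submodule.Quotient.mk_eq_zero N).mp hx
    have h2 := hcN _ h1
    rw [DirectSum.decompose_of_mem_same 𝒬 (hg0mem x)] at h2
    have h3 : (x : R) ⊗ₜ[k] (1 : S) = 0 := by rw [← hg0, h2, map_zero]
    have h4 : (x : R) = 0 := hinjL (by simpa using h3)
    rw [Submodule.mem_bot]
    exact Subtype.ext h4
  have hgsurj : Function.Surjective g := by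
    intro q
    obtain ⟨p, rfl⟩ := Submodule.Quotient.mk_surjective N q
    -- every p is congruent to an element of the image of g0
    have key : ∀ p : P, ∃ x : 𝒜 (a - b), p - g0 x ∈ N := by
      intro p
      induction p using DirectSum.Decomposition.inductionOn 𝒬 with
      | zero => exact ⟨0, by simp⟩
      | add p1 p2 h1 h2 =>
        obtain ⟨x1, hx1⟩ := h1
        obtain ⟨x2, hx2⟩ := h2
        refine ⟨x1 + x2, ?_⟩
        have : p1 + p2 - g0 (x1 + x2) = (p1 - g0 x1) + (p2 - g0 x2) := by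
          rw [map_add]; abel
        rw [this]; exact N.add_mem hx1 hx2
      | @homogeneous m p =>
        rcases lt_trichotomy (m + b) 0 with hm | hm | hm
        · refine ⟨0, ?_⟩
          rw [L2 hm p.2]; simp
        · -- m = -b
          have hm' : m = -b := by omega
          obtain ⟨p, hp⟩ := p
          subst hm'
          have h1 := hmemQ.mp hp
          have key3 : ∀ z ∈ GrSeg.segrePiece k (fun n : ℤ => 𝒜 (n + a))
              (fun n : ℤ => ℬ (n + b)) (-b), ∃ x : 𝒜 (a - b), z = (x : R) ⊗ₜ[k] (1 : S) := by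
            intro z hz
            refine Submodule.span_induction ?_ ?_ ?_ ?_ hz
            · rintro _ ⟨x, hx, y, hy, rfl⟩
              have hx' : x ∈ 𝒜 (a - b) := by
                have : -b + a = a - b := by ring
                rw [← this]; exact hx
              have hy' : y ∈ ℬ 0 := by
                have : -b + b = 0 := by ring
                rw [← this]; exact hy
              rw [h0S, Submodule.mem_span_singleton] at hy'
              obtain ⟨c, rfl⟩ := hy'
              refine ⟨⟨c • x, Submodule.smul_mem _ _ hx'⟩, ?_⟩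
              rw [TensorProduct.tmul_smul, TensorProduct.smul_tmul']
            · exact ⟨0, by simp⟩
            · rintro z z' _ _ ⟨x1, rfl⟩ ⟨x2, rfl⟩
              exact ⟨x1 + x2, by rw [Submodule.coe_add, TensorProduct.add_tmul]⟩
            · rintro c z _ ⟨x1, rfl⟩
              exact ⟨c • x1, by rw [Submodule.coe_smul, TensorProduct.smul_tmul']⟩
          obtain ⟨x, hx⟩ := key3 _ h1
          refine ⟨x, ?_⟩
          have hpx : p = g0 x := hP.injective (by rw [hx, hg0])
          have h0 : p - g0 x = 0 := by rw [hpx, sub_self]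
          show p - g0 x ∈ N
          rw [h0]; exact N.zero_mem
        · refine ⟨0, ?_⟩
          rw [map_zero, sub_zero]
          exact L3 hm p.2
    obtain ⟨x, hx⟩ := key p
    refine ⟨x, ?_⟩
    change Submodule.Quotient.mk (g0 x) = Submodule.Quotient.mk p
    rw [Submodule.Quotient.eq]
    have : g0 x - p = -(p - g0 x) := by abel
    rw [this]; exact N.neg_mem hx
  exact (LinearEquiv.ofBijective g ⟨hginj, hgsurj⟩).finrank_eq.symm

end Groth.Agent.H21.SegreShift
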