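import Mathlib

set_option autoImplicit false

open Function

namespace H21.SemiFitting

section artinian

variable {R : Type*} [CommRing R] [IsDomain R] [IsNoetherianRing R] [Ring.KrullDimLE 1 R]
  {M : Type*} [AddCommGroup M] [Module R M]

/-- a f.g. torsion module over a one-dimensional noetherian domain is artinian -/
theorem isArtinian_of_torsion [Module.Finite R M] (hM : Module.IsTorsion R M) : IsArtinian R M := by
  obtain ⟨x, hx⟩ := Submodule.annihilator_top_inter_nonZeroDivisors hM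
  have hx1 : ∀ m : M, x • m = 0 := fun m =>
    (Submodule.mem_annihilator.mp hx.1) m Submodule.mem_top
  have hx2 : x ∈ nonZeroDivisors R := hx.2
  have hfl : IsFiniteLength R (R ⧸ Ideal.span {x}) := isFiniteLength_quotient_span_singleton (R := R) hx2
  have hart : IsArtinian R (R ⧸ Ideal.span {x}) :=
    (isFiniteLength_iff_isNoetherian_isArtinian.mp hfl).2
  obtain ⟨n, f, hf⟩ := Module.Finite.exists_fin' R M
  -- each cyclic submodule is artinian
  have hcyc : ∀ m : M, IsArtinian R (Submodule.span R {m}) := by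
    intro m
    have hle : Ideal.span {x} ≤ LinearMap.ker (LinearMap.toSpanSingleton R M m) := by
      rw [Ideal.span_le, Set.singleton_subset_iff]
      show LinearMap.toSpanSingleton R M m x = 0
      rw [LinearMap.toSpanSingleton_apply]
      exact hx1 m
    let g : (R ⧸ Ideal.span {x}) →ₗ[R] M := Submodule.liftQ _ (LinearMap.toSpanSingleton R M m) hle
    have hr : LinearMap.range g = Submodule.span R {m} := by
      rw [Submodule.range_liftQ, LinearMap.range_toSpanSingleton]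
    rw [← hr]
    infer_instance
  have hfin : ∀ s : Finset M, IsArtinian R (Submodule.span R (s : Set M)) := by
    intro s
    classical
    induction s using Finset.induction_on with
    | empty =>
      rw [Finset.coe_empty, Submodule.span_empty]
      infer_instance
    | insert a s _ ih =>
      rw [Finset.coe_insert, Submodule.span_insert]
      haveI := hcyc a
      haveI := ih
      infer_instance
  obtain ⟨s, hs⟩ := (Module.finite_def.mp (inferInstance : Module.Finite R M))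
  have h1 : IsArtinian R (⊤ : Submodule R M) := hs ▸ hfin s
  exact isArtinian_of_linearEquiv (Submodule.topEquiv (R := R) (M := M))

end artinian

section fitting

variable {R : Type*} [CommRing R] (τ : R ≃+* R) {M : Type*} [AddCommGroup M] [Module R M]
  (φ : M →ₛₗ[(τ : R →+* R)] M)

lemma iter_smul (n : ℕ) (a : R) (x : M) : (⇑φ)^[n] (a • x) = ((⇑τ)^[n] a) • (⇑φ)^[n] x := by
  induction n generalizing a x with
  | zero => rfl
  | succ n ih =>
    rw [iterate_succ_apply, iterate_succ_apply, iterate_succ_apply, map_smulₛₗ, ih]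
    rfl

lemma iter_add (n : ℕ) (x y : M) : (⇑φ)^[n] (x + y) = (⇑φ)^[n] x + (⇑φ)^[n] y :=
  iterate_map_add φ n x y

lemma iter_zero (n : ℕ) : (⇑φ)^[n] (0 : M) = 0 := iterate_map_zero φ n

lemma iter_sub (n : ℕ) (x y : M) : (⇑φ)^[n] (x - y) = (⇑φ)^[n] x - (⇑φ)^[n] y :=
  iterate_map_sub φ n x y

/-- kernel of the `n`-th iterate -/
def K (n : ℕ) : Submodule R M where
  carrier := {x | (⇑φ)^[n] x = 0}
  add_mem' {x y} hx hy := by
    show (⇑φ)^[n] (x + y) = 0
    rw [iter_add, show (⇑φ)^[n] x = 0 from hx, show (⇑φ)^[n] y = 0 from hy, add_zero]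
  zero_mem' := iter_zero τ φ n
  smul_mem' a x hx := by
    show (⇑φ)^[n] (a • x) = 0
    rw [iter_smul, show (⇑φ)^[n] x = 0 from hx, smul_zero]

/-- image of the `n`-th iterate -/
def I (n : ℕ) : Submodule R M where
  carrier := Set.range (⇑φ)^[n]
  add_mem' {x y} hx hy := by
    obtain ⟨x', rfl⟩ := hx
    obtain ⟨y', rfl⟩ := hy
    exact ⟨x' + y', iter_add τ φ n x' y'⟩
  zero_mem' := ⟨0, iter_zero τ φ n⟩
  smul_mem' a x hx := by
    obtain ⟨x', rfl⟩ := hx
    refine ⟨((⇑τ.symm)^[n] a) • x', ?_⟩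
    rw [iter_smul]
    congr 1
    exact (Function.LeftInverse.iterate (g := ⇑τ) (f := ⇑τ.symm) τ.apply_symm_apply n) a

lemma mem_K (n : ℕ) (x : M) : x ∈ K τ φ n ↔ (⇑φ)^[n] x = 0 := Iff.rfl

lemma mem_I (n : ℕ) (x : M) : x ∈ I τ φ n ↔ ∃ y, (⇑φ)^[n] y = x := Iff.rfl

lemma K_mono : Monotone (K τ φ) := by
  refine monotone_nat_of_le_succ (fun n x hx => ?_)
  rw [mem_K] at hx ⊢
  rw [iterate_succ_apply', hx, map_zero]

lemma I_anti : Antitone (I τ φ) := by
  refine antitone_nat_of_succ_le (fun n x hx => ?_)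
  rw [mem_I] at hx ⊢
  obtain ⟨y, rfl⟩ := hx
  exact ⟨φ y, (iterate_succ_apply _ _ _).symm⟩

theorem fitting [IsNoetherian R M] [IsArtinian R M] :
    ∃ Ms Mn : Submodule R M, IsCompl Ms Mn ∧
      Set.MapsTo φ Ms Ms ∧ Set.MapsTo φ Mn Mn ∧ Set.BijOn φ Ms Ms ∧
      ∃ r : ℕ, ∀ x ∈ Mn, (⇑φ)^[r] x = 0 := by
  obtain ⟨n1, h1⟩ := monotone_stabilizes_iff_noetherian.mpr (inferInstance : IsNoetherian R M)
    ⟨K τ φ, K_mono τ φ⟩
  obtain ⟨n2, h2⟩ := IsArtinian.monotone_stabilizes (R := R) (M := M)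
    ⟨fun n => OrderDual.toDual (I τ φ n), fun a b hab => I_anti τ φ hab⟩
  obtain ⟨n, hn⟩ : ∃ n, n = max n1 n2 := ⟨_, rfl⟩
  have hK : ∀ m, n ≤ m → K τ φ n = K τ φ m := by
    intro m hm
    have e1 : K τ φ n1 = K τ φ n := h1 n (hn ▸ le_max_left _ _)
    have e2 : K τ φ n1 = K τ φ m := h1 m (le_trans (hn ▸ le_max_left _ _) hm)
    rw [← e1, ← e2]
  have hI : ∀ m, n ≤ m → I τ φ n = I τ φ m := by
    intro m hm
    have e1 : I τ φ n2 = I τ φ n := h2 n (hn ▸ le_max_right _ _)
    have e2 : I τ φ n2 = I τ φ m := h2 m (le_trans (hn ▸ le_max_right _ _) hm)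
    rw [← e1, ← e2]
  have hdisj : ∀ x, x ∈ I τ φ n → x ∈ K τ φ n → x = 0 := by
    intro x hxI hxK
    obtain ⟨y, rfl⟩ := hxI
    rw [mem_K, ← iterate_add_apply] at hxK
    have : y ∈ K τ φ n := by
      rw [hK (n + n) (Nat.le_add_left _ _)]
      exact hxK
    exact this
  refine ⟨I τ φ n, K τ φ n, ⟨?_, ?_⟩, ?_, ?_, ⟨?_, ?_, ?_⟩, n, fun x hx => hx⟩
  · rw [Submodule.disjoint_def]
    exact hdisj
  · rw [codisjoint_iff, eq_top_iff]
    intro x _
    have hx : (⇑φ)^[n] x ∈ I τ φ (n + n) := by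
      rw [← hI (n + n) (Nat.le_add_left _ _)]
      exact ⟨x, rfl⟩
    obtain ⟨y, hy⟩ := hx
    rw [iterate_add_apply] at hy
    have : x = (⇑φ)^[n] y + (x - (⇑φ)^[n] y) := by abel
    rw [this]
    refine Submodule.add_mem_sup ⟨y, rfl⟩ ?_
    rw [mem_K, iter_sub, hy, sub_self]
  · rintro x ⟨y, rfl⟩
    refine ⟨φ y, ?_⟩
    rw [← iterate_succ_apply, iterate_succ_apply']
  · intro x hx
    show (⇑φ)^[n] (φ x) = 0
    rw [← iterate_succ_apply, iterate_succ_apply', show (⇑φ)^[n] x = 0 from hx, map_zero]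
  · rintro x ⟨y, rfl⟩
    refine ⟨φ y, ?_⟩
    rw [← iterate_succ_apply, iterate_succ_apply']
  · intro x hx x' hx' hxx'
    have h0 : x - x' = 0 := by
      refine hdisj _ (Submodule.sub_mem _ hx hx') ?_
      rw [hK (n + 1) (Nat.le_succ n)]
      refine K_mono τ φ (Nat.le_add_left 1 n) ?_
      show φ (x - x') = 0
      rw [map_sub, hxx', sub_self]
    exact sub_eq_zero.mp h0
  · intro z hz
    have hz' : z ∈ I τ φ (n + 1) := by
      rw [← hI (n + 1) (Nat.le_succ n)]
      exact hz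
    obtain ⟨y, rfl⟩ := hz'
    exact ⟨(⇑φ)^[n] y, ⟨y, rfl⟩, (iterate_succ_apply' _ _ _).symm⟩

end fitting

end H21.SemiFitting
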