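import Mathlib
import Groth.Prelude.Def_W4c2movlemaddchowShuffle

set_option autoImplicit false

open Equiv

namespace H21.Shuffle

/-- a decomposition of `Fin n` into two blocks, with an extension operator for permutations of the
first block -/
structure Blocks (n a b : ℕ) where
  ι₁ : Fin a → Fin n
  ι₂ : Fin b → Fin n
  E : Perm (Fin a) → Perm (Fin n)
  inj₁ : Function.Injective ι₁
  cover : ∀ x, (∃ y, ι₁ y = x) ∨ (∃ l, ι₂ l = x)
  disj : ∀ y l, ι₁ y ≠ ι₂ l
  E₁ : ∀ σ y, E σ (ι₁ y) = ι₁ (σ y)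
  E₂ : ∀ σ l, E σ (ι₂ l) = ι₂ l

variable {n a b : ℕ} (B : Blocks n a b)

/-- monotone on both blocks -/
def Good (τ : Perm (Fin n)) : Prop :=
  Monotone (fun y => τ (B.ι₁ y)) ∧ Monotone (fun l => τ (B.ι₂ l))

lemma E_mul (σ σ' : Perm (Fin a)) : B.E (σ * σ') = B.E σ * B.E σ' := by
  ext x
  rcases B.cover x with ⟨y, rfl⟩ | ⟨l, rfl⟩
  · rw [Perm.mul_apply, B.E₁, B.E₁, B.E₁, Perm.mul_apply]
  · rw [Perm.mul_apply, B.E₂, B.E₂, B.E₂]

lemma E_one : B.E 1 = 1 := by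
  ext x
  rcases B.cover x with ⟨y, rfl⟩ | ⟨l, rfl⟩
  · rw [B.E₁]; rfl
  · rw [B.E₂]; rfl

lemma E_inj {σ σ' : Perm (Fin a)} (h : B.E σ = B.E σ') : σ = σ' := by
  ext y
  have := congrArg (fun p : Perm (Fin n) => p (B.ι₁ y)) h
  simp only [B.E₁] at this
  rw [B.inj₁ this]

lemma strictMono₁ {τ : Perm (Fin n)} (hτ : Good B τ) : StrictMono (fun y => τ (B.ι₁ y)) :=
  hτ.1.strictMono_of_injective (fun _ _ h => B.inj₁ (τ.injective h))

lemma range₁ (τ : Perm (Fin n)) :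
    Set.range (fun y => τ (B.ι₁ y)) = (Set.range (fun l => τ (B.ι₂ l)))ᶜ := by
  ext x
  simp only [Set.mem_range, Set.mem_compl_iff, not_exists]
  constructor
  · rintro ⟨y, rfl⟩ l h
    exact B.disj y l (τ.injective h).symm
  · intro h
    rcases B.cover (τ.symm x) with ⟨y, hy⟩ | ⟨l, hl⟩
    · exact ⟨y, by rw [hy, Equiv.apply_symm_apply]⟩
    · exact (h l (by rw [hl, Equiv.apply_symm_apply])).elim

theorem unique {τ τ' : Perm (Fin n)} {σ σ' : Perm (Fin a)} (hτ : Good B τ) (hτ' : Good B τ')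
    (h : τ * B.E σ = τ' * B.E σ') : τ = τ' ∧ σ = σ' := by
  have h2 : ∀ l, τ (B.ι₂ l) = τ' (B.ι₂ l) := by
    intro l
    have := congrArg (fun p : Perm (Fin n) => p (B.ι₂ l)) h
    simpa only [Perm.mul_apply, B.E₂] using this
  have h1 : (fun y => τ (B.ι₁ y)) = (fun y => τ' (B.ι₁ y)) := by
    apply (StrictMono.range_inj (strictMono₁ B hτ) (strictMono₁ B hτ')).mp
    rw [range₁, range₁]
    congr 2
    funext l
    exact h2 l
  have hττ : τ = τ' := by
    ext x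
    rcases B.cover x with ⟨y, rfl⟩ | ⟨l, rfl⟩
    · exact congrArg Fin.val (congrFun h1 y)
    · rw [h2 l]
  refine ⟨hττ, ?_⟩
  subst hττ
  exact E_inj B (mul_left_cancel h)

theorem exists_decomp (ν : Perm (Fin n)) (hν : Monotone (fun l => ν (B.ι₂ l))) :
    ∃ (τ : Perm (Fin n)) (σ : Perm (Fin a)), Good B τ ∧ τ * B.E σ = ν := by
  obtain ⟨π, hπ⟩ : ∃ π : Perm (Fin a), π = Tuple.sort (fun y => ν (B.ι₁ y)) := ⟨_, rfl⟩
  refine ⟨ν * B.E π, π⁻¹, ⟨?_, ?_⟩, ?_⟩
  · have := Tuple.monotone_sort (fun y => ν (B.ι₁ y))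
    rw [← hπ] at this
    intro y y' hyy'
    simp only [Perm.mul_apply, B.E₁]
    exact this hyy'
  · intro l l' hll'
    simp only [Perm.mul_apply, B.E₂]
    exact hν hll'
  · rw [mul_assoc, ← E_mul, mul_inv_cancel, E_one, mul_one]

theorem mono_iff {τ : Perm (Fin n)} (hτ : Good B τ) (σ : Perm (Fin a)) {c : ℕ} (κ : Fin c → Fin a) :
    Monotone (fun i => (τ * B.E σ) (B.ι₁ (κ i))) ↔ Monotone (fun i => σ (κ i)) := by
  have hs := strictMono₁ B hτ
  simp only [Perm.mul_apply, B.E₁]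
  constructor
  · intro h i i' hii'
    exact hs.le_iff_le.mp (h hii')
  · intro h i i' hii'
    exact hs.le_iff_le.mpr (h hii')

lemma mul_E₂ (τ : Perm (Fin n)) (σ : Perm (Fin a)) (l : Fin b) :
    (τ * B.E σ) (B.ι₂ l) = τ (B.ι₂ l) := by
  rw [Perm.mul_apply, B.E₂]



open W4c2movlemaddchow


lemma extRight_castAdd (a t : ℕ) (σ : Perm (Fin a)) (y : Fin a) :
    extRight a t σ (Fin.castAdd t y) = Fin.castAdd t (σ y) := by
  unfold extRight
  rw [Equiv.permCongr_apply, finSumFinEquiv_symm_apply_castAdd, Equiv.sumCongr_apply]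
  simp

lemma extRight_natAdd (a t : ℕ) (σ : Perm (Fin a)) (l : Fin t) :
    extRight a t σ (Fin.natAdd a l) = Fin.natAdd a l := by
  unfold extRight
  rw [Equiv.permCongr_apply, finSumFinEquiv_symm_apply_natAdd, Equiv.sumCongr_apply]
  simp

/-- blocks for `extRight` -/
def BR (a t : ℕ) : Blocks (a + t) a t where
  ι₁ := Fin.castAdd t
  ι₂ := Fin.natAdd a
  E := extRight a t
  inj₁ := Fin.castAdd_injective a t
  cover := by
    intro x
    refine Fin.addCases (fun y => Or.inl ⟨y, rfl⟩) (fun l => Or.inr ⟨l, rfl⟩) x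
  disj := by
    intro y l h
    have := congrArg Fin.val h
    simp only [Fin.val_castAdd, Fin.val_natAdd] at this
    omega
  E₁ := extRight_castAdd a t
  E₂ := extRight_natAdd a t

lemma extLeft_left (r s t : ℕ) (σ : Perm (Fin (s + t))) (i : Fin r) :
    extLeft r s t σ ((finCongr (Nat.add_assoc r s t)).symm (Fin.castAdd (s + t) i)) =
      (finCongr (Nat.add_assoc r s t)).symm (Fin.castAdd (s + t) i) := by
  unfold extLeft
  rw [Equiv.permCongr_apply, Equiv.symm_symm, Equiv.apply_symm_apply,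
    Equiv.permCongr_apply, finSumFinEquiv_symm_apply_castAdd, Equiv.sumCongr_apply]
  simp

lemma extLeft_right (r s t : ℕ) (σ : Perm (Fin (s + t))) (y : Fin (s + t)) :
    extLeft r s t σ ((finCongr (Nat.add_assoc r s t)).symm (Fin.natAdd r y)) =
      (finCongr (Nat.add_assoc r s t)).symm (Fin.natAdd r (σ y)) := by
  unfold extLeft
  rw [Equiv.permCongr_apply, Equiv.symm_symm, Equiv.apply_symm_apply,
    Equiv.permCongr_apply, finSumFinEquiv_symm_apply_natAdd, Equiv.sumCongr_apply]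
  simp

/-- blocks for `extLeft` -/
def BL (r s t : ℕ) : Blocks (r + s + t) (s + t) r where
  ι₁ := fun y => (finCongr (Nat.add_assoc r s t)).symm (Fin.natAdd r y)
  ι₂ := fun i => (finCongr (Nat.add_assoc r s t)).symm (Fin.castAdd (s + t) i)
  E := extLeft r s t
  inj₁ := by
    intro y y' h
    exact Fin.natAdd_injective _ _ ((finCongr (Nat.add_assoc r s t)).symm.injective h)
  cover := by
    intro x
    obtain ⟨z, rfl⟩ := (finCongr (Nat.add_assoc r s t)).symm.surjective x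
    refine Fin.addCases (fun y => Or.inr ⟨y, rfl⟩) (fun l => Or.inl ⟨l, rfl⟩) z
  disj := by
    intro y l h
    have := congrArg Fin.val ((finCongr (Nat.add_assoc r s t)).symm.injective h)
    simp only [Fin.val_castAdd, Fin.val_natAdd] at this
    omega
  E₁ := fun σ y => extLeft_right r s t σ y
  E₂ := fun σ l => extLeft_left r s t σ l


section gen


variable {n a b : ℕ} (B : Blocks n a b)

theorem bijOn_of {P : Perm (Fin a) → Prop} {Q G : Perm (Fin n) → Prop}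
    (hG : ∀ τ, G τ ↔ Good B τ)
    (hQ₂ : ∀ ν, Q ν → Monotone (fun l => ν (B.ι₂ l)))
    (hPQ : ∀ τ σ, Good B τ → (Q (τ * B.E σ) ↔ P σ)) :
    Set.BijOn (fun p : Perm (Fin n) × Perm (Fin a) => p.1 * B.E p.2)
      ({τ | G τ} ×ˢ {σ | P σ}) {ν | Q ν} := by
  refine ⟨?_, ?_, ?_⟩
  · rintro ⟨τ, σ⟩ ⟨hτ, hσ⟩
    exact (hPQ τ σ ((hG τ).mp hτ)).mpr hσ
  · rintro ⟨τ, σ⟩ ⟨hτ, hσ⟩ ⟨τ', σ'⟩ ⟨hτ', hσ'⟩ h
    obtain ⟨h1, h2⟩ := unique B ((hG τ).mp hτ) ((hG τ').mp hτ') h
    exact Prod.ext h1 h2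
  · intro ν hν
    obtain ⟨τ, σ, hτ, rfl⟩ := exists_decomp B ν (hQ₂ ν hν)
    exact ⟨(τ, σ), ⟨(hG τ).mpr hτ, (hPQ τ σ hτ).mp hν⟩, rfl⟩

theorem sum_of {P : Perm (Fin a) → Prop} {Q G : Perm (Fin n) → Prop}
    [DecidablePred P] [DecidablePred Q] [DecidablePred G]
    (hbij : Set.BijOn (fun p : Perm (Fin n) × Perm (Fin a) => p.1 * B.E p.2)
      ({τ | G τ} ×ˢ {σ | P σ}) {ν | Q ν})
    (hsign : ∀ σ, Perm.sign (B.E σ) = Perm.sign σ) :
    ((∑ ν ∈ Finset.univ.filter Q,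
        MonoidAlgebra.single ν (((Equiv.Perm.sign ν : ℤˣ) : ℤ)) :
          MonoidAlgebra ℤ (Equiv.Perm (Fin n))) =
      ∑ τ ∈ Finset.univ.filter G,
        ∑ σ ∈ Finset.univ.filter P,
          MonoidAlgebra.single (τ * B.E σ)
            (((Equiv.Perm.sign τ : ℤˣ) : ℤ) * ((Equiv.Perm.sign σ : ℤˣ) : ℤ))) := by
  rw [← Finset.sum_product']
  symm
  refine Finset.sum_nbij (fun p => p.1 * B.E p.2) ?_ ?_ ?_ ?_
  · rintro ⟨τ, σ⟩ h
    simp only [Finset.mem_product, Finset.mem_filter, Finset.mem_univ, true_and] at h ⊢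
    exact hbij.mapsTo (Set.mk_mem_prod h.1 h.2)
  · rintro ⟨τ, σ⟩ h ⟨τ', σ'⟩ h' hh
    simp only [Finset.coe_product, Finset.coe_filter, Finset.mem_univ, true_and,
      Set.mem_prod] at h h'
    exact hbij.injOn (Set.mk_mem_prod h.1 h.2) (Set.mk_mem_prod h'.1 h'.2) hh
  · intro ν hν
    simp only [Finset.coe_filter, Finset.mem_univ, true_and] at hν
    obtain ⟨⟨τ, σ⟩, ⟨h1, h2⟩, h3⟩ := hbij.surjOn hν
    refine ⟨(τ, σ), ?_, h3⟩
    simp only [Finset.coe_product, Finset.coe_filter, Finset.mem_univ, true_and, Set.mem_prod]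
    exact ⟨h1, h2⟩
  · rintro ⟨τ, σ⟩ -
    simp only [Perm.sign_mul, hsign, Units.val_mul]


end gen



theorem bijOn_right (r s t : ℕ) :
    Set.BijOn
      (fun p : Perm (Fin (r + s + t)) × Perm (Fin (r + s)) => p.1 * extRight (r + s) t p.2)
      ({τ | IsShuffle₂ (r + s) t τ} ×ˢ {σ | IsShuffle₂ r s σ})
      {ν | IsShuffle₃ r s t ν} := by
  refine bijOn_of (BR (r + s) t) (fun τ => Iff.rfl) (fun ν hν => hν.2.2) ?_
  intro τ σ hτ
  unfold IsShuffle₃ IsShuffle₂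
  have h1 := mono_iff (BR (r + s) t) hτ σ (Fin.castAdd s : Fin r → Fin (r + s))
  have h2 := mono_iff (BR (r + s) t) hτ σ (Fin.natAdd r : Fin s → Fin (r + s))
  have h3 : Monotone (fun l : Fin t => (τ * (BR (r + s) t).E σ) (Fin.natAdd (r + s) l)) := by
    intro l l' hll'
    have e1 := mul_E₂ (BR (r + s) t) τ σ l
    have e2 := mul_E₂ (BR (r + s) t) τ σ l'
    show (τ * (BR (r + s) t).E σ) ((BR (r + s) t).ι₂ l) ≤ (τ * (BR (r + s) t).E σ) ((BR (r + s) t).ι₂ l')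
    rw [e1, e2]
    exact hτ.2 hll'
  constructor
  · rintro ⟨a1, a2, -⟩
    exact ⟨h1.mp a1, h2.mp a2⟩
  · rintro ⟨a1, a2⟩
    exact ⟨h1.mpr a1, h2.mpr a2, h3⟩



lemma good_BL_iff (r s t : ℕ) (τ : Perm (Fin (r + s + t))) :
    IsShuffle₂ r (s + t) ((finCongr (Nat.add_assoc r s t)).permCongr τ) ↔ Good (BL r s t) τ := by
  unfold IsShuffle₂ Good
  have key : ∀ {c : ℕ} (f : Fin c → Fin (r + (s + t))),
      Monotone (fun i => ((finCongr (Nat.add_assoc r s t)).permCongr τ) (f i)) ↔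
        Monotone (fun i => τ ((finCongr (Nat.add_assoc r s t)).symm (f i))) := by
    intro c f
    constructor
    · intro h i i' hii'
      have := h hii'
      simp only [Equiv.permCongr_apply] at this
      exact this
    · intro h i i' hii'
      have := h hii'
      simp only [Equiv.permCongr_apply]
      exact this
  rw [key, key]
  exact and_comm




theorem bijOn_left (r s t : ℕ) :
    Set.BijOn
      (fun p : Perm (Fin (r + s + t)) × Perm (Fin (s + t)) => p.1 * extLeft r s t p.2)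
      ({τ | IsShuffle₂ r (s + t) ((finCongr (Nat.add_assoc r s t)).permCongr τ)} ×ˢ
        {σ | IsShuffle₂ s t σ})
      {ν | IsShuffle₃ r s t ν} := by
  have e1 : ∀ i : Fin r, Fin.castAdd t (Fin.castAdd s i) = (BL r s t).ι₂ i := by
    intro i; apply Fin.ext; simp [BL]
  have e2 : ∀ j : Fin s, Fin.castAdd t (Fin.natAdd r j) = (BL r s t).ι₁ (Fin.castAdd t j) := by
    intro j; apply Fin.ext; simp [BL]
  have e3 : ∀ l : Fin t, Fin.natAdd (r + s) l = (BL r s t).ι₁ (Fin.natAdd s l) := by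
    intro l; apply Fin.ext; simp [BL]; omega
  refine bijOn_of (BL r s t) (good_BL_iff r s t) ?_ ?_
  · intro ν hν
    have := hν.1
    simp only [e1] at this
    exact this
  intro τ σ hτ
  unfold IsShuffle₃ IsShuffle₂
  simp only [e1, e2, e3]
  have h1 := mono_iff (BL r s t) hτ σ (Fin.castAdd t : Fin s → Fin (s + t))
  have h2 := mono_iff (BL r s t) hτ σ (Fin.natAdd s : Fin t → Fin (s + t))
  have h3 : Monotone (fun l : Fin r => (τ * (BL r s t).E σ) ((BL r s t).ι₂ l)) := by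
    intro l l' hll'
    show (τ * (BL r s t).E σ) ((BL r s t).ι₂ l) ≤ (τ * (BL r s t).E σ) ((BL r s t).ι₂ l')
    rw [mul_E₂, mul_E₂]
    exact hτ.2 hll'
  constructor
  · rintro ⟨-, a1, a2⟩
    exact ⟨h1.mp a1, h2.mp a2⟩
  · rintro ⟨a1, a2⟩
    exact ⟨h3, h1.mpr a1, h2.mpr a2⟩

lemma sign_extRight (a t : ℕ) (σ : Perm (Fin a)) : Perm.sign (extRight a t σ) = Perm.sign σ := by
  unfold extRight
  rw [Perm.sign_permCongr, Perm.sign_sumCongr]
  simp

lemma sign_extLeft (r s t : ℕ) (σ : Perm (Fin (s + t))) :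
    Perm.sign (extLeft r s t σ) = Perm.sign σ := by
  unfold extLeft
  rw [Perm.sign_permCongr, Perm.sign_permCongr, Perm.sign_sumCongr]
  simp


end H21.Shuffle
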