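import Mathlib
import Groth.Agent.S6818

/-! Helper lemmas (helper21): skeleta of simplicial objects in abelian categories. -/

namespace Groth.Agent.H21

open CategoryTheory CategoryTheory.Limits Opposite

universe v u

variable {A : Type u} [Category.{v} A] [Abelian A]

/-- The family of image subobjects generating the `n`-skeleton in degree `k`. -/
noncomputable def skelGen (V : SimplicialObject A) (n k : ℕ) :
    (Σ i : Fin (n + 1), (SimplexCategory.mk k ⟶ SimplexCategory.mk i)) →
      Subobject (V.obj (op (SimplexCategory.mk k))) :=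
  fun φ => imageSubobject (V.map φ.2.op)

/-- The `n`-skeleton subobject in degree `k`. -/
noncomputable def skelSub (V : SimplicialObject A) (n k : ℕ) :
    Subobject (V.obj (op (SimplexCategory.mk k))) :=
  (Set.finite_range (skelGen V n k)).toFinset.sup id

lemma skelSub_isLUB (V : SimplicialObject A) (n k : ℕ) :
    IsLUB (Set.range (skelGen V n k)) (skelSub V n k) := by
  rw [isLUB_iff_le_iff]
  intro b
  unfold skelSub
  rw [Finset.sup_le_iff]
  simp only [Set.Finite.mem_toFinset, id]
  rfl

lemma skelSub_props (V : SimplicialObject A) (n : ℕ) :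
    (∀ (m m' : ℕ) (ψ : SimplexCategory.mk m' ⟶ SimplexCategory.mk m),
      imageSubobject ((skelSub V n m).arrow ≫ V.map ψ.op) ≤ skelSub V n m') ∧
    (∀ i : ℕ, i ≤ n → skelSub V n i = ⊤) ∧
    (∀ m : ℕ, n < m → skelSub V n m ⊓ AlgebraicTopology.NormalizedMooreComplex.objX V m = ⊥) :=
  Groth.Agent.S6818.result V n (skelSub V n) (skelSub_isLUB V n)

/-- A family of subobjects stable under the simplicial structure maps defines a simplicial
object. -/
noncomputable def subSimplicial (V : SimplicialObject A)
    (S : ∀ k : ℕ, Subobject (V.obj (op (SimplexCategory.mk k))))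
    (hS : ∀ (m m' : ℕ) (ψ : SimplexCategory.mk m' ⟶ SimplexCategory.mk m),
      imageSubobject ((S m).arrow ≫ V.map ψ.op) ≤ S m') : SimplicialObject A where
  obj Δ := ((S Δ.unop.len : Subobject (V.obj (op (SimplexCategory.mk Δ.unop.len)))) : A)
  map {Δ Δ'} f := (S Δ'.unop.len).factorThru ((S Δ.unop.len).arrow ≫ V.map f)
    (Subobject.factors_of_le _ (hS Δ.unop.len Δ'.unop.len f.unop)
      (imageSubobject_factors_comp_self (f := (S Δ.unop.len).arrow ≫ V.map f.unop.op) (𝟙 _)
        |> fun h => by simpa using h))
  map_id Δ := by
    rw [← cancel_mono (S Δ.unop.len).arrow, Subobject.factorThru_arrow]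
    change _ ≫ V.map (𝟙 _) = _
    rw [V.map_id]
    simp
  map_comp {Δ Δ' Δ''} f g := by
    rw [← cancel_mono (S Δ''.unop.len).arrow, Subobject.factorThru_arrow, Category.assoc,
      Subobject.factorThru_arrow, Subobject.factorThru_arrow_assoc]
    change _ ≫ V.map (f ≫ g) = _
    rw [V.map_comp, Category.assoc]

/-- The inclusion of the sub-simplicial object. -/
noncomputable def subSimplicialι (V : SimplicialObject A)
    (S : ∀ k : ℕ, Subobject (V.obj (op (SimplexCategory.mk k))))
    (hS : ∀ (m m' : ℕ) (ψ : SimplexCategory.mk m' ⟶ SimplexCategory.mk m),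
      imageSubobject ((S m).arrow ≫ V.map ψ.op) ≤ S m') : subSimplicial V S hS ⟶ V where
  app Δ := (S Δ.unop.len).arrow
  naturality {Δ Δ'} f := by
    unfold subSimplicial
    dsimp only
    rw [Subobject.factorThru_arrow]

end Groth.Agent.H21

namespace Groth.Agent.H21

open CategoryTheory CategoryTheory.Limits Opposite

universe v u

variable {A : Type u} [Category.{v} A] [Abelian A]

/-- A simplicial object of the form `sk_m U` is generated in degrees `≤ m`. -/
theorem skelSub_sk_eq_top (m : ℕ)
    [∀ F : (SimplexCategory.Truncated m)ᵒᵖ ⥤ A,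
      (SimplexCategory.Truncated.inclusion m).op.HasLeftKanExtension F]
    (U : SimplicialObject.Truncated A m) (k : ℕ) :
    skelSub ((SimplicialObject.Truncated.sk m).obj U) m k = ⊤ := by
  set V := (SimplicialObject.Truncated.sk m).obj U with hV
  obtain ⟨h1, h2, -⟩ := skelSub_props V m
  let V' := subSimplicial V (skelSub V m) h1
  let ι : V' ⟶ V := subSimplicialι V (skelSub V m) h1
  let adj := SimplicialObject.skAdj (C := A) m
  -- the truncation of ι is an isomorphism
  have hiso : IsIso ((SimplicialObject.truncation m).map ι) := by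
    haveI : ∀ X, IsIso (((SimplicialObject.truncation m).map ι).app X) := by
      intro X
      change IsIso ((skelSub V m X.unop.obj.len).arrow)
      rw [h2 _ X.unop.property]
      infer_instance
    exact NatIso.isIso_of_isIso_app _
  let s : V ⟶ V' := (adj.homEquiv U V').symm (adj.unit.app U ≫ inv ((SimplicialObject.truncation m).map ι))
  have hs : s ≫ ι = 𝟙 V := by
    apply (adj.homEquiv U V).injective
    rw [Adjunction.homEquiv_naturality_right, Equiv.apply_symm_apply, Category.assoc,
      IsIso.inv_hom_id, Category.comp_id, Adjunction.homEquiv_unit, CategoryTheory.Functor.map_id]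
    exact (Category.comp_id _).symm
  have hsk : s.app (op (SimplexCategory.mk k)) ≫ (skelSub V m k).arrow = 𝟙 _ := by
    have := congrArg (fun g => g.app (op (SimplexCategory.mk k))) hs
    exact this
  haveI : IsIso (skelSub V m k).arrow := by
    haveI : IsSplitEpi (skelSub V m k).arrow := ⟨⟨s.app (op (SimplexCategory.mk k)), hsk⟩⟩
    exact isIso_of_mono_of_isSplitEpi _
  exact Subobject.eq_top_of_isIso_arrow _

theorem normalizedMooreComplex_sk_eq_bot (m : ℕ)
    [∀ F : (SimplexCategory.Truncated m)ᵒᵖ ⥤ A,
      (SimplexCategory.Truncated.inclusion m).op.HasLeftKanExtension F]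
    (U : SimplicialObject.Truncated A m) (n : ℕ) (hn : m < n) :
    AlgebraicTopology.NormalizedMooreComplex.objX ((SimplicialObject.Truncated.sk m).obj U) n = ⊥ := by
  obtain ⟨-, -, h3⟩ := skelSub_props ((SimplicialObject.Truncated.sk m).obj U) m
  have := h3 n hn
  rwa [skelSub_sk_eq_top, top_inf_eq] at this

end Groth.Agent.H21

namespace Groth.Agent.H21

open CategoryTheory CategoryTheory.Limits Opposite

universe v u

variable (n : ℕ) (Y : SimplexCategoryᵒᵖ)

abbrev CA := CostructuredArrow (SimplexCategory.Truncated.inclusion n).op Y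

instance : Finite (CA n Y) := by
  let g : (Σ i : Fin (n + 1), (Y.unop ⟶ SimplexCategory.mk i)) → CA n Y := fun p =>
    let Z : (SimplexCategory.Truncated n)ᵒᵖ := op ⟨SimplexCategory.mk p.1, Nat.le_of_lt_succ p.1.2⟩
    let h : (SimplexCategory.Truncated.inclusion n).op.obj Z ⟶ Y := p.2.op
    CostructuredArrow.mk h
  apply Finite.of_surjective g
  intro X
  refine ⟨⟨⟨X.left.unop.obj.len, Nat.lt_succ_of_le X.left.unop.property⟩, X.hom.unop⟩, ?_⟩
  rfl

instance (X X' : CA n Y) : Finite (X ⟶ X') := by
  let g : (X ⟶ X') → (X'.left.unop.obj ⟶ X.left.unop.obj) := fun f => f.left.unop.hom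
  apply Finite.of_injective g
  intro f f' h
  apply CostructuredArrow.hom_ext
  apply Quiver.Hom.unop_inj
  exact ObjectProperty.hom_ext _ h

noncomputable instance : FinCategory (CA n Y) where
  fintypeObj := Fintype.ofFinite _
  fintypeHom _ _ := Fintype.ofFinite _

end Groth.Agent.H21

namespace Groth.Agent.H21

open CategoryTheory CategoryTheory.Limits Opposite

universe v u

variable {A : Type u} [Category.{v} A] [Abelian A] (n : ℕ)

instance (F : (SimplexCategory.Truncated n)ᵒᵖ ⥤ A) :
    (SimplexCategory.Truncated.inclusion n).op.HasPointwiseLeftKanExtension F := by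
  intro Y
  unfold Functor.HasPointwiseLeftKanExtensionAt
  infer_instance


lemma mono_of_mono_normalizedMooreComplex {X Y : SimplicialObject A} (f : X ⟶ Y)
    (hf : Mono ((AlgebraicTopology.normalizedMooreComplex A).map f)) : Mono f := by
  haveI : (AlgebraicTopology.normalizedMooreComplex A).Faithful :=
    inferInstanceAs (CategoryTheory.Abelian.DoldKan.equivalence (A := A)).functor.Faithful
  exact (AlgebraicTopology.normalizedMooreComplex A).mono_of_mono_map hf

/-- The counit of the skeleton adjunction: degreewise mono, with image the skeleton subobject. -/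
theorem sk_counit_mono_and_image (U : SimplicialObject A) (n : ℕ)
    (U' : ∀ m : ℕ, Subobject (U.obj (op (SimplexCategory.mk m))))
    (hU' : ∀ m : ℕ, IsLUB (Set.range (fun φ : Σ i : Fin (n + 1),
      (SimplexCategory.mk m ⟶ SimplexCategory.mk i) => imageSubobject (U.map φ.2.op))) (U' m))
    [∀ F : (SimplexCategory.Truncated n)ᵒᵖ ⥤ A,
      (SimplexCategory.Truncated.inclusion n).op.HasLeftKanExtension F] (m : ℕ) :
    Mono (((SimplicialObject.skAdj n).counit.app U).app (op (SimplexCategory.mk m))) ∧
      imageSubobject (((SimplicialObject.skAdj n).counit.app U).app (op (SimplexCategory.mk m))) =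
        U' m := by
  let adj := SimplicialObject.skAdj (C := A) n
  let T := (SimplicialObject.truncation n).obj U
  let V : SimplicialObject A := (SimplicialObject.Truncated.sk n).obj T
  let ε : V ⟶ U := adj.counit.app U
  let η : T ⟶ (SimplicialObject.truncation n).obj V := adj.unit.app T
  have htri : η ≫ (SimplicialObject.truncation n).map ε = 𝟙 T := adj.right_triangle_components U
  haveI : IsIso η := inferInstanceAs (IsIso (adj.unit.app T))
  have hεiso : IsIso ((SimplicialObject.truncation n).map ε) := by
    have : (SimplicialObject.truncation n).map ε = inv η := by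
      rw [← cancel_epi η, htri, IsIso.hom_inv_id]
    rw [this]; infer_instance
  -- ε is an isomorphism in degrees ≤ n
  have hεi : ∀ i : ℕ, i ≤ n → IsIso (ε.app (op (SimplexCategory.mk i))) := by
    intro i hi
    have := (NatIso.isIso_app_of_isIso ((SimplicialObject.truncation n).map ε)
      (op ⟨SimplexCategory.mk i, hi⟩))
    exact this
  have hηε : ∀ (i : ℕ) (hi : i ≤ n), ∃ ηi : U.obj (op (SimplexCategory.mk i)) ⟶
      V.obj (op (SimplexCategory.mk i)), ηi ≫ ε.app (op (SimplexCategory.mk i)) = 𝟙 _ := by
    intro i hi
    have := congrArg (fun g => g.app (op ⟨SimplexCategory.mk i, hi⟩)) htri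
    exact ⟨η.app (op ⟨SimplexCategory.mk i, hi⟩), this⟩
  refine ⟨?_, ?_⟩
  · -- mono
    have hmono : Mono ε := by
      apply mono_of_mono_normalizedMooreComplex
      apply HomologicalComplex.mono_of_mono_f
      intro k
      have hk : ((AlgebraicTopology.normalizedMooreComplex A).map ε).f k ≫
          (AlgebraicTopology.NormalizedMooreComplex.objX U k).arrow =
          (AlgebraicTopology.NormalizedMooreComplex.objX V k).arrow ≫
            ε.app (op (SimplexCategory.mk k)) := by
        simp only [AlgebraicTopology.normalizedMooreComplex_map,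
          AlgebraicTopology.NormalizedMooreComplex.map_f]
        exact Subobject.factorThru_arrow _ _ _
      by_cases hkn : k ≤ n
      · haveI := hεi k hkn
        haveI : Mono (ε.app (op (SimplexCategory.mk k))) := IsIso.mono_of_iso _
        have hm : Mono (((AlgebraicTopology.normalizedMooreComplex A).map ε).f k ≫
            (AlgebraicTopology.NormalizedMooreComplex.objX U k).arrow) := by
          rw [hk]
          have h1 : Mono (AlgebraicTopology.NormalizedMooreComplex.objX V k).arrow :=
            Subobject.arrow_mono _
          have h2 : Mono (ε.app (op (SimplexCategory.mk k))) := IsIso.mono_of_iso _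
          exact @mono_comp _ _ _ _ _ _ h1 _ h2
        exact @mono_of_mono _ _ _ _ _ _ _ hm
      · have hbot : AlgebraicTopology.NormalizedMooreComplex.objX V k = ⊥ :=
          normalizedMooreComplex_sk_eq_bot n T k (by omega)
        have hz : IsZero (((AlgebraicTopology.normalizedMooreComplex A).obj V).X k) := by
          change IsZero ((AlgebraicTopology.NormalizedMooreComplex.objX V k : Subobject _) : A)
          rw [hbot]
          exact (Subobject.botCoeIsoZero).isZero_iff.mpr (isZero_zero A)
        exact ⟨fun a b _ => hz.eq_of_tgt a b⟩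
    exact (NatTrans.mono_iff_mono_app ε).mp hmono _
  · -- image
    apply le_antisymm
    · -- image ≤ U' m
      have htop : skelSub V n m = ⊤ := skelSub_sk_eq_top n T m
      have hle : skelSub V n m ≤
          (Subobject.pullback (ε.app (op (SimplexCategory.mk m)))).obj (U' m) := by
        apply (skelSub_isLUB V n m).2
        rintro _ ⟨⟨i, φ⟩, rfl⟩
        have h1 : (U' m).Factors (V.map φ.op ≫ ε.app (op (SimplexCategory.mk m))) := by
          rw [ε.naturality φ.op]
          apply Subobject.factors_of_factors_right
          have hle' : imageSubobject (U.map φ.op) ≤ U' m := (hU' m).1 ⟨⟨i, φ⟩, rfl⟩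
          exact Subobject.factors_of_le _ hle'
            (imageSubobject_factors_comp_self (f := U.map φ.op) (𝟙 _) |> fun h => by simpa using h)
        have h2 := (CategoryTheory.Limits.pullback_factors_iff
          (ε.app (op (SimplexCategory.mk m))) (U' m) (V.map φ.op)).mpr h1
        exact imageSubobject_le _ (Subobject.factorThru _ _ h2) (Subobject.factorThru_arrow _ _ _)
      rw [htop] at hle
      have h3 : ((Subobject.pullback (ε.app (op (SimplexCategory.mk m)))).obj (U' m)).Factors
          (𝟙 (V.obj (op (SimplexCategory.mk m)))) :=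
        Subobject.factors_of_le _ hle (Subobject.top_factors _)
      have h4 := (CategoryTheory.Limits.pullback_factors_iff
        (ε.app (op (SimplexCategory.mk m))) (U' m) (𝟙 _)).mp h3
      rw [Category.id_comp] at h4
      exact imageSubobject_le _ (Subobject.factorThru _ _ h4) (Subobject.factorThru_arrow _ _ _)
    · -- U' m ≤ image
      apply (hU' m).2
      rintro _ ⟨⟨i, φ⟩, rfl⟩
      dsimp only
      have hi : (i : ℕ) ≤ n := Nat.le_of_lt_succ i.2
      obtain ⟨ηi, hηi⟩ := hηε i hi
      have hfac : U.map φ.op = (ηi ≫ V.map φ.op) ≫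
          ε.app (op (SimplexCategory.mk m)) := by
        rw [Category.assoc, ε.naturality φ.op, ← Category.assoc, hηi, Category.id_comp]
      rw [hfac]
      exact imageSubobject_comp_le _ _

end Groth.Agent.H21
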