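import Mathlib

set_option autoImplicit false

open Function

namespace H21.SqZeroComplete

section pi

variable {R : Type*} [CommRing R] (I : Ideal R) {ι : Type*} [Fintype ι] [DecidableEq ι]
  (M : ι → Type*) [∀ i, AddCommGroup (M i)] [∀ i, Module R (M i)]

/-- finite products of adically complete modules are adically complete -/
theorem isAdicComplete_pi [∀ i, IsAdicComplete I (M i)] : IsAdicComplete I (∀ i, M i) := by
  rw [← AdicCompletion.of_bijective_iff]
  have h : ⇑(AdicCompletion.piEquivOfFintype I M) ∘ ⇑(AdicCompletion.of I (∀ i, M i)) =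
      Pi.map (fun i => ⇑(AdicCompletion.of I (M i))) := by
    funext x
    funext i
    simp only [Function.comp_apply, AdicCompletion.piEquivOfFintype_apply, Pi.map_apply]
    show AdicCompletion.map I (LinearMap.proj i) (AdicCompletion.of I (∀ i, M i) x) = _
    rw [AdicCompletion.map_of]
    rfl
  have hb : Bijective (⇑(AdicCompletion.piEquivOfFintype I M) ∘ ⇑(AdicCompletion.of I (∀ i, M i))) := by
    rw [h]
    exact Function.Bijective.piMap (fun i => AdicCompletion.of_bijective I (M i))
  exact (Function.Bijective.of_comp_iff' (AdicCompletion.piEquivOfFintype I M).bijective _).mp hb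

end pi

section equiv

variable {R : Type*} [CommRing R] (I : Ideal R)
  {M N : Type*} [AddCommGroup M] [Module R M] [AddCommGroup N] [Module R N]

theorem isAdicComplete_of_linearEquiv (e : M ≃ₗ[R] N) [IsAdicComplete I M] :
    IsAdicComplete I N := by
  rw [← AdicCompletion.of_bijective_iff]
  have h : ⇑(AdicCompletion.of I N) =
      ⇑(AdicCompletion.congr I e) ∘ ⇑(AdicCompletion.of I M) ∘ ⇑e.symm := by
    funext x
    simp only [Function.comp_apply, AdicCompletion.congr_apply, AdicCompletion.map_of]
    simp
  rw [h]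
  exact (AdicCompletion.congr I e).bijective.comp
    ((AdicCompletion.of_bijective I M).comp e.symm.bijective)

end equiv

section five

universe w

variable {R : Type w} [CommRing R] [IsNoetherianRing R] (I : Ideal R)
  {M N P : Type w} [AddCommGroup M] [Module R M] [AddCommGroup N] [Module R N]
  [AddCommGroup P] [Module R P] [Module.Finite R N]
  (f : M →ₗ[R] N) (g : N →ₗ[R] P)

/-- extension of adically complete modules (over a noetherian ring, finite middle term) -/
theorem isAdicComplete_of_exact (hf : Injective f) (hfg : Exact f g) (hg : Surjective g)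
    [IsAdicComplete I M] [IsAdicComplete I P] : IsAdicComplete I N := by
  rw [← AdicCompletion.of_bijective_iff]
  have hinj := AdicCompletion.map_injective I hf
  have hex := AdicCompletion.map_exact (I := I) hf hfg hg
  have hsurj := AdicCompletion.map_surjective I hg
  constructor
  · rw [injective_iff_map_eq_zero]
    intro x hx
    have h1 : AdicCompletion.of I P (g x) = 0 := by
      rw [← AdicCompletion.map_of, hx, map_zero]
    have h2 : g x = 0 := by
      apply AdicCompletion.of_injective (I := I) (M := P)
      rw [h1, map_zero]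
    obtain ⟨m, rfl⟩ := (hfg x).mp h2
    have h3 : AdicCompletion.map I f (AdicCompletion.of I M m) = 0 := by
      rw [AdicCompletion.map_of, hx]
    have h4 : AdicCompletion.of I M m = 0 := by
      apply hinj
      rw [h3, map_zero]
    have h5 : m = 0 := by
      apply AdicCompletion.of_injective (I := I) (M := M)
      rw [h4, map_zero]
    rw [h5, map_zero]
  · intro y
    obtain ⟨p, hp⟩ := AdicCompletion.of_surjective I P (AdicCompletion.map I g y)
    obtain ⟨x, rfl⟩ := hg p
    have h1 : AdicCompletion.map I g (y - AdicCompletion.of I N x) = 0 := by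
      rw [map_sub, AdicCompletion.map_of, hp, sub_self]
    obtain ⟨z, hz⟩ := (hex _).mp h1
    obtain ⟨m, rfl⟩ := AdicCompletion.of_surjective I M z
    refine ⟨x + f m, ?_⟩
    rw [map_add, ← AdicCompletion.map_of, hz]
    abel

end five

section main

variable {A E : Type*} [CommRing A] [CommRing E] [Algebra E A]

/-- along a surjective ring map, noetherianity of the target as a module over the source -/
theorem isNoetherian_of_surjective (hf : Surjective (algebraMap E A)) [IsNoetherianRing A] :
    IsNoetherian E A := by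
  rw [isNoetherian_def]
  intro P
  have h1 : (Submodule.span A (P : Set A)).restrictScalars E = P := by
    rw [Submodule.restrictScalars_span E A hf, Submodule.span_eq]
  obtain ⟨S, hS⟩ := (isNoetherian_def.mp (inferInstance : IsNoetherian A A))
    (Submodule.span A (P : Set A))
  refine ⟨S, ?_⟩
  rw [← h1, ← hS, Submodule.restrictScalars_span E A hf]

variable (hf : Surjective (algebraMap E A)) (hsq : RingHom.ker (algebraMap E A) ^ 2 = ⊥)
  (hfg : (RingHom.ker (algebraMap E A)).FG)

include hf hsq hfg in
/-- a surjection `A^r → ker` of `E`-modules -/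
theorem exists_surjection : ∃ (r : ℕ) (h : (Fin r → A) →ₗ[E] RingHom.ker (algebraMap E A)),
    Surjective h := by
  haveI : Module.Finite E (RingHom.ker (algebraMap E A)) := Module.Finite.iff_fg.mpr hfg
  obtain ⟨r, g, hg⟩ := Module.Finite.exists_fin' E (RingHom.ker (algebraMap E A))
  let π : (Fin r → E) →ₗ[E] (Fin r → A) := (Algebra.linearMap E A).compLeft (Fin r)
  have hπ : Surjective π := fun y => by
    choose x hx using fun i => hf (y i)
    exact ⟨x, funext hx⟩
  have hle : LinearMap.ker π ≤ LinearMap.ker g := by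
    intro x hx
    rw [LinearMap.mem_ker] at hx ⊢
    have hxi : ∀ i, x i ∈ RingHom.ker (algebraMap E A) := fun i => by
      rw [RingHom.mem_ker]
      exact congrFun hx i
    have hx' : x = ∑ i, x i • (Pi.single i (1 : E) : Fin r → E) := by
      funext j
      simp [Finset.sum_apply, Pi.single_apply]
    rw [hx', map_sum]
    refine Finset.sum_eq_zero (fun i _ => ?_)
    rw [map_smul]
    apply Subtype.ext
    show x i * ((g (Pi.single i 1) : RingHom.ker (algebraMap E A)) : E) = 0
    have : x i * ((g (Pi.single i 1) : RingHom.ker (algebraMap E A)) : E) ∈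
        RingHom.ker (algebraMap E A) ^ 2 := by
      rw [pow_two]
      exact Ideal.mul_mem_mul (hxi i) (g (Pi.single i 1)).2
    rw [hsq] at this
    exact this
  refine ⟨r, (Submodule.liftQ (LinearMap.ker π) g hle) ∘ₗ
    (π.quotKerEquivOfSurjective hπ).symm.toLinearMap, ?_⟩
  rw [LinearMap.coe_comp]
  refine Surjective.comp ?_ (LinearEquiv.surjective _)
  intro n
  obtain ⟨x, rfl⟩ := hg n
  exact ⟨Submodule.Quotient.mk x, rfl⟩

include hf hsq in
theorem isUnit_of_isUnit_map (u : E) (hu : IsUnit (algebraMap E A u)) : IsUnit u := by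
  obtain ⟨a, ha⟩ := hu.exists_right_inv
  obtain ⟨v, rfl⟩ := hf a
  have hmem : u * v - 1 ∈ RingHom.ker (algebraMap E A) := by
    rw [RingHom.mem_ker, map_sub, map_mul, ha, map_one, sub_self]
  have hnil : IsNilpotent (u * v - 1) := by
    refine ⟨2, ?_⟩
    have : (u * v - 1) ^ 2 ∈ RingHom.ker (algebraMap E A) ^ 2 := Ideal.pow_mem_pow hmem 2
    rw [hsq] at this
    exact this
  have huv : IsUnit (u * v) := by
    have := hnil.isUnit_add_one
    rwa [sub_add_cancel] at this
  exact isUnit_of_mul_isUnit_left huv

variable [IsNoetherianRing A] [IsLocalRing A] [IsAdicComplete (IsLocalRing.maximalIdeal A) A]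

include hf hsq hfg in
theorem main : IsAdicComplete ((IsLocalRing.maximalIdeal A).comap (algebraMap E A)) E := by
  obtain ⟨𝔫, h𝔫⟩ : ∃ 𝔫 : Ideal E, 𝔫 = (IsLocalRing.maximalIdeal A).comap (algebraMap E A) :=
    ⟨_, rfl⟩
  rw [← h𝔫]
  haveI : IsNoetherian E A := isNoetherian_of_surjective hf
  obtain ⟨r, h, hh⟩ := exists_surjection hf hsq hfg
  haveI : IsNoetherian E (RingHom.ker (algebraMap E A)) :=
    _root_.isNoetherian_of_surjective h (LinearMap.range_eq_top.mpr hh)
  obtain ⟨K, hK⟩ : ∃ K : Submodule E E, K = LinearMap.ker (Algebra.linearMap E A) := ⟨_, rfl⟩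
  have hNK : RingHom.ker (algebraMap E A) = K := by
    rw [hK]
    ext x
    rw [RingHom.mem_ker, LinearMap.mem_ker]
    rfl
  haveI : IsNoetherianRing E := by
    refine isNoetherian_of_range_eq_ker (RingHom.ker (algebraMap E A)).subtype
      (Algebra.linearMap E A) ?_
    rw [Submodule.range_subtype, hNK, hK]
  -- completeness of `A` as an `E`-module
  have hmap : 𝔫.map (algebraMap E A) = IsLocalRing.maximalIdeal A := by
    rw [h𝔫]
    exact Ideal.map_comap_of_surjective _ hf _
  haveI : IsAdicComplete 𝔫 A := by
    refine (IsAdicComplete.map_algebraMap_iff (S := A) 𝔫 A).mp ?_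
    rw [hmap]
    infer_instance
  haveI : IsAdicComplete 𝔫 (Fin r → A) := isAdicComplete_pi 𝔫 (fun _ : Fin r => A)
  -- the kernel is complete
  haveI : Module.Finite E (RingHom.ker (algebraMap E A)) := Module.Finite.iff_fg.mpr hfg
  have hjac : 𝔫 ≤ Ideal.jacobson ⊥ := by
    intro x hx
    rw [Ideal.mem_jacobson_bot]
    intro y
    apply isUnit_of_isUnit_map hf hsq
    rw [map_add, map_mul, map_one]
    have hx' : algebraMap E A x ∈ IsLocalRing.maximalIdeal A := by
      rw [h𝔫] at hx
      exact hx
    exact Ideal.mem_jacobson_bot.mp (IsLocalRing.maximalIdeal_le_jacobson ⊥ hx') _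
  haveI : IsHausdorff 𝔫 (RingHom.ker (algebraMap E A)) := IsHausdorff.of_le_jacobson 𝔫 _ hjac
  haveI : IsPrecomplete 𝔫 (RingHom.ker (algebraMap E A)) := by
    rw [← AdicCompletion.of_surjective_iff]
    have h1 : Surjective (⇑(AdicCompletion.of 𝔫 (RingHom.ker (algebraMap E A))) ∘ ⇑h) := by
      have : ⇑(AdicCompletion.of 𝔫 (RingHom.ker (algebraMap E A))) ∘ ⇑h =
          ⇑(AdicCompletion.map 𝔫 h) ∘ ⇑(AdicCompletion.of 𝔫 (Fin r → A)) := by
        funext x
        simp only [Function.comp_apply, AdicCompletion.map_of]
      rw [this]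
      exact (AdicCompletion.map_surjective 𝔫 hh).comp (AdicCompletion.of_surjective 𝔫 _)
    exact Surjective.of_comp h1
  haveI : IsAdicComplete 𝔫 (RingHom.ker (algebraMap E A)) := {}
  haveI : IsAdicComplete 𝔫 K := isAdicComplete_of_linearEquiv 𝔫 (LinearEquiv.ofEq _ _ hNK)
  haveI : IsAdicComplete 𝔫 (E ⧸ K) := by
    have e : (E ⧸ K) ≃ₗ[E] A := by
      rw [hK]
      exact LinearMap.quotKerEquivOfSurjective (Algebra.linearMap E A) hf
    exact isAdicComplete_of_linearEquiv 𝔫 e.symm
  exact isAdicComplete_of_exact 𝔫 K.subtype K.mkQ K.injective_subtype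
    (LinearMap.exact_subtype_mkQ K) K.mkQ_surjective

end main

end H21.SqZeroComplete
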