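import Mathlib

set_option autoImplicit false

open CategoryTheory Limits Pretriangulated ObjectProperty

namespace H21.StrongGen

section general

variable {C : Type*} [Category C]

lemma closedUnderLimitsOfShape_discrete_of_pi {J : Type*} (P : ObjectProperty C)
    [HasLimitsOfShape (Discrete J) C] [P.IsClosedUnderIsomorphisms]
    (h : ∀ f : J → C, (∀ j, P (f j)) → P (∏ᶜ f)) :
    P.IsClosedUnderLimitsOfShape (Discrete J) where
  limitsOfShape_le := by
    rintro X ⟨p⟩
    refine P.prop_of_iso ?_ (h (fun j => p.diag.obj ⟨j⟩) (fun j => p.prop_diag_obj ⟨j⟩))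
    exact IsLimit.conePointsIsoOfNatIso (limit.isLimit _) p.isLimit Discrete.natIsoFunctor.symm

lemma prop_pi' {J : Type*} (P : ObjectProperty C)
    [HasLimitsOfShape (Discrete J) C] [P.IsClosedUnderLimitsOfShape (Discrete J)]
    (f : J → C) (h : ∀ j, P (f j)) : P (∏ᶜ f) :=
  P.prop_of_isLimit (limit.isLimit (Discrete.functor f)) (fun ⟨j⟩ => h j)

instance retractClosure_closed {J : Type*} (P : ObjectProperty C)
    [HasLimitsOfShape (Discrete J) C] [P.IsClosedUnderLimitsOfShape (Discrete J)] :
    P.retractClosure.IsClosedUnderLimitsOfShape (Discrete J) := by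
  apply closedUnderLimitsOfShape_discrete_of_pi
  intro f hf
  choose W hW hr using hf
  refine ⟨∏ᶜ W, prop_pi' P W hW, ⟨?_⟩⟩
  exact
    { i := Limits.Pi.map (fun j => (hr j).some.i)
      r := Limits.Pi.map (fun j => (hr j).some.r)
      retract := by
        rw [Limits.Pi.map_comp_map]
        simp }

end general

section tri

variable {C : Type*} [Category C] [HasZeroObject C] [HasShift C ℤ] [Preadditive C]
  [∀ (n : ℤ), (shiftFunctor C n).Additive] [Pretriangulated C]

instance extensionProduct_closed {J : Type} [Finite J] (P Q : ObjectProperty C)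
    [P.IsClosedUnderLimitsOfShape (Discrete J)] [Q.IsClosedUnderLimitsOfShape (Discrete J)] :
    (extensionProduct P Q).IsClosedUnderLimitsOfShape (Discrete J) := by
  apply closedUnderLimitsOfShape_discrete_of_pi
  intro f hf
  choose Y Z a b c hT hP hQ using hf
  let T : J → Triangle C := fun j => Triangle.mk (a j) (b j) (c j)
  exact ⟨_, _, _, _, _, productTriangle_distinguished T hT, prop_pi' P Y hP, prop_pi' Q Z hQ⟩

instance extensionProductIter_closed {J : Type} [Finite J] (P : ObjectProperty C)
    [P.IsClosedUnderLimitsOfShape (Discrete J)] (n : ℕ) :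
    (P.extensionProductIter n).IsClosedUnderLimitsOfShape (Discrete J) := by
  induction n with
  | zero => rwa [extensionProductIter_zero]
  | succ n ih => rw [extensionProductIter_succ]; infer_instance

instance triangEnvelopeIter_closed (P : ObjectProperty C) (n : ℕ) :
    (P.triangEnvelopeIter n).IsClosedUnderBinaryProducts := by
  unfold triangEnvelopeIter
  infer_instance

lemma extensionProductIter_extensionProductIter [IsTriangulated C] (P : ObjectProperty C)
    (m n : ℕ) :
    (P.extensionProductIter m).extensionProductIter n =
      P.extensionProductIter (m * n + m + n) := by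
  induction n with
  | zero => simp [extensionProductIter_zero]
  | succ n ih =>
    rw [extensionProductIter_succ, ih]
    have : m * (n + 1) + m + (n + 1) = (m + 1) + (m * n + m + n) := by ring
    rw [this, extensionProductIter_add P (rfl : m + 1 = m + 1)]

lemma triangEnvelopeIter_triangEnvelopeIter_le [IsTriangulated C] (P : ObjectProperty C)
    (m n : ℕ) :
    (P.triangEnvelopeIter m).triangEnvelopeIter n ≤ P.triangEnvelopeIter (m * n + m + n) := by
  have h1 : (P.triangEnvelopeIter m).shiftClosure ℤ = P.triangEnvelopeIter m :=
    shiftClosure_eq_self _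
  have h2 : (P.triangEnvelopeIter m).binaryProductsClosure = P.triangEnvelopeIter m :=
    limitsClosure_eq_self _ _
  have h3 : (P.triangEnvelopeIter m).retractClosure = P.triangEnvelopeIter m :=
    retractClosure_eq_self _
  have h4 : (P.triangEnvelopeIter m).triangEnvelopeIter n =
      ((P.triangEnvelopeIter m).extensionProductIter n).retractClosure := by
    conv_lhs => rw [triangEnvelopeIter, h1, h2, h3]
  rw [h4, retractClosure_le_iff]
  refine (extensionProductIter_retractClosure_le _).trans ?_
  rw [extensionProductIter_extensionProductIter]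

theorem main [IsTriangulated C] (G E : C)
    (hG : ObjectProperty.IsStrongTriangulatedGenerator (fun X : C => X = G))
    (hE : ObjectProperty.IsClassicalTriangulatedGenerator (fun X : C => X = E)) :
    ObjectProperty.IsStrongTriangulatedGenerator (fun X : C => X = E) := by
  obtain ⟨n, hn⟩ := hG
  have hGE : ObjectProperty.triangEnvelope (fun X : C => X = E) G := by
    rw [isClassicalTriangulatedGenerator_iff] at hE
    rw [hE]; trivial
  rw [prop_triangEnvelope_iff] at hGE
  obtain ⟨m, hm⟩ := hGE
  refine ⟨m * n + m + n, ?_⟩
  rw [eq_top_iff, ← hn]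
  refine le_trans (monotone_triangEnvelopeIter ?_ n) (triangEnvelopeIter_triangEnvelopeIter_le _ m n)
  rintro X rfl
  exact hm

end tri

end H21.StrongGen
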