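import Mathlib

namespace Groth.Agent.H21.SymCot

open MvPolynomial TensorProduct

universe u

variable {A : Type u} [CommRing A] {M : Type u} [AddCommGroup M] [Module A M] {m : ℕ}
  (x : Fin m → M)

/-- the linear form attached to a vector -/
noncomputable def lin : (Fin m → A) →ₗ[A] MvPolynomial (Fin m) A where
  toFun v := ∑ j, C (v j) * X j
  map_add' v w := by simp [add_mul, Finset.sum_add_distrib]
  map_smul' a v := by
    simp only [Pi.smul_apply, smul_eq_mul, RingHom.id_apply, Finset.smul_sum]
    refine Finset.sum_congr rfl fun j _ => ?_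
    rw [C_mul, mul_assoc, MvPolynomial.smul_eq_C_mul]

lemma lin_apply (v : Fin m → A) : lin v = ∑ j, C (v j) * X j := rfl

lemma lin_single (j : Fin m) : lin (Pi.single j (1 : A)) = (X j : MvPolynomial (Fin m) A) := by
  rw [lin_apply, Finset.sum_eq_single j]
  · simp
  · intro i _ hij
    rw [Pi.single_eq_of_ne hij]; simp
  · intro h; exact absurd (Finset.mem_univ j) h

/-- The ideal generated by the linear forms coming from relations. -/
noncomputable def L : Ideal (MvPolynomial (Fin m) A) :=
  Ideal.span (Set.range fun k : LinearMap.ker (Fintype.linearCombination A x) =>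
    lin (k : Fin m → A))

/-- vectors to the quotient -/
noncomputable def g : (Fin m → A) →ₗ[A] (MvPolynomial (Fin m) A ⧸ L x) :=
  (Ideal.Quotient.mkₐ A (L x)).toLinearMap ∘ₗ lin

lemma ker_le_ker_g : LinearMap.ker (Fintype.linearCombination A x) ≤ LinearMap.ker (g x) := by
  intro k hk
  rw [LinearMap.mem_ker]
  unfold g
  rw [LinearMap.comp_apply]
  exact Ideal.Quotient.eq_zero_iff_mem.2 (Ideal.subset_span ⟨⟨k, hk⟩, rfl⟩)

variable (hx : Function.Surjective (Fintype.linearCombination A x))

/-- the linear map `M → A[y]/L` -/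
noncomputable def φ : M →ₗ[A] (MvPolynomial (Fin m) A ⧸ L x) :=
  (Submodule.liftQ _ (g x) (ker_le_ker_g x)) ∘ₗ
    ((Fintype.linearCombination A x).quotKerEquivOfSurjective hx).symm.toLinearMap

lemma φ_apply (v : Fin m → A) : φ x hx (Fintype.linearCombination A x v) = g x v := by
  unfold φ
  rw [LinearMap.comp_apply, LinearEquiv.coe_coe]
  have : ((Fintype.linearCombination A x).quotKerEquivOfSurjective hx).symm
      (Fintype.linearCombination A x v) = Submodule.Quotient.mk v := by
    rw [LinearEquiv.symm_apply_eq]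
    rfl
  rw [this, Submodule.liftQ_apply]

lemma φ_x (j : Fin m) : φ x hx (x j) = Ideal.Quotient.mk (L x) (X j) := by
  have : x j = Fintype.linearCombination A x (Pi.single j 1) := by
    simp
  rw [this, φ_apply]
  unfold g
  rw [LinearMap.comp_apply, lin_single]
  rfl

/-- the algebra map `Sym M → A[y]/L` -/
noncomputable def ψ : SymmetricAlgebra A M →ₐ[A] (MvPolynomial (Fin m) A ⧸ L x) :=
  SymmetricAlgebra.lift (φ x hx)

lemma ψ_comp :
    (ψ x hx).comp (aeval (fun j => SymmetricAlgebra.ι A M (x j)))
      = Ideal.Quotient.mkₐ A (L x) := by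
  apply MvPolynomial.algHom_ext
  intro j
  rw [AlgHom.comp_apply, aeval_X]
  unfold ψ
  rw [SymmetricAlgebra.lift_ι_apply, φ_x]
  rfl

include hx in
lemma ker_le_L : RingHom.ker (aeval (fun j => SymmetricAlgebra.ι A M (x j)) :
    MvPolynomial (Fin m) A →ₐ[A] SymmetricAlgebra A M) ≤ L x := by
  intro p hp
  rw [RingHom.mem_ker] at hp
  have := AlgHom.congr_fun (ψ_comp x hx) p
  rw [AlgHom.comp_apply, hp, map_zero] at this
  exact Ideal.Quotient.eq_zero_iff_mem.1 this.symm

lemma lin_mem_ker (k : LinearMap.ker (Fintype.linearCombination A x)) :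
    lin (k : Fin m → A) ∈ RingHom.ker (aeval (fun j => SymmetricAlgebra.ι A M (x j)) :
      MvPolynomial (Fin m) A →ₐ[A] SymmetricAlgebra A M) := by
  rw [RingHom.mem_ker, lin_apply, map_sum]
  have hk := k.2
  rw [LinearMap.mem_ker, Fintype.linearCombination_apply] at hk
  have : ∑ j, (aeval (fun j => SymmetricAlgebra.ι A M (x j)))
      (C ((k : Fin m → A) j) * X j : MvPolynomial (Fin m) A)
      = SymmetricAlgebra.ι A M (∑ j, (k : Fin m → A) j • x j) := by
    rw [map_sum]
    refine Finset.sum_congr rfl fun j _ => ?_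
    rw [map_mul, aeval_C, aeval_X, map_smul, Algebra.smul_def]
  rw [this, hk, map_zero]

include hx in
lemma L_eq_ker : L x = RingHom.ker (aeval (fun j => SymmetricAlgebra.ι A M (x j)) :
    MvPolynomial (Fin m) A →ₐ[A] SymmetricAlgebra A M) := by
  apply le_antisymm
  · unfold L
    rw [Ideal.span_le]
    rintro _ ⟨k, rfl⟩
    exact lin_mem_ker x k
  · exact ker_le_L x hx

end Groth.Agent.H21.SymCot

namespace Groth.Agent.H21.SymCot

open MvPolynomial TensorProduct KaehlerDifferential

universe u

variable {A : Type u} [CommRing A] {M : Type u} [AddCommGroup M] [Module A M] {m : ℕ}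
  (x : Fin m → M) (hx : Function.Surjective (Fintype.linearCombination A x))
  (G : Algebra.Generators A (SymmetricAlgebra A M) (Fin m))
  (hG : ∀ j, G.val j = SymmetricAlgebra.ι A M (x j))

set_option backward.isDefEq.respectTransparency false

include hG in
lemma mem_ker_iff (p : G.toExtension.Ring) :
    p ∈ G.toExtension.ker ↔ (aeval (fun j => SymmetricAlgebra.ι A M (x j)) :
      MvPolynomial (Fin m) A →ₐ[A] SymmetricAlgebra A M) p = 0 := by
  have hv : G.val = fun j => SymmetricAlgebra.ι A M (x j) := funext hG
  rw [Algebra.Extension.ker, RingHom.mem_ker]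
  change algebraMap G.Ring _ p = 0 ↔ _
  rw [Algebra.Generators.algebraMap_apply, hv]

include hG in
lemma lin_mem (k : LinearMap.ker (Fintype.linearCombination A x)) :
    (lin (k : Fin m → A) : MvPolynomial (Fin m) A) ∈ G.toExtension.ker := by
  rw [mem_ker_iff x G hG]
  exact lin_mem_ker x k

/-- the A-linear map `K → J/J²` -/
noncomputable def e₁ : LinearMap.ker (Fintype.linearCombination A x) →ₗ[A] G.toExtension.Cotangent where
  toFun k := Algebra.Extension.Cotangent.mk ⟨lin (k : Fin m → A), lin_mem x G hG k⟩
  map_add' k k' := by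
    have : (⟨lin ((k + k' : LinearMap.ker (Fintype.linearCombination A x)) : Fin m → A),
        lin_mem x G hG (k + k')⟩ : G.toExtension.ker)
        = ⟨lin (k : Fin m → A), lin_mem x G hG k⟩ + ⟨lin (k' : Fin m → A), lin_mem x G hG k'⟩ :=
      Subtype.ext (map_add lin _ _)
    rw [this, map_add]
  map_smul' a k := by
    have : (⟨lin ((a • k : LinearMap.ker (Fintype.linearCombination A x)) : Fin m → A),
        lin_mem x G hG (a • k)⟩ : G.toExtension.ker)
        = a • ⟨lin (k : Fin m → A), lin_mem x G hG k⟩ :=
      Subtype.ext (map_smul lin _ _)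
    rw [this, RingHom.id_apply, LinearMap.map_smul_of_tower]

/-- the `Sym M`-linear map `Sym M ⊗ K → J/J²` -/
noncomputable def e : SymmetricAlgebra A M ⊗[A] (LinearMap.ker (Fintype.linearCombination A x))
    →ₗ[SymmetricAlgebra A M] G.toExtension.Cotangent :=
  LinearMap.liftBaseChange (SymmetricAlgebra A M) (e₁ x G hG)

lemma e_one_tmul (k : LinearMap.ker (Fintype.linearCombination A x)) :
    e x G hG (1 ⊗ₜ k) = Algebra.Extension.Cotangent.mk ⟨lin (k : Fin m → A), lin_mem x G hG k⟩ := by
  unfold e
  rw [LinearMap.liftBaseChange_tmul, one_smul]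
  rfl

include hx in
lemma e_surjective : Function.Surjective (e x G hG) := by
  rw [← LinearMap.range_eq_top, eq_top_iff]
  have hs : Ideal.span (Set.range fun k : LinearMap.ker (Fintype.linearCombination A x) =>
      (lin (k : Fin m → A) : G.toExtension.Ring)) = G.toExtension.ker := by
    apply le_antisymm
    · rw [Ideal.span_le]
      rintro _ ⟨k, rfl⟩
      exact lin_mem x G hG k
    · intro p hp
      rw [mem_ker_iff x G hG] at hp
      have : p ∈ L x := ker_le_L x hx hp
      exact this
  rw [← Algebra.Extension.Cotangent.span_eq_top_of_span_eq_ker _ hs, Submodule.span_le]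
  rintro _ ⟨k, rfl⟩
  exact ⟨1 ⊗ₜ k, e_one_tmul x G hG k⟩

/-- the comparison of free modules -/
noncomputable def Θ : SymmetricAlgebra A M ⊗[A] (Fin m → A) ≃ₗ[SymmetricAlgebra A M]
    G.toExtension.CotangentSpace :=
  ((Pi.basisFun A (Fin m)).baseChange (SymmetricAlgebra A M)).equiv G.cotangentSpaceBasis
    (Equiv.refl _)

lemma Θ_one_tmul (v : Fin m → A) :
    Θ G (1 ⊗ₜ v) = (1 : SymmetricAlgebra A M) ⊗ₜ[G.toExtension.Ring]
      (D A G.toExtension.Ring (lin v : G.toExtension.Ring)) := by
  let f₁ : (Fin m → A) →ₗ[A] G.toExtension.CotangentSpace :=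
    ((Θ G).toLinearMap.restrictScalars A) ∘ₗ (TensorProduct.mk A (SymmetricAlgebra A M) (Fin m → A) 1)
  let f₂ : (Fin m → A) →ₗ[A] G.toExtension.CotangentSpace :=
    ((TensorProduct.mk G.toExtension.Ring (SymmetricAlgebra A M) (Ω[G.toExtension.Ring⁄A]) 1).restrictScalars A)
      ∘ₗ ((D A G.toExtension.Ring).toLinearMap) ∘ₗ lin
  have : f₁ = f₂ := by
    apply LinearMap.pi_ext'
    intro j
    apply LinearMap.ext_ring
    change Θ G (1 ⊗ₜ Pi.single j 1) = (1 : SymmetricAlgebra A M) ⊗ₜ[G.toExtension.Ring]
      (D A G.toExtension.Ring (lin (Pi.single j 1) : G.toExtension.Ring))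
    rw [lin_single]
    have h1 : (1 : SymmetricAlgebra A M) ⊗ₜ[A] (Pi.single j (1 : A) : Fin m → A)
        = ((Pi.basisFun A (Fin m)).baseChange (SymmetricAlgebra A M)) j := by
      rw [Module.Basis.baseChange_apply, Pi.basisFun_apply]
    rw [h1]
    unfold Θ
    rw [Module.Basis.equiv_apply, Equiv.refl_apply, Algebra.Generators.cotangentSpaceBasis_apply]
    rfl
  exact LinearMap.congr_fun this v

lemma cc_e :
    G.toExtension.cotangentComplex ∘ₗ e x G hG
      = (Θ G).toLinearMap ∘ₗ
        ((LinearMap.ker (Fintype.linearCombination A x)).subtype.baseChange (SymmetricAlgebra A M)) := by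
  apply TensorProduct.AlgebraTensorModule.ext
  intro s k
  have hs : s ⊗ₜ[A] k = s • ((1 : SymmetricAlgebra A M) ⊗ₜ[A] k) := by
    rw [TensorProduct.smul_tmul', smul_eq_mul, mul_one]
  rw [hs, map_smul, map_smul, LinearMap.comp_apply, e_one_tmul, Algebra.Extension.cotangentComplex_mk,
    LinearMap.comp_apply, LinearMap.baseChange_tmul, LinearEquiv.coe_coe, Θ_one_tmul]
  rfl

include hx in
lemma e_injective [Module.Projective A M] : Function.Injective (e x G hG) := by
  have h1 : Function.Injective (G.toExtension.cotangentComplex ∘ₗ e x G hG) := by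
    rw [cc_e]
    rw [LinearMap.coe_comp]
    apply Function.Injective.comp (Θ G).injective
    obtain ⟨s, hs⟩ := Module.projective_lifting_property (Fintype.linearCombination A x)
      LinearMap.id hx
    let r : (Fin m → A) →ₗ[A] LinearMap.ker (Fintype.linearCombination A x) :=
      (LinearMap.id - s ∘ₗ (Fintype.linearCombination A x)).codRestrict _ (by
        intro v
        rw [LinearMap.mem_ker, LinearMap.sub_apply, map_sub, LinearMap.id_apply,
          LinearMap.comp_apply]
        have := LinearMap.congr_fun hs (Fintype.linearCombination A x v)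
        rw [LinearMap.comp_apply, LinearMap.id_apply] at this
        rw [this, sub_self])
    have hr : r ∘ₗ (LinearMap.ker (Fintype.linearCombination A x)).subtype = LinearMap.id := by
      ext1 k
      apply Subtype.ext
      change (k : Fin m → A) - s (Fintype.linearCombination A x k) = k
      have hk := k.2
      rw [LinearMap.mem_ker] at hk
      rw [hk, map_zero, sub_zero]
    have hr2 : (r.baseChange (SymmetricAlgebra A M)) ∘ₗ
        ((LinearMap.ker (Fintype.linearCombination A x)).subtype.baseChange (SymmetricAlgebra A M))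
        = LinearMap.id := by
      rw [← LinearMap.baseChange_comp, hr, LinearMap.baseChange_id]
    intro a b hab
    have := congrArg (r.baseChange (SymmetricAlgebra A M)) hab
    rw [← LinearMap.comp_apply, ← LinearMap.comp_apply, hr2] at this
    exact this
  exact Function.Injective.of_comp h1

end Groth.Agent.H21.SymCot
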