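import Mathlib

set_option autoImplicit false
open TensorProduct

namespace Groth.Agent.H21.Tele

universe u v w
variable {A : Type u} [CommRing A] {r : ℕ} {M : Fin r → Type v} {N : Type w}
  [∀ i, AddCommGroup (M i)] [∀ i, Module A (M i)] [AddCommGroup N] [Module A N]

theorem vec_eq_update (a b c : ∀ k, M k) (i : Fin r) :
    (fun k => if k < i then a k else if k = i then c k else b k) =
      Function.update (fun k => if k < i then a k else b k) i (c i) := by
  funext k
  by_cases h : k = i
  · subst h
    simp
  · rw [Function.update_of_ne h]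
    simp [h]

/-- telescoping for multilinear maps -/
theorem tele (φ : MultilinearMap A M N) (u v : ∀ k, M k) :
    φ u - φ v = ∑ i : Fin r,
      φ (Function.update (fun k => if k < i then u k else v k) i (u i - v i)) := by
  let hyb : ℕ → ∀ k, M k := fun t k => if k.val < t then u k else v k
  have h0 : hyb 0 = v := by
    funext k
    simp [hyb]
  have hr : hyb r = u := by
    funext k
    simp [hyb, k.2]
  have hstep : ∀ i : Fin r, φ (hyb (i.val + 1)) - φ (hyb i.val) =
      φ (Function.update (fun k => if k < i then u k else v k) i (u i - v i)) := by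
    intro i
    have e0 : (fun k : Fin r => if k < i then u k else v k) = hyb i.val := by
      funext k
      by_cases hlt : k < i
      · have hlt' : k.val < i.val := hlt
        simp [hyb, hlt, hlt']
      · have hlt' : ¬ k.val < i.val := hlt
        simp [hyb, hlt, hlt']
    have e1 : hyb (i.val + 1) = Function.update (hyb i.val) i (u i) := by
      funext k
      by_cases h : k = i
      · subst h
        simp [hyb]
      · rw [Function.update_of_ne h]
        have hne : k.val ≠ i.val := fun h' => h (Fin.ext h')
        by_cases hlt : k.val < i.val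
        · simp [hyb, hlt, Nat.lt_succ_of_lt hlt]
        · have : ¬ k.val < i.val + 1 := by omega
          simp [hyb, hlt, this]
    have e2 : hyb i.val = Function.update (hyb i.val) i (v i) := by
      funext k
      by_cases h : k = i
      · subst h
        simp [hyb]
      · rw [Function.update_of_ne h]
    rw [e0, MultilinearMap.map_update_sub, ← e1, ← e2]
  have key : φ (hyb r) - φ (hyb 0) = ∑ i : Fin r,
      φ (Function.update (fun k => if k < i then u k else v k) i (u i - v i)) := by
    rw [← Finset.sum_range_sub (fun t => φ (hyb t)) r]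
    rw [← Fin.sum_univ_eq_sum_range (fun t => φ (hyb (t + 1)) - φ (hyb t)) r]
    apply Finset.sum_congr rfl
    intro i _
    exact hstep i
  rw [hr, h0] at key
  exact key

theorem ident_of_regular (φ : MultilinearMap A M N) (α : A) (hreg : ∀ z : N, α • z = 0 → z = 0)
    (n : ℕ) (y w : ∀ i, ℕ → M i) (hw : ∀ i, ∀ j < n, w i (j + 1) = w i j + α • y i j) :
    (∑ i : Fin r, ∑ j ∈ Finset.range n,
        φ (fun k => if k < i then w k (j + 1) else if k = i then y k j else w k j)) =
      ∑ i : Fin r, ∑ j ∈ Finset.range n,
        φ (fun k => if k < i then w k n else if k = i then y k j else w k 0) := by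
  have hL : α • (∑ i : Fin r, ∑ j ∈ Finset.range n,
        φ (fun k => if k < i then w k (j + 1) else if k = i then y k j else w k j)) =
      φ (fun k => w k n) - φ (fun k => w k 0) := by
    rw [Finset.sum_comm, Finset.smul_sum]
    rw [← Finset.sum_range_sub (fun j => φ (fun k => w k j)) n]
    apply Finset.sum_congr rfl
    intro j hj
    rw [Finset.mem_range] at hj
    rw [tele φ (fun k => w k (j + 1)) (fun k => w k j), Finset.smul_sum]
    apply Finset.sum_congr rfl
    intro i _
    rw [vec_eq_update, ← MultilinearMap.map_update_smul]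
    congr 2
    rw [hw i j hj]
    abel
  have hR : α • (∑ i : Fin r, ∑ j ∈ Finset.range n,
        φ (fun k => if k < i then w k n else if k = i then y k j else w k 0)) =
      φ (fun k => w k n) - φ (fun k => w k 0) := by
    rw [Finset.smul_sum, tele φ (fun k => w k n) (fun k => w k 0)]
    apply Finset.sum_congr rfl
    intro i _
    have hsum : w i n - w i 0 = ∑ j ∈ Finset.range n, α • y i j := by
      rw [← Finset.sum_range_sub (fun j => w i j) n]
      apply Finset.sum_congr rfl
      intro j hj
      rw [Finset.mem_range] at hj
      rw [hw i j hj]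
      abel
    rw [hsum, MultilinearMap.map_update_sum, Finset.smul_sum]
    apply Finset.sum_congr rfl
    intro j _
    rw [vec_eq_update, MultilinearMap.map_update_smul]
  rw [← sub_eq_zero]
  apply hreg
  rw [smul_sub, hL, hR, sub_self]

theorem regular_of_basis {κ : Type*} {T : Type*} [AddCommGroup T] [Module A T]
    (B : Module.Basis κ A T) (α : A) (hα : α ∈ nonZeroDivisors A) (z : T) (hz : α • z = 0) :
    z = 0 := by
  apply B.repr.injective
  rw [map_zero]
  ext k
  have h1 : B.repr (α • z) k = 0 := by rw [hz, map_zero]; rfl
  rw [map_smul, Finsupp.smul_apply, smul_eq_mul] at h1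
  exact (mul_right_mem_nonZeroDivisors_eq_zero_iff hα).mp (by rw [mul_comm]; exact h1)

theorem main (α : A) (hα : α ∈ nonZeroDivisors A) (φ : MultilinearMap A M N) (n : ℕ)
    (y w : ∀ i, ℕ → M i) (hw : ∀ i, ∀ j < n, w i (j + 1) = w i j + α • y i j) :
    (∑ i : Fin r, ∑ j ∈ Finset.range n,
        φ (fun k => if k < i then w k (j + 1) else if k = i then y k j else w k j)) =
      ∑ i : Fin r, ∑ j ∈ Finset.range n,
        φ (fun k => if k < i then w k n else if k = i then y k j else w k 0) := by
  classical
  -- free lifts
  let g : ∀ i, Fin (n + 1) → M i := fun i => Fin.cons (w i 0) (fun j => y i j)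
  let π : ∀ i : Fin r, (Fin (n + 1) → A) →ₗ[A] M i :=
    fun i => (Pi.basisFun A (Fin (n + 1))).constr A (g i)
  have hπ : ∀ i (t : Fin (n + 1)), π i (Pi.single t 1) = g i t := by
    intro i t
    have := (Pi.basisFun A (Fin (n + 1))).constr_basis A (g i) t
    rw [Pi.basisFun_apply] at this
    exact this
  let y' : Fin r → ℕ → (Fin (n + 1) → A) := fun _ j =>
    if h : j < n then Pi.single (⟨j + 1, Nat.succ_lt_succ h⟩ : Fin (n + 1)) 1 else 0
  let w' : Fin r → ℕ → (Fin (n + 1) → A) := fun i j =>
    Nat.rec (Pi.single 0 1) (fun j' prev => prev + α • y' i j') j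
  have hw'succ : ∀ i j, w' i (j + 1) = w' i j + α • y' i j := fun i j => rfl
  have hy : ∀ i j, j < n → π i (y' i j) = y i j := by
    intro i j hj
    simp only [y', hj, dif_pos]
    rw [hπ]
    show Fin.cons (α := fun _ => M i) (w i 0) (fun j : Fin n => y i j) ((⟨j, hj⟩ : Fin n).succ) = y i j
    rw [Fin.cons_succ]
  have hwπ : ∀ i j, j ≤ n → π i (w' i j) = w i j := by
    intro i j
    induction j with
    | zero =>
      intro _
      show π i (Pi.single 0 1) = w i 0
      rw [hπ]
      simp [g]
    | succ j ih =>
      intro hj
      rw [hw'succ i j, map_add, map_smul, ih (Nat.le_of_succ_le hj), hy i j hj, hw i j hj]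
  -- the universal multilinear map
  let B := Basis.piTensorProduct (R := A) (fun _ : Fin r => Pi.basisFun A (Fin (n + 1)))
  have hreg : ∀ z : (⨂[A] _ : Fin r, (Fin (n + 1) → A)), α • z = 0 → z = 0 :=
    fun z hz => regular_of_basis B α hα z hz
  have key := ident_of_regular (PiTensorProduct.tprod A) α hreg n y' w' (fun i j _ => hw'succ i j)
  let L : (⨂[A] _ : Fin r, (Fin (n + 1) → A)) →ₗ[A] N :=
    PiTensorProduct.lift (φ.compLinearMap π)
  have hL : ∀ v : Fin r → (Fin (n + 1) → A),
      L (PiTensorProduct.tprod A v) = φ (fun k => π k (v k)) := by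
    intro v
    exact PiTensorProduct.lift.tprod v
  have key2 := congrArg L key
  simp only [map_sum, hL] at key2
  refine (Finset.sum_congr rfl fun i _ => Finset.sum_congr rfl fun j hj => ?_).trans
    (key2.trans (Finset.sum_congr rfl fun i _ => Finset.sum_congr rfl fun j hj => ?_))
  · rw [Finset.mem_range] at hj
    congr 1
    funext k
    split_ifs
    · exact (hwπ k (j + 1) hj).symm
    · exact (hy k j hj).symm
    · exact (hwπ k j (le_of_lt hj)).symm
  · rw [Finset.mem_range] at hj
    congr 1
    funext k
    split_ifs
    · exact (hwπ k n le_rfl)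
    · exact (hy k j hj)
    · exact (hwπ k 0 (Nat.zero_le _))

end Groth.Agent.H21.Tele
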