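import Mathlib
import Groth.Prelude.Def_Omega3

namespace Groth.Agent.H21.ThickLoc

universe u

theorem loc_target (A B B' : Type u) [CommRing A] [CommRing B]
    [CommRing B'] [Algebra A B] [Algebra A B'] (π : B' →ₐ[A] B)
    (hπ : OmegaSh.IsUnivThickeningRing A B B' π) (S : Submonoid B)
    (BS B'S : Type u) [CommRing BS] [CommRing B'S]
    [Algebra B BS] [IsLocalization S BS]
    [Algebra B' B'S] [IsLocalization (S.comap π.toRingHom.toMonoidHom) B'S]
    [Algebra A BS] [IsScalarTower A B BS] [Algebra A B'S] [IsScalarTower A B' B'S]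
    (πS : B'S →ₐ[A] BS) (hπS : ∀ x : B', πS (algebraMap B' B'S x) = algebraMap B BS (π x)) :
    OmegaSh.IsUnivThickeningRing A BS B'S πS := by
  obtain ⟨hsurj, hker, huniv⟩ := hπ
  obtain ⟨S', hS'⟩ : ∃ S' : Submonoid B', S' = S.comap π.toRingHom.toMonoidHom := ⟨_, rfl⟩
  have hS'mem : ∀ x : B', x ∈ S' ↔ π x ∈ S := by
    intro x
    rw [hS']
    rfl
  haveI : IsLocalization S' B'S := by rw [hS']; infer_instance
  refine ⟨?_, ?_, ?_⟩
  · -- surjective
    intro y
    obtain ⟨b, s, rfl⟩ := IsLocalization.exists_mk'_eq S y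
    obtain ⟨b', rfl⟩ := hsurj b
    obtain ⟨s', hs'⟩ := hsurj s.1
    have hs'S : s' ∈ S' := by rw [hS'mem, hs']; exact s.2
    refine ⟨IsLocalization.mk' B'S b' (⟨s', hs'S⟩ : S'), ?_⟩
    rw [IsLocalization.eq_mk'_iff_mul_eq, ← hs', ← hπS, ← hπS, ← map_mul]
    congr 1
    exact IsLocalization.mk'_spec B'S b' (⟨s', hs'S⟩ : S')
  · -- kernel of square zero
    have key : ∀ x : B'S, πS x = 0 → ∃ (t : S') (k : B'), k ∈ RingHom.ker π.toRingHom ∧
        algebraMap B' B'S t * x = algebraMap B' B'S k := by
      intro x hx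
      obtain ⟨b, s, rfl⟩ := IsLocalization.exists_mk'_eq S' x
      have h1 : algebraMap B BS (π b) = 0 := by
        rw [← hπS, ← IsLocalization.mk'_spec B'S b s, map_mul, hx, zero_mul]
      obtain ⟨t, ht⟩ := (IsLocalization.map_eq_zero_iff S BS (π b)).1 h1
      obtain ⟨t', ht'⟩ := hsurj t.1
      have ht'S : t' ∈ S' := by rw [hS'mem, ht']; exact t.2
      refine ⟨⟨t', ht'S⟩ * s, t' * b, ?_, ?_⟩
      · rw [RingHom.mem_ker]
        change π (t' * b) = 0
        rw [map_mul, ht', ht]
      · rw [Submonoid.coe_mul, map_mul, map_mul, mul_assoc, mul_comm (algebraMap B' B'S s),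
          IsLocalization.mk'_spec]
    rw [eq_bot_iff, pow_two, Ideal.mul_le]
    intro x hx y hy
    obtain ⟨t, k, hk, hx'⟩ := key x ((RingHom.mem_ker).1 hx)
    obtain ⟨t₂, k₂, hk₂, hy'⟩ := key y ((RingHom.mem_ker).1 hy)
    have hkk : k * k₂ = 0 := by
      have : k * k₂ ∈ RingHom.ker π.toRingHom ^ 2 := by
        rw [pow_two]; exact Ideal.mul_mem_mul hk hk₂
      rw [hker] at this
      exact this
    have h2 : (algebraMap B' B'S t * algebraMap B' B'S t₂) * (x * y) = 0 := by
      have : (algebraMap B' B'S t * algebraMap B' B'S t₂) * (x * y)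
          = (algebraMap B' B'S t * x) * (algebraMap B' B'S t₂ * y) := by ring
      rw [this, hx', hy', ← map_mul, hkk, map_zero]
    have hu : IsUnit (algebraMap B' B'S t * algebraMap B' B'S t₂) :=
      (IsLocalization.map_units B'S t).mul (IsLocalization.map_units B'S t₂)
    rw [Ideal.mem_bot]
    exact (hu.mul_right_eq_zero).1 h2
  · intro C _ _ I hI a
    obtain ⟨g, hg, hguniq⟩ := huniv C I hI (a.comp (IsScalarTower.toAlgHom A B BS))
    have hgmk : ∀ x : B', Ideal.Quotient.mk I (g x) = a (algebraMap B BS (π x)) := by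
      intro x
      exact DFunLike.congr_fun hg x
    have hunit : ∀ y : S', IsUnit (g y) := by
      intro y
      rw [← IsNilpotent.isUnit_quotient_mk_iff (I := I) ⟨2, hI⟩, hgmk]
      apply IsUnit.map
      exact IsLocalization.map_units BS (⟨π y, (hS'mem y).1 y.2⟩ : S)
    obtain ⟨g', hg'def⟩ : ∃ g' : B'S →ₐ[A] C, g' = IsLocalization.liftAlgHom hunit := ⟨_, rfl⟩
    have hg'app : ∀ x : B', g' (algebraMap B' B'S x) = g x := by
      intro x
      rw [hg'def, IsLocalization.liftAlgHom_apply, IsLocalization.lift_eq]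
      rfl
    have hprop : (Ideal.Quotient.mkₐ A I).comp g' = a.comp πS := by
      have : ((Ideal.Quotient.mkₐ A I).comp g').toRingHom = (a.comp πS).toRingHom := by
        apply IsLocalization.ringHom_ext S'
        ext x
        change Ideal.Quotient.mk I (g' (algebraMap B' B'S x)) = a (πS (algebraMap B' B'S x))
        rw [hg'app, hgmk, hπS]
      apply AlgHom.ext
      intro x
      exact DFunLike.congr_fun this x
    refine ⟨g', hprop, ?_⟩
    intro g'' hprop''
    have h1 : g''.comp (IsScalarTower.toAlgHom A B' B'S) = g := by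
      apply hguniq
      apply AlgHom.ext
      intro x
      have := DFunLike.congr_fun hprop'' (algebraMap B' B'S x)
      change Ideal.Quotient.mk I (g'' (algebraMap B' B'S x)) = a (πS (algebraMap B' B'S x)) at this
      change Ideal.Quotient.mk I (g'' (algebraMap B' B'S x)) = a (algebraMap B BS (π x))
      rw [this, hπS]
    have : g''.toRingHom = g'.toRingHom := by
      apply IsLocalization.ringHom_ext S'
      ext x
      change g'' (algebraMap B' B'S x) = g' (algebraMap B' B'S x)
      rw [hg'app, ← h1]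
      rfl
    apply AlgHom.ext
    intro x
    exact DFunLike.congr_fun this x

theorem loc_base (A B B' : Type u) [CommRing A] [CommRing B]
    [CommRing B'] [Algebra A B] [Algebra A B'] (π : B' →ₐ[A] B)
    (hπ : OmegaSh.IsUnivThickeningRing A B B' π) (S : Submonoid A)
    (AS BS B'S : Type u) [CommRing AS] [CommRing BS] [CommRing B'S]
    [Algebra A AS] [IsLocalization S AS]
    [Algebra B BS] [IsLocalization (Algebra.algebraMapSubmonoid B S) BS]
    [Algebra B' B'S] [IsLocalization (Algebra.algebraMapSubmonoid B' S) B'S]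
    [Algebra AS BS] [Algebra A BS] [IsScalarTower A AS BS] [IsScalarTower A B BS]
    [Algebra AS B'S] [Algebra A B'S] [IsScalarTower A AS B'S] [IsScalarTower A B' B'S]
    (πS : B'S →ₐ[AS] BS) (hπS : ∀ x : B', πS (algebraMap B' B'S x) = algebraMap B BS (π x)) :
    OmegaSh.IsUnivThickeningRing AS BS B'S πS := by
  obtain ⟨hsurj, hker, huniv⟩ := hπ
  -- elements of the two submonoids correspond
  have hlift : ∀ s : Algebra.algebraMapSubmonoid B S, ∃ s' : Algebra.algebraMapSubmonoid B' S,
      π s' = s := by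
    rintro ⟨s, σ, hσ, rfl⟩
    exact ⟨⟨algebraMap A B' σ, σ, hσ, rfl⟩, π.commutes σ⟩
  refine ⟨?_, ?_, ?_⟩
  · intro y
    obtain ⟨b, s, rfl⟩ := IsLocalization.exists_mk'_eq (Algebra.algebraMapSubmonoid B S) y
    obtain ⟨b', rfl⟩ := hsurj b
    obtain ⟨s', hs'⟩ := hlift s
    refine ⟨IsLocalization.mk' B'S b' s', ?_⟩
    rw [IsLocalization.eq_mk'_iff_mul_eq, ← hs', ← hπS, ← hπS, ← map_mul]
    congr 1
    exact IsLocalization.mk'_spec B'S b' s'
  · have key : ∀ x : B'S, πS x = 0 → ∃ (t : Algebra.algebraMapSubmonoid B' S) (k : B'),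
        k ∈ RingHom.ker π.toRingHom ∧ algebraMap B' B'S t * x = algebraMap B' B'S k := by
      intro x hx
      obtain ⟨b, s, rfl⟩ := IsLocalization.exists_mk'_eq (Algebra.algebraMapSubmonoid B' S) x
      have h1 : algebraMap B BS (π b) = 0 := by
        rw [← hπS, ← IsLocalization.mk'_spec B'S b s, map_mul, hx, zero_mul]
      obtain ⟨t, ht⟩ := (IsLocalization.map_eq_zero_iff (Algebra.algebraMapSubmonoid B S) BS
        (π b)).1 h1
      obtain ⟨t', ht'⟩ := hlift t
      refine ⟨t' * s, t'.1 * b, ?_, ?_⟩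
      · rw [RingHom.mem_ker]
        change π (t'.1 * b) = 0
        rw [map_mul, ht', ht]
      · rw [Submonoid.coe_mul, map_mul, map_mul, mul_assoc, mul_comm (algebraMap B' B'S s),
          IsLocalization.mk'_spec]
    rw [eq_bot_iff, pow_two, Ideal.mul_le]
    intro x hx y hy
    obtain ⟨t, k, hk, hx'⟩ := key x ((RingHom.mem_ker).1 hx)
    obtain ⟨t₂, k₂, hk₂, hy'⟩ := key y ((RingHom.mem_ker).1 hy)
    have hkk : k * k₂ = 0 := by
      have : k * k₂ ∈ RingHom.ker π.toRingHom ^ 2 := by
        rw [pow_two]; exact Ideal.mul_mem_mul hk hk₂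
      rw [hker] at this
      exact this
    have h2 : (algebraMap B' B'S t * algebraMap B' B'S t₂) * (x * y) = 0 := by
      have : (algebraMap B' B'S t * algebraMap B' B'S t₂) * (x * y)
          = (algebraMap B' B'S t * x) * (algebraMap B' B'S t₂ * y) := by ring
      rw [this, hx', hy', ← map_mul, hkk, map_zero]
    have hu : IsUnit (algebraMap B' B'S t * algebraMap B' B'S t₂) :=
      (IsLocalization.map_units B'S t).mul (IsLocalization.map_units B'S t₂)
    rw [Ideal.mem_bot]
    exact (hu.mul_right_eq_zero).1 h2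
  · intro C _ _ I hI a
    letI : Algebra A C := ((algebraMap AS C).comp (algebraMap A AS)).toAlgebra
    haveI : IsScalarTower A AS C := IsScalarTower.of_algebraMap_eq (fun _ => rfl)
    haveI : IsScalarTower A AS (C ⧸ I) := IsScalarTower.of_algebraMap_eq (fun _ => rfl)
    obtain ⟨g, hg, hguniq⟩ := huniv C I hI
      ((a.restrictScalars A).comp (IsScalarTower.toAlgHom A B BS))
    have hgmk : ∀ x : B', Ideal.Quotient.mk I (g x) = a (algebraMap B BS (π x)) := by
      intro x
      exact DFunLike.congr_fun hg x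
    have hunit : ∀ y : Algebra.algebraMapSubmonoid B' S, IsUnit (g.toRingHom y) := by
      rintro ⟨y, σ, hσ, rfl⟩
      change IsUnit (g (algebraMap A B' σ))
      rw [g.commutes]
      change IsUnit (algebraMap AS C (algebraMap A AS σ))
      exact (IsLocalization.map_units AS (⟨σ, hσ⟩ : S)).map _
    obtain ⟨gr, hgrdef⟩ : ∃ gr : B'S →+* C, gr = IsLocalization.lift hunit := ⟨_, rfl⟩
    have hgrapp : ∀ x : B', gr (algebraMap B' B'S x) = g x := by
      intro x
      rw [hgrdef, IsLocalization.lift_eq]
      rfl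
    have hcomm : ∀ z : AS, gr (algebraMap AS B'S z) = algebraMap AS C z := by
      have : gr.comp (algebraMap AS B'S) = algebraMap AS C := by
        apply IsLocalization.ringHom_ext S
        ext x
        change gr (algebraMap AS B'S (algebraMap A AS x)) = algebraMap AS C (algebraMap A AS x)
        rw [← IsScalarTower.algebraMap_apply A AS B'S, IsScalarTower.algebraMap_apply A B' B'S,
          hgrapp, g.commutes]
        rfl
      intro z
      exact DFunLike.congr_fun this z
    obtain ⟨g', hg'def⟩ : ∃ g' : B'S →ₐ[AS] C, g'.toRingHom = gr :=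
      ⟨{ gr with commutes' := hcomm }, rfl⟩
    have hg'app : ∀ x : B', g' (algebraMap B' B'S x) = g x := by
      intro x
      have : g' (algebraMap B' B'S x) = g'.toRingHom (algebraMap B' B'S x) := rfl
      rw [this, hg'def, hgrapp]
    have hprop : (Ideal.Quotient.mkₐ AS I).comp g' = a.comp πS := by
      have : ((Ideal.Quotient.mkₐ AS I).comp g').toRingHom = (a.comp πS).toRingHom := by
        apply IsLocalization.ringHom_ext (Algebra.algebraMapSubmonoid B' S)
        ext x
        change Ideal.Quotient.mk I (g' (algebraMap B' B'S x)) = a (πS (algebraMap B' B'S x))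
        rw [hg'app, hgmk, hπS]
      apply AlgHom.ext
      intro x
      exact DFunLike.congr_fun this x
    refine ⟨g', hprop, ?_⟩
    intro g'' hprop''
    have h1 : (g''.restrictScalars A).comp (IsScalarTower.toAlgHom A B' B'S) = g := by
      apply hguniq
      apply AlgHom.ext
      intro x
      have := DFunLike.congr_fun hprop'' (algebraMap B' B'S x)
      change Ideal.Quotient.mk I (g'' (algebraMap B' B'S x)) = a (πS (algebraMap B' B'S x)) at this
      change Ideal.Quotient.mk I (g'' (algebraMap B' B'S x)) = a (algebraMap B BS (π x))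
      rw [this, hπS]
    have : g''.toRingHom = g'.toRingHom := by
      apply IsLocalization.ringHom_ext (Algebra.algebraMapSubmonoid B' S)
      ext x
      change g'' (algebraMap B' B'S x) = g' (algebraMap B' B'S x)
      rw [hg'app, ← h1]
      rfl
    apply AlgHom.ext
    intro x
    exact DFunLike.congr_fun this x

end Groth.Agent.H21.ThickLoc
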