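import Groth.Statements.S18252
import Mathlib.Tactic.LinearCombination
import Mathlib.Tactic.Ring

set_option autoImplicit false
universe u
open W4c5m1nsnscurves MvPolynomial

namespace Groth.Agent.H21.UCIso

noncomputable section

variable (R : Type u) [CommRing R]

theorem rel_mem (n : ℕ) (r : MvPolynomial (UGen n) R) (h : r ∈ URel R n) :
    Ideal.Quotient.mk (Ideal.span (URel R n)) r = 0 :=
  Ideal.Quotient.eq_zero_iff_mem.mpr (Ideal.subset_span h)

theorem uL (n : ℕ) (i j : Fin n) (h : i ≠ j) :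
    ugen R n (.cij i j h) + ugen R n (.cij j i h.symm) =
      ugen R n .a + ugen R n (.ci i) + ugen R n (.cbi i) + ugen R n (.ci j) + ugen R n (.cbi j) := by
  have := rel_mem R n _ (Or.inl (Or.inl (Or.inl ⟨⟨(i, j), h⟩, rfl⟩)) : _ ∈ URel R n)
  simp only [map_sub, map_add] at this
  exact sub_eq_zero.mp this

theorem uQ (n : ℕ) (i j : Fin n) (h : i ≠ j) :
    ugen R n .c = ugen R n (.cij j i h.symm) * ugen R n (.ci j) +
      ugen R n (.cij i j h) * ugen R n (.ci i) - ugen R n (.ci i) * ugen R n (.ci j) := by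
  have := rel_mem R n _ (Or.inl (Or.inl (Or.inr ⟨⟨(i, j), h⟩, rfl⟩)) : _ ∈ URel R n)
  simp only [map_sub, map_add, map_mul] at this
  exact (sub_eq_zero.mp this).symm

theorem uQb (n : ℕ) (i j : Fin n) (h : i ≠ j) :
    ugen R n .cb = ugen R n (.cij j i h.symm) * ugen R n (.cbi i) +
      ugen R n (.cij i j h) * ugen R n (.cbi j) - ugen R n (.cbi i) * ugen R n (.cbi j) := by
  have := rel_mem R n _ (Or.inl (Or.inr ⟨⟨(i, j), h⟩, rfl⟩) : _ ∈ URel R n)
  simp only [map_sub, map_add, map_mul] at this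
  exact (sub_eq_zero.mp this).symm

theorem uT (n : ℕ) (i j k : Fin n) (h1 : i ≠ j) (h2 : j ≠ k) (h3 : i ≠ k) :
    ugen R n (.cij i j h1) * ugen R n (.cij j k h2) +
      ugen R n (.cij j i h1.symm) * ugen R n (.cij i k h3) -
      ugen R n (.cij i k h3) * ugen R n (.cij j k h2) +
      (ugen R n .a + ugen R n (.ci k) + ugen R n (.cbi k)) * ugen R n (.ci k) = ugen R n .c := by
  have := rel_mem R n _ (Or.inr ⟨⟨(i, j, k), h1, h2, h3⟩, rfl⟩ : _ ∈ URel R n)
  simp only [map_sub, map_add, map_mul] at this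
  exact sub_eq_zero.mp this

theorem uincl_ugen (m : ℕ) (g : UGen m) : uincl R m (ugen R m g) = ugen R (m + 1) g.castSucc := by
  show Ideal.Quotient.liftₐ (Ideal.span (URel R m)) _ _
    (Ideal.Quotient.mk (Ideal.span (URel R m)) (X g)) = _
  rw [Ideal.Quotient.liftₐ_apply]
  erw [Ideal.Quotient.lift_mk]
  simp [ugen]

variable (m : ℕ)

def Fgen : CVar m → URing R (m + 1)
  | .x2 => ugen R (m + 1) (.ci (Fin.last m))
  | .x3 => ugen R (m + 1) .a + ugen R (m + 1) (.ci (Fin.last m)) + ugen R (m + 1) (.cbi (Fin.last m))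
  | .xi i => ugen R (m + 1) (.cij i.castSucc (Fin.last m) (Fin.castSucc_lt_last i).ne)

def F0 : MvPolynomial (CVar m) (URing R m) →+* URing R (m + 1) :=
  eval₂Hom (uincl R m : URing R m →+* URing R (m + 1)) (Fgen R m)

theorem F0_C (r : URing R m) : F0 R m (C r) = uincl R m r := by simp [F0]
theorem F0_X (y : CVar m) : F0 R m (X y) = Fgen R m y := by simp [F0]

theorem F0_rel : ∀ r ∈ CRel (URing R m) m (ugen R m), F0 R m r = 0 := by
  intro r hr
  simp only [CRel, Set.mem_union, Set.mem_range] at hr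
  rcases hr with (⟨i, rfl⟩ | ⟨i, rfl⟩) | ⟨⟨⟨i, j⟩, h⟩, rfl⟩
  · simp only [map_sub, map_add, map_mul, F0_C, F0_X, Fgen, uincl_ugen, UGen.castSucc]
    have hL := uL R (m + 1) i.castSucc (Fin.last m) (Fin.castSucc_lt_last i).ne
    have hQ := uQ R (m + 1) i.castSucc (Fin.last m) (Fin.castSucc_lt_last i).ne
    linear_combination (ugen R (m + 1) (.ci (Fin.last m))) * hL + hQ
  · simp only [map_sub, map_add, map_mul, F0_C, F0_X, Fgen, uincl_ugen, UGen.castSucc]
    have hL := uL R (m + 1) i.castSucc (Fin.last m) (Fin.castSucc_lt_last i).ne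
    have hQ := uQ R (m + 1) i.castSucc (Fin.last m) (Fin.castSucc_lt_last i).ne
    have hQb := uQb R (m + 1) i.castSucc (Fin.last m) (Fin.castSucc_lt_last i).ne
    linear_combination (ugen R (m + 1) (.ci (Fin.last m)) - ugen R (m + 1) (.cbi i.castSucc)) * hL
      + hQ - hQb
  · simp only [map_sub, map_add, map_mul, F0_C, F0_X, Fgen, uincl_ugen, UGen.castSucc]
    have hT := uT R (m + 1) i.castSucc j.castSucc (Fin.last m)
      (fun e => h (Fin.castSucc_injective _ e)) (Fin.castSucc_lt_last j).ne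
      (Fin.castSucc_lt_last i).ne
    linear_combination -hT

abbrev A : Type u := CurveAlg (URing R m) m (ugen R m)

def cx (y : CVar m) : A R m :=
  Ideal.Quotient.mk (Ideal.span (CRel (URing R m) m (ugen R m))) (X y)

def cc : URing R m →+* A R m := algebraMap (URing R m) (A R m)

theorem cc_apply (r : URing R m) :
    cc R m r = Ideal.Quotient.mk (Ideal.span (CRel (URing R m) m (ugen R m))) (C r) := rfl

theorem crel_mem (r : MvPolynomial (CVar m) (URing R m)) (h : r ∈ CRel (URing R m) m (ugen R m)) :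
    Ideal.Quotient.mk (Ideal.span (CRel (URing R m) m (ugen R m))) r = 0 :=
  Ideal.Quotient.eq_zero_iff_mem.mpr (Ideal.subset_span h)

theorem cR1 (i : Fin m) : cx R m .x2 * cx R m (.xi i) =
    cx R m .x2 * cx R m .x3 + cc R m (ugen R m (.ci i)) * cx R m (.xi i) +
      cc R m (ugen R m (.cbi i)) * cx R m .x2 - cc R m (ugen R m .c) := by
  have := crel_mem R m _ (Or.inl (Or.inl ⟨i, rfl⟩) : _ ∈ CRel (URing R m) m (ugen R m))
  simp only [map_sub, map_add, map_mul] at this
  exact sub_eq_zero.mp this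

theorem cR2 (i : Fin m) : cx R m .x3 * cx R m (.xi i) =
    cx R m .x2 * cx R m .x3 + (cc R m (ugen R m .a) + cc R m (ugen R m (.ci i)) +
      cc R m (ugen R m (.cbi i))) * (cx R m (.xi i) - cc R m (ugen R m (.cbi i))) +
      cc R m (ugen R m .cb) - cc R m (ugen R m .c) := by
  have := crel_mem R m _ (Or.inl (Or.inr ⟨i, rfl⟩) : _ ∈ CRel (URing R m) m (ugen R m))
  simp only [map_sub, map_add, map_mul] at this
  simp only [cc_apply, cx, map_add]
  exact sub_eq_zero.mp this

theorem cR3 (i j : Fin m) (h : i ≠ j) : cx R m (.xi i) * cx R m (.xi j) =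
    cx R m .x2 * cx R m .x3 + cc R m (ugen R m (.cij i j h)) * cx R m (.xi j) +
      cc R m (ugen R m (.cij j i h.symm)) * cx R m (.xi i) - cc R m (ugen R m .c) := by
  have := crel_mem R m _ (Or.inr ⟨⟨(i, j), h⟩, rfl⟩ : _ ∈ CRel (URing R m) m (ugen R m))
  simp only [map_sub, map_add, map_mul] at this
  exact sub_eq_zero.mp this

def Ggen : UGen (m + 1) → A R m
  | .a => cc R m (ugen R m .a)
  | .c => cc R m (ugen R m .c)
  | .cb => cc R m (ugen R m .cb)
  | .ci j => if hj : j = Fin.last m then cx R m .x2 else cc R m (ugen R m (.ci (j.castPred hj)))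
  | .cbi j => if hj : j = Fin.last m then cx R m .x3 - cc R m (ugen R m .a) - cx R m .x2
      else cc R m (ugen R m (.cbi (j.castPred hj)))
  | .cij i j h =>
    if hi : i = Fin.last m then
      if hj : j = Fin.last m then 0
      else cc R m (ugen R m (.ci (j.castPred hj))) + cc R m (ugen R m (.cbi (j.castPred hj))) +
        cx R m .x3 - cx R m (.xi (j.castPred hj))
    else
      if hj : j = Fin.last m then cx R m (.xi (i.castPred hi))
      else cc R m (ugen R m (.cij (i.castPred hi) (j.castPred hj) (fun e => h (Fin.castPred_inj.mp e))))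

theorem Ggen_a : Ggen R m .a = cc R m (ugen R m .a) := rfl
theorem Ggen_c : Ggen R m .c = cc R m (ugen R m .c) := rfl
theorem Ggen_cb : Ggen R m .cb = cc R m (ugen R m .cb) := rfl
theorem Ggen_ci_last : Ggen R m (.ci (Fin.last m)) = cx R m .x2 := by simp [Ggen]
theorem Ggen_ci_cs (i : Fin m) : Ggen R m (.ci i.castSucc) = cc R m (ugen R m (.ci i)) := by
  simp [Ggen, Fin.castSucc_ne_last]
theorem Ggen_cbi_last : Ggen R m (.cbi (Fin.last m)) =
    cx R m .x3 - cc R m (ugen R m .a) - cx R m .x2 := by simp [Ggen]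
theorem Ggen_cbi_cs (i : Fin m) : Ggen R m (.cbi i.castSucc) = cc R m (ugen R m (.cbi i)) := by
  simp [Ggen, Fin.castSucc_ne_last]
theorem Ggen_cij_cs_cs (i j : Fin m) (h : i.castSucc ≠ j.castSucc) :
    Ggen R m (.cij i.castSucc j.castSucc h) =
      cc R m (ugen R m (.cij i j (fun e => h (congrArg Fin.castSucc e)))) := by
  simp [Ggen, Fin.castSucc_ne_last]
theorem Ggen_cij_cs_last (i : Fin m) (h : i.castSucc ≠ Fin.last m) :
    Ggen R m (.cij i.castSucc (Fin.last m) h) = cx R m (.xi i) := by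
  simp [Ggen, Fin.castSucc_ne_last]
theorem Ggen_cij_last_cs (j : Fin m) (h : Fin.last m ≠ j.castSucc) :
    Ggen R m (.cij (Fin.last m) j.castSucc h) =
      cc R m (ugen R m (.ci j)) + cc R m (ugen R m (.cbi j)) + cx R m .x3 - cx R m (.xi j) := by
  simp [Ggen, Fin.castSucc_ne_last]

def G0 : MvPolynomial (UGen (m + 1)) R →ₐ[R] A R m := aeval (Ggen R m)

theorem G0_X (g : UGen (m + 1)) : G0 R m (X g) = Ggen R m g := by simp [G0]

local macro "gsimp" : tactic => `(tactic| simp only [map_sub, map_add, map_mul, G0_X, Ggen_a, Ggen_c,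
  Ggen_cb, Ggen_ci_last, Ggen_ci_cs, Ggen_cbi_last, Ggen_cbi_cs, Ggen_cij_cs_cs, Ggen_cij_cs_last,
  Ggen_cij_last_cs])

theorem G0_rel : ∀ r ∈ URel R (m + 1), G0 R m r = 0 := by
  intro r hr
  simp only [URel, Set.mem_union, Set.mem_range] at hr
  rcases hr with ((⟨⟨⟨i, j⟩, h⟩, rfl⟩ | ⟨⟨⟨i, j⟩, h⟩, rfl⟩) | ⟨⟨⟨i, j⟩, h⟩, rfl⟩) |
    ⟨⟨⟨i, j, k⟩, h1, h2, h3⟩, rfl⟩
  · rcases Fin.eq_castSucc_or_eq_last i with ⟨i, rfl⟩ | rfl <;>
      rcases Fin.eq_castSucc_or_eq_last j with ⟨j, rfl⟩ | rfl
    · have h' : i ≠ j := fun e => h (congrArg Fin.castSucc e)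
      gsimp
      have := congrArg (cc R m) (uL R m i j h')
      simp only [map_add] at this
      linear_combination this
    · gsimp
      ring
    · gsimp
      ring
    · exact absurd rfl h
  · rcases Fin.eq_castSucc_or_eq_last i with ⟨i, rfl⟩ | rfl <;>
      rcases Fin.eq_castSucc_or_eq_last j with ⟨j, rfl⟩ | rfl
    · have h' : i ≠ j := fun e => h (congrArg Fin.castSucc e)
      gsimp
      have := congrArg (cc R m) (uQ R m i j h')
      simp only [map_add, map_sub, map_mul] at this
      linear_combination -this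
    · gsimp
      linear_combination -(cR1 R m i)
    · gsimp
      linear_combination -(cR1 R m j)
    · exact absurd rfl h
  · rcases Fin.eq_castSucc_or_eq_last i with ⟨i, rfl⟩ | rfl <;>
      rcases Fin.eq_castSucc_or_eq_last j with ⟨j, rfl⟩ | rfl
    · have h' : i ≠ j := fun e => h (congrArg Fin.castSucc e)
      gsimp
      have := congrArg (cc R m) (uQb R m i j h')
      simp only [map_add, map_sub, map_mul] at this
      linear_combination -this
    · gsimp
      linear_combination cR2 R m i - cR1 R m i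
    · gsimp
      linear_combination cR2 R m j - cR1 R m j
    · exact absurd rfl h
  · rcases Fin.eq_castSucc_or_eq_last i with ⟨i, rfl⟩ | rfl <;>
      rcases Fin.eq_castSucc_or_eq_last j with ⟨j, rfl⟩ | rfl <;>
      rcases Fin.eq_castSucc_or_eq_last k with ⟨k, rfl⟩ | rfl
    · have h1' : i ≠ j := fun e => h1 (congrArg Fin.castSucc e)
      have h2' : j ≠ k := fun e => h2 (congrArg Fin.castSucc e)
      have h3' : i ≠ k := fun e => h3 (congrArg Fin.castSucc e)
      gsimp
      have := congrArg (cc R m) (uT R m i j k h1' h2' h3')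
      simp only [map_add, map_sub, map_mul] at this
      linear_combination this
    · gsimp
      have h' : i ≠ j := fun e => h1 (congrArg Fin.castSucc e)
      linear_combination -(cR3 R m i j h')
    · gsimp
      have h' : i ≠ k := fun e => h3 (congrArg Fin.castSucc e)
      have hL := congrArg (cc R m) (uL R m i k h')
      have hQ := congrArg (cc R m) (uQ R m i k h')
      have hQb := congrArg (cc R m) (uQb R m i k h')
      simp only [map_add, map_sub, map_mul] at hL hQ hQb
      linear_combination cR2 R m i - cR3 R m i k h' +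
        (cc R m (ugen R m (.cbi i)) - cc R m (ugen R m (.ci k)) - cx R m (.xi i)) * hL + hQb - hQ
    · exact absurd rfl h2
    · gsimp
      have h' : j ≠ k := fun e => h2 (congrArg Fin.castSucc e)
      have hL := congrArg (cc R m) (uL R m j k h')
      have hQ := congrArg (cc R m) (uQ R m j k h')
      have hQb := congrArg (cc R m) (uQb R m j k h')
      simp only [map_add, map_sub, map_mul] at hL hQ hQb
      linear_combination cR2 R m j - cR3 R m j k h' +
        (cc R m (ugen R m (.cbi j)) - cc R m (ugen R m (.ci k)) - cx R m (.xi j)) * hL + hQb - hQ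
    · exact absurd rfl h3
    · exact absurd rfl h1
    · exact absurd rfl h1

theorem G0_span : ∀ r ∈ Ideal.span (URel R (m + 1)), G0 R m r = 0 := by
  intro r hr
  have : Ideal.span (URel R (m + 1)) ≤ RingHom.ker (G0 R m).toRingHom := by
    rw [Ideal.span_le]
    intro x hx
    exact G0_rel R m x hx
  exact this hr

theorem F0_span : ∀ r ∈ Ideal.span (CRel (URing R m) m (ugen R m)), F0 R m r = 0 := by
  intro r hr
  have : Ideal.span (CRel (URing R m) m (ugen R m)) ≤ RingHom.ker (F0 R m) := by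
    rw [Ideal.span_le]
    intro x hx
    exact F0_rel R m x hx
  exact this hr

def G : URing R (m + 1) →ₐ[R] A R m :=
  Ideal.Quotient.liftₐ (Ideal.span (URel R (m + 1))) (G0 R m) (G0_span R m)

def F : A R m →+* URing R (m + 1) :=
  Ideal.Quotient.lift (Ideal.span (CRel (URing R m) m (ugen R m))) (F0 R m) (F0_span R m)

theorem G_ugen (g : UGen (m + 1)) : G R m (ugen R (m + 1) g) = Ggen R m g := by
  show Ideal.Quotient.liftₐ (Ideal.span (URel R (m + 1))) (G0 R m) (G0_span R m)
    (Ideal.Quotient.mk (Ideal.span (URel R (m + 1))) (X g)) = _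
  rw [Ideal.Quotient.liftₐ_apply]
  erw [Ideal.Quotient.lift_mk]
  exact G0_X R m g

theorem F_cx (y : CVar m) : F R m (cx R m y) = Fgen R m y := by
  show Ideal.Quotient.lift (Ideal.span (CRel (URing R m) m (ugen R m))) (F0 R m) (F0_span R m)
    (Ideal.Quotient.mk _ (X y)) = _
  rw [Ideal.Quotient.lift_mk]
  exact F0_X R m y

theorem F_cc (r : URing R m) : F R m (cc R m r) = uincl R m r := by
  show Ideal.Quotient.lift (Ideal.span (CRel (URing R m) m (ugen R m))) (F0 R m) (F0_span R m)
    (Ideal.Quotient.mk _ (C r)) = _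
  rw [Ideal.Quotient.lift_mk]
  exact F0_C R m r

theorem G_uincl (r : URing R m) : G R m (uincl R m r) = cc R m r := by
  obtain ⟨p, rfl⟩ := Ideal.Quotient.mk_surjective r
  induction p using MvPolynomial.induction_on with
  | C a =>
    have h1 : (Ideal.Quotient.mk (Ideal.span (URel R m))) (C a) = algebraMap R (URing R m) a := rfl
    rw [h1, AlgHom.commutes, AlgHom.commutes]
    rfl
  | add p q hp hq => rw [map_add, map_add, map_add, map_add, hp, hq]
  | mul_X p g hp =>
    rw [map_mul, map_mul, map_mul, map_mul, hp]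
    congr 1
    show G R m (uincl R m (ugen R m g)) = cc R m (ugen R m g)
    rw [uincl_ugen, G_ugen]
    cases g with
    | a => rfl
    | c => rfl
    | cb => rfl
    | ci i => exact Ggen_ci_cs R m i
    | cbi i => exact Ggen_cbi_cs R m i
    | cij i j h => exact Ggen_cij_cs_cs R m i j _

theorem GF (x : A R m) : G R m (F R m x) = x := by
  obtain ⟨p, rfl⟩ := Ideal.Quotient.mk_surjective x
  induction p using MvPolynomial.induction_on with
  | C a =>
    show G R m (F R m (cc R m a)) = cc R m a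
    rw [F_cc, G_uincl]
  | add p q hp hq => rw [map_add, map_add, map_add, hp, hq]
  | mul_X p y hp =>
    rw [map_mul, map_mul, map_mul, hp]
    congr 1
    show G R m (F R m (cx R m y)) = cx R m y
    rw [F_cx]
    cases y with
    | x2 => simp only [Fgen, G_ugen, Ggen_ci_last]
    | x3 =>
      simp only [Fgen, map_add, G_ugen, Ggen_ci_last, Ggen_cbi_last, Ggen_a]
      ring
    | xi i => simp only [Fgen, G_ugen, Ggen_cij_cs_last]

theorem FG (x : URing R (m + 1)) : F R m (G R m x) = x := by
  obtain ⟨p, rfl⟩ := Ideal.Quotient.mk_surjective x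
  induction p using MvPolynomial.induction_on with
  | C a =>
    have h1 : (Ideal.Quotient.mk (Ideal.span (URel R (m + 1)))) (C a) =
      algebraMap R (URing R (m + 1)) a := rfl
    rw [h1, AlgHom.commutes]
    have h2 : algebraMap R (A R m) a = cc R m (algebraMap R (URing R m) a) := rfl
    rw [h2, F_cc, AlgHom.commutes]
  | add p q hp hq => rw [map_add, map_add, map_add, hp, hq]
  | mul_X p g hp =>
    rw [map_mul, map_mul, map_mul, hp]
    congr 1
    show F R m (G R m (ugen R (m + 1) g)) = ugen R (m + 1) g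
    rw [G_ugen]
    cases g with
    | a => rw [Ggen_a, F_cc, uincl_ugen]; rfl
    | c => rw [Ggen_c, F_cc, uincl_ugen]; rfl
    | cb => rw [Ggen_cb, F_cc, uincl_ugen]; rfl
    | ci i =>
      rcases Fin.eq_castSucc_or_eq_last i with ⟨i, rfl⟩ | rfl
      · rw [Ggen_ci_cs, F_cc, uincl_ugen]; rfl
      · rw [Ggen_ci_last, F_cx]; rfl
    | cbi i =>
      rcases Fin.eq_castSucc_or_eq_last i with ⟨i, rfl⟩ | rfl
      · rw [Ggen_cbi_cs, F_cc, uincl_ugen]; rfl
      · rw [Ggen_cbi_last]
        simp only [map_sub, F_cx, F_cc, uincl_ugen, Fgen, UGen.castSucc]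
        ring
    | cij i j h =>
      rcases Fin.eq_castSucc_or_eq_last i with ⟨i, rfl⟩ | rfl <;>
        rcases Fin.eq_castSucc_or_eq_last j with ⟨j, rfl⟩ | rfl
      · rw [Ggen_cij_cs_cs, F_cc, uincl_ugen]; rfl
      · rw [Ggen_cij_cs_last, F_cx]; rfl
      · rw [Ggen_cij_last_cs]
        simp only [map_sub, map_add, F_cx, F_cc, uincl_ugen, Fgen, UGen.castSucc]
        have := uL R (m + 1) j.castSucc (Fin.last m) h.symm
        linear_combination -this
      · exact absurd rfl h

def e : A R m ≃+* URing R (m + 1) :=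
  RingEquiv.ofRingHom (F R m) (G R m).toRingHom
    (RingHom.ext fun x => FG R m x) (RingHom.ext fun x => GF R m x)

theorem main : ∃ e : CurveAlg (URing R m) m (ugen R m) ≃+* URing R (m + 1),
      (∀ r : URing R m, e (algebraMap (URing R m) (CurveAlg (URing R m) m (ugen R m)) r) = uincl R m r) ∧
      e (Ideal.Quotient.mk (Ideal.span (CRel (URing R m) m (ugen R m))) (MvPolynomial.X CVar.x2)) =
        ugen R (m + 1) (UGen.ci (Fin.last m)) ∧
      e (Ideal.Quotient.mk (Ideal.span (CRel (URing R m) m (ugen R m))) (MvPolynomial.X CVar.x3)) =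
        ugen R (m + 1) UGen.a + ugen R (m + 1) (UGen.ci (Fin.last m)) + ugen R (m + 1) (UGen.cbi (Fin.last m)) ∧
      ∀ i : Fin m, e (Ideal.Quotient.mk (Ideal.span (CRel (URing R m) m (ugen R m))) (MvPolynomial.X (CVar.xi i))) =
        ugen R (m + 1) (UGen.cij i.castSucc (Fin.last m) (Fin.castSucc_lt_last i).ne) :=
  ⟨e R m, fun r => F_cc R m r, F_cx R m .x2, F_cx R m .x3, fun i => F_cx R m (.xi i)⟩

end

end Groth.Agent.H21.UCIso
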