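import Groth.Statements.S18248
import Groth.Agent.H21.UCIso
import Mathlib

set_option autoImplicit false
universe u
open W4c5m1nsnscurves MvPolynomial
open Groth.Agent.H21.UCIso

namespace Groth.Agent.H21.UCot

noncomputable section

variable (R : Type u) [CommRing R] (m : ℕ)

/-- every element of URing is a polynomial in the generators -/
theorem adjoin_ugen_top : Algebra.adjoin R (Set.range (ugen R m)) = ⊤ := by
  rw [eq_top_iff]
  rintro x -
  obtain ⟨P, rfl⟩ := Ideal.Quotient.mk_surjective x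
  induction P using MvPolynomial.induction_on with
  | C a =>
    have : (Ideal.Quotient.mk (Ideal.span (URel R m))) (C a) = algebraMap R (URing R m) a := rfl
    rw [this]
    exact Subalgebra.algebraMap_mem _ a
  | add p q hp hq => rw [map_add]; exact Subalgebra.add_mem _ hp hq
  | mul_X p g hp =>
    rw [map_mul]
    exact Subalgebra.mul_mem _ hp (Algebra.subset_adjoin ⟨g, rfl⟩)

/-- Part 2 -/
theorem adjoin_small (hm : 2 ≤ m) :
    Algebra.adjoin R ({ugen R m .a} ∪ Set.range (fun i : Fin m => ugen R m (.ci i)) ∪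
        Set.range (fun i : Fin m => ugen R m (.cbi i)) ∪
        Set.range (fun q : {q : Fin m × Fin m // q.1 < q.2} =>
          ugen R m (.cij q.1.1 q.1.2 (ne_of_lt q.2)))) = ⊤ := by
  obtain ⟨T, hT⟩ : ∃ T, T = Algebra.adjoin R ({ugen R m .a} ∪ Set.range (fun i : Fin m => ugen R m (.ci i)) ∪
        Set.range (fun i : Fin m => ugen R m (.cbi i)) ∪
        Set.range (fun q : {q : Fin m × Fin m // q.1 < q.2} =>
          ugen R m (.cij q.1.1 q.1.2 (ne_of_lt q.2)))) := ⟨_, rfl⟩
  rw [← hT]
  have ha : ugen R m .a ∈ T := by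
    rw [hT]; exact Algebra.subset_adjoin (Or.inl (Or.inl (Or.inl rfl)))
  have hci : ∀ i, ugen R m (.ci i) ∈ T := by
    intro i; rw [hT]; exact Algebra.subset_adjoin (Or.inl (Or.inl (Or.inr ⟨i, rfl⟩)))
  have hcbi : ∀ i, ugen R m (.cbi i) ∈ T := by
    intro i; rw [hT]; exact Algebra.subset_adjoin (Or.inl (Or.inr ⟨i, rfl⟩))
  have hlt : ∀ (i j : Fin m) (h : i < j), ugen R m (.cij i j (ne_of_lt h)) ∈ T := by
    intro i j h; rw [hT]; exact Algebra.subset_adjoin (Or.inr ⟨⟨(i, j), h⟩, rfl⟩)
  have hij : ∀ (i j : Fin m) (h : i ≠ j), ugen R m (.cij i j h) ∈ T := by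
    intro i j h
    rcases lt_or_gt_of_ne h with h1 | h1
    · exact hlt i j h1
    · have e := uL R m j i h.symm
      have : ugen R m (.cij i j h) = ugen R m .a + ugen R m (.ci j) + ugen R m (.cbi j) +
          ugen R m (.ci i) + ugen R m (.cbi i) - ugen R m (.cij j i h.symm) := by
        rw [← e]; ring
      rw [this]
      exact Subalgebra.sub_mem _ (Subalgebra.add_mem _ (Subalgebra.add_mem _ (Subalgebra.add_mem _
        (Subalgebra.add_mem _ ha (hci j)) (hcbi j)) (hci i)) (hcbi i)) (hlt j i h1)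
  have h01 : (⟨0, by omega⟩ : Fin m) ≠ ⟨1, by omega⟩ := by
    intro e; simp [Fin.ext_iff] at e
  have hc : ugen R m .c ∈ T := by
    rw [uQ R m _ _ h01]
    exact Subalgebra.sub_mem _ (Subalgebra.add_mem _ (Subalgebra.mul_mem _ (hij _ _ _) (hci _))
      (Subalgebra.mul_mem _ (hij _ _ _) (hci _))) (Subalgebra.mul_mem _ (hci _) (hci _))
  have hcb : ugen R m .cb ∈ T := by
    rw [uQb R m _ _ h01]
    exact Subalgebra.sub_mem _ (Subalgebra.add_mem _ (Subalgebra.mul_mem _ (hij _ _ _) (hcbi _))
      (Subalgebra.mul_mem _ (hij _ _ _) (hcbi _))) (Subalgebra.mul_mem _ (hcbi _) (hcbi _))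
  rw [eq_top_iff, ← adjoin_ugen_top R m]
  apply Algebra.adjoin_le
  rintro _ ⟨g, rfl⟩
  cases g with
  | a => exact ha
  | c => exact hc
  | cb => exact hcb
  | ci i => exact hci i
  | cbi i => exact hcbi i
  | cij i j h => exact hij i j h

variable (k : Type u) [Field k]

structure LamOK (lam : UGen m → k) : Prop where
  lin : ∀ (i j : Fin m) (h : i ≠ j), lam (.cij i j h) + lam (.cij j i h.symm) =
    lam .a + lam (.ci i) + lam (.cbi i) + lam (.ci j) + lam (.cbi j)
  c0 : lam .c = 0
  cb0 : lam .cb = 0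

def phi0 (lam : UGen m → k) : MvPolynomial (UGen m) k →ₐ[k] DualNumber k :=
  aeval (fun g => lam g • (DualNumber.eps : DualNumber k))

theorem phi0_X (lam : UGen m → k) (g : UGen m) :
    phi0 m k lam (X g) = lam g • (DualNumber.eps : DualNumber k) := by simp [phi0]

theorem eps_sq (a b : k) : (a • (DualNumber.eps : DualNumber k)) * (b • DualNumber.eps) = 0 := by
  rw [smul_mul_smul_comm, DualNumber.eps_mul_eps, smul_zero]

theorem phi0_rel (lam : UGen m → k) (h : LamOK m k lam) : ∀ r ∈ URel k m, phi0 m k lam r = 0 := by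
  intro r hr
  simp only [URel, Set.mem_union, Set.mem_range] at hr
  rcases hr with ((⟨⟨⟨i, j⟩, hij⟩, rfl⟩ | ⟨⟨⟨i, j⟩, hij⟩, rfl⟩) | ⟨⟨⟨i, j⟩, hij⟩, rfl⟩) |
    ⟨⟨⟨i, j, l⟩, h1, h2, h3⟩, rfl⟩
  · simp only [map_sub, map_add, phi0_X, ← add_smul, ← sub_smul]
    rw [h.lin i j hij, sub_self, zero_smul]
  · simp only [map_sub, map_add, map_mul, phi0_X, eps_sq, h.c0, zero_smul, add_zero, sub_zero]
  · simp only [map_sub, map_add, map_mul, phi0_X, eps_sq, h.cb0, zero_smul, add_zero, sub_zero]
  · simp only [map_sub, map_add, map_mul, phi0_X, eps_sq, h.c0, zero_smul, add_zero, sub_zero,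
      add_mul]

theorem phi0_span (lam : UGen m → k) (h : LamOK m k lam) :
    ∀ r ∈ Ideal.span (URel k m), phi0 m k lam r = 0 := by
  intro r hr
  have : Ideal.span (URel k m) ≤ RingHom.ker (phi0 m k lam).toRingHom := by
    rw [Ideal.span_le]
    intro x hx
    exact phi0_rel m k lam h x hx
  exact this hr

def phi (lam : UGen m → k) (h : LamOK m k lam) : URing k m →ₐ[k] DualNumber k :=
  Ideal.Quotient.liftₐ (Ideal.span (URel k m)) (phi0 m k lam) (phi0_span m k lam h)

theorem phi_ugen (lam : UGen m → k) (h : LamOK m k lam) (g : UGen m) :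
    phi m k lam h (ugen k m g) = lam g • (DualNumber.eps : DualNumber k) := by
  show Ideal.Quotient.liftₐ (Ideal.span (URel k m)) (phi0 m k lam) (phi0_span m k lam h)
    (Ideal.Quotient.mk (Ideal.span (URel k m)) (X g)) = _
  rw [Ideal.Quotient.liftₐ_apply]
  erw [Ideal.Quotient.lift_mk]
  exact phi0_X m k lam g

theorem fst_phi_of_mem (lam : UGen m → k) (h : LamOK m k lam) (x : URing k m)
    (hx : x ∈ uorigin k m) : TrivSqZeroExt.fst (phi m k lam h x) = 0 := by
  have : uorigin k m ≤ RingHom.ker ((TrivSqZeroExt.fstHom k k k).toRingHom.comp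
      (phi m k lam h).toRingHom) := by
    unfold uorigin
    rw [Ideal.span_le]
    rintro _ ⟨g, rfl⟩
    show TrivSqZeroExt.fst (phi m k lam h (ugen k m g)) = 0
    rw [phi_ugen]
    simp
  exact this hx

theorem phi_of_mem_sq (lam : UGen m → k) (h : LamOK m k lam) (x : URing k m)
    (hx : x ∈ uorigin k m ^ 2) : phi m k lam h x = 0 := by
  rw [pow_two] at hx
  induction hx using Submodule.mul_induction_on' with
  | mem_mul_mem y hy z hz =>
    rw [map_mul]
    ext
    · simp [fst_phi_of_mem m k lam h y hy]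
    · simp [fst_phi_of_mem m k lam h y hy, fst_phi_of_mem m k lam h z hz]
  | add y _ z _ hy hz => rw [map_add, hy, hz, add_zero]

abbrev BIdx (m : ℕ) : Type := Unit ⊕ (Fin m ⊕ (Fin m ⊕ {q : Fin m × Fin m // q.1 < q.2}))

def gB : BIdx m → UGen m
  | .inl _ => .a
  | .inr (.inl i) => .ci i
  | .inr (.inr (.inl i)) => .cbi i
  | .inr (.inr (.inr q)) => .cij q.1.1 q.1.2 (ne_of_lt q.2)

def lamOf (μ : BIdx m → k) : UGen m → k
  | .a => μ (.inl ())
  | .c => 0
  | .cb => 0
  | .ci i => μ (.inr (.inl i))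
  | .cbi i => μ (.inr (.inr (.inl i)))
  | .cij i j _ =>
    if hlt : i < j then μ (.inr (.inr (.inr ⟨(i, j), hlt⟩)))
    else if hgt : j < i then
      μ (.inl ()) + μ (.inr (.inl i)) + μ (.inr (.inr (.inl i))) + μ (.inr (.inl j)) +
        μ (.inr (.inr (.inl j))) - μ (.inr (.inr (.inr ⟨(j, i), hgt⟩)))
    else 0

theorem lamOf_ok (μ : BIdx m → k) : LamOK m k (lamOf m k μ) := by
  refine ⟨?_, rfl, rfl⟩
  intro i j h
  rcases lt_or_gt_of_ne h with h1 | h1
  · have h2 : ¬ j < i := not_lt.mpr h1.le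
    simp only [lamOf, dif_pos h1, dif_neg h2]
    ring
  · have h2 : ¬ i < j := not_lt.mpr h1.le
    simp only [lamOf, dif_pos h1, dif_neg h2]
    ring

theorem lamOf_gB (μ : BIdx m → k) (b : BIdx m) : lamOf m k μ (gB m b) = μ b := by
  rcases b with _ | i | i | ⟨⟨i, j⟩, h⟩
  · rfl
  · rfl
  · rfl
  · simp only [gB, lamOf]
    rw [dif_pos h]

theorem ugen_mem (g : UGen m) : ugen k m g ∈ uorigin k m := Ideal.subset_span ⟨g, rfl⟩

instance instTower : IsScalarTower k (URing k m) (uorigin k m).Cotangent :=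
  Ideal.instIsScalarTowerCotangent (R := URing k m) (S := k) (S' := URing k m) (uorigin k m)

/-- the candidate basis of the cotangent space -/
def vB (b : BIdx m) : (uorigin k m).Cotangent :=
  (uorigin k m).toCotangent ⟨ugen k m (gB m b), ugen_mem m k _⟩

theorem vB_indep : LinearIndependent k (vB m k) := by
  classical
  rw [Fintype.linearIndependent_iff]
  intro μ hμ b
  -- the element x = Σ μ_b • ugen b of I
  have hx : (∑ b', μ b' • (⟨ugen k m (gB m b'), ugen_mem m k _⟩ : uorigin k m)) ∈
      LinearMap.ker ((uorigin k m).toCotangent.restrictScalars k) := by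
    rw [LinearMap.mem_ker, map_sum]
    rw [← hμ]
    refine Finset.sum_congr rfl fun b' _ => ?_
    rw [map_smul]
    rfl
  rw [LinearMap.mem_ker, LinearMap.restrictScalars_apply, Ideal.toCotangent_eq_zero] at hx
  have h0 := phi_of_mem_sq m k _ (lamOf_ok m k (Pi.single b 1)) _ hx
  have hcoe : ((∑ b', μ b' • (⟨ugen k m (gB m b'), ugen_mem m k _⟩ : uorigin k m) : uorigin k m) :
      URing k m) = ∑ b', μ b' • ugen k m (gB m b') := by
    rw [← Submodule.subtype_apply, map_sum]
    rfl
  rw [hcoe, map_sum] at h0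
  simp only [map_smul, phi_ugen, lamOf_gB, smul_smul] at h0
  have h1 := congrArg TrivSqZeroExt.snd h0
  simp only [TrivSqZeroExt.snd_sum, TrivSqZeroExt.snd_smul, DualNumber.snd_eps, smul_eq_mul,
    mul_one, TrivSqZeroExt.snd_zero, Pi.single_apply, mul_ite, mul_zero, Finset.sum_ite_eq',
    Finset.mem_univ, if_true] at h1
  exact h1

def zeroLam : UGen m → k := fun _ => 0

theorem zeroLam_ok : LamOK m k (zeroLam m k) := ⟨fun _ _ _ => by simp [zeroLam], rfl, rfl⟩

def aug : URing k m →ₐ[k] k := (TrivSqZeroExt.fstHom k k k).comp (phi m k (zeroLam m k) (zeroLam_ok m k))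

theorem aug_ugen (g : UGen m) : aug m k (ugen k m g) = 0 := by
  show TrivSqZeroExt.fst (phi m k (zeroLam m k) (zeroLam_ok m k) (ugen k m g)) = 0
  rw [phi_ugen]
  simp

theorem sub_aug_mem (a : URing k m) : a - algebraMap k (URing k m) (aug m k a) ∈ uorigin k m := by
  have ha : a ∈ Algebra.adjoin k (Set.range (ugen k m)) := by
    rw [adjoin_ugen_top]; trivial
  induction ha using Algebra.adjoin_induction with
  | mem x hx =>
    obtain ⟨g, rfl⟩ := hx
    rw [aug_ugen, map_zero, sub_zero]
    exact ugen_mem m k g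
  | algebraMap r =>
    rw [AlgHom.commutes]
    show algebraMap k (URing k m) r - algebraMap k (URing k m) r ∈ _
    rw [sub_self]
    exact Ideal.zero_mem _
  | add x y _ _ hx hy =>
    have : x + y - algebraMap k (URing k m) (aug m k (x + y)) =
        (x - algebraMap k (URing k m) (aug m k x)) + (y - algebraMap k (URing k m) (aug m k y)) := by
      rw [map_add, map_add]; ring
    rw [this]
    exact Ideal.add_mem _ hx hy
  | mul x y _ _ hx hy =>
    have : x * y - algebraMap k (URing k m) (aug m k (x * y)) =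
        (x - algebraMap k (URing k m) (aug m k x)) * y +
          algebraMap k (URing k m) (aug m k x) * (y - algebraMap k (URing k m) (aug m k y)) := by
      rw [map_mul, map_mul]; ring
    rw [this]
    exact Ideal.add_mem _ (Ideal.mul_mem_right _ _ hx) (Ideal.mul_mem_left _ _ hy)

theorem mul_mem_sq {x y : URing k m} (hx : x ∈ uorigin k m) (hy : y ∈ uorigin k m) :
    x * y ∈ uorigin k m ^ 2 := by
  rw [pow_two]; exact Ideal.mul_mem_mul hx hy

theorem toCot_ugen_mem (hm : 2 ≤ m) (g : UGen m) :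
    (uorigin k m).toCotangent ⟨ugen k m g, ugen_mem m k g⟩ ∈
      Submodule.span k (Set.range (vB m k)) := by
  have hB : ∀ b : BIdx m, (uorigin k m).toCotangent ⟨ugen k m (gB m b), ugen_mem m k _⟩ ∈
      Submodule.span k (Set.range (vB m k)) := fun b => Submodule.subset_span ⟨b, rfl⟩
  have h01 : (⟨0, by omega⟩ : Fin m) ≠ ⟨1, by omega⟩ := by
    intro e; simp [Fin.ext_iff] at e
  cases g with
  | a => exact hB (.inl ())
  | ci i => exact hB (.inr (.inl i))
  | cbi i => exact hB (.inr (.inr (.inl i)))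
  | c =>
    have : (uorigin k m).toCotangent ⟨ugen k m .c, ugen_mem m k _⟩ = 0 := by
      rw [Ideal.toCotangent_eq_zero]
      show ugen k m .c ∈ _
      rw [uQ k m _ _ h01]
      exact Ideal.sub_mem _ (Ideal.add_mem _ (mul_mem_sq m k (ugen_mem m k _) (ugen_mem m k _))
        (mul_mem_sq m k (ugen_mem m k _) (ugen_mem m k _)))
        (mul_mem_sq m k (ugen_mem m k _) (ugen_mem m k _))
    rw [this]
    exact Submodule.zero_mem _
  | cb =>
    have : (uorigin k m).toCotangent ⟨ugen k m .cb, ugen_mem m k _⟩ = 0 := by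
      rw [Ideal.toCotangent_eq_zero]
      show ugen k m .cb ∈ _
      rw [uQb k m _ _ h01]
      exact Ideal.sub_mem _ (Ideal.add_mem _ (mul_mem_sq m k (ugen_mem m k _) (ugen_mem m k _))
        (mul_mem_sq m k (ugen_mem m k _) (ugen_mem m k _)))
        (mul_mem_sq m k (ugen_mem m k _) (ugen_mem m k _))
    rw [this]
    exact Submodule.zero_mem _
  | cij i j h =>
    rcases lt_or_gt_of_ne h with h1 | h1
    · exact hB (.inr (.inr (.inr ⟨(i, j), h1⟩)))
    · have e : (⟨ugen k m (.cij i j h), ugen_mem m k _⟩ : uorigin k m) =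
          ⟨ugen k m .a, ugen_mem m k _⟩ + ⟨ugen k m (.ci j), ugen_mem m k _⟩ +
          ⟨ugen k m (.cbi j), ugen_mem m k _⟩ + ⟨ugen k m (.ci i), ugen_mem m k _⟩ +
          ⟨ugen k m (.cbi i), ugen_mem m k _⟩ - ⟨ugen k m (.cij j i h.symm), ugen_mem m k _⟩ := by
        apply Subtype.ext
        show ugen k m (.cij i j h) = ugen k m .a + ugen k m (.ci j) + ugen k m (.cbi j) +
          ugen k m (.ci i) + ugen k m (.cbi i) - ugen k m (.cij j i h.symm)
        rw [← uL k m j i h.symm]; ring
      rw [e, map_sub, map_add, map_add, map_add, map_add]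
      exact Submodule.sub_mem _ (Submodule.add_mem _ (Submodule.add_mem _ (Submodule.add_mem _
        (Submodule.add_mem _ (hB (.inl ())) (hB (.inr (.inl j)))) (hB (.inr (.inr (.inl j)))))
        (hB (.inr (.inl i)))) (hB (.inr (.inr (.inl i))))) (hB (.inr (.inr (.inr ⟨(j, i), h1⟩))))

theorem ksmul_def (c : k) (x : URing k m) : c • x = algebraMap k (URing k m) c * x :=
  Algebra.smul_def c x

theorem vB_span (hm : 2 ≤ m) : Submodule.span k (Set.range (vB m k)) = ⊤ := by
  rw [eq_top_iff]
  rintro y -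
  obtain ⟨⟨x, hx⟩, rfl⟩ := Ideal.toCotangent_surjective _ y
  have hx' : x ∈ Ideal.span (Set.range (ugen k m)) := hx
  revert hx
  induction hx' using Submodule.span_induction with
  | mem x hx =>
    intro hx0
    obtain ⟨g, rfl⟩ := hx
    exact toCot_ugen_mem m k hm g
  | zero =>
    intro hx0
    have : (⟨0, hx0⟩ : uorigin k m) = 0 := rfl
    rw [this, map_zero]
    exact Submodule.zero_mem _
  | add x y hx hy ihx ihy =>
    intro hx0
    have hx1 : x ∈ uorigin k m := hx
    have hy1 : y ∈ uorigin k m := hy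
    have : (⟨x + y, hx0⟩ : uorigin k m) = ⟨x, hx1⟩ + ⟨y, hy1⟩ := rfl
    rw [this, map_add]
    exact Submodule.add_mem _ (ihx hx1) (ihy hy1)
  | smul a x hx ih =>
    intro hx0
    have hx1 : x ∈ uorigin k m := hx
    have e : (⟨a • x, hx0⟩ : uorigin k m) =
        (aug m k a) • (⟨x, hx1⟩ : uorigin k m) +
          ⟨(a - algebraMap k (URing k m) (aug m k a)) * x,
            Ideal.mul_mem_left _ _ hx1⟩ := by
      apply Subtype.ext
      show a * x = (aug m k a) • x +
        (a - algebraMap k (URing k m) (aug m k a)) * x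
      rw [ksmul_def]
      ring
    rw [e, map_add]
    have z : (uorigin k m).toCotangent ⟨(a - algebraMap k (URing k m) (aug m k a)) * x,
            Ideal.mul_mem_left _ _ hx1⟩ = 0 := by
      rw [Ideal.toCotangent_eq_zero]
      exact mul_mem_sq m k (sub_aug_mem m k a) hx1
    rw [z, add_zero]
    have hsm : (uorigin k m).toCotangent ((aug m k a) • (⟨x, hx1⟩ : uorigin k m)) =
        (aug m k a) • (uorigin k m).toCotangent ⟨x, hx1⟩ :=
      ((uorigin k m).toCotangent.restrictScalars k).map_smul _ _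
    rw [hsm]
    exact Submodule.smul_mem _ _ (ih hx1)

theorem card_pairs : Fintype.card {q : Fin m × Fin m // q.1 < q.2} = m * (m - 1) / 2 := by
  classical
  let e : {q : Fin m × Fin m // q.1 < q.2} ≃ Σ j : Fin m, {i : Fin m // i < j} :=
    { toFun := fun q => ⟨q.1.2, ⟨q.1.1, q.2⟩⟩
      invFun := fun s => ⟨(s.2.1, s.1), s.2.2⟩
      left_inv := fun q => rfl
      right_inv := fun s => rfl }
  rw [Fintype.card_congr e, Fintype.card_sigma]
  have : ∀ j : Fin m, Fintype.card {i : Fin m // i < j} = j.val := by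
    intro j
    rw [Fintype.card_subtype]
    have : (Finset.univ.filter fun i : Fin m => i < j) = Finset.Iio j := by
      ext i; simp
    rw [this, Fin.card_Iio]
  simp only [this]
  rw [Fin.sum_univ_eq_sum_range (fun i => i) m, Finset.sum_range_id]

theorem card_BIdx : Fintype.card (BIdx m) = (m + 2) * (m + 1) / 2 := by
  simp only [Fintype.card_sum, Fintype.card_unit, Fintype.card_fin, card_pairs]
  have h2 : 2 ∣ m * (m - 1) := by
    rcases Nat.even_or_odd m with h | h
    · exact Dvd.dvd.mul_right h.two_dvd _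
    · rcases m with _ | n
      · simp
      · have : Even n := by
          rcases h with ⟨r, hr⟩
          exact ⟨r, by omega⟩
        simpa using Dvd.dvd.mul_left this.two_dvd _
  obtain ⟨t, ht⟩ := h2
  have h3 : (m + 2) * (m + 1) = 2 * (t + 2 * m + 1) := by
    rcases m with _ | n
    · simp at ht ⊢; omega
    · simp only [Nat.add_sub_cancel] at ht
      nlinarith
  rw [ht, h3, Nat.mul_div_cancel_left _ (by norm_num : 0 < 2),
    Nat.mul_div_cancel_left _ (by norm_num : 0 < 2)]
  ring

theorem finrank_cot (hm : 2 ≤ m) :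
    Module.finrank k (uorigin k m).Cotangent = (m + 2) * (m + 1) / 2 := by
  have b := Module.Basis.mk (vB_indep m k) (vB_span m k hm).ge
  rw [Module.finrank_eq_card_basis b, card_BIdx]

end

end Groth.Agent.H21.UCot
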