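import Groth.Statements.S18247

set_option autoImplicit false
open W4c5m1nsnscurves MvPolynomial

namespace Groth.Agent.H21.URing2

noncomputable section

abbrev P6 := MvPolynomial (Fin 6) ℤ

def c10p : P6 := X 0 + X 1 + X 2 + X 3 + X 4 - X 5

def psiGen : UGen 2 → P6
  | .a => X 0
  | .c => c10p * X 3 + X 5 * X 1 - X 1 * X 3
  | .cb => c10p * X 2 + X 5 * X 4 - X 2 * X 4
  | .ci i => if i = 0 then X 1 else X 3
  | .cbi i => if i = 0 then X 2 else X 4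
  | .cij i _ _ => if i = 0 then X 5 else c10p

def psi : MvPolynomial (UGen 2) ℤ →ₐ[ℤ] P6 := aeval psiGen

theorem psi_rel : ∀ r ∈ URel ℤ 2, psi r = 0 := by
  intro r hr
  simp only [URel, Set.mem_union, Set.mem_range] at hr
  rcases hr with ((⟨⟨⟨i, j⟩, h⟩, rfl⟩ | ⟨⟨⟨i, j⟩, h⟩, rfl⟩) | ⟨⟨⟨i, j⟩, h⟩, rfl⟩) |
    ⟨⟨⟨i, j, k⟩, h1, h2, h3⟩, rfl⟩
  · fin_cases i <;> fin_cases j <;> first | (exact absurd rfl h) | (simp [psi, psiGen, c10p]; try ring)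
  · fin_cases i <;> fin_cases j <;> first | (exact absurd rfl h) | (simp [psi, psiGen, c10p]; try ring)
  · fin_cases i <;> fin_cases j <;> first | (exact absurd rfl h) | (simp [psi, psiGen, c10p]; try ring)
  · exfalso
    fin_cases i <;> fin_cases j <;> fin_cases k <;> simp at h1 h2 h3

theorem psi_span : ∀ r ∈ Ideal.span (URel ℤ 2), psi r = 0 := by
  intro r hr
  have : Ideal.span (URel ℤ 2) ≤ RingHom.ker psi.toRingHom := by
    rw [Ideal.span_le]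
    intro x hx
    exact psi_rel x hx
  exact this hr

def psiBar : URing ℤ 2 →ₐ[ℤ] P6 := Ideal.Quotient.liftₐ (Ideal.span (URel ℤ 2)) psi psi_span

def gens : Fin 6 → URing ℤ 2 :=
  ![ugen ℤ 2 .a, ugen ℤ 2 (.ci 0), ugen ℤ 2 (.cbi 0), ugen ℤ 2 (.ci 1), ugen ℤ 2 (.cbi 1),
        ugen ℤ 2 (.cij 0 1 Fin.zero_ne_one)]

def phi : P6 →ₐ[ℤ] URing ℤ 2 := aeval gens

theorem psiBar_ugen (g : UGen 2) : psiBar (ugen ℤ 2 g) = psiGen g := by
  show Ideal.Quotient.liftₐ (Ideal.span (URel ℤ 2)) psi psi_span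
    (Ideal.Quotient.mk (Ideal.span (URel ℤ 2)) (X g)) = psiGen g
  rw [Ideal.Quotient.liftₐ_apply]
  erw [Ideal.Quotient.lift_mk]
  simp [psi]

theorem psi_phi : psiBar.comp phi = AlgHom.id ℤ P6 := by
  apply MvPolynomial.algHom_ext
  intro i
  fin_cases i <;> simp [phi, gens, psiBar_ugen, psiGen]

theorem rel_mem (r : MvPolynomial (UGen 2) ℤ) (h : r ∈ URel ℤ 2) :
    Ideal.Quotient.mk (Ideal.span (URel ℤ 2)) r = 0 :=
  Ideal.Quotient.eq_zero_iff_mem.mpr (Ideal.subset_span h)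

theorem relL : ugen ℤ 2 (.cij 0 1 Fin.zero_ne_one) + ugen ℤ 2 (.cij 1 0 (Ne.symm Fin.zero_ne_one)) =
    ugen ℤ 2 .a + ugen ℤ 2 (.ci 0) + ugen ℤ 2 (.cbi 0) + ugen ℤ 2 (.ci 1) + ugen ℤ 2 (.cbi 1) := by
  have := rel_mem _ (Or.inl (Or.inl (Or.inl ⟨⟨(0, 1), Fin.zero_ne_one⟩, rfl⟩)) : _ ∈ URel ℤ 2)
  simp only [map_sub, map_add] at this
  exact sub_eq_zero.mp this

theorem relQ : ugen ℤ 2 .c =
    ugen ℤ 2 (.cij 1 0 (Ne.symm Fin.zero_ne_one)) * ugen ℤ 2 (.ci 1) +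
    ugen ℤ 2 (.cij 0 1 Fin.zero_ne_one) * ugen ℤ 2 (.ci 0) - ugen ℤ 2 (.ci 0) * ugen ℤ 2 (.ci 1) := by
  have := rel_mem _ (Or.inl (Or.inl (Or.inr ⟨⟨(0, 1), Fin.zero_ne_one⟩, rfl⟩)) : _ ∈ URel ℤ 2)
  simp only [map_sub, map_add, map_mul] at this
  exact (sub_eq_zero.mp this).symm

theorem relQb : ugen ℤ 2 .cb =
    ugen ℤ 2 (.cij 1 0 (Ne.symm Fin.zero_ne_one)) * ugen ℤ 2 (.cbi 0) +
    ugen ℤ 2 (.cij 0 1 Fin.zero_ne_one) * ugen ℤ 2 (.cbi 1) - ugen ℤ 2 (.cbi 0) * ugen ℤ 2 (.cbi 1) := by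
  have := rel_mem _ (Or.inl (Or.inr ⟨⟨(0, 1), Fin.zero_ne_one⟩, rfl⟩) : _ ∈ URel ℤ 2)
  simp only [map_sub, map_add, map_mul] at this
  exact (sub_eq_zero.mp this).symm

theorem phi_X0 : phi (X 0) = ugen ℤ 2 .a := by simp [phi, gens]
theorem phi_X1 : phi (X 1) = ugen ℤ 2 (.ci 0) := by simp [phi, gens]
theorem phi_X2 : phi (X 2) = ugen ℤ 2 (.cbi 0) := by simp [phi, gens]
theorem phi_X3 : phi (X 3) = ugen ℤ 2 (.ci 1) := by simp [phi, gens]
theorem phi_X4 : phi (X 4) = ugen ℤ 2 (.cbi 1) := by simp [phi, gens]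
theorem phi_X5 : phi (X 5) = ugen ℤ 2 (.cij 0 1 Fin.zero_ne_one) := by simp [phi, gens]

theorem phi_c10p : phi c10p = ugen ℤ 2 (.cij 1 0 (Ne.symm Fin.zero_ne_one)) := by
  simp only [c10p, map_sub, map_add, phi_X0, phi_X1, phi_X2, phi_X3, phi_X4, phi_X5]
  rw [← relL]; ring

theorem phi_psiGen (g : UGen 2) : phi (psiGen g) = ugen ℤ 2 g := by
  cases g with
  | a => simp [psiGen, phi_X0]
  | c =>
    simp only [psiGen, map_sub, map_add, map_mul, phi_c10p, phi_X0, phi_X1, phi_X2, phi_X3, phi_X4, phi_X5]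
    rw [relQ]
  | cb =>
    simp only [psiGen, map_sub, map_add, map_mul, phi_c10p, phi_X0, phi_X1, phi_X2, phi_X3, phi_X4, phi_X5]
    rw [relQb]
  | ci i => fin_cases i <;> simp [psiGen, phi_X1, phi_X3]
  | cbi i => fin_cases i <;> simp [psiGen, phi_X2, phi_X4]
  | cij i j h =>
    fin_cases i <;> fin_cases j
    · exact absurd rfl h
    · simp [psiGen, phi_X5]
    · simp [psiGen, phi_c10p]
    · exact absurd rfl h

theorem phi_psi (x : URing ℤ 2) : phi (psiBar x) = x := by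
  obtain ⟨p, rfl⟩ := Ideal.Quotient.mk_surjective x
  induction p using MvPolynomial.induction_on with
  | C a =>
    have : (Ideal.Quotient.mk (Ideal.span (URel ℤ 2))) (C a) = algebraMap ℤ (URing ℤ 2) a := rfl
    rw [this, AlgHom.commutes, AlgHom.commutes]
  | add p q hp hq => rw [map_add, map_add, map_add, hp, hq]
  | mul_X p g hp =>
    rw [map_mul, map_mul, map_mul, hp]
    congr 1
    exact (congrArg phi (psiBar_ugen g)).trans (phi_psiGen g)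

theorem phi_bijective : Function.Bijective phi := by
  refine ⟨?_, fun x => ⟨psiBar x, phi_psi x⟩⟩
  intro x y hxy
  have := congrArg psiBar hxy
  have h1 : ∀ z, psiBar (phi z) = z := fun z => congrArg (fun f : P6 →ₐ[ℤ] P6 => f z) psi_phi
  rwa [h1, h1] at this

end

end Groth.Agent.H21.URing2
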