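import Mathlib
import Groth.Prelude.Def_Omega3

set_option autoImplicit false
universe u

namespace Groth.Agent.H21.UT2

open OmegaSh

section
variable {A B B' : Type u} [CommRing A] [CommRing B] [CommRing B'] [Algebra A B] [Algebra A B']
  {π : B' →ₐ[A] B}

/-- one step: two lifts agreeing mod `I` agree mod `I * f₁(N)`. -/
theorem step (hπ : OmegaSh.IsUnivThickeningRing A B B' π)
    (C : Type u) [CommRing C] [Algebra A C] (I : Ideal C) (hI : I ^ 2 = ⊥)
    (f₁ f₂ : B' →ₐ[A] C) (h12 : ∀ x, f₁ x - f₂ x ∈ I) :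
    ∀ x, f₁ x - f₂ x ∈ I * Ideal.map f₁ (RingHom.ker π.toRingHom) := by
  obtain ⟨hsurj, hN, huniv⟩ := hπ
  obtain ⟨N, hNdef⟩ : ∃ N : Ideal B', N = RingHom.ker π.toRingHom := ⟨_, rfl⟩
  rw [← hNdef] at hN ⊢
  obtain ⟨L, hL⟩ : ∃ L : Ideal C, L = I * Ideal.map f₁ N := ⟨_, rfl⟩
  rw [← hL]
  let q : C →ₐ[A] C ⧸ L := Ideal.Quotient.mkₐ A L
  obtain ⟨J, hJ⟩ : ∃ J : Ideal (C ⧸ L), J = Ideal.map q (I ⊔ Ideal.map f₁ N) := ⟨_, rfl⟩
  have hJ2 : J ^ 2 = ⊥ := by
    rw [hJ, ← Ideal.map_pow, Ideal.map_eq_bot_iff_le_ker]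
    have hk : RingHom.ker q = L := Ideal.mk_ker
    rw [hk, pow_two, hL]
    have hNN : Ideal.map f₁ N * Ideal.map f₁ N = ⊥ := by
      rw [← Ideal.map_mul, ← pow_two, hN, Ideal.map_bot]
    have hII : I * I = ⊥ := by rw [← pow_two, hI]
    rw [Ideal.sup_mul, Ideal.mul_sup, Ideal.mul_sup, hII, hNN]
    simp only [bot_sup_eq, sup_bot_eq, sup_le_iff, le_refl, true_and]
    rw [mul_comm]
  let g : B' →ₐ[A] (C ⧸ L) ⧸ J := (Ideal.Quotient.mkₐ A J).comp (q.comp f₁)
  have hg : RingHom.ker π.toRingHom ≤ RingHom.ker g.toRingHom := by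
    intro n hn
    rw [← hNdef] at hn
    rw [RingHom.mem_ker]
    change Ideal.Quotient.mk J (q (f₁ n)) = 0
    rw [Ideal.Quotient.eq_zero_iff_mem, hJ]
    apply Ideal.mem_map_of_mem
    exact Ideal.mem_sup_right (Ideal.mem_map_of_mem _ hn)
  let a : B →ₐ[A] (C ⧸ L) ⧸ J := AlgHom.liftOfSurjective π hsurj g hg
  have ha : a.comp π = g := AlgHom.liftOfSurjective_comp π hsurj g hg
  obtain ⟨a', -, huniq⟩ := huniv (C ⧸ L) J hJ2 a
  have h1 : q.comp f₁ = a' := huniq _ (by rw [ha])
  have h2 : q.comp f₂ = a' := by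
    apply huniq
    rw [ha]
    ext x
    change Ideal.Quotient.mk J (q (f₂ x)) = Ideal.Quotient.mk J (q (f₁ x))
    rw [Ideal.Quotient.eq, ← map_sub, hJ]
    apply Ideal.mem_map_of_mem
    apply Ideal.mem_sup_left
    have := h12 x
    rw [← neg_sub]
    exact neg_mem this
  intro x
  have h3 : q (f₁ x) = q (f₂ x) := by
    have := DFunLike.congr_fun (h1.trans h2.symm) x
    exact this
  have h4 : q (f₁ x - f₂ x) = 0 := by rw [map_sub, h3, sub_self]
  exact Ideal.Quotient.eq_zero_iff_mem.mp h4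

theorem formallyUnramified (hπ : OmegaSh.IsUnivThickeningRing A B B' π) :
    Algebra.FormallyUnramified A B' := by
  rw [Algebra.FormallyUnramified.iff_comp_injective]
  intro C _ _ I hI f₁ f₂ h12
  have hN : RingHom.ker π.toRingHom ^ 2 = ⊥ := hπ.2.1
  have e1 : ∀ x, f₁ x - f₂ x ∈ I := by
    intro x
    have := DFunLike.congr_fun h12 x
    change Ideal.Quotient.mk I (f₁ x) = Ideal.Quotient.mk I (f₂ x) at this
    rwa [Ideal.Quotient.eq] at this
  have e2 := step hπ C I hI f₁ f₂ e1
  have hI2 : (I * Ideal.map f₁ (RingHom.ker π.toRingHom)) ^ 2 = ⊥ := by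
    rw [eq_bot_iff, ← hI]
    exact Ideal.pow_right_mono (Ideal.mul_le_left (I := I) (J := Ideal.map f₁ (RingHom.ker π.toRingHom))) 2
  have e3 := step hπ C _ hI2 f₁ f₂ e2
  have : I * Ideal.map f₁ (RingHom.ker π.toRingHom) * Ideal.map f₁ (RingHom.ker π.toRingHom) = ⊥ := by
    rw [mul_assoc, ← Ideal.map_mul, ← pow_two, hN, Ideal.map_bot, Ideal.mul_bot]
  rw [this] at e3
  ext x
  have := e3 x
  rw [Ideal.mem_bot, sub_eq_zero] at this
  exact this

end

section extder
variable {A B B' : Type u} [CommRing A] [CommRing B] [CommRing B'] [Algebra A B] [Algebra A B']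
  {π : B' →ₐ[A] B}

theorem exists_der (hπ : OmegaSh.IsUnivThickeningRing A B B' π)
    (M : Type u) [AddCommGroup M] [Module B' M]
    (hNM : ∀ n : B', π n = 0 → ∀ m : M, n • m = 0)
    (d : A →+ M) (hd : ∀ x y, d (x * y) = algebraMap A B' x • d y + algebraMap A B' y • d x) :
    ∃ D : B' →+ M, (∀ x y, D (x * y) = x • D y + y • D x) ∧
      ∀ a, D (algebraMap A B' a) = d a := by
  obtain ⟨hsurj, hN, huniv⟩ := hπ
  letI : Module B'ᵐᵒᵖ M := Module.compHom M ((RingHom.id B').fromOpposite mul_comm)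
  haveI : IsCentralScalar B' M := ⟨fun r m => rfl⟩
  have d1 : d 1 = 0 := by
    have := hd 1 1
    simp only [mul_one, map_one, one_smul] at this
    have h2 : d 1 + 0 = d 1 + d 1 := by rw [add_zero]; exact this
    exact (add_left_cancel h2).symm
  let ι : A →+* TrivSqZeroExt B' M :=
    { toFun := fun a => TrivSqZeroExt.inl (algebraMap A B' a) + TrivSqZeroExt.inr (d a)
      map_one' := by
        apply TrivSqZeroExt.ext <;> simp [d1]
      map_mul' := by
        intro x y
        apply TrivSqZeroExt.ext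
        · simp
        · simp [hd, add_comm]
      map_zero' := by
        apply TrivSqZeroExt.ext <;> simp
      map_add' := by
        intro x y
        apply TrivSqZeroExt.ext
        · simp
        · simp }
  letI : Algebra A (TrivSqZeroExt B' M) := ι.toAlgebra
  have hι : ∀ a, algebraMap A (TrivSqZeroExt B' M) a =
      TrivSqZeroExt.inl (algebraMap A B' a) + TrivSqZeroExt.inr (d a) := fun a => rfl
  obtain ⟨K, hK⟩ : ∃ K : Ideal (TrivSqZeroExt B' M), ∀ x, x ∈ K ↔ π x.fst = 0 := by
    refine ⟨RingHom.ker (π.toRingHom.comp (TrivSqZeroExt.fstHom B' B' M).toRingHom), ?_⟩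
    intro x
    rw [RingHom.mem_ker]
    rfl
  have hK2 : K ^ 2 = ⊥ := by
    rw [eq_bot_iff, pow_two, Ideal.mul_le]
    intro x hx y hy
    rw [hK] at hx hy
    rw [Ideal.mem_bot]
    apply TrivSqZeroExt.ext
    · rw [TrivSqZeroExt.fst_mul, TrivSqZeroExt.fst_zero]
      have : x.fst * y.fst ∈ RingHom.ker π.toRingHom ^ 2 := by
        rw [pow_two]
        exact Ideal.mul_mem_mul hx hy
      rw [hN] at this
      exact this
    · rw [TrivSqZeroExt.snd_mul, TrivSqZeroExt.snd_zero, hNM _ hx, op_smul_eq_smul, hNM _ hy,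
        add_zero]
  let g : B' →ₐ[A] (TrivSqZeroExt B' M) ⧸ K :=
    { toRingHom := (Ideal.Quotient.mk K).comp (TrivSqZeroExt.inlHom B' M)
      commutes' := by
        intro a
        change Ideal.Quotient.mk K (TrivSqZeroExt.inl (algebraMap A B' a)) =
          Ideal.Quotient.mk K (algebraMap A (TrivSqZeroExt B' M) a)
        rw [Ideal.Quotient.eq, hK, hι]
        simp }
  have hgx : ∀ x, g x = Ideal.Quotient.mk K (TrivSqZeroExt.inl x) := fun x => rfl
  have hg : RingHom.ker π.toRingHom ≤ RingHom.ker g.toRingHom := by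
    intro n hn
    rw [RingHom.mem_ker] at hn ⊢
    change g n = 0
    rw [hgx, Ideal.Quotient.eq_zero_iff_mem, hK]
    simpa using hn
  let a : B →ₐ[A] (TrivSqZeroExt B' M) ⧸ K := AlgHom.liftOfSurjective π hsurj g hg
  have ha : a.comp π = g := AlgHom.liftOfSurjective_comp π hsurj g hg
  obtain ⟨a', ha', -⟩ := huniv (TrivSqZeroExt B' M) K hK2 a
  rw [ha] at ha'
  have key : ∀ x, π ((a' x).fst - x) = 0 := by
    intro x
    have := DFunLike.congr_fun ha' x
    change Ideal.Quotient.mk K (a' x) = g x at this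
    rw [hgx, Ideal.Quotient.eq, hK] at this
    simpa using this
  have key2 : ∀ x (m : M), (a' x).fst • m = x • m := by
    intro x m
    have := hNM _ (key x) m
    rw [sub_smul, sub_eq_zero] at this
    exact this
  refine ⟨{ toFun := fun x => (a' x).snd, map_zero' := by simp, map_add' := by intro x y; simp },
    ?_, ?_⟩
  · intro x y
    change (a' (x * y)).snd = x • (a' y).snd + y • (a' x).snd
    rw [map_mul, TrivSqZeroExt.snd_mul, op_smul_eq_smul, key2, key2]
  · intro x
    change (a' (algebraMap A B' x)).snd = d x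
    rw [a'.commutes, hι]
    simp

end extder

section main
open TensorProduct

variable (R : Type u) [CommRing R] (A : Type u) [CommRing A] [Algebra R A] (B : Type u) [CommRing B]
    [Algebra A B] (B' : Type u) [CommRing B'] [Algebra A B']
    [Algebra R B'] [IsScalarTower R A B'] [Algebra B' B] [IsScalarTower A B' B]

theorem main (h : OmegaSh.IsUnivThickeningRing A B B' (IsScalarTower.toAlgHom A B' B)) :
    Algebra.FormallyUnramified A B' ∧
      Function.Bijective ((KaehlerDifferential.mapBaseChange R A B').baseChange B) := by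
  have hfu : Algebra.FormallyUnramified A B' := formallyUnramified h
  refine ⟨hfu, ?_⟩
  -- surjectivity
  have hφ : Function.Surjective (KaehlerDifferential.mapBaseChange R A B') := by
    rw [← LinearMap.range_eq_top, KaehlerDifferential.range_mapBaseChange, eq_top_iff]
    intro x _
    rw [LinearMap.mem_ker]
    exact Subsingleton.elim _ _
  constructor
  swap
  · intro z
    induction z using TensorProduct.induction_on with
    | zero => exact ⟨0, map_zero _⟩
    | tmul b y =>
      obtain ⟨x, rfl⟩ := hφ y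
      exact ⟨b ⊗ₜ x, by rw [LinearMap.baseChange_tmul]⟩
    | add z w hz hw =>
      obtain ⟨z', rfl⟩ := hz
      obtain ⟨w', rfl⟩ := hw
      exact ⟨z' + w', map_add _ _ _⟩
  -- injectivity
  obtain ⟨d, hd⟩ : ∃ d : A →+ B ⊗[B'] (B' ⊗[A] Ω[A⁄R]),
      ∀ a, d a = (1 : B) ⊗ₜ[B'] ((1 : B') ⊗ₜ[A] KaehlerDifferential.D R A a) :=
    ⟨{ toFun := fun a => (1 : B) ⊗ₜ[B'] ((1 : B') ⊗ₜ[A] KaehlerDifferential.D R A a)
       map_zero' := by simp
       map_add' := by intro x y; simp [TensorProduct.tmul_add] }, fun a => rfl⟩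
  have hNM : ∀ n : B', (IsScalarTower.toAlgHom A B' B) n = 0 →
      ∀ m : B ⊗[B'] (B' ⊗[A] Ω[A⁄R]), n • m = 0 := by
    intro n hn m
    induction m using TensorProduct.induction_on with
    | zero => simp
    | tmul b y =>
      rw [TensorProduct.smul_tmul', Algebra.smul_def]
      have : algebraMap B' B n = 0 := hn
      rw [this, zero_mul, TensorProduct.zero_tmul]
    | add z w hz hw => rw [smul_add, hz, hw, add_zero]
  have hsm : ∀ (x : A) (y : B' ⊗[A] Ω[A⁄R]), (1 : B) ⊗ₜ[B'] (x • y) =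
      algebraMap A B' x • ((1 : B) ⊗ₜ[B'] y) := by
    intro x y
    rw [← algebraMap_smul B' x y, TensorProduct.tmul_smul]
  have hdl : ∀ x y, d (x * y) = algebraMap A B' x • d y + algebraMap A B' y • d x := by
    intro x y
    rw [hd, hd, hd, Derivation.leibniz, TensorProduct.tmul_add, TensorProduct.tmul_add]
    simp only [TensorProduct.tmul_smul]
    rw [algebraMap_smul, algebraMap_smul]
  obtain ⟨D, hD1, hD2⟩ := exists_der h (B ⊗[B'] (B' ⊗[A] Ω[A⁄R])) hNM d hdl
  letI : Module R (B ⊗[B'] (B' ⊗[A] Ω[A⁄R])) :=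
    Module.compHom (B ⊗[B'] (B' ⊗[A] Ω[A⁄R])) (algebraMap R B')
  haveI : IsScalarTower R B' (B ⊗[B'] (B' ⊗[A] Ω[A⁄R])) :=
    IsScalarTower.of_algebraMap_smul (fun r m => rfl)
  have hDR : ∀ r : R, D (algebraMap R B' r) = 0 := by
    intro r
    rw [IsScalarTower.algebraMap_apply R A B', hD2, hd]
    simp
  let D₂ : Derivation R B' (B ⊗[B'] (B' ⊗[A] Ω[A⁄R])) :=
    { toFun := D
      map_add' := map_add D
      map_smul' := by
        intro r x
        rw [Algebra.smul_def, hD1, hDR, smul_zero, add_zero, RingHom.id_apply, algebraMap_smul]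
      map_one_eq_zero' := by
        have := hDR 1
        rwa [map_one] at this
      leibniz' := hD1 }
  have hD₂ : ∀ x, D₂ x = D x := fun x => rfl
  let ψ : Ω[B'⁄R] →ₗ[B'] B ⊗[B'] (B' ⊗[A] Ω[A⁄R]) := D₂.liftKaehlerDifferential
  have hψ : ∀ x, ψ (KaehlerDifferential.D R B' x) = D x := fun x =>
    D₂.liftKaehlerDifferential_comp_D x
  have hψφ0 : ∀ (ω : Ω[A⁄R]) (b' : B'),
      ψ (KaehlerDifferential.mapBaseChange R A B' (b' ⊗ₜ ω)) = (1 : B) ⊗ₜ[B'] (b' ⊗ₜ[A] ω) := by
    intro ω
    have hω : ω ∈ Submodule.span A (Set.range (KaehlerDifferential.D R A)) := by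
      rw [KaehlerDifferential.span_range_derivation]; trivial
    induction hω using Submodule.span_induction with
    | mem x hx =>
      obtain ⟨a, rfl⟩ := hx
      intro b'
      rw [KaehlerDifferential.mapBaseChange_tmul, KaehlerDifferential.map_D, map_smul, hψ, hD2, hd,
        TensorProduct.smul_tmul', TensorProduct.smul_tmul, TensorProduct.smul_tmul', smul_eq_mul,
        mul_one]
    | zero => intro b'; simp
    | add x y _ _ hx hy =>
      intro b'
      rw [TensorProduct.tmul_add, map_add, map_add, hx, hy, TensorProduct.tmul_add]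
    | smul a x _ hx =>
      intro b'
      rw [← TensorProduct.smul_tmul, hx]
  have hψφ : ∀ x, ψ (KaehlerDifferential.mapBaseChange R A B' x) = (1 : B) ⊗ₜ[B'] x := by
    intro x
    induction x using TensorProduct.induction_on with
    | zero => simp
    | tmul b' ω => exact hψφ0 ω b'
    | add z w hz hw => rw [map_add, map_add, hz, hw, TensorProduct.tmul_add]
  have hleft : ∀ z, (ψ.liftBaseChange B) ((KaehlerDifferential.mapBaseChange R A B').baseChange B z)
      = z := by
    intro z
    induction z using TensorProduct.induction_on with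
    | zero => simp
    | tmul b y =>
      rw [LinearMap.baseChange_tmul, LinearMap.liftBaseChange_tmul, hψφ, TensorProduct.smul_tmul',
        smul_eq_mul, mul_one]
    | add z w hz hw => rw [map_add, map_add, hz, hw]
  exact Function.LeftInverse.injective hleft

end main

end Groth.Agent.H21.UT2
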