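import Mathlib

namespace Groth.Agent.H21.UThick

open KaehlerDifferential

section KL

variable {R P A : Type*} [CommRing R] [CommRing P] [Algebra R P] [CommRing A] [Algebra R A]

lemma KL (J : Ideal P) (I : Ideal A) (hI : I ^ 2 = ⊥) (θ : P →ₐ[R] A) (hθ : ∀ p ∈ J, θ p ∈ I)
    (Δ : P →ₗ[R] A) (hΔI : ∀ p, Δ p ∈ I) (hΔ : ∀ p q, Δ (p * q) = θ p * Δ q + θ q * Δ p)
    (x y : P)
    (h : KaehlerDifferential.D R P x - KaehlerDifferential.D R P y
      ∈ (J • ⊤ : Submodule P (Ω[P⁄R]))) :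
    Δ x = Δ y := by
  letI : Algebra P A := θ.toRingHom.toAlgebra
  haveI : IsScalarTower R P A := IsScalarTower.of_algebraMap_eq (fun r => (θ.commutes r).symm)
  have hsmul : ∀ (p : P) (a : A), p • a = θ p * a := fun p a => Algebra.smul_def p a
  have h1 : Δ 1 = 0 := by
    have := hΔ 1 1
    rw [mul_one, map_one θ, one_mul] at this
    have h2 : Δ 1 + Δ 1 = Δ 1 + 0 := by rw [add_zero]; exact this.symm
    exact add_left_cancel h2
  let D' : Derivation R P A :=
    { toLinearMap := Δ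
      map_one_eq_zero' := h1
      leibniz' := by
        intro a b
        rw [hsmul, hsmul]
        exact hΔ a b }
  have hD' : ∀ p, D' p = Δ p := fun p => rfl
  have hrange : ∀ ω : Ω[P⁄R], D'.liftKaehlerDifferential ω ∈ I := by
    intro ω
    have hω : ω ∈ Submodule.span P (Set.range (KaehlerDifferential.D R P)) := by
      rw [KaehlerDifferential.span_range_derivation]; trivial
    induction hω using Submodule.span_induction with
    | mem ω hω =>
      obtain ⟨p, rfl⟩ := hω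
      rw [Derivation.liftKaehlerDifferential_comp_D, hD']
      exact hΔI p
    | zero => rw [map_zero]; exact I.zero_mem
    | add a b _ _ ha hb => rw [map_add]; exact I.add_mem ha hb
    | smul p a _ ha =>
      rw [map_smul, hsmul]
      exact I.mul_mem_left _ ha
  have hkill : ∀ ω ∈ (J • ⊤ : Submodule P (Ω[P⁄R])), D'.liftKaehlerDifferential ω = 0 := by
    intro ω hω
    refine Submodule.smul_induction_on hω ?_ ?_
    · intro j hj ω' _
      rw [map_smul, hsmul]
      have : θ j * D'.liftKaehlerDifferential ω' ∈ I ^ 2 := by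
        rw [pow_two]
        exact Ideal.mul_mem_mul (hθ j hj) (hrange ω')
      rw [hI] at this
      exact this
    · intro a b ha hb
      rw [map_add, ha, hb, add_zero]
  have := hkill _ h
  rw [map_sub, Derivation.liftKaehlerDifferential_comp_D, Derivation.liftKaehlerDifferential_comp_D,
    hD', hD', sub_eq_zero] at this
  exact this

end KL

section ExJ

variable {R P : Type*} [CommRing R] [CommRing P] [Algebra R P]

open TensorProduct in
lemma exists_j (J : Ideal P) [Algebra.FormallyUnramified R (P ⧸ J)] (x : P) :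
    ∃ j ∈ J, KaehlerDifferential.D R P j - KaehlerDifferential.D R P x
      ∈ (J • ⊤ : Submodule P (Ω[P⁄R])) := by
  have hsurj : Function.Surjective (algebraMap P (P ⧸ J)) := Ideal.Quotient.mk_surjective
  have hr := KaehlerDifferential.range_kerCotangentToTensor R P (P ⧸ J) hsurj
  have hmem : ((1 : P ⧸ J) ⊗ₜ[P] KaehlerDifferential.D R P x)
      ∈ LinearMap.range (KaehlerDifferential.kerCotangentToTensor R P (P ⧸ J)) := by
    rw [hr, Submodule.restrictScalars_mem, LinearMap.mem_ker]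
    exact Subsingleton.elim _ _
  obtain ⟨c, hc⟩ := hmem
  obtain ⟨j, rfl⟩ := Ideal.toCotangent_surjective _ c
  rw [KaehlerDifferential.kerCotangentToTensor_toCotangent] at hc
  refine ⟨j.1, ?_, ?_⟩
  · have := j.2
    rw [RingHom.mem_ker] at this
    exact Ideal.Quotient.eq_zero_iff_mem.1 this
  · rw [← LinearMap.ker_tensorProductMk (Q := Ω[P⁄R]) (I := J), LinearMap.mem_ker, map_sub,
      TensorProduct.mk_apply, TensorProduct.mk_apply, hc, sub_self]

end ExJ

section Main

universe u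

/-- difference of two lifts is a derivation; consequence `(★)` -/
lemma star {R P A S : Type*} [CommRing R] [CommRing P] [Algebra R P] [CommRing A] [Algebra R A]
    [CommRing S] [Algebra R S]
    (πP : P →ₐ[R] S) (I : Ideal A) (hI : I ^ 2 = ⊥) (a : S →ₐ[R] A ⧸ I)
    (θ₁ θ₂ : P →ₐ[R] A)
    (h₁ : (Ideal.Quotient.mkₐ R I).comp θ₁ = a.comp πP)
    (h₂ : (Ideal.Quotient.mkₐ R I).comp θ₂ = a.comp πP)
    (x y : P)
    (h : KaehlerDifferential.D R P x - KaehlerDifferential.D R P y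
      ∈ ((RingHom.ker πP) • ⊤ : Submodule P (Ω[P⁄R]))) :
    θ₂ x - θ₁ x = θ₂ y - θ₁ y := by
  have hmk : ∀ (θ : P →ₐ[R] A), (Ideal.Quotient.mkₐ R I).comp θ = a.comp πP →
      ∀ p, Ideal.Quotient.mk I (θ p) = a (πP p) := by
    intro θ hθ p
    exact DFunLike.congr_fun hθ p
  have hθ₁J : ∀ p ∈ RingHom.ker πP, θ₁ p ∈ I := by
    intro p hp
    rw [← Ideal.Quotient.eq_zero_iff_mem, hmk θ₁ h₁, (RingHom.mem_ker).1 hp, map_zero]
  have hΔI : ∀ p, (θ₂.toLinearMap - θ₁.toLinearMap) p ∈ I := by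
    intro p
    rw [LinearMap.sub_apply, AlgHom.toLinearMap_apply, AlgHom.toLinearMap_apply,
      ← Ideal.Quotient.eq_zero_iff_mem, map_sub, hmk θ₁ h₁, hmk θ₂ h₂, sub_self]
  have hΔ : ∀ p q, (θ₂.toLinearMap - θ₁.toLinearMap) (p * q)
      = θ₁ p * (θ₂.toLinearMap - θ₁.toLinearMap) q
        + θ₁ q * (θ₂.toLinearMap - θ₁.toLinearMap) p := by
    intro p q
    have h0 : (θ₂ p - θ₁ p) * (θ₂ q - θ₁ q) = 0 := by
      have : (θ₂ p - θ₁ p) * (θ₂ q - θ₁ q) ∈ I ^ 2 := by
        rw [pow_two]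
        exact Ideal.mul_mem_mul (hΔI p) (hΔI q)
      rw [hI] at this
      exact this
    simp only [LinearMap.sub_apply, AlgHom.toLinearMap_apply, map_mul]
    linear_combination h0
  exact KL (RingHom.ker πP) I hI θ₁ hθ₁J (θ₂.toLinearMap - θ₁.toLinearMap) hΔI hΔ x y h

theorem exists_univ_thickening (R : Type u) [CommRing R] (S : Type u) [CommRing S] [Algebra R S]
    [Algebra.FormallyUnramified R S] :
    ∃ (S' : Type u) (_ : CommRing S') (_ : Algebra R S') (π : S' →ₐ[R] S),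
      Function.Surjective π ∧ RingHom.ker π.toRingHom ^ 2 = ⊥ ∧
      ∀ (A : Type u) [CommRing A] [Algebra R A] (I : Ideal A), I ^ 2 = ⊥ →
        ∀ a : S →ₐ[R] A ⧸ I, ∃! a' : S' →ₐ[R] A,
          (Ideal.Quotient.mkₐ R I).comp a' = a.comp π := by
  classical
  obtain ⟨πP, hπPdef⟩ : ∃ πP : MvPolynomial S R →ₐ[R] S, πP = MvPolynomial.aeval id := ⟨_, rfl⟩
  have hπPX : ∀ s, πP (MvPolynomial.X s) = s := by
    intro s
    rw [hπPdef, MvPolynomial.aeval_X, id]
  have hπPs : Function.Surjective πP := fun s => ⟨MvPolynomial.X s, hπPX s⟩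
  obtain ⟨J, hJ⟩ : ∃ J : Ideal (MvPolynomial S R), J = RingHom.ker πP := ⟨_, rfl⟩
  haveI : Algebra.FormallyUnramified R (MvPolynomial S R ⧸ RingHom.ker πP) :=
    Algebra.FormallyUnramified.of_equiv (Ideal.quotientKerAlgEquivOfSurjective hπPs).symm
  choose j hjJ hjD using fun s : S =>
    exists_j (R := R) (RingHom.ker πP) (MvPolynomial.X s : MvPolynomial S R)
  obtain ⟨J', hJ'⟩ : ∃ J' : Ideal (MvPolynomial S R),
      J' = (RingHom.ker πP) ^ 2 ⊔ Ideal.span (Set.range j) := ⟨_, rfl⟩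
  have hJ'J : J' ≤ RingHom.ker πP := by
    rw [hJ']
    apply sup_le
    · exact Ideal.pow_le_self two_ne_zero
    · rw [Ideal.span_le]
      rintro _ ⟨s, rfl⟩
      exact hjJ s
  have hjJ' : ∀ s, j s ∈ J' := by
    intro s
    rw [hJ']
    exact Ideal.mem_sup_right (Ideal.subset_span (Set.mem_range_self s))
  have hπ'wd : ∀ p ∈ J', πP p = 0 := fun p hp => (RingHom.mem_ker).1 (hJ'J hp)
  obtain ⟨π', hπ'def⟩ : ∃ π' : (MvPolynomial S R ⧸ J') →ₐ[R] S,
      π' = Ideal.Quotient.liftₐ J' πP hπ'wd := ⟨_, rfl⟩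
  have hπ'mk : ∀ p, π' (Ideal.Quotient.mk J' p) = πP p := by
    intro p
    rw [hπ'def]
    rfl
  refine ⟨MvPolynomial S R ⧸ J', inferInstance, inferInstance, π', ?_, ?_, ?_⟩
  · intro s
    exact ⟨Ideal.Quotient.mk J' (MvPolynomial.X s), by rw [hπ'mk, hπPX]⟩
  · rw [eq_bot_iff, pow_two, Ideal.mul_le]
    intro x hx y hy
    obtain ⟨p, rfl⟩ := Ideal.Quotient.mk_surjective x
    obtain ⟨q, rfl⟩ := Ideal.Quotient.mk_surjective y
    have hp : p ∈ RingHom.ker πP := by
      rw [RingHom.mem_ker, ← hπ'mk]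
      exact (RingHom.mem_ker).1 hx
    have hq : q ∈ RingHom.ker πP := by
      rw [RingHom.mem_ker, ← hπ'mk]
      exact (RingHom.mem_ker).1 hy
    rw [Ideal.mem_bot, ← map_mul, Ideal.Quotient.eq_zero_iff_mem, hJ']
    apply Ideal.mem_sup_left
    rw [pow_two]
    exact Ideal.mul_mem_mul hp hq
  · intro A _ _ I hI a
    have hl : ∀ s : S, ∃ x : A, Ideal.Quotient.mk I x = a s :=
      fun s => Ideal.Quotient.mk_surjective _
    choose l hls using hl
    obtain ⟨θ₀, hθ₀def⟩ : ∃ θ₀ : MvPolynomial S R →ₐ[R] A, θ₀ = MvPolynomial.aeval l := ⟨_, rfl⟩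
    have hθ₀X : ∀ s, θ₀ (MvPolynomial.X s) = l s := by
      intro s
      rw [hθ₀def, MvPolynomial.aeval_X]
    have h₀ : (Ideal.Quotient.mkₐ R I).comp θ₀ = a.comp πP := by
      apply MvPolynomial.algHom_ext
      intro s
      rw [AlgHom.comp_apply, AlgHom.comp_apply, hθ₀X, hπPX, Ideal.Quotient.mkₐ_eq_mk, hls]
    obtain ⟨θ, hθdef⟩ : ∃ θ : MvPolynomial S R →ₐ[R] A,
        θ = MvPolynomial.aeval (fun s => l s - θ₀ (j s)) := ⟨_, rfl⟩
    have hθX : ∀ s, θ (MvPolynomial.X s) = l s - θ₀ (j s) := by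
      intro s
      rw [hθdef, MvPolynomial.aeval_X]
    have hmk₀ : ∀ p, Ideal.Quotient.mk I (θ₀ p) = a (πP p) := fun p => DFunLike.congr_fun h₀ p
    have h₁ : (Ideal.Quotient.mkₐ R I).comp θ = a.comp πP := by
      apply MvPolynomial.algHom_ext
      intro s
      rw [AlgHom.comp_apply, AlgHom.comp_apply, hθX, hπPX, Ideal.Quotient.mkₐ_eq_mk, map_sub,
        hls, hmk₀, (RingHom.mem_ker).1 (hjJ s), map_zero, sub_zero]
    have hmk₁ : ∀ p, Ideal.Quotient.mk I (θ p) = a (πP p) := fun p => DFunLike.congr_fun h₁ p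
    have hθj : ∀ s, θ (j s) = 0 := by
      intro s
      have := star πP I hI a θ₀ θ h₀ h₁ (j s) (MvPolynomial.X s) (hjD s)
      rw [hθX, hθ₀X] at this
      have e : θ (j s) = (θ (j s) - θ₀ (j s)) + θ₀ (j s) := by ring
      rw [e, this]
      ring
    have hθJ : ∀ p ∈ RingHom.ker πP, θ p ∈ I := by
      intro p hp
      rw [← Ideal.Quotient.eq_zero_iff_mem, hmk₁, (RingHom.mem_ker).1 hp, map_zero]
    have hkill : ∀ p ∈ J', θ p = 0 := by
      have : J' ≤ RingHom.ker θ := by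
        rw [hJ']
        apply sup_le
        · rw [pow_two, Ideal.mul_le]
          intro p hp q hq
          rw [RingHom.mem_ker, map_mul]
          have : θ p * θ q ∈ I ^ 2 := by
            rw [pow_two]
            exact Ideal.mul_mem_mul (hθJ p hp) (hθJ q hq)
          rw [hI] at this
          exact this
        · rw [Ideal.span_le]
          rintro _ ⟨s, rfl⟩
          exact (RingHom.mem_ker).2 (hθj s)
      intro p hp
      exact (RingHom.mem_ker).1 (this hp)
    obtain ⟨a', ha'def⟩ : ∃ a' : (MvPolynomial S R ⧸ J') →ₐ[R] A,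
        a' = Ideal.Quotient.liftₐ J' θ hkill := ⟨_, rfl⟩
    have ha'mk : ∀ p, a' (Ideal.Quotient.mk J' p) = θ p := by
      intro p
      rw [ha'def]
      rfl
    have hprop : (Ideal.Quotient.mkₐ R I).comp a' = a.comp π' := by
      apply AlgHom.ext
      intro x
      obtain ⟨p, rfl⟩ := Ideal.Quotient.mk_surjective x
      rw [AlgHom.comp_apply, AlgHom.comp_apply, ha'mk, hπ'mk, Ideal.Quotient.mkₐ_eq_mk, hmk₁]
    refine ⟨a', hprop, ?_⟩
    intro a'' hprop''
    obtain ⟨θ₂, hθ₂def⟩ : ∃ θ₂ : MvPolynomial S R →ₐ[R] A,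
        θ₂ = a''.comp (Ideal.Quotient.mkₐ R J') := ⟨_, rfl⟩
    have hθ₂app : ∀ p, θ₂ p = a'' (Ideal.Quotient.mk J' p) := by
      intro p
      rw [hθ₂def]
      rfl
    have h₂ : (Ideal.Quotient.mkₐ R I).comp θ₂ = a.comp πP := by
      apply AlgHom.ext
      intro p
      have := DFunLike.congr_fun hprop'' (Ideal.Quotient.mk J' p)
      rw [AlgHom.comp_apply, AlgHom.comp_apply, hπ'mk] at this
      rw [AlgHom.comp_apply, AlgHom.comp_apply, hθ₂app]
      exact this
    have hθ₂j : ∀ s, θ₂ (j s) = 0 := by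
      intro s
      rw [hθ₂app, Ideal.Quotient.eq_zero_iff_mem.2 (hjJ' s), map_zero]
    have heq : θ₂ = θ := by
      apply MvPolynomial.algHom_ext
      intro s
      have := star πP I hI a θ θ₂ h₁ h₂ (j s) (MvPolynomial.X s) (hjD s)
      rw [hθ₂j, hθj, sub_self] at this
      exact (sub_eq_zero.1 this.symm)
    apply AlgHom.ext
    intro x
    obtain ⟨p, rfl⟩ := Ideal.Quotient.mk_surjective x
    rw [ha'mk, ← hθ₂app, heq]

end Main

end Groth.Agent.H21.UThick
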