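import Mathlib

set_option autoImplicit false

namespace H21.UnitCircle
open Polynomial ComplexConjugate

/-- reverse equals constant term times conjugate. -/
def Phi (f : ℂ[X]) : Prop := f.reverse = C (f.eval 0) * f.map (starRingEnd ℂ)

lemma phi_one : Phi 1 := by
  have : (1 : ℂ[X]).reverse = 1 := by rw [← C_1, reverse_C]
  simp [Phi, this]

lemma phi_mul {f g : ℂ[X]} (hf : Phi f) (hg : Phi g) : Phi (f * g) := by
  unfold Phi at *
  rw [reverse_mul_of_domain, hf, hg, eval_mul, C_mul, Polynomial.map_mul]; ring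

lemma phi_X_sub_C (a : ℂ) (ha : ‖a‖ = 1) : Phi (X - C a) := by
  unfold Phi
  have h1 : (X - C a : ℂ[X]).reverse = 1 - C a * X := by
    have hX : (X : ℂ[X]).reverse = 1 := by
      have := reverse_mul_X (1 : ℂ[X])
      rw [one_mul] at this
      rw [this, ← C_1, reverse_C]
    rw [sub_eq_add_neg, ← C_neg, reverse_add_C, hX]; simp; ring
  rw [h1]
  have h2 : a * conj a = 1 := by
    rw [Complex.mul_conj, Complex.normSq_eq_norm_sq, ha]; simp
  have h3 : ((X - C a : ℂ[X]).map (starRingEnd ℂ)) = X - C (conj a) := by simp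
  rw [h3]
  have h4 : (X - C a : ℂ[X]).eval 0 = -a := by simp
  rw [h4, mul_sub, ← C_mul]
  have : -a * conj a = -1 := by rw [neg_mul, h2]
  rw [this]
  simp
  ring

lemma charpoly_inv_eq {r : ℕ} (M : Matrix (Fin r) (Fin r) ℂ)
    (h : ∀ z ∈ M.charpoly.roots, ‖z‖ = 1) :
    M⁻¹.charpoly = M.charpoly.map (starRingEnd ℂ) := by
  have hsplit := IsAlgClosed.splits M.charpoly
  have hprod : M.charpoly = (M.charpoly.roots.map (fun a => X - C a)).prod :=
    Polynomial.Splits.eq_prod_roots_of_monic hsplit (Matrix.charpoly_monic M)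
  have hPhi : Phi M.charpoly := by
    rw [hprod]
    apply Multiset.prod_induction Phi _ (fun a b => phi_mul) phi_one
    intro f hf
    obtain ⟨a, ha, rfl⟩ := Multiset.mem_map.mp hf
    exact phi_X_sub_C a (h a ha)
  have h0 : M.charpoly.eval 0 ≠ 0 := by
    intro h0
    have h1 : (0:ℂ) ∈ M.charpoly.roots := (mem_roots (Matrix.charpoly_monic M).ne_zero).mpr h0
    have := h 0 h1
    simp at this
  have hdet : M.det = (-1) ^ r * M.charpoly.eval 0 := by
    rw [Matrix.det_eq_sign_charpoly_coeff, coeff_zero_eq_eval_zero]; simp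
  have hdet0 : M.det ≠ 0 := by
    rw [hdet]; exact mul_ne_zero (pow_ne_zero _ (by norm_num)) h0
  have hunit : IsUnit M := (Matrix.isUnit_iff_isUnit_det M).mpr (IsUnit.mk0 _ hdet0)
  rw [Matrix.charpoly_inv M hunit, ← Matrix.reverse_charpoly, hPhi]
  have key : ((-1 : ℂ[X]) ^ Fintype.card (Fin r)) * C (Ring.inverse M.det) *
      C (M.charpoly.eval 0) = 1 := by
    rw [Ring.inverse_eq_inv', hdet, Fintype.card_fin]
    have : ((-1 : ℂ[X]) ^ r) = C ((-1 : ℂ) ^ r) := by simp
    rw [this, ← C_mul, ← C_mul, ← C_1]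
    congr 1
    have h2 : ((-1 : ℂ) ^ r) ≠ 0 := pow_ne_zero _ (by norm_num)
    field_simp
  calc _ = ((-1 : ℂ[X]) ^ Fintype.card (Fin r)) * C (Ring.inverse M.det) *
      C (M.charpoly.eval 0) * M.charpoly.map (starRingEnd ℂ) := by ring
    _ = _ := by rw [key, one_mul]

lemma im_coeff_mul_conj (P : ℂ[X]) (n : ℕ) : ((P * P.map (starRingEnd ℂ)).coeff n).im = 0 := by
  rw [← Complex.conj_eq_iff_im]
  have : conj ((P * P.map (starRingEnd ℂ)).coeff n) =
      ((P * P.map (starRingEnd ℂ)).map (starRingEnd ℂ)).coeff n := by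
    rw [coeff_map]
  rw [this, Polynomial.map_mul, Polynomial.map_map]
  have h2 : (starRingEnd ℂ).comp (starRingEnd ℂ) = RingHom.id ℂ := by
    ext z; simp
  rw [h2, Polynomial.map_id, mul_comm]

end H21.UnitCircle
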