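import Mathlib

set_option autoImplicit false
universe u

namespace Groth.Agent.H21.Vero
open DirectSum

section
variable {R : Type u} [CommRing R] (𝒜 : ℤ → AddSubgroup R) [GradedRing 𝒜]

def prodSet (d e : ℤ) : Set R := {x | ∃ u ∈ 𝒜 d, ∃ v ∈ 𝒜 e, x = u * v}

lemma step1_aux (z : R) (hz : z ∈ Ideal.span ((𝒜 1 : AddSubgroup R) : Set R)) :
    ∀ m : ℤ, (decompose 𝒜 z (m + 1) : R) ∈ AddSubgroup.closure (prodSet 𝒜 1 m) := by
  induction hz using Submodule.closure_induction with
  | zero => intro m; rw [decompose_zero, DirectSum.zero_apply, ZeroMemClass.coe_zero]; exact zero_mem _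
  | add x y _ _ hx hy =>
    intro m
    rw [decompose_add, DirectSum.add_apply, AddMemClass.coe_add]
    exact add_mem (hx m) (hy m)
  | smul_mem r y hy =>
    intro m
    rw [smul_eq_mul, coe_decompose_mul_add_of_right_mem 𝒜 hy]
    apply AddSubgroup.subset_closure
    exact ⟨y, hy, _, SetLike.coe_mem _, mul_comm _ _⟩

variable (hstd : Ideal.span (⋃ n ∈ Set.Ioi (0 : ℤ), (𝒜 n : Set R)) =
  Ideal.span ((𝒜 1 : AddSubgroup R) : Set R))
include hstd

lemma step1 (n : ℤ) (hn : 1 ≤ n) : 𝒜 n ≤ AddSubgroup.closure (prodSet 𝒜 1 (n - 1)) := by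
  intro x hx
  have h1 : x ∈ Ideal.span ((𝒜 1 : AddSubgroup R) : Set R) := by
    rw [← hstd]
    apply Ideal.subset_span
    simp only [Set.mem_Ioi, Set.mem_iUnion, SetLike.mem_coe, exists_prop]
    exact ⟨n, by omega, hx⟩
  have h2 := step1_aux 𝒜 x h1 (n - 1)
  rw [sub_add_cancel, decompose_of_mem_same 𝒜 hx] at h2
  exact h2

omit hstd in
lemma mul_closure {y : R} (hy : y ∈ 𝒜 1) (d e : ℤ) :
    ∀ w ∈ AddSubgroup.closure (prodSet 𝒜 d e), y * w ∈ AddSubgroup.closure (prodSet 𝒜 (1 + d) e) := by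
  intro w hw
  induction hw using AddSubgroup.closure_induction with
  | mem z' hz' =>
    obtain ⟨u, hu, v, hv, rfl⟩ := hz'
    apply AddSubgroup.subset_closure
    exact ⟨y * u, SetLike.mul_mem_graded hy hu, v, hv, (mul_assoc _ _ _).symm⟩
  | zero => rw [mul_zero]; exact zero_mem _
  | add a b _ _ ha hb => rw [mul_add]; exact add_mem ha hb
  | neg a _ ha => rw [mul_neg]; exact neg_mem ha

omit hstd in
lemma closure_step (d e : ℤ) (ih : 𝒜 (d + e) ≤ AddSubgroup.closure (prodSet 𝒜 d e)) :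
    ∀ z ∈ AddSubgroup.closure (prodSet 𝒜 1 (d + e)),
      z ∈ AddSubgroup.closure (prodSet 𝒜 (1 + d) e) := by
  intro z hz
  induction hz using AddSubgroup.closure_induction with
  | mem z hz =>
    obtain ⟨y, hy, w, hw, rfl⟩ := hz
    exact mul_closure 𝒜 hy d e w (ih hw)
  | zero => exact zero_mem _
  | add a b _ _ ha hb => exact add_mem ha hb
  | neg a _ ha => exact neg_mem ha

lemma step2 (d : ℕ) (e : ℤ) (he : 0 ≤ e) :
    𝒜 ((d : ℤ) + e) ≤ AddSubgroup.closure (prodSet 𝒜 d e) := by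
  induction d with
  | zero =>
    intro x hx
    apply AddSubgroup.subset_closure
    refine ⟨1, ?_, x, ?_, (one_mul x).symm⟩
    · simpa using SetLike.one_mem_graded 𝒜
    · simpa using hx
  | succ d ih =>
    intro x hx
    have h1 := step1 𝒜 hstd ((d + 1 : ℕ) + e) (by push_cast; omega) hx
    have e1 : ((d + 1 : ℕ) : ℤ) + e - 1 = (d : ℤ) + e := by push_cast; ring
    rw [e1] at h1
    have e2 : ((d + 1 : ℕ) : ℤ) = 1 + d := by push_cast; ring
    rw [e2]
    exact closure_step 𝒜 d e ih x h1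

end

theorem main (R : Type u) [CommRing R] (𝒜 : ℤ → AddSubgroup R) [GradedRing 𝒜]
    (hpos : ∀ n : ℤ, n < 0 → 𝒜 n = ⊥)
    (hstd : Ideal.span (⋃ n ∈ Set.Ioi (0 : ℤ), (𝒜 n : Set R)) =
      Ideal.span ((𝒜 1 : AddSubgroup R) : Set R)) (q : ℕ) (hq : 0 < q) (R' : Type u) [CommRing R']
    (𝒜' : ℤ → AddSubgroup R') [GradedRing 𝒜'] (φ : R' →+* R)
    (hdeg : ∀ j : ℤ, (𝒜' j).map (φ : R' →+ R) = 𝒜 (j * q)) (a : ℤ) (M' : Type u)
    [AddCommGroup M'] [Module R' M'] (ℳ' : ℤ → AddSubgroup M') [DirectSum.Decomposition ℳ']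
    (g : M' →ₛₗ[φ] R) (hg : Function.Injective g)
    (hgdeg : ∀ j : ℤ, (ℳ' j).map (g : M' →+ R) = 𝒜 (a + j * q)) (j₀ : ℤ)
    (hj₀ : 0 ≤ a + j₀ * q) (hj₀' : a + (j₀ - 1) * q < 0) :
    Submodule.span R' ((ℳ' j₀ : AddSubgroup M') : Set M') = ⊤ := by
  rw [eq_top_iff]
  intro m hm
  clear hm
  induction m using DirectSum.Decomposition.inductionOn ℳ' with
  | zero => exact zero_mem _
  | add x y hx hy => exact add_mem hx hy
  | @homogeneous j m =>
    have hgm : g (m : M') ∈ 𝒜 (a + j * q) := by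
      rw [← hgdeg]
      exact ⟨m, m.2, rfl⟩
    by_cases hj : j < j₀
    · have hneg : a + j * q < 0 := by
        have h1 : j ≤ j₀ - 1 := by omega
        have h2 : j * (q : ℤ) ≤ (j₀ - 1) * q := by
          apply mul_le_mul_of_nonneg_right h1
          positivity
        omega
      rw [hpos _ hneg, AddSubgroup.mem_bot] at hgm
      have : (m : M') = 0 := hg (by rw [hgm, map_zero])
      rw [this]
      exact zero_mem _
    · obtain ⟨d, hd⟩ : ∃ d : ℕ, j = j₀ + d := ⟨(j - j₀).toNat, by omega⟩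
      have e1 : a + j * q = ((d * q : ℕ) : ℤ) + (a + j₀ * q) := by
        rw [hd]; push_cast; ring
      rw [e1] at hgm
      have h2 := step2 𝒜 hstd (d * q) (a + j₀ * q) hj₀ hgm
      -- every element of the closure is g of an element of the span
      have key : ∀ z ∈ AddSubgroup.closure (prodSet 𝒜 ((d * q : ℕ) : ℤ) (a + j₀ * q)),
          ∃ n ∈ Submodule.span R' ((ℳ' j₀ : AddSubgroup M') : Set M'), g n = z := by
        intro z hz
        induction hz using AddSubgroup.closure_induction with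
        | mem z hz =>
          obtain ⟨u, hu, v, hv, rfl⟩ := hz
          have hu' : u ∈ (𝒜' d).map (φ : R' →+ R) := by
            rw [hdeg]
            have : ((d * q : ℕ) : ℤ) = (d : ℤ) * q := by push_cast; ring
            rw [← this]; exact hu
          obtain ⟨r', _, rfl⟩ := hu'
          have hv' : v ∈ (ℳ' j₀).map (g : M' →+ R) := by rw [hgdeg]; exact hv
          obtain ⟨m', hm', rfl⟩ := hv'
          refine ⟨r' • m', Submodule.smul_mem _ _ (Submodule.subset_span hm'), ?_⟩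
          rw [map_smulₛₗ]
          rfl
        | zero => exact ⟨0, zero_mem _, map_zero _⟩
        | add x y _ _ hx hy =>
          obtain ⟨x', hx', rfl⟩ := hx
          obtain ⟨y', hy', rfl⟩ := hy
          exact ⟨x' + y', add_mem hx' hy', map_add _ _ _⟩
        | neg x _ hx =>
          obtain ⟨x', hx', rfl⟩ := hx
          exact ⟨-x', neg_mem hx', map_neg _ _⟩
      obtain ⟨n, hn, hgn⟩ := key _ h2
      rw [← hg hgn]
      exact hn

end Groth.Agent.H21.Vero
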