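import Mathlib
open scoped BigOperators

namespace Groth.Agent.H21
section
variable {k : Type*} [Field k] {R : Type*} [CommRing R] [Algebra k R]
  (ℛ : ℕ → Submodule k R) [GradedAlgebra ℛ]
variable {ι : Type*} [Fintype ι] (gen : ι → R) (deg : ι → ℕ)

/-- monomial in the generators -/
noncomputable def vmono (a : ι →₀ ℕ) : R := a.prod fun i n => gen i ^ n

omit [Fintype ι] in
lemma vmono_mem (hgen : ∀ i, gen i ∈ ℛ (deg i)) (a : ι →₀ ℕ) :
    vmono gen a ∈ ℛ (Finsupp.weight deg a) := by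
  rw [Finsupp.weight_apply]
  exact SetLike.prod_pow_mem_graded ℛ deg gen (fun i => a i) (fun i _ => hgen i)

omit [Fintype ι] in
lemma mem_span_vmono (hgen : ∀ i, gen i ∈ ℛ (deg i))
    (hadj : Algebra.adjoin k (Set.range gen) = ⊤) (D : ℕ) (r : R) (hr : r ∈ ℛ D) :
    r ∈ Submodule.span k {x | ∃ a : ι →₀ ℕ, Finsupp.weight deg a = D ∧ x = vmono gen a} := by
  classical
  have : r ∈ (MvPolynomial.aeval gen : MvPolynomial ι k →ₐ[k] R).range := by
    rw [← Algebra.adjoin_range_eq_range_aeval, hadj]; trivial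
  obtain ⟨p, hp⟩ := this
  replace hp : MvPolynomial.aeval gen p = r := hp
  subst hp
  have key : MvPolynomial.aeval gen p = ∑ a ∈ p.support, (p.coeff a) • vmono gen a := by
    conv_lhs => rw [p.as_sum]
    rw [map_sum]
    apply Finset.sum_congr rfl
    intro a _
    rw [MvPolynomial.aeval_monomial, Algebra.smul_def]
    rfl
  have h2 : MvPolynomial.aeval gen p =
      ∑ a ∈ p.support.filter (fun a => Finsupp.weight deg a = D), (p.coeff a) • vmono gen a := by
    have h3 := congrArg (GradedRing.proj ℛ D) key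
    rw [GradedRing.proj_apply, DirectSum.decompose_of_mem_same ℛ hr, map_sum] at h3
    rw [h3, Finset.sum_filter]
    apply Finset.sum_congr rfl
    intro a _
    have hmem : (p.coeff a) • vmono gen a ∈ ℛ (Finsupp.weight deg a) :=
      Submodule.smul_mem _ _ (vmono_mem ℛ gen deg hgen a)
    split_ifs with h
    · rw [GradedRing.proj_apply, DirectSum.decompose_of_mem_same ℛ (h ▸ hmem)]
    · rw [GradedRing.proj_apply, DirectSum.decompose_of_mem_ne ℛ hmem h]
  rw [h2]
  apply Submodule.sum_mem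
  intro a ha
  rw [Finset.mem_filter] at ha
  exact Submodule.smul_mem _ _ (Submodule.subset_span ⟨a, ha.2, rfl⟩)

lemma graded_le_mul_of_large (hgen : ∀ i, gen i ∈ ℛ (deg i))
    (hadj : Algebra.adjoin k (Set.range gen) = ⊤) (per : ι → ℕ) (P : ℕ)
    (hper : ∀ i, per i * deg i = P)
    (N : ℕ) (hN : ∑ i, (per i - 1) * deg i ≤ N) (D : ℕ) (hD : N < D) :
    ℛ D ≤ ℛ P * ℛ (D - P) := by
  classical
  intro r hr
  have hmem := mem_span_vmono ℛ gen deg hgen hadj D r hr
  refine Submodule.span_le.mpr ?_ hmem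
  rintro x ⟨a, ha, rfl⟩
  have hex : ∃ i, per i ≤ a i := by
    by_contra hcon
    push Not at hcon
    have h1 : Finsupp.weight deg a ≤ ∑ i, (per i - 1) * deg i := by
      rw [Finsupp.weight_eq_sum]
      apply Finset.sum_le_sum
      intro i _
      rw [smul_eq_mul]
      exact Nat.mul_le_mul_right _ (by have := hcon i; omega)
    omega
  obtain ⟨i, hi⟩ := hex
  have hle : Finsupp.single i (per i) ≤ a := Finsupp.single_le_iff.mpr hi
  set a' := a - Finsupp.single i (per i) with ha'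
  have haa : a = Finsupp.single i (per i) + a' := by
    rw [ha', add_tsub_cancel_of_le hle]
  have hmono : vmono gen a = gen i ^ per i * vmono gen a' := by
    unfold vmono
    conv_lhs => rw [haa]
    have e1 : (Finsupp.single i (per i)).prod (fun j n => gen j ^ n) = gen i ^ per i :=
      Finsupp.prod_single_index (pow_zero _)
    rw [Finsupp.prod_add_index' (h := fun j n => gen j ^ n) (fun _ => pow_zero _)
      (fun _ _ _ => pow_add _ _ _), e1]
  have hw : Finsupp.weight deg a' = D - P := by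
    have := congrArg (Finsupp.weight deg) haa
    rw [map_add, Finsupp.weight_single, smul_eq_mul, hper, ha] at this
    omega
  have h1 : gen i ^ per i ∈ ℛ P := by
    have := SetLike.pow_mem_graded (per i) (hgen i)
    rwa [smul_eq_mul, hper] at this
  have h2 : vmono gen a' ∈ ℛ (D - P) := hw ▸ vmono_mem ℛ gen deg hgen a'
  change vmono gen a ∈ ℛ P * ℛ (D - P)
  rw [hmono]
  exact Submodule.mul_mem_mul h1 h2

omit [Fintype ι] in
lemma vgraded_mul_le (a b : ℕ) : ℛ a * ℛ b ≤ ℛ (a + b) :=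
  Submodule.mul_le.mpr fun _ hx _ hy => SetLike.mul_mem_graded hx hy

omit [Fintype ι] in
lemma vgraded_pow_le (a m : ℕ) : ℛ a ^ m ≤ ℛ (m * a) := by
  induction m with
  | zero =>
    rw [pow_zero, zero_mul, Submodule.one_le]
    exact SetLike.GradedOne.one_mem
  | succ m ih =>
    rw [pow_succ]
    calc ℛ a ^ m * ℛ a ≤ ℛ (m * a) * ℛ a := mul_le_mul' ih le_rfl
      _ ≤ ℛ (m * a + a) := vgraded_mul_le ℛ _ _
      _ = ℛ ((m + 1) * a) := by rw [Nat.succ_mul]

lemma graded_le_mul_iter (hgen : ∀ i, gen i ∈ ℛ (deg i))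
    (hadj : Algebra.adjoin k (Set.range gen) = ⊤) (per : ι → ℕ) (P : ℕ)
    (hper : ∀ i, per i * deg i = P)
    (N : ℕ) (hN : ∑ i, (per i - 1) * deg i ≤ N) (D : ℕ) (hD : N < D + P) (j : ℕ) :
    ℛ (D + P * j) ≤ ℛ (P * j) * ℛ D := by
  induction j with
  | zero =>
    intro x hx
    rw [mul_zero, add_zero] at hx
    rw [mul_zero, ← one_mul x]
    exact Submodule.mul_mem_mul SetLike.GradedOne.one_mem hx
  | succ j ih =>
    have h1 : ℛ (D + P * (j + 1)) ≤ ℛ P * ℛ (D + P * (j + 1) - P) :=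
      graded_le_mul_of_large ℛ gen deg hgen hadj per P hper N hN _ (by
        rw [Nat.mul_succ]; omega)
    have h2 : D + P * (j + 1) - P = D + P * j := by rw [Nat.mul_succ]; omega
    rw [h2] at h1
    calc ℛ (D + P * (j + 1)) ≤ ℛ P * ℛ (D + P * j) := h1
      _ ≤ ℛ P * (ℛ (P * j) * ℛ D) := mul_le_mul' le_rfl ih
      _ = (ℛ P * ℛ (P * j)) * ℛ D := (mul_assoc _ _ _).symm
      _ ≤ ℛ (P + P * j) * ℛ D := mul_le_mul' (vgraded_mul_le ℛ _ _) le_rfl
      _ = ℛ (P * (j + 1)) * ℛ D := by rw [Nat.mul_succ, add_comm]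

theorem veronese_eq_pow (hgen : ∀ i, gen i ∈ ℛ (deg i))
    (hadj : Algebra.adjoin k (Set.range gen) = ⊤) (per : ι → ℕ) (P : ℕ)
    (hper : ∀ i, per i * deg i = P) (hP : 0 < P)
    (N : ℕ) (hN : ∑ i, (per i - 1) * deg i ≤ N) (e : ℕ) (he : N ≤ P * e) (m : ℕ) (hm : 0 < m) :
    ℛ (m * (P * e)) = ℛ (P * e) ^ m := by
  induction m with
  | zero => omega
  | succ m ih =>
    rcases Nat.eq_zero_or_pos m with rfl | hm'
    · simp
    · apply le_antisymm _ (vgraded_pow_le ℛ _ _)
      have h1 := graded_le_mul_iter ℛ gen deg hgen hadj per P hper N hN (m * (P * e)) (by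
        have : P * e ≤ m * (P * e) := Nat.le_mul_of_pos_left _ hm'
        omega) e
      have h2 : (m + 1) * (P * e) = m * (P * e) + P * e := by ring
      rw [h2]
      calc ℛ (m * (P * e) + P * e) ≤ ℛ (P * e) * ℛ (m * (P * e)) := h1
        _ = ℛ (P * e) * ℛ (P * e) ^ m := by rw [ih hm']
        _ = ℛ (P * e) ^ (m + 1) := (pow_succ' _ _).symm

end
end Groth.Agent.H21
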